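import Cfsg.Agent.TwoESix.Lift

/-!
# Double covers of the group presented by the ten nodes of `Y₃₃₃`

`HB` is the group presented by the relations `Good` (Coxeter relations of `Y₃₃₃`, spider relation, all `E₇` words of
ninth power one).  If `HB` is finite of order at most `n`, `E` is a group of order `n` generated by elements `e` with
`Good e` and `M` is a non-split double cover of `E`, then `M` is generated by lifts `m` of the nodes `e`, arms possibly
permuted, with the relations `ZRels m z` (`exists_gens`); and two groups of order `2 n` generated by elements satisfying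
`ZRels` are isomorphic, compatibly with the generators (`exists_mulEquiv`).
-/

set_option autoImplicit false

namespace Cfsg.Agent.TwoESix.Cover

open Cfsg Cfsg.Agent.TwoESix.Cox10 Cfsg.Agent.TwoESix.Lift Cfsg.Agent.R01.Lifts

/-! ### The presented group -/

/-- The relators. -/
def rels : Set (FreeGroup (Fin 10)) :=
  {r | (∃ i j, r = (FreeGroup.of i * FreeGroup.of j) ^ lab i j) ∨ r = ev FreeGroup.of spider ^ 10 ∨
    r = ev FreeGroup.of W321 ^ 9 ∨ r = ev FreeGroup.of W231 ^ 9 ∨ r = ev FreeGroup.of W213 ^ 9}

/-- The presented group. -/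
abbrev HB : Type := PresentedGroup rels

/-- The generators. -/
def s0 (i : Fin 10) : HB := PresentedGroup.of i

theorem mk_ev (w : List (Fin 10)) : (PresentedGroup.mk rels) (ev FreeGroup.of w) = ev s0 w := by
  rw [ev_map]; rfl

theorem good_s0 : Good s0 := by
  have key : ∀ r ∈ rels, PresentedGroup.mk rels r = 1 := fun r hr => PresentedGroup.one_of_mem hr
  refine ⟨fun i j => ?_, ?_, ?_, ?_, ?_⟩
  · have := key _ (Or.inl ⟨i, j, rfl⟩)
    rw [map_pow, map_mul] at this
    exact this
  · have := key _ (Or.inr (Or.inl rfl))
    rwa [map_pow, mk_ev] at this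
  · have := key _ (Or.inr (Or.inr (Or.inl rfl)))
    rwa [map_pow, mk_ev] at this
  · have := key _ (Or.inr (Or.inr (Or.inr (Or.inl rfl))))
    rwa [map_pow, mk_ev] at this
  · have := key _ (Or.inr (Or.inr (Or.inr (Or.inr rfl))))
    rwa [map_pow, mk_ev] at this

theorem closure_s0 : Subgroup.closure (Set.range s0) = ⊤ := PresentedGroup.closure_range_of rels

section

variable {G : Type*} [Group G] {s : Fin 10 → G} {z : G}

theorem lift_rels (h : Good s) : ∀ r ∈ rels, FreeGroup.lift s r = 1 := by
  have hev : ∀ w, FreeGroup.lift s (ev FreeGroup.of w) = ev s w := by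
    intro w
    rw [ev_map]
    congr 1
    funext i; exact FreeGroup.lift_apply_of
  rintro r (⟨i, j, rfl⟩ | rfl | rfl | rfl | rfl)
  · rw [map_pow, map_mul, FreeGroup.lift_apply_of, FreeGroup.lift_apply_of]
    exact h.lift i j
  · rw [map_pow, hev]; exact h.spider
  · rw [map_pow, hev]; exact h.e321
  · rw [map_pow, hev]; exact h.e231
  · rw [map_pow, hev]; exact h.e213

/-- The homomorphism from the presented group. -/
noncomputable def toHom (h : Good s) : HB →* G := PresentedGroup.toGroup (lift_rels h)

theorem toHom_s0 (h : Good s) (i : Fin 10) : toHom h (s0 i) = s i := PresentedGroup.toGroup.of (lift_rels h)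

theorem toHom_surjective (h : Good s) (htop : Subgroup.closure (Set.range s) = ⊤) :
    Function.Surjective (toHom h) := by
  rw [← MonoidHom.range_eq_top, eq_top_iff, ← htop, Subgroup.closure_le]
  rintro _ ⟨i, rfl⟩
  exact ⟨s0 i, toHom_s0 h i⟩

/-- A generating system with the relations of the order of the presented group presents it. -/
theorem toHom_bijective [Finite HB] {e : Fin 10 → G} (he : Good e) (htop : Subgroup.closure (Set.range e) = ⊤)
    (hcard : Nat.card HB ≤ Nat.card G) : Function.Bijective (toHom he) := by
  have hs := toHom_surjective he htop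
  have hfin : Finite G := Finite.of_surjective _ hs
  exact (Nat.bijective_iff_surjective_and_card _).2 ⟨hs, le_antisymm hcard (Nat.card_le_card_of_surjective _ hs)⟩

/-- The order of a group satisfying the relations is at most twice the order of the presented group. -/
theorem card_le [Finite HB] (h : ZRels s z) (htop : Subgroup.closure (Set.range s) = ⊤) :
    Finite G ∧ Nat.card G ≤ 2 * Nat.card HB := by
  have hcen : z ∈ Subgroup.center G := by
    rw [Subgroup.mem_center_iff]
    intro g; exact (h.z_central htop g).eq
  have hnorm : (Subgroup.zpowers z).Normal := by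
    refine ⟨fun n hn g => ?_⟩
    have hn' : n ∈ Subgroup.center G := (Subgroup.zpowers_le.2 hcen) hn
    rw [Subgroup.mem_center_iff] at hn'
    rw [hn' g, mul_assoc, mul_inv_cancel, mul_one]
    exact hn
  let π := QuotientGroup.mk' (Subgroup.zpowers z)
  have hπz : π z = 1 := (QuotientGroup.eq_one_iff _).2 (Subgroup.mem_zpowers z)
  have hq : ZRels (fun x => π (s x)) 1 := by
    have := h.map π
    rwa [hπz] at this
  have hsurj : Function.Surjective (toHom hq.good) := by
    apply toHom_surjective
    have h2 : Set.range (fun x => π (s x)) = π '' Set.range s := by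
      rw [← Set.range_comp]; rfl
    rw [h2, ← MonoidHom.map_closure, htop, ← MonoidHom.range_eq_map, MonoidHom.range_eq_top]
    exact QuotientGroup.mk'_surjective _
  have hfin : Finite (G ⧸ Subgroup.zpowers z) := Finite.of_surjective _ hsurj
  have hcard : Nat.card (G ⧸ Subgroup.zpowers z) ≤ Nat.card HB := Nat.card_le_card_of_surjective _ hsurj
  have hzz : z ^ 2 = 1 := by rw [pow_two]; exact h.zz
  have hzf : IsOfFinOrder z := isOfFinOrder_iff_pow_eq_one.2 ⟨2, by norm_num, hzz⟩
  have hfz : Finite (Subgroup.zpowers z) := hzf.finite_zpowers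
  have hcz : Nat.card (Subgroup.zpowers z) ≤ 2 := by
    rw [Nat.card_zpowers]
    exact Nat.le_of_dvd (by norm_num) (orderOf_dvd_of_pow_eq_one hzz)
  have hK : Finite G := Finite.of_equiv _ (Subgroup.groupEquivQuotientProdSubgroup (s := Subgroup.zpowers z)).symm
  refine ⟨hK, ?_⟩
  rw [Subgroup.card_eq_card_quotient_mul_card_subgroup (Subgroup.zpowers z), mul_comm]
  exact Nat.mul_le_mul hcz hcard

end

/-- **Uniqueness of the double cover**: two groups generated by elements satisfying the relations `ZRels`, both of
twice the order of the presented group, are isomorphic. -/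
theorem exists_mulEquiv [Finite HB] {C C' : Type*} [Group C] [Group C'] {s : Fin 10 → C} {s' : Fin 10 → C'}
    {z : C} {z' : C'} (h : ZRels s z) (h' : ZRels s' z') (htop : Subgroup.closure (Set.range s) = ⊤)
    (htop' : Subgroup.closure (Set.range s') = ⊤) (hcard : 2 * Nat.card HB ≤ Nat.card C)
    (hcard' : 2 * Nat.card HB ≤ Nat.card C') :
    ∃ α : C ≃* C', (∀ x, α (s x) = s' x) ∧ α z = z' := by
  have hfC : Finite C := (card_le h htop).1
  have hfC' : Finite C' := (card_le h' htop').1
  -- the diagonal subgroup
  let S : Set (C × C') := Set.range fun x => (s x, s' x)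
  let H : Subgroup (C × C') := Subgroup.closure S
  let t : Fin 10 → H := fun x => ⟨(s x, s' x), Subgroup.subset_closure ⟨x, rfl⟩⟩
  have hevt : ∀ w, ((ev t w : H) : C × C') = (ev s w, ev s' w) := by
    intro w
    have h1 : ((ev t w : H) : C × C') = ev (fun i => (s i, s' i)) w := ev_map H.subtype t w
    rw [h1]
    refine Prod.ext ?_ ?_
    · exact ev_map (MonoidHom.fst C C') _ w
    · exact ev_map (MonoidHom.snd C C') _ w
  have hzH : (z, z') ∈ H := by
    have e : (z, z') = ((ev t W321 ^ 9 : H) : C × C') := by
      rw [SubmonoidClass.coe_pow, hevt]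
      refine Prod.ext ?_ ?_
      · exact h.e321.symm
      · exact h'.e321.symm
    rw [e]
    exact Subtype.property _
  have ht : ZRels t (⟨(z, z'), hzH⟩ : H) := by
    refine ⟨fun x y => ?_, ?_, ?_, ?_, ?_⟩
    · apply Subtype.ext
      refine Prod.ext ?_ ?_
      · exact h.lift x y
      · exact h'.lift x y
    · apply Subtype.ext
      rw [SubmonoidClass.coe_pow, hevt]
      refine Prod.ext ?_ ?_
      · exact h.spider
      · exact h'.spider
    · apply Subtype.ext
      rw [SubmonoidClass.coe_pow, hevt]
      refine Prod.ext ?_ ?_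
      · exact h.e321
      · exact h'.e321
    · apply Subtype.ext
      rw [SubmonoidClass.coe_pow, hevt]
      refine Prod.ext ?_ ?_
      · exact h.e231
      · exact h'.e231
    · apply Subtype.ext
      rw [SubmonoidClass.coe_pow, hevt]
      refine Prod.ext ?_ ?_
      · exact h.e213
      · exact h'.e213
  have httop : Subgroup.closure (Set.range t) = ⊤ := by
    have h1 : Subgroup.map H.subtype (Subgroup.closure (Set.range t)) = Subgroup.map H.subtype ⊤ := by
      rw [MonoidHom.map_closure, ← Set.range_comp, ← MonoidHom.range_eq_map, Subgroup.range_subtype]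
      rfl
    exact Subgroup.map_injective (Subgroup.subtype_injective _) h1
  obtain ⟨hfH, hcH⟩ := card_le ht httop
  let p : H →* C := (MonoidHom.fst C C').comp H.subtype
  let p' : H →* C' := (MonoidHom.snd C C').comp H.subtype
  have hp : Function.Surjective p := by
    rw [← MonoidHom.range_eq_top, eq_top_iff, ← htop, Subgroup.closure_le]
    rintro _ ⟨x, rfl⟩
    exact ⟨t x, rfl⟩
  have hp' : Function.Surjective p' := by
    rw [← MonoidHom.range_eq_top, eq_top_iff, ← htop', Subgroup.closure_le]
    rintro _ ⟨x, rfl⟩
    exact ⟨t x, rfl⟩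
  have heq : Nat.card H = Nat.card C :=
    le_antisymm (hcH.trans hcard) (Nat.card_le_card_of_surjective _ hp)
  have heq' : Nat.card H = Nat.card C' :=
    le_antisymm (hcH.trans hcard') (Nat.card_le_card_of_surjective _ hp')
  have hb : Function.Bijective p := (Nat.bijective_iff_surjective_and_card _).2 ⟨hp, heq⟩
  have hb' : Function.Bijective p' := (Nat.bijective_iff_surjective_and_card _).2 ⟨hp', heq'⟩
  let e := MulEquiv.ofBijective p hb
  let e' := MulEquiv.ofBijective p' hb'
  refine ⟨e.symm.trans e', fun x => ?_, ?_⟩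
  · have : e.symm (s x) = t x := by
      rw [MulEquiv.symm_apply_eq]; rfl
    rw [MulEquiv.trans_apply, this]; rfl
  · have : e.symm z = ⟨(z, z'), hzH⟩ := by
      rw [MulEquiv.symm_apply_eq]; rfl
    rw [MulEquiv.trans_apply, this]; rfl

/-! ### Double covers -/

section DoubleCover

variable {M E : Type*} [Group M] [Group E]

/-- The projection of a double cover. -/
theorem exists_ext (hcov : IsNonsplitDoubleCover M E) : ∃ (π : M →* E) (z : M), Ext π z := by
  obtain ⟨h2, ⟨f⟩, _⟩ := hcov
  obtain ⟨z, hz1, hz⟩ : ∃ z : M, z ≠ 1 ∧ (Subgroup.center M : Set M) = {1, z} := by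
    have hn : (Subgroup.center M : Set M).ncard = 2 := h2
    obtain ⟨a, b, hab, hs⟩ := Set.ncard_eq_two.1 hn
    have h1 : (1 : M) ∈ ({a, b} : Set M) := hs ▸ (Subgroup.center M).one_mem
    rcases h1 with rfl | h1
    · exact ⟨b, hab.symm, hs⟩
    · have h1' : (1 : M) = b := h1
      subst h1'
      exact ⟨a, hab, by rw [hs, Set.pair_comm]⟩
  have hmem : ∀ c, c ∈ Subgroup.center M ↔ c = 1 ∨ c = z := by
    intro c
    have : c ∈ (Subgroup.center M : Set M) ↔ c ∈ ({1, z} : Set M) := by rw [hz]
    exact this
  have hzc := (hmem z).2 (Or.inr rfl)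
  refine ⟨f.toMonoidHom.comp (QuotientGroup.mk' (Subgroup.center M)), z, ?_, ?_, hz1, ?_, ?_⟩
  · exact f.surjective.comp (QuotientGroup.mk'_surjective _)
  · rcases (hmem _).1 ((Subgroup.center M).mul_mem hzc hzc) with h | h
    · exact h
    · exact absurd (mul_eq_left.1 h) hz1
  · intro c
    show f (QuotientGroup.mk' (Subgroup.center M) c) = 1 ↔ _
    rw [← map_one f, f.injective.eq_iff, ← hmem]
    exact QuotientGroup.eq_one_iff c
  · intro c
    exact Subgroup.mem_center_iff.1 hzc c

/-- A non-split double cover has no section. -/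
theorem no_section (hcov : IsNonsplitDoubleCover M E) {π : M →* E} {z : M} (h : Ext π z) (σ : E →* M)
    (hσ : ∀ x, π (σ x) = x) : False := by
  obtain ⟨h2, _, hno⟩ := hcov
  have hzc : z ∈ Subgroup.center M := Subgroup.mem_center_iff.2 h.comm
  have hmem : ∀ c, c ∈ Subgroup.center M → c = 1 ∨ c = z := by
    intro c hc
    have hn : (Subgroup.center M : Set M).ncard = 2 := h2
    by_contra hcc
    push Not at hcc
    have hsub : ({1, z, c} : Set M) ⊆ (Subgroup.center M : Set M) := by
      rintro x (rfl | rfl | rfl)
      · exact (Subgroup.center M).one_mem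
      · exact hzc
      · exact hc
    have hfin : (Subgroup.center M : Set M).Finite := Set.finite_of_ncard_ne_zero (by rw [hn]; norm_num)
    have h3 := Set.ncard_le_ncard hsub hfin
    rw [hn, Set.ncard_insert_of_notMem, Set.ncard_pair] at h3
    · omega
    · exact fun h => hcc.2 h.symm
    · rintro (h1 | h1)
      · exact h.zne h1.symm
      · exact hcc.1 (Set.mem_singleton_iff.1 h1).symm
  apply hno σ.range
  refine Subgroup.isComplement'_of_disjoint_and_mul_eq_univ ?_ ?_
  · rw [Subgroup.disjoint_def]
    rintro x hx ⟨y, rfl⟩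
    rcases hmem _ hx with h1 | h1
    · exact h1
    · have : y = 1 := by rw [← hσ y, h1, h.mapz]
      rw [this, map_one]
  · rw [Set.eq_univ_iff_forall]
    intro c
    rcases h.map_eq.1 (hσ (π c)) with h1 | h1
    · exact ⟨1, (Subgroup.center M).one_mem, σ (π c), ⟨_, rfl⟩, by show 1 * σ (π c) = c; rw [one_mul, h1]⟩
    · refine ⟨z, hzc, σ (π c), ⟨_, rfl⟩, ?_⟩
      show z * σ (π c) = c
      rw [← h.comm, h1, h.mul_z_mul_z]

/-- **Generators of the double cover**: `M` is a non-split double cover of a group `E` generated by elements `e`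
satisfying the relations of the presented group `HB`, of the order of `HB`. -/
theorem exists_gens [Finite HB] (hcov : IsNonsplitDoubleCover M E) {e : Fin 10 → E} (he : Good e)
    (hgen : Subgroup.closure (Set.range e) = ⊤) (hcard : Nat.card HB ≤ Nat.card E)
    {π : M →* E} {z : M} (h : Ext π z) :
    ∃ p : Fin 10 → Fin 10, (p = id ∨ p = pAB ∨ p = pAC) ∧ ∃ m : Fin 10 → M,
      (∀ i, π (m i) = e (p i)) ∧ ZRels m z ∧ Subgroup.closure (Set.range m) = ⊤ := by
  refine exists_zrels h he hgen fun m hm hgood => ?_
  have hb := toHom_bijective he hgen hcard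
  let f : HB ≃* E := MulEquiv.ofBijective _ hb
  refine no_section hcov h ((toHom hgood).comp f.symm.toMonoidHom) fun x => ?_
  have key : (π.comp (toHom hgood)) = toHom he := by
    apply PresentedGroup.ext
    intro i
    show π (toHom hgood (s0 i)) = toHom he (s0 i)
    rw [toHom_s0, toHom_s0, hm]
  show π (toHom hgood (f.symm x)) = x
  have : π (toHom hgood (f.symm x)) = toHom he (f.symm x) := DFunLike.congr_fun key _
  rw [this]
  exact f.apply_symm_apply x

/-- The order of a double cover. -/
theorem card_of_ext [Finite E] {π : M →* E} {z : M} (hE : Ext π z) : Nat.card M = 2 * Nat.card E := by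
  have h1 : Nat.card M = Nat.card (M ⧸ π.ker) * Nat.card π.ker := Subgroup.card_eq_card_quotient_mul_card_subgroup _
  have h2 : Nat.card (M ⧸ π.ker) = Nat.card E :=
    Nat.card_congr (QuotientGroup.quotientKerEquivOfSurjective π hE.surj).toEquiv
  have h3 : Nat.card π.ker = 2 := by
    have : (π.ker : Set M) = {1, z} := by
      ext c
      exact hE.ker c
    have h4 : Nat.card π.ker = (π.ker : Set M).ncard := rfl
    rw [h4, this, Set.ncard_pair (Ne.symm hE.zne)]
  rw [h1, h2, h3, mul_comm]

end DoubleCover

end Cfsg.Agent.TwoESix.Cover
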