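/-
Vectors over a field with an element `w`, `w * w = w + 1`, `2 = 0`, coded by natural numbers in base 4
(digit `a + 2 b` stands for `a + b w`), and the action of root elements of a Chevalley datum on them.
-/
import Cfsg.Agent.ChevalleyStructure.SparseEng
set_option autoImplicit false

namespace Cfsg.Agent.TwoESix.Coded

open Cfsg.Lie Cfsg.Agent.ChevalleyStructure.SparseEng

variable {K : Type*} [Field K]

/-- a bit as a field element -/
def bz (K : Type*) [Field K] (b : Bool) : K := cond b 1 0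

/-- the field element coded by the digit `c` -/
def cv (w : K) (c : ℕ) : K := bz K (c.testBit 0) + bz K (c.testBit 1) * w

theorem bz_xor (h2 : (2 : K) = 0) (a b : Bool) : bz K (a ^^ b) = bz K a + bz K b := by
  have h : (1 : K) + 1 = 0 := by rw [← h2]; norm_num
  cases a <;> cases b <;> simp [bz, h]

theorem cv_xor (h2 : (2 : K) = 0) (w : K) (a b : ℕ) : cv w (a ^^^ b) = cv w a + cv w b := by
  unfold cv
  rw [Nat.testBit_xor, Nat.testBit_xor, bz_xor h2, bz_xor h2]
  ring

/-- product of digits -/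
def mul4 (a b : ℕ) : ℕ :=
  (cond (a.testBit 0) b 0) ^^^ (cond (a.testBit 1) ((cond (b.testBit 0) 2 0) ^^^ (cond (b.testBit 1) 3 0)) 0)

theorem cv_zero (w : K) : cv w 0 = 0 := by simp [cv, bz]
theorem cv_one (w : K) : cv w 1 = 1 := by
  have h0 : (1 : ℕ).testBit 0 = true := by decide
  have h1 : (1 : ℕ).testBit 1 = false := by decide
  rw [cv, h0, h1]; simp [bz]
theorem cv_two (w : K) : cv w 2 = w := by
  have h0 : (2 : ℕ).testBit 0 = false := by decide
  have h1 : (2 : ℕ).testBit 1 = true := by decide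
  simp [cv, bz, h1]
theorem cv_three (w : K) : cv w 3 = 1 + w := by
  have h0 : (3 : ℕ).testBit 0 = true := by decide
  have h1 : (3 : ℕ).testBit 1 = true := by decide
  simp [cv, bz, h1]

theorem cv_mul4 (h2 : (2 : K) = 0) (w : K) (hw : w * w = w + 1) {a b : ℕ} (ha : a < 4) (hb : b < 4) :
    cv w (mul4 a b) = cv w a * cv w b := by
  have e0 := cv_zero w
  have e1 := cv_one w
  have e2 := cv_two w
  have e3 := cv_three w
  have t1 : mul4 1 1 = 1 := by decide
  have t2 : mul4 1 2 = 2 := by decide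
  have t3 : mul4 1 3 = 3 := by decide
  have t4 : mul4 2 1 = 2 := by decide
  have t5 : mul4 2 2 = 3 := by decide
  have t6 : mul4 2 3 = 1 := by decide
  have t7 : mul4 3 1 = 3 := by decide
  have t8 : mul4 3 2 = 1 := by decide
  have t9 : mul4 3 3 = 2 := by decide
  have z1 : ∀ x, mul4 0 x = 0 := by intro x; simp [mul4]
  have z2 : ∀ x, mul4 x 0 = 0 := by intro x; simp [mul4]
  have r2 : w * w = 1 + w := by rw [hw]; ring
  have r3 : w * (1 + w) = 1 := by linear_combination hw + w * h2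
  have r4 : (1 + w) * w = 1 := by linear_combination hw + w * h2
  have r5 : (1 + w) * (1 + w) = w := by linear_combination hw + (1 + w) * h2
  interval_cases a <;> interval_cases b <;>
    simp [e0, e1, e2, e3, t1, t2, t3, t4, t5, t6, t7, t8, t9, z1, z2, r2, r3, r4, r5]

theorem mul4_lt {a b : ℕ} (ha : a < 4) (hb : b < 4) : mul4 a b < 4 := by
  interval_cases a <;> interval_cases b <;> decide

/-- digit `k` -/
def dig (v k : ℕ) : ℕ := Nat.land (Nat.shiftRight v (Nat.mul 2 k)) 3

theorem dig_eq (v k : ℕ) : dig v k = (v >>> (2 * k)) &&& 3 := rfl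

theorem dig_lt (v k : ℕ) : dig v k < 4 := by
  rw [dig_eq]
  exact lt_of_le_of_lt Nat.and_le_right (by norm_num)

theorem dig_xor (a b k : ℕ) : dig (a ^^^ b) k = dig a k ^^^ dig b k := by
  rw [dig_eq, dig_eq, dig_eq, Nat.shiftRight_xor_distrib, Nat.and_xor_distrib_right]

theorem testBit_three (j : ℕ) : (3 : ℕ).testBit j = decide (j < 2) := by
  have : (3 : ℕ) = 2 ^ 2 - 1 := by norm_num
  rw [this, Nat.testBit_two_pow_sub_one]

theorem dig_shl {c : ℕ} (hc : c < 4) (l k : ℕ) : dig (c <<< (2 * l)) k = if k = l then c else 0 := by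
  apply Nat.eq_of_testBit_eq
  intro j
  rw [dig_eq, Nat.testBit_and, Nat.testBit_shiftRight, Nat.testBit_shiftLeft, testBit_three]
  have h4 : ∀ i, 2 ≤ i → c.testBit i = false := fun i hi =>
    Nat.testBit_lt_two_pow (lt_of_lt_of_le hc (by
      calc 4 = 2 ^ 2 := by norm_num
        _ ≤ 2 ^ i := Nat.pow_le_pow_right (by norm_num) hi))
  split
  · rename_i h
    subst h
    by_cases hj : j < 2
    · simp [hj]
    · rw [h4 j (by omega)]; simp [hj]
  · rename_i h
    rw [Nat.zero_testBit]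
    by_cases hj : j < 2
    · by_cases h5 : l ≤ k
      · have h6 : 2 ≤ 2 * k + j - 2 * l := by omega
        rw [h4 _ h6]; simp
      · have h6 : ¬ (2 * k + j ≥ 2 * l) := by omega
        simp [h6]
    · simp [hj]

variable (D : ChevalleyDatum)

/-- the vector coded by `v` (the first `D.rank + D.nroots` digits) -/
def dec (w : K) (v : ℕ) : D.Idx → K :=
  ∑ k ∈ Finset.range (D.rank + D.nroots), cv w (dig v k) • bvec D K k

theorem dec_xor (h2 : (2 : K) = 0) (w : K) (a b : ℕ) : dec D w (a ^^^ b) = dec D w a + dec D w b := by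
  unfold dec
  rw [← Finset.sum_add_distrib]
  refine Finset.sum_congr rfl fun k _ => ?_
  rw [dig_xor, cv_xor h2, add_smul]

theorem dec_zero (w : K) : dec D w 0 = 0 := by
  unfold dec
  refine Finset.sum_eq_zero fun k _ => ?_
  have : dig 0 k = 0 := by rw [dig_eq]; simp
  rw [this, cv_zero, zero_smul]

theorem dec_shl (w : K) {c : ℕ} (hc : c < 4) {l : ℕ} (hl : l < D.rank + D.nroots) :
    dec D w (c <<< (2 * l)) = cv w c • bvec D K l := by
  unfold dec
  rw [Finset.sum_eq_single l]
  · rw [dig_shl hc, if_pos rfl]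
  · intro k _ hk
    rw [dig_shl hc, if_neg hk, cv_zero, zero_smul]
  · intro h
    exact absurd (Finset.mem_range.2 hl) h

/-- powers of a digit -/
def pow4 (a : ℕ) (e : ℕ) : ℕ := Nat.rec 1 (fun _ ih => mul4 a ih) e

theorem pow4_lt {a : ℕ} (ha : a < 4) (e : ℕ) : pow4 a e < 4 := by
  induction e with
  | zero => simp [pow4]
  | succ e ih => exact mul4_lt ha ih

theorem cv_pow4 (h2 : (2 : K) = 0) (w : K) (hw : w * w = w + 1) {a : ℕ} (ha : a < 4) (e : ℕ) :
    cv w (pow4 a e) = cv w a ^ e := by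
  induction e with
  | zero => simp [pow4, cv_one]
  | succ e ih =>
    have : pow4 a (e + 1) = mul4 a (pow4 a e) := rfl
    rw [this, cv_mul4 h2 w hw ha (pow4_lt ha e), ih, pow_succ']

/-- image of `c` times the basis vector number `k` under the terms of `l` with parameter `τ` -/
def actL (τ c : ℕ) (l : List (ℕ × ℤ × ℕ)) : ℕ :=
  List.rec 0 (fun a _ ih =>
    Nat.xor (Nat.shiftLeft (cond (Nat.beq (Int.natAbs a.2.1 % 2) 0) 0 (mul4 c (pow4 τ a.2.2))) (Nat.mul 2 a.1)) ih) l

theorem actL_nil (τ c : ℕ) : actL τ c [] = 0 := rfl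
theorem actL_cons (τ c : ℕ) (a : ℕ × ℤ × ℕ) (l : List (ℕ × ℤ × ℕ)) : actL τ c (a :: l) =
    ((cond (Nat.beq (Int.natAbs a.2.1 % 2) 0) 0 (mul4 c (pow4 τ a.2.2))) <<< (2 * a.1)) ^^^ actL τ c l := rfl

theorem intCast_eq (h2 : (2 : K) = 0) (z : ℤ) : (z : K) = if Int.natAbs z % 2 = 0 then 0 else 1 := by
  rcases Int.emod_two_eq_zero_or_one z with h | h
  · have h3 : Int.natAbs z % 2 = 0 := by omega
    rw [if_pos h3]
    obtain ⟨y, rfl⟩ : ∃ y, z = 2 * y := ⟨z / 2, by omega⟩
    push_cast
    rw [h2, zero_mul]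
  · have h3 : ¬ Int.natAbs z % 2 = 0 := by omega
    rw [if_neg h3]
    obtain ⟨y, rfl⟩ : ∃ y, z = 2 * y + 1 := ⟨z / 2, by omega⟩
    push_cast
    rw [h2, zero_mul, zero_add]

theorem dec_actL (h2 : (2 : K) = 0) (w : K) (hw : w * w = w + 1) {τ c : ℕ} (hτ : τ < 4) (hc : c < 4)
    (l : List (ℕ × ℤ × ℕ)) (hl : ∀ a ∈ l, a.1 < D.rank + D.nroots) :
    dec D w (actL τ c l) = cv w c • evalAct (D := D) (cv w τ) l := by
  induction l with
  | nil => rw [actL_nil, dec_zero]; simp [evalAct]
  | cons a l ih =>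
    have ih' := ih fun b hb => hl b (List.mem_cons_of_mem _ hb)
    have ha := hl a List.mem_cons_self
    have hev : evalAct (D := D) (cv w τ) (a :: l) =
        (((a.2.1 : ℤ) : K) * cv w τ ^ a.2.2) • bvec D K a.1 + evalAct (D := D) (cv w τ) l := by
      simp [evalAct]
    rw [actL_cons, dec_xor D h2, ih', hev, smul_add]
    congr 1
    rw [smul_smul, intCast_eq h2]
    rcases hb : Nat.beq (Int.natAbs a.2.1 % 2) 0 with _ | _
    · have h3 : ¬ Int.natAbs a.2.1 % 2 = 0 := fun h => by
        rw [h] at hb; exact absurd hb (by decide)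
      rw [cond_false, if_neg h3, dec_shl D w (mul4_lt hc (pow4_lt hτ _)) ha,
        cv_mul4 h2 w hw hc (pow4_lt hτ _), cv_pow4 h2 w hw hτ, one_mul]
    · have h3 : Int.natAbs a.2.1 % 2 = 0 := Nat.eq_of_beq_eq_true hb
      rw [cond_true, if_pos h3, Nat.zero_shiftLeft, dec_zero, zero_mul, mul_zero, zero_smul]

/-- one digit -/
def actD (r τ v k : ℕ) : ℕ := cond (Nat.beq (dig v k) 0) 0 (actL τ (dig v k) (act D r k))

/-- action of `x_r(τ)` on the coded vector `v`, first `n` digits -/
def actN (r τ v n : ℕ) : ℕ := Nat.rec 0 (fun k ih => Nat.xor ih (actD D r τ v k)) n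

theorem actN_succ (r τ v n : ℕ) : actN D r τ v (n + 1) = actN D r τ v n ^^^ actD D r τ v n := rfl

/-- all codes in the action table are small -/
def actOk (r : ℕ) : Bool :=
  (List.range (D.rank + D.nroots)).all fun k => (act D r k).all fun a => Nat.blt a.1 (D.rank + D.nroots)

theorem dec_actD (h2 : (2 : K) = 0) (w : K) (hw : w * w = w + 1) {r τ : ℕ} (hτ : τ < 4)
    (hr : actOk D r = true) (v : ℕ) {k : ℕ} (hk : k < D.rank + D.nroots) :
    dec D w (actD D r τ v k) = cv w (dig v k) • (D.x K r (cv w τ)).mulVec (bvec D K k) := by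
  have h1 : ∀ a ∈ act D r k, a.1 < D.rank + D.nroots := by
    intro a ha
    have h3 := List.all_eq_true.1 (List.all_eq_true.1 hr k (List.mem_range.2 hk)) a ha
    rw [Nat.blt_eq] at h3
    exact h3
  unfold actD
  rcases hb : Nat.beq (dig v k) 0 with _ | _
  · rw [cond_false, dec_actL D h2 w hw hτ (dig_lt v k) _ h1, xMat_mulVec]
  · rw [cond_true, Nat.eq_of_beq_eq_true hb, dec_zero, cv_zero, zero_smul]

theorem dec_actN (h2 : (2 : K) = 0) (w : K) (hw : w * w = w + 1) {r τ : ℕ} (hτ : τ < 4)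
    (hr : actOk D r = true) (v : ℕ) :
    dec D w (actN D r τ v (D.rank + D.nroots)) = (D.x K r (cv w τ)).mulVec (dec D w v) := by
  have h3 : ∀ n ≤ D.rank + D.nroots, dec D w (actN D r τ v n) =
      (D.x K r (cv w τ)).mulVec (∑ k ∈ Finset.range n, cv w (dig v k) • bvec D K k) := by
    intro n
    induction n with
    | zero => intro _; rw [Finset.range_zero, Finset.sum_empty, Matrix.mulVec_zero]; exact dec_zero D w
    | succ n ih =>
      intro hn
      rw [actN_succ, dec_xor D h2, ih (by omega), dec_actD D h2 w hw hτ hr v (by omega),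
        Finset.sum_range_succ, Matrix.mulVec_add, Matrix.mulVec_smul]
  exact h3 _ le_rfl

/-- action of a word (the first letter last) -/
def actW (l : List (ℕ × ℕ)) (v : ℕ) : ℕ :=
  List.rec v (fun p _ ih => actN D p.1 p.2 ih (D.rank + D.nroots)) l

theorem actW_nil (v : ℕ) : actW D [] v = v := rfl
theorem actW_cons (p : ℕ × ℕ) (l : List (ℕ × ℕ)) (v : ℕ) :
    actW D (p :: l) v = actN D p.1 p.2 (actW D l v) (D.rank + D.nroots) := rfl

theorem dec_actW (h2 : (2 : K) = 0) (w : K) (hw : w * w = w + 1) (l : List (ℕ × ℕ))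
    (hl : ∀ p ∈ l, p.2 < 4 ∧ actOk D p.1 = true) (v : ℕ) :
    dec D w (actW D l v) = (D.wordMat K (l.map fun p => (p.1, cv w p.2))).mulVec (dec D w v) := by
  induction l with
  | nil => simp [actW_nil, ChevalleyDatum.wordMat]
  | cons p l ih =>
    have h1 := hl p List.mem_cons_self
    rw [actW_cons, dec_actN D h2 w hw h1.1 h1.2, ih fun q hq => hl q (List.mem_cons_of_mem _ hq)]
    simp [ChevalleyDatum.wordMat, Matrix.mulVec_mulVec]

/-- scalar multiple of a coded vector, first `n` digits -/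
def scN (c v n : ℕ) : ℕ := Nat.rec 0 (fun k ih => Nat.xor ih (Nat.shiftLeft (mul4 c (dig v k)) (Nat.mul 2 k))) n

theorem scN_succ (c v n : ℕ) : scN c v (n + 1) = scN c v n ^^^ ((mul4 c (dig v n)) <<< (2 * n)) := rfl

theorem dec_scN (h2 : (2 : K) = 0) (w : K) (hw : w * w = w + 1) {c : ℕ} (hc : c < 4) (v : ℕ) :
    dec D w (scN c v (D.rank + D.nroots)) = cv w c • dec D w v := by
  have h3 : ∀ n ≤ D.rank + D.nroots, dec D w (scN c v n) =
      cv w c • (∑ k ∈ Finset.range n, cv w (dig v k) • bvec D K k) := by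
    intro n
    induction n with
    | zero => intro _; rw [Finset.range_zero, Finset.sum_empty, smul_zero]; exact dec_zero D w
    | succ n ih =>
      intro hn
      rw [scN_succ, dec_xor D h2, ih (by omega), dec_shl D w (mul4_lt hc (dig_lt v n)) (by omega),
        Finset.sum_range_succ, smul_add, smul_smul, cv_mul4 h2 w hw hc (dig_lt v n)]
  exact h3 _ le_rfl

end Cfsg.Agent.TwoESix.Coded
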