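/-
Change of basis: over a field `K` with an element `w`, `w * w = w + 1`, `2 = 0`, the words of `e6Words K 2` act on the
vectors coded by `Data.bs` through matrices over the field with two elements (`Data.Ms`).
-/
import Cfsg.Agent.TwoESix.Coded
import Cfsg.Agent.TwoESix.Data
import Cfsg.Agent.Lib.F2MatGroup
import Cfsg.Prelude.Def_LieTwisted
set_option autoImplicit false

namespace Cfsg.Agent.TwoESix.Base

open Cfsg.Lie Cfsg.Agent.ChevalleyStructure.SparseEng Cfsg.Agent.TwoESix.Coded Cfsg.Agent.TwoESix.Data
open Cfsg.Agent.Lib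

/-- sum of the vectors of `L` selected by the bits `p, p + 78, …` of `M` -/
def colX (M : ℕ) (L : List ℕ) (p : ℕ) : ℕ :=
  List.rec (motive := fun _ => ℕ → ℕ) (fun _ => 0)
    (fun b _ ih p => Nat.xor (cond (Nat.testBit M p) b 0) (ih (Nat.add p 78))) L p

theorem colX_nil (M p : ℕ) : colX M [] p = 0 := rfl
theorem colX_cons (M b : ℕ) (L : List ℕ) (p : ℕ) :
    colX M (b :: L) p = (cond (Nat.testBit M p) b 0) ^^^ colX M L (p + 78) := rfl

/-- the matrix `M` describes the action of the word `l` on the basis -/
def genOk (l : List (ℕ × ℕ)) (M : ℕ) : Bool :=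
  (List.range 78).all fun i => Nat.beq (actW chevE6 l (bs.getD i 0)) (colX M bs i)

variable {K : Type*} [Field K]

theorem dec_colX (h2 : (2 : K) = 0) (w : K) (M : ℕ) (L : List ℕ) (p : ℕ) :
    dec chevE6 w (colX M L p) =
      ∑ j ∈ Finset.range L.length, bz K (M.testBit (78 * j + p)) • dec chevE6 w (L.getD j 0) := by
  induction L generalizing p with
  | nil => rw [colX_nil, dec_zero]; simp
  | cons b L ih =>
    rw [colX_cons, dec_xor _ h2, ih, List.length_cons, Finset.sum_range_succ']
    rw [add_comm]
    congr 1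
    · refine Finset.sum_congr rfl fun j _ => ?_
      have : 78 * j + (p + 78) = 78 * (j + 1) + p := by ring
      rw [this, List.getD_cons_succ]
    · rw [List.getD_cons_zero, Nat.mul_zero, Nat.zero_add]
      cases M.testBit p
      · simp [bz, dec_zero]
      · simp [bz]

theorem bs_length : bs.length = 78 := by decide +kernel

/-- the matrix whose columns are the basis vectors -/
def P (w : K) : Matrix chevE6.Idx (Fin 78) K := fun row i => dec chevE6 w (bs.getD i 0) row

/-- the inclusion of the prime field -/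
def cst (h2 : (2 : K) = 0) : ZMod 2 →+* K :=
  haveI : CharP K 2 := CharTwo.of_one_ne_zero_of_two_eq_zero one_ne_zero h2
  ZMod.castHom (dvd_refl 2) K

theorem cst_bz (h2 : (2 : K) = 0) (b : Bool) : cst h2 (F2Mat.bz b) = bz K b := by
  cases b
  · exact map_zero _
  · exact map_one _

theorem P_mul (h2 : (2 : K) = 0) (w : K) (M : ℕ) (i : Fin 78) :
    (fun row => (P w * (F2Mat.toMat 78 M).map (cst h2)) row i) = dec chevE6 w (colX M bs i) := by
  rw [dec_colX h2, bs_length]
  funext row
  rw [Matrix.mul_apply, Finset.sum_apply, Finset.sum_range]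
  refine Finset.sum_congr rfl fun j _ => ?_
  rw [Matrix.map_apply, F2Mat.toMat_apply, cst_bz, Pi.smul_apply, smul_eq_mul, mul_comm]
  rfl

theorem word_mul_P (h2 : (2 : K) = 0) (w : K) (hw : w * w = w + 1) (l : List (ℕ × ℕ))
    (hl : ∀ p ∈ l, p.2 < 4 ∧ actOk chevE6 p.1 = true) (M : ℕ) (h : genOk l M = true) :
    chevE6.wordMat K (l.map fun p => (p.1, cv w p.2)) * P w =
      P w * (F2Mat.toMat 78 M).map (cst h2) := by
  ext row i
  have h1 := congrFun (P_mul h2 w M i) row
  rw [h1]
  have h3 : Nat.beq (actW chevE6 l (bs.getD i 0)) (colX M bs i) = true :=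
    List.all_eq_true.1 h i (List.mem_range.2 i.2)
  rw [← Nat.eq_of_beq_eq_true h3, dec_actW chevE6 h2 w hw l hl]
  rfl

/-- the root indices used -/
def roots : List ℕ := [56, 46, 42, 39, 37, 36, 15, 25, 29, 32, 34, 35]

theorem actOk_roots : (roots.all fun r => actOk chevE6 r) = true := by decide +kernel

theorem ws_roots : (ws.all fun l => l.all fun p => roots.contains p.1 && Nat.blt p.2 4) = true := by
  decide +kernel

theorem genOk_all : ((List.range 16).all fun k => genOk (ws.getD k []) (Ms.getD k 0)) = true := by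
  decide +kernel

end Cfsg.Agent.TwoESix.Base
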