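/-
`twistedE6 K 2` for a field `K` with four elements is isomorphic to the group `Gam` of 78 × 78 matrices over the field
with two elements generated by the sixteen matrices `Data.Ms`.
-/
import Cfsg.Agent.TwoESix.Base
set_option autoImplicit false

namespace Cfsg.Agent.TwoESix.Iso

open Cfsg.Lie Cfsg.Agent.ChevalleyStructure.SparseEng Cfsg.Agent.TwoESix.Coded Cfsg.Agent.TwoESix.Data
open Cfsg.Agent.TwoESix.Base
open Cfsg.Agent.Lib

/-! ### The field -/

theorem exists_w (K : Type*) [Field K] [Fintype K] (hK : Fintype.card K = 4) :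
    (2 : K) = 0 ∧ ∃ w : K, w * w = w + 1 ∧ ∀ t : K, t = 0 ∨ t = 1 ∨ t = w ∨ t = 1 + w := by
  classical
  have h2 : (2 : K) = 0 := by
    have h4 : ((Fintype.card K : ℕ) : K) = 0 := Nat.cast_card_eq_zero K
    rw [hK] at h4
    have h5 : (2 : K) * 2 = 0 := by
      have : (2 : K) * 2 = ((4 : ℕ) : K) := by norm_num
      rw [this, h4]
    exact mul_self_eq_zero.1 h5
  refine ⟨h2, ?_⟩
  have h3 : ∃ w : K, w ∉ ({0, 1} : Finset K) := by
    by_contra hcon
    push Not at hcon
    have h5 : (Finset.univ : Finset K) ⊆ {0, 1} := fun x _ => hcon x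
    have h6 := Finset.card_le_card h5
    rw [Finset.card_univ, hK] at h6
    have h7 := (Finset.card_le_two (a := (0 : K)) (b := 1))
    omega
  obtain ⟨w, hw⟩ := h3
  simp only [Finset.mem_insert, Finset.mem_singleton, not_or] at hw
  have h4 : w ^ 4 = w := by rw [← hK]; exact FiniteField.pow_card w
  have h5 : w * w = w + 1 := by
    have h6 : w * (w - 1) * (w * w + w + 1) = 0 := by linear_combination h4
    rcases mul_eq_zero.1 h6 with h7 | h7
    · rcases mul_eq_zero.1 h7 with h8 | h8
      · exact absurd h8 hw.1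
      · exact absurd (sub_eq_zero.1 h8) hw.2
    · linear_combination h7 - (w + 1) * h2
  refine ⟨w, h5, ?_⟩
  have hw1 : (1 : K) + w ≠ 0 := fun h => hw.2 (by linear_combination h - h2)
  have hcard : ({0, 1, w, 1 + w} : Finset K).card = 4 := by
    rw [Finset.card_insert_of_notMem, Finset.card_insert_of_notMem, Finset.card_insert_of_notMem,
      Finset.card_singleton]
    · simp only [Finset.mem_singleton]
      intro h
      exact one_ne_zero (α := K) (by linear_combination -h)
    · simp only [Finset.mem_insert, Finset.mem_singleton, not_or]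
      exact ⟨fun h => hw.2 h.symm, fun h => hw.1 (by linear_combination -h)⟩
    · simp only [Finset.mem_insert, Finset.mem_singleton, not_or]
      exact ⟨zero_ne_one, fun h => hw.1 h.symm, fun h => hw1 h.symm⟩
  have huniv : ({0, 1, w, 1 + w} : Finset K) = Finset.univ := by
    apply Finset.eq_univ_of_card
    rw [hcard, hK]
  intro t
  have ht : t ∈ ({0, 1, w, 1 + w} : Finset K) := huniv ▸ Finset.mem_univ t
  simpa using ht

/-! ### Inverse change of basis -/

/-- combination of basis vectors -/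
def comb (q : List (ℕ × ℕ)) : ℕ :=
  List.rec 0 (fun p _ ih => Nat.xor (scN p.2 (bs.getD p.1 0) 78) ih) q

theorem comb_cons (p : ℕ × ℕ) (q : List (ℕ × ℕ)) : comb (p :: q) = scN p.2 (bs.getD p.1 0) 78 ^^^ comb q := rfl

theorem qs_check : ((List.range 78).all fun k => Nat.beq (comb (qs.getD k [])) (1 <<< (2 * k)) &&
    (qs.getD k []).all fun p => Nat.blt p.1 78 && Nat.blt p.2 4) = true := by decide +kernel

section

variable {K : Type*} [Field K] (h2 : (2 : K) = 0) (w : K) (hw : w * w = w + 1)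

include h2 hw in
theorem comb_mem (q : List (ℕ × ℕ)) (hq : ∀ p ∈ q, p.1 < 78 ∧ p.2 < 4) :
    ∃ v : Fin 78 → K, (P w).mulVec v = dec chevE6 w (comb q) := by
  induction q with
  | nil => exact ⟨0, by rw [Matrix.mulVec_zero]; exact (dec_zero chevE6 w).symm⟩
  | cons p q ih =>
    obtain ⟨v, hv⟩ := ih fun a ha => hq a (List.mem_cons_of_mem _ ha)
    have hp := hq p List.mem_cons_self
    refine ⟨cv w p.2 • Pi.single ⟨p.1, hp.1⟩ 1 + v, ?_⟩
    have h3 : (P w).mulVec (Pi.single ⟨p.1, hp.1⟩ 1) = dec chevE6 w (bs.getD p.1 0) := by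
      rw [Matrix.mulVec_single_one]
      rfl
    rw [Matrix.mulVec_add, Matrix.mulVec_smul, hv, h3, comb_cons, dec_xor _ h2]
    congr 1
    exact (dec_scN chevE6 h2 w hw hp.2 _).symm

include h2 hw in
theorem exists_Q : ∃ Q : Matrix (Fin 78) chevE6.Idx K, P w * Q = 1 ∧ Q * P w = 1 := by
  have h3 : ∀ k < 78, ∃ v : Fin 78 → K, (P w).mulVec v = bvec chevE6 K k := by
    intro k hk
    have h4 := List.all_eq_true.1 qs_check k (List.mem_range.2 hk)
    rw [Bool.and_eq_true] at h4
    obtain ⟨h5, h6⟩ := h4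
    obtain ⟨v, hv⟩ := comb_mem h2 w hw (qs.getD k []) (by
      intro p hp
      have h7 := List.all_eq_true.1 h6 p hp
      rw [Bool.and_eq_true, Nat.blt_eq, Nat.blt_eq] at h7
      exact h7)
    refine ⟨v, ?_⟩
    rw [hv, Nat.eq_of_beq_eq_true h5, dec_shl chevE6 w (by norm_num) hk, cv_one, one_smul]
  have h4 : ∀ i : chevE6.Idx, ∃ v : Fin 78 → K, (P w).mulVec v = Pi.single i 1 := by
    intro i
    rcases i with i | s
    · obtain ⟨v, hv⟩ := h3 i.val (by have : i.val < 6 := i.2; omega)
      refine ⟨v, hv.trans ?_⟩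
      ext row
      rcases row with i' | s'
      · simp [bvec, Pi.single_apply, Fin.ext_iff]
      · have h5 : chevE6.rank + s'.val ≠ i.val := by have := i.2; omega
        simp [bvec, h5]
    · obtain ⟨v, hv⟩ := h3 (6 + s.val) (by have : s.val < 72 := s.2; omega)
      refine ⟨v, hv.trans ?_⟩
      ext row
      rcases row with i' | s'
      · have h5 : i'.val ≠ 6 + s.val := by have : i'.val < 6 := i'.2; omega
        simp [bvec, h5]
      · have h5 : (chevE6.rank + s'.val = 6 + s.val) ↔ s' = s := by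
          rw [Fin.ext_iff]
          constructor
          · intro h
            have h' : 6 + s'.val = 6 + s.val := h
            omega
          · intro h; rw [h]; rfl
        simp only [bvec, Pi.single_apply, Sum.inr.injEq, h5]
  choose v hv using h4
  refine ⟨Matrix.of fun j i => v i j, ?_, ?_⟩
  · ext row i
    have h5 := congrFun (hv i) row
    rw [Matrix.mul_apply, Matrix.one_apply]
    rw [Pi.single_apply] at h5
    rw [← h5]
    rfl
  · refine (Matrix.mul_eq_one_comm_of_card_eq (Fin 78) K (m := chevE6.Idx) ?_).1 ?_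
    · rw [Fintype.card_sum, Fintype.card_fin, Fintype.card_fin, Fintype.card_fin]; rfl
    ext row i
    have h5 := congrFun (hv i) row
    rw [Matrix.mul_apply, Matrix.one_apply]
    rw [Pi.single_apply] at h5
    rw [← h5]
    rfl

/-- base change to `K` and change of basis, as a homomorphism of matrix monoids -/
noncomputable def phi0 (Q : Matrix (Fin 78) chevE6.Idx K) (hPQ : P w * Q = 1) (hQP : Q * P w = 1) :
    Matrix (Fin 78) (Fin 78) (ZMod 2) →* Matrix chevE6.Idx chevE6.Idx K where
  toFun M := P w * M.map (cst h2) * Q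
  map_one' := by
    rw [Matrix.map_one _ (map_zero _) (map_one _), Matrix.mul_one, hPQ]
  map_mul' M N := by
    rw [Matrix.map_mul]
    calc P w * (M.map (cst h2) * N.map (cst h2)) * Q
        = P w * M.map (cst h2) * (1 : Matrix (Fin 78) (Fin 78) K) * N.map (cst h2) * Q := by
          simp only [Matrix.mul_one, Matrix.mul_assoc]
      _ = P w * M.map (cst h2) * Q * (P w * N.map (cst h2) * Q) := by
          rw [← hQP]; simp only [Matrix.mul_assoc]

theorem phi0_apply (Q : Matrix (Fin 78) chevE6.Idx K) (hPQ : P w * Q = 1) (hQP : Q * P w = 1)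
    (M : Matrix (Fin 78) (Fin 78) (ZMod 2)) : phi0 h2 w Q hPQ hQP M = P w * M.map (cst h2) * Q := rfl

theorem phi0_injective (Q : Matrix (Fin 78) chevE6.Idx K) (hPQ : P w * Q = 1) (hQP : Q * P w = 1) :
    Function.Injective (phi0 h2 w Q hPQ hQP) := by
  intro M N h
  have h3 : ∀ M, Q * phi0 h2 w Q hPQ hQP M * P w = M.map (cst h2) := by
    intro M
    rw [phi0_apply]
    calc Q * (P w * M.map (cst h2) * Q) * P w = (Q * P w) * M.map (cst h2) * (Q * P w) := by
          simp only [Matrix.mul_assoc]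
      _ = M.map (cst h2) := by rw [hQP, Matrix.one_mul, Matrix.mul_one]
  have h4 : M.map (cst h2) = N.map (cst h2) := by rw [← h3, ← h3, h]
  exact Matrix.map_injective (cst h2).injective h4

/-- the same on invertible matrices -/
noncomputable def phi (Q : Matrix (Fin 78) chevE6.Idx K) (hPQ : P w * Q = 1) (hQP : Q * P w = 1) :
    GL (Fin 78) (ZMod 2) →* GL chevE6.Idx K := Units.map (phi0 h2 w Q hPQ hQP)

theorem phi_injective (Q : Matrix (Fin 78) chevE6.Idx K) (hPQ : P w * Q = 1) (hQP : Q * P w = 1) :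
    Function.Injective (phi h2 w Q hPQ hQP) := Units.map_injective (phi0_injective h2 w Q hPQ hQP)

end

/-! ### The sixteen generators -/

theorem Ms_check : ((List.range 16).all fun k =>
    Nat.beq (F2Mat.mul 78 (Ms.getD k 0) (Ms.getD k 0)) (F2Mat.one 78)) = true := by decide +kernel

theorem Ms_check' (k : Fin 16) :
    Nat.beq (F2Mat.mul 78 (Ms.getD k 0) (Ms.getD k 0)) (F2Mat.one 78) = true :=
  List.all_eq_true.1 Ms_check k (List.mem_range.2 k.2)

/-- the sixteen generators as invertible matrices -/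
def gM (k : Fin 16) : GL (Fin 78) (ZMod 2) :=
  F2MatGroup.unit 78 (Ms.getD k 0) (Ms.getD k 0) (Ms_check' k) (Ms_check' k)

theorem codes_gM (k : Fin 16) : F2MatGroup.Codes 78 (gM k) (Ms.getD k 0) := rfl

/-- the group generated by the sixteen matrices -/
def Gam : Subgroup (GL (Fin 78) (ZMod 2)) := Subgroup.closure (Set.range gM)

theorem x_zero (K : Type*) [Field K] (D : ChevalleyDatum) (r : ℕ) : D.x K r (0 : K) = 1 := by
  unfold ChevalleyDatum.x
  split_ifs with h
  · ext a b
    rcases b with j | s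
    · rcases a with j' | u
      · simp [ChevalleyDatum.xMat, Matrix.one_apply]
      · simp [ChevalleyDatum.xMat]
    · have hsum : ∀ u : ℕ, ((D.chainCoeff r s.val u).map
          fun km => ((km.2 : ℤ) : K) * (0 : K) ^ km.1).sum = 0 := by
        intro u
        apply List.sum_eq_zero
        intro y hy
        rw [List.mem_map] at hy
        obtain ⟨km, hkm, rfl⟩ := hy
        have : km.1 ≠ 0 := by
          unfold ChevalleyDatum.chainCoeff at hkm
          rw [List.mem_flatMap] at hkm
          obtain ⟨e, -, he⟩ := hkm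
          rw [List.mem_map] at he
          obtain ⟨q, -, rfl⟩ := he
          exact Nat.succ_ne_zero _
        rw [zero_pow this, mul_zero]
      rcases a with j' | u
      · simp only [ChevalleyDatum.xMat, Matrix.of_apply, Matrix.one_apply]
        split_ifs <;> simp_all
      · simp only [ChevalleyDatum.xMat, Matrix.of_apply, Matrix.one_apply, hsum]
        split_ifs <;> simp_all
  · rfl

section

variable {K : Type*} [Field K] (h2 : (2 : K) = 0) (w : K) (hw : w * w = w + 1)

/-- the word number `k` over `K` -/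
def lw (k : Fin 16) : List (ℕ × K) := (ws.getD k []).map fun p => (p.1, cv w p.2)

theorem ws_ok (k : Fin 16) : ∀ p ∈ ws.getD k [], p.2 < 4 ∧ actOk chevE6 p.1 = true := by
  intro p hp
  have hk : ws.getD k [] ∈ ws := by
    have : (k : ℕ) < ws.length := by have := k.2; exact this
    rw [List.getD_eq_getElem _ _ this]
    exact List.getElem_mem _
  have h1 := List.all_eq_true.1 (List.all_eq_true.1 ws_roots _ hk) p hp
  rw [Bool.and_eq_true, Nat.blt_eq, List.contains_iff_mem] at h1
  exact ⟨h1.2, List.all_eq_true.1 actOk_roots _ h1.1⟩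

theorem phi_gM (Q : Matrix (Fin 78) chevE6.Idx K) (hPQ : P w * Q = 1) (hQP : Q * P w = 1) (hw : w * w = w + 1)
    (k : Fin 16) :
    ((phi h2 w Q hPQ hQP (gM k) : GL chevE6.Idx K) : Matrix chevE6.Idx chevE6.Idx K) = chevE6.wordMat K (lw w k) := by
  have h1 := word_mul_P h2 w hw (ws.getD k []) (ws_ok k) (Ms.getD k 0)
    (List.all_eq_true.1 genOk_all k (List.mem_range.2 k.2))
  have h3 : ((phi h2 w Q hPQ hQP (gM k) : GL chevE6.Idx K) : Matrix chevE6.Idx chevE6.Idx K) =
      P w * (F2Mat.toMat 78 (Ms.getD k 0)).map (cst h2) * Q := rfl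
  rw [h3, ← h1, Matrix.mul_assoc, hPQ, Matrix.mul_one]
  rfl

include h2 hw in
theorem lw_mem (k : Fin 16) : lw w k ∈ e6Words K 2 := by
  have e1 := cv_one w
  have e2 := cv_two w
  have e3 := cv_three w
  have r3 : (1 + w) = w ^ 2 := by linear_combination -hw
  have r4 : w = (1 + w) ^ 2 := by linear_combination -hw - (w + 1) * h2
  fin_cases k
  · exact Or.inl ⟨1, one_pow 2, 46, by decide, by simp [lw, ws, e1]⟩
  · exact Or.inl ⟨1, one_pow 2, 25, by decide, by simp [lw, ws, e1]⟩
  · exact Or.inl ⟨1, one_pow 2, 39, by decide, by simp [lw, ws, e1]⟩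
  · exact Or.inl ⟨1, one_pow 2, 32, by decide, by simp [lw, ws, e1]⟩
  · exact Or.inr ⟨1, (56, 36), by decide, by simp [lw, ws, e1]⟩
  · exact Or.inr ⟨w, (56, 36), by decide, by simp [lw, ws, e2, e3, r3]⟩
  · exact Or.inr ⟨1 + w, (56, 36), by decide, by simp [lw, ws, e2, e3, ← r4]⟩
  · exact Or.inr ⟨1, (15, 35), by decide, by simp [lw, ws, e1]⟩
  · exact Or.inr ⟨w, (15, 35), by decide, by simp [lw, ws, e2, e3, r3]⟩
  · exact Or.inr ⟨1 + w, (15, 35), by decide, by simp [lw, ws, e2, e3, ← r4]⟩
  · exact Or.inr ⟨1, (42, 37), by decide, by simp [lw, ws, e1]⟩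
  · exact Or.inr ⟨w, (42, 37), by decide, by simp [lw, ws, e2, e3, r3]⟩
  · exact Or.inr ⟨1 + w, (42, 37), by decide, by simp [lw, ws, e2, e3, ← r4]⟩
  · exact Or.inr ⟨1, (29, 34), by decide, by simp [lw, ws, e1]⟩
  · exact Or.inr ⟨w, (29, 34), by decide, by simp [lw, ws, e2, e3, r3]⟩
  · exact Or.inr ⟨1 + w, (29, 34), by decide, by simp [lw, ws, e2, e3, ← r4]⟩

theorem map_Gam (Q : Matrix (Fin 78) chevE6.Idx K) (hPQ : P w * Q = 1) (hQP : Q * P w = 1) (hw : w * w = w + 1)
    (hall : ∀ t : K, t = 0 ∨ t = 1 ∨ t = w ∨ t = 1 + w) :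
    Gam.map (phi h2 w Q hPQ hQP) = twistedE6 K 2 := by
  have e1 := cv_one w
  have e2 := cv_two w
  have e3 := cv_three w
  have r3 : w ^ 2 = 1 + w := by linear_combination hw
  have r4 : (1 + w) ^ 2 = w := by linear_combination hw + (w + 1) * h2
  apply le_antisymm
  · unfold Gam
    rw [MonoidHom.map_closure, Subgroup.closure_le]
    rintro _ ⟨_, ⟨k, rfl⟩, rfl⟩
    exact Subgroup.subset_closure ⟨lw w k, lw_mem h2 w hw k, phi_gM h2 w Q hPQ hQP hw k⟩
  · unfold twistedE6 ChevalleyDatum.genSubgroup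
    rw [Subgroup.closure_le]
    rintro g ⟨l, hl, hg⟩
    have key : ∀ k : Fin 16, l = lw w k → g ∈ Gam.map (phi h2 w Q hPQ hQP) := by
      intro k hk
      refine ⟨gM k, Subgroup.subset_closure ⟨k, rfl⟩, ?_⟩
      apply Units.ext
      rw [phi_gM h2 w Q hPQ hQP hw k, hg, hk]
    have key1 : (∀ p ∈ l, p.2 = 0) → g ∈ Gam.map (phi h2 w Q hPQ hQP) := by
      intro h0
      have h3 : chevE6.wordMat K l = 1 := by
        unfold ChevalleyDatum.wordMat
        apply List.prod_eq_one
        intro M hM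
        rw [List.mem_map] at hM
        obtain ⟨p, hp, rfl⟩ := hM
        rw [h0 p hp, x_zero]
      have h4 : g = 1 := Units.ext (by rw [hg, h3]; rfl)
      rw [h4]
      exact Subgroup.one_mem _
    rcases hl with ⟨t, ht, r, hr, rfl⟩ | ⟨t, rs, hr, rfl⟩
    · have ht' : t = 0 ∨ t = 1 := by
        have h5 : t * (t - 1) = 0 := by linear_combination ht
        rcases mul_eq_zero.1 h5 with h | h
        · exact Or.inl h
        · exact Or.inr (sub_eq_zero.1 h)
      rcases ht' with rfl | rfl
      · exact key1 (by simp)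
      · fin_cases hr
        · exact key 0 (by simp [lw, ws, e1]; rfl)
        · exact key 1 (by simp [lw, ws, e1]; rfl)
        · exact key 2 (by simp [lw, ws, e1]; rfl)
        · exact key 3 (by simp [lw, ws, e1]; rfl)
    · rcases hall t with rfl | rfl | h | h
      · exact key1 (by simp)
      · fin_cases hr
        · exact key 4 (by simp [lw, ws, e1]; exact ⟨rfl, rfl⟩)
        · exact key 7 (by simp [lw, ws, e1]; exact ⟨rfl, rfl⟩)
        · exact key 10 (by simp [lw, ws, e1]; exact ⟨rfl, rfl⟩)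
        · exact key 13 (by simp [lw, ws, e1]; exact ⟨rfl, rfl⟩)
      · fin_cases hr
        · exact key 5 (by simp [lw, ws, e2, e3, r3, h]; exact ⟨rfl, rfl⟩)
        · exact key 8 (by simp [lw, ws, e2, e3, r3, h]; exact ⟨rfl, rfl⟩)
        · exact key 11 (by simp [lw, ws, e2, e3, r3, h]; exact ⟨rfl, rfl⟩)
        · exact key 14 (by simp [lw, ws, e2, e3, r3, h]; exact ⟨rfl, rfl⟩)
      · fin_cases hr
        · exact key 6 (by simp [lw, ws, e2, e3, r4, h]; exact ⟨rfl, rfl⟩)
        · exact key 9 (by simp [lw, ws, e2, e3, r4, h]; exact ⟨rfl, rfl⟩)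
        · exact key 12 (by simp [lw, ws, e2, e3, r4, h]; exact ⟨rfl, rfl⟩)
        · exact key 15 (by simp [lw, ws, e2, e3, r4, h]; exact ⟨rfl, rfl⟩)

end

/-- the isomorphism, together with its values: root elements go to the matrices of their words -/
theorem exists_phi (K : Type*) [Field K] [Fintype K] (hK : Fintype.card K = 4) :
    ∃ (w : K) (f : GL (Fin 78) (ZMod 2) →* GL chevE6.Idx K), (2 : K) = 0 ∧ w * w = w + 1 ∧ Function.Injective f ∧
      Gam.map f = twistedE6 K 2 ∧
      ∀ k, ((f (gM k) : GL chevE6.Idx K) : Matrix chevE6.Idx chevE6.Idx K) = chevE6.wordMat K (lw w k) := by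
  obtain ⟨h2, w, hw, hall⟩ := exists_w K hK
  obtain ⟨Q, hPQ, hQP⟩ := exists_Q h2 w hw
  exact ⟨w, phi h2 w Q hPQ hQP, h2, hw, phi_injective h2 w Q hPQ hQP, map_Gam h2 w Q hPQ hQP hw hall,
    phi_gM h2 w Q hPQ hQP hw⟩

theorem nonempty_equiv (K : Type*) [Field K] [Fintype K] (hK : Fintype.card K = 4) :
    Nonempty (twistedE6 K 2 ≃* Gam) := by
  obtain ⟨w, f, -, -, hf, hmap, -⟩ := exists_phi K hK
  have e := Gam.equivMapOfInjective f hf
  rw [hmap] at e
  exact ⟨e.symm⟩

end Cfsg.Agent.TwoESix.Iso
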