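/-
Words connecting the ten root involutions `T` and the sixteen generators of `Gam` (data; checked in `Gens`).
Letters `0, …, 9` stand for `T 0, …, T 9`, letters `10, …, 25` for the generators.
-/
import Mathlib
set_option autoImplicit false

namespace Cfsg.Agent.TwoESix.Words

/-- words for the generators in `T 0, …, T 9` -/
def gw : List (List ℕ × List ℕ) := [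
  ([8, 9, 3, 4, 2, 3, 7, 8, 5, 4, 3, 7, 6, 5, 4, 3, 2, 3, 4, 5, 6, 7, 3, 4, 5, 8, 7, 3, 2, 4, 3, 9, 8], [10]),
  ([9, 7, 8, 3, 4, 0, 1, 2, 3, 7, 5, 6, 3, 4, 5, 2, 3, 4, 1, 2, 3, 7, 8, 9, 3, 4, 1, 2, 3, 7, 8, 2, 3, 4, 1, 2, 3, 7, 6, 5, 4, 3, 2, 1, 0, 1, 2, 3, 4, 5, 6, 7, 3, 2, 1, 4, 3, 2, 8, 7, 3, 2, 1, 4, 3, 9, 8, 7, 3, 2, 1, 4, 3, 2, 5, 4, 3, 6, 5, 7, 3, 2, 1, 0, 4, 3, 8, 7, 9], [11]),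
  ([8, 9, 1, 2, 3, 7, 8, 4, 1, 2, 3, 7, 6, 3, 4, 5, 2, 3, 4, 0, 1, 2, 3, 7, 8, 9, 5, 2, 3, 4, 0, 1, 2, 3, 7, 8, 7, 5, 3, 4, 1, 2, 3, 7, 6, 5, 4, 3, 2, 1, 0, 1, 2, 3, 4, 5, 6, 7, 3, 2, 1, 4, 3, 5, 7, 8, 7, 3, 2, 1, 0, 4, 3, 2, 5, 9, 8, 7, 3, 2, 1, 0, 4, 3, 2, 5, 4, 3, 6, 7, 3, 2, 1, 4, 8, 7, 3, 2, 1, 9, 8], [12]),
  ([3, 7, 8, 9, 2, 3, 7, 1, 2, 3, 4, 0, 1, 2, 3, 7, 8, 7, 3, 4, 5, 1, 2, 3, 4, 0, 1, 2, 3, 7, 5, 6, 3, 4, 5, 1, 2, 3, 4, 0, 1, 2, 3, 7, 8, 9, 8, 7, 5, 3, 4, 2, 3, 7, 8, 5, 4, 1, 2, 3, 7, 6, 5, 4, 3, 2, 1, 0, 1, 2, 3, 4, 5, 6, 7, 3, 2, 1, 4, 5, 8, 7, 3, 2, 4, 3, 5, 7, 8, 9, 8, 7, 3, 2, 1, 0, 4, 3, 2, 1, 5, 4, 3, 6, 5, 7, 3, 2, 1, 0, 4, 3, 2, 1,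 5, 4, 3, 7, 8, 7, 3, 2, 1, 0, 4, 3, 2, 1, 7, 3, 2, 9, 8, 7, 3], [13]),
  ([7, 8, 9, 3, 7, 8, 4, 3, 7, 6, 5, 2, 3, 4, 1, 2, 3, 7, 8, 9, 5, 4, 2, 3, 7, 8, 5, 3, 4, 1, 2, 3, 7, 6, 5, 4, 3, 2, 1, 0, 1, 2, 3, 4, 5, 6, 7, 3, 2, 1, 4, 3, 5, 8, 7, 3, 2, 4, 5, 9, 8, 7, 3, 2, 1, 4, 3, 2, 5, 6, 7, 3, 4, 8, 7, 3, 9, 8, 7, 7, 8, 9, 5, 4, 3, 7, 8, 2, 3, 7, 1, 2, 3, 4, 0, 1, 2, 3, 7, 8, 9, 5, 4, 2, 3, 7, 8, 4, 1, 2, 3, 7, 6, 5, 4, 3, 2, 1, 0, 1, 2, 3, 4, 5, 6, 7, 3, 2, 1, 4, 8, 7, 3, 2, 4, 5, 9, 8, 7, 3, 2, 1, 0, 4, 3, 2, 1, 7, 3, 2, 8, 7, 3, 4, 5, 9, 8, 7], [14]),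
  ([7, 8, 9, 5, 4, 3, 7, 8, 2, 3, 7, 1, 2, 3, 4, 0, 1, 2, 3, 7, 8, 9, 5, 4, 2, 3, 7, 8, 4, 1, 2, 3, 7, 6, 5, 4, 3, 2, 1, 0, 1, 2, 3, 4, 5, 6, 7, 3, 2, 1, 4, 8, 7, 3, 2, 4, 5, 9, 8, 7, 3, 2, 1, 0, 4, 3, 2, 1, 7, 3, 2, 8, 7, 3, 4, 5, 9, 8, 7, 4, 5, 2, 3, 4, 1, 2, 3, 7, 8, 9, 3, 7, 8, 4, 1, 2, 3, 7, 4, 5, 2, 3, 4, 1, 2, 3, 7, 8, 5, 2, 3, 4, 1, 2, 3, 7, 6, 5, 4, 3, 2, 1, 0, 1, 2, 3, 4, 5, 6, 7, 3, 2, 1, 4, 3, 2, 5, 8, 7, 3, 2, 1, 4, 3, 2, 5, 4, 7, 3, 2, 1, 4, 8, 7, 3, 9, 8, 7, 3, 2, 1, 4, 3, 2, 5, 4], [15]),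
  ([7, 8, 3, 7, 5, 2, 3, 4, 1, 2, 3, 7, 8, 9, 5, 4, 1, 2, 3, 7, 8, 5, 3, 4, 2, 3, 7, 6, 5, 4, 3, 2, 1, 0, 1, 2, 3, 4, 5, 6, 7, 3, 2, 4, 3, 5, 8, 7, 3, 2, 1, 4, 5, 9, 8, 7, 3, 2, 1, 4, 3, 2, 5, 7, 3, 8, 7, 9, 8, 7, 4, 5, 3, 4, 1, 2, 3, 7, 8, 9, 4, 5, 3, 4, 1, 2, 3, 7, 8, 7, 5, 3, 4, 2, 3, 7, 6, 5, 4, 3, 2, 1, 0, 1, 2, 3, 4, 5, 6, 7, 3, 2, 4, 3, 5, 7, 8, 7, 3, 2, 1, 4, 3, 5, 4, 9, 8, 7, 3, 2, 1, 4, 3, 5, 4, 7, 8, 9], [18]),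
  ([6, 5, 3, 4, 2, 3, 7, 8, 9, 7, 5, 3, 4, 2, 3, 7, 8, 5, 3, 4, 2, 3, 7, 6, 5, 4, 3, 2, 1, 2, 3, 4, 5, 6, 7, 3, 2, 4, 3, 5, 8, 7, 3, 2, 4, 3, 5, 7, 9, 8, 7, 3, 2, 4, 3, 5, 6, 6, 5, 3, 4, 2, 3, 7, 8, 9, 7, 8, 4, 3, 7, 6, 4, 5, 2, 3, 4, 1, 2, 3, 7, 8, 5, 2, 3, 4, 1, 2, 3, 7, 6, 5, 4, 3, 2, 1, 0, 1, 2, 3, 4, 5, 6, 7, 3, 2, 1, 4, 3, 2, 5, 8, 7, 3, 2, 1, 4, 3, 2, 5, 4, 6, 7, 3, 4, 8, 7, 9, 8, 7, 3, 2, 4, 3, 5, 6], [19]),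
  ([6, 5, 3, 4, 2, 3, 7, 8, 9, 1, 2, 3, 7, 8, 4, 5, 3, 4, 2, 3, 7, 6, 5, 4, 3, 2, 1, 2, 3, 4, 5, 6, 7, 3, 2, 4, 3, 5, 4, 8, 7, 3, 2, 1, 9, 8, 7, 3, 2, 4, 3, 5, 6, 2, 3, 4, 1, 2, 3, 7, 5, 6, 4, 5, 3, 4, 1, 2, 3, 7, 8, 9, 2, 3, 4, 1, 2, 3, 7, 8, 7, 5, 2, 3, 4, 1, 2, 3, 7, 6, 5, 4, 3, 2, 1, 0, 1, 2, 3, 4, 5, 6, 7, 3, 2, 1, 4, 3, 2, 5, 7, 8, 7, 3, 2, 1, 4, 3, 2, 9, 8, 7, 3, 2, 1, 4, 3, 5, 4, 6, 5, 7, 3, 2, 1, 4, 3, 2], [21]),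
  ([6, 5, 3, 4, 2, 3, 7, 8, 9, 1, 2, 3, 7, 8, 4, 5, 3, 4, 2, 3, 7, 6, 5, 4, 3, 2, 1, 2, 3, 4, 5, 6, 7, 3, 2, 4, 3, 5, 4, 8, 7, 3, 2, 1, 9, 8, 7, 3, 2, 4, 3, 5, 6, 6, 5, 3, 4, 2, 3, 7, 8, 9, 8, 7, 3, 4, 2, 3, 7, 8, 5, 4, 2, 3, 7, 6, 5, 4, 3, 2, 1, 0, 1, 2, 3, 4, 5, 6, 7, 3, 2, 4, 5, 8, 7, 3, 2, 4, 3, 7, 8, 9, 8, 7, 3, 2, 4, 3, 5, 6], [22]),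
  ([7, 8, 9, 1, 2, 3, 7, 8, 4, 3, 7, 6, 5, 4, 3, 2, 1, 2, 3, 4, 5, 6, 7, 3, 4, 8, 7, 3, 2, 1, 9, 8, 7, 8, 9, 7, 8, 1, 2, 3, 7, 6, 4, 5, 2, 3, 4, 1, 2, 3, 7, 8, 9, 5, 4, 1, 2, 3, 7, 8, 5, 3, 4, 1, 2, 3, 7, 6, 5, 4, 3, 2, 1, 0, 1, 2, 3, 4, 5, 6, 7, 3, 2, 1, 4, 3, 5, 8, 7, 3, 2, 1, 4, 5, 9, 8, 7, 3, 2, 1, 4, 3, 2, 5, 4, 6, 7, 3, 2, 1, 8, 7, 9, 8], [23]),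
  ([7, 8, 9, 1, 2, 3, 7, 8, 4, 3, 7, 6, 5, 4, 3, 2, 1, 2, 3, 4, 5, 6, 7, 3, 4, 8, 7, 3, 2, 1, 9, 8, 7, 9, 8, 7, 2, 3, 4, 1, 2, 3, 7, 8, 9, 4, 5, 3, 4, 0, 1, 2, 3, 7, 8, 4, 1, 2, 3, 7, 6, 5, 4, 3, 2, 1, 0, 1, 2, 3, 4, 5, 6, 7, 3, 2, 1, 4, 8, 7, 3, 2, 1, 0, 4, 3, 5, 4, 9, 8, 7, 3, 2, 1, 4, 3, 2, 7, 8, 9], [24]),
  ([14, 15], [16]),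
  ([18, 19], [17]),
  ([21, 22], [20]),
  ([23, 24], [25])]

/-- words for `T 0, …, T 9` in the generators -/
def tw : List (List ℕ × List ℕ) := [
  ([20, 16, 12, 22, 12, 10, 12, 22, 12, 16, 20], [0]),
  ([17, 23, 13, 25, 13, 11, 10, 11, 13, 25, 13, 23, 17], [1]),
  ([21, 16, 12, 22, 12, 10, 12, 22, 12, 16, 21], [2]),
  ([25, 19, 13, 24, 13, 11, 10, 11, 13, 24, 13, 19, 25], [3]),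
  ([15, 13, 12, 22, 12, 10, 12, 22, 12, 13, 15], [4]),
  ([12, 20, 18, 13, 23, 12, 13, 10, 11, 10, 11, 10, 13, 12, 23, 13, 18, 20, 12], [5]),
  ([20, 15, 12, 22, 12, 10, 12, 22, 12, 15, 20], [6]),
  ([20, 16, 12, 20, 12, 10, 12, 20, 12, 16, 20], [7]),
  ([23, 13, 24, 13, 11, 10, 11, 13, 24, 13, 23], [8]),
  ([16, 13, 12, 20, 12, 10, 12, 20, 12, 13, 16], [9])]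

end Cfsg.Agent.TwoESix.Words
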