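/-
Ten root involutions `T 0, …, T 9` of `Gam` (indices shifted by two: `T i` is `t_{i+2}` of the diagram Y₄₃₃ without its end
node `t1`): they generate `Gam` and satisfy the Coxeter relations of Y₃₃₃, the spider relation and all six `E₇` relations.
-/
import Cfsg.Agent.TwoESix.Iso
import Cfsg.Agent.TwoESix.Words
set_option autoImplicit false

namespace Cfsg.Agent.TwoESix.Gens

open Cfsg.Agent.TwoESix.Data Cfsg.Agent.TwoESix.Words Cfsg.Agent.TwoESix.Iso
open Cfsg.Agent.Lib Cfsg.Agent.Lib.F2MatGroup

theorem Ts_check : ((List.range 10).all fun k =>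
    Nat.beq (F2Mat.mul 78 (Ts.getD k 0) (Ts.getD k 0)) (F2Mat.one 78)) = true := by decide +kernel

theorem Ts_check' (k : Fin 10) :
    Nat.beq (F2Mat.mul 78 (Ts.getD k 0) (Ts.getD k 0)) (F2Mat.one 78) = true :=
  List.all_eq_true.1 Ts_check k (List.mem_range.2 k.2)

/-- the ten root involutions -/
def T (k : Fin 10) : GL (Fin 78) (ZMod 2) :=
  F2MatGroup.unit 78 (Ts.getD k 0) (Ts.getD k 0) (Ts_check' k) (Ts_check' k)

/-- `T` and the generators in one list -/
def LG : List (GL (Fin 78) (ZMod 2)) := List.ofFn T ++ List.ofFn gM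

theorem codes_LG : List.Forall₂ (Codes 78) LG (Ts ++ Ms) := by
  refine List.rel_append ?_ ?_
  · exact List.Forall₂.cons rfl (List.Forall₂.cons rfl (List.Forall₂.cons rfl (List.Forall₂.cons rfl
      (List.Forall₂.cons rfl (List.Forall₂.cons rfl (List.Forall₂.cons rfl (List.Forall₂.cons rfl
      (List.Forall₂.cons rfl (List.Forall₂.cons rfl List.Forall₂.nil)))))))))
  · exact List.Forall₂.cons rfl (List.Forall₂.cons rfl (List.Forall₂.cons rfl (List.Forall₂.cons rfl
      (List.Forall₂.cons rfl (List.Forall₂.cons rfl (List.Forall₂.cons rfl (List.Forall₂.cons rfl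
      (List.Forall₂.cons rfl (List.Forall₂.cons rfl (List.Forall₂.cons rfl (List.Forall₂.cons rfl
      (List.Forall₂.cons rfl (List.Forall₂.cons rfl (List.Forall₂.cons rfl (List.Forall₂.cons rfl
      List.Forall₂.nil)))))))))))))))

theorem getG_T (i : Fin 10) : getG LG i = T i := by
  fin_cases i <;> rfl

theorem getG_gM (i : Fin 16) : getG LG (10 + i) = gM i := by
  fin_cases i <;> rfl

/-! ### Generation -/

theorem tw_check : eqs 78 tw (Ts ++ Ms) = true := by decide +kernel

theorem gw_check : eqs 78 gw (Ts ++ Ms) = true := by decide +kernel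

/-- the group generated by the `T i` -/
def H : Subgroup (GL (Fin 78) (ZMod 2)) := Subgroup.closure (Set.range T)

theorem T_mem_H (i : Fin 10) : T i ∈ H := Subgroup.subset_closure ⟨i, rfl⟩

theorem evG_mem' {G : Type*} [Group G] (K : Subgroup G) {L : List G} (w : List ℕ)
    (h : ∀ i ∈ w, getG L i ∈ K) : evG L w ∈ K := by
  induction w with
  | nil => exact K.one_mem
  | cons i w ih => exact K.mul_mem (h i List.mem_cons_self) (ih fun j hj => h j (List.mem_cons_of_mem _ hj))

theorem T_mem (i : Fin 10) : T i ∈ Gam := by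
  have h1 := eqs_sound codes_LG tw_check
  have h2 : tw.all (fun p => p.1.all fun j => Nat.ble 10 j && Nat.blt j 26) = true := by decide +kernel
  have h3 : ∀ i : Fin 10, (tw.getD i ([], [])).2 = [(i : ℕ)] := by decide +kernel
  have hmem : tw.getD i ([], []) ∈ tw := by
    have : (i : ℕ) < tw.length := i.2
    rw [List.getD_eq_getElem _ _ this]
    exact List.getElem_mem _
  have h4 := h1 _ hmem
  rw [h3 i, evG_cons, evG_nil, mul_one, getG_T] at h4
  rw [← h4]
  refine evG_mem' Gam _ fun j hj => ?_
  have h5 := List.all_eq_true.1 (List.all_eq_true.1 h2 _ hmem) j hj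
  rw [Bool.and_eq_true, Nat.ble_eq, Nat.blt_eq] at h5
  have h6 : j = 10 + (⟨j - 10, by omega⟩ : Fin 16).val := by
    have : (⟨j - 10, by omega⟩ : Fin 16).val = j - 10 := rfl
    omega
  rw [h6, getG_gM]
  exact Subgroup.subset_closure ⟨_, rfl⟩

theorem evG_T_mem (w : List ℕ) (hw : w.all (fun j => Nat.blt j 10) = true) : evG LG w ∈ H := by
  refine evG_mem' H _ fun j hj => ?_
  have h5 := List.all_eq_true.1 hw j hj
  rw [Nat.blt_eq] at h5
  have h6 : j = (⟨j, h5⟩ : Fin 10).val := rfl
  rw [h6, getG_T]
  exact T_mem_H _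

theorem gM_mem (k : Fin 16) : gM k ∈ H := by
  have h1 := eqs_sound codes_LG gw_check
  have key : ∀ (k : Fin 16) (w : List ℕ), (w, [10 + (k : ℕ)]) ∈ gw → evG LG w ∈ H → gM k ∈ H := by
    intro k w hw hH
    have h2 := h1 _ hw
    rw [evG_cons, evG_nil, mul_one, getG_gM] at h2
    rwa [← h2]
  have key2 : ∀ (k a b : Fin 16), ([10 + (a : ℕ), 10 + (b : ℕ)], [10 + (k : ℕ)]) ∈ gw → gM a ∈ H → gM b ∈ H →
      gM k ∈ H := by
    intro k a b hw ha hb
    refine key k _ hw ?_
    rw [evG_cons, evG_cons, evG_nil, mul_one, getG_gM, getG_gM]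
    exact H.mul_mem ha hb
  have d : ∀ (k : Fin 16) (n : ℕ), (gw.getD n ([], [])).2 = [10 + (k : ℕ)] →
      ((gw.getD n ([], [])).1.all fun j => Nat.blt j 10) = true → n < gw.length → gM k ∈ H := by
    intro k n h3 h4 h5
    refine key k (gw.getD n ([], [])).1 ?_ (evG_T_mem _ h4)
    rw [← h3, List.getD_eq_getElem _ _ h5]
    exact List.getElem_mem _
  have g0 := d 0 0 (by decide +kernel) (by decide +kernel) (by decide +kernel)
  have g1 := d 1 1 (by decide +kernel) (by decide +kernel) (by decide +kernel)
  have g2 := d 2 2 (by decide +kernel) (by decide +kernel) (by decide +kernel)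
  have g3 := d 3 3 (by decide +kernel) (by decide +kernel) (by decide +kernel)
  have g4 := d 4 4 (by decide +kernel) (by decide +kernel) (by decide +kernel)
  have g5 := d 5 5 (by decide +kernel) (by decide +kernel) (by decide +kernel)
  have g8 := d 8 6 (by decide +kernel) (by decide +kernel) (by decide +kernel)
  have g9 := d 9 7 (by decide +kernel) (by decide +kernel) (by decide +kernel)
  have g11 := d 11 8 (by decide +kernel) (by decide +kernel) (by decide +kernel)
  have g12 := d 12 9 (by decide +kernel) (by decide +kernel) (by decide +kernel)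
  have g13 := d 13 10 (by decide +kernel) (by decide +kernel) (by decide +kernel)
  have g14 := d 14 11 (by decide +kernel) (by decide +kernel) (by decide +kernel)
  have g6 := key2 6 4 5 (by decide +kernel) g4 g5
  have g7 := key2 7 8 9 (by decide +kernel) g8 g9
  have g10 := key2 10 11 12 (by decide +kernel) g11 g12
  have g15 := key2 15 13 14 (by decide +kernel) g13 g14
  fin_cases k
  · exact g0
  · exact g1
  · exact g2
  · exact g3
  · exact g4
  · exact g5
  · exact g6
  · exact g7
  · exact g8
  · exact g9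
  · exact g10
  · exact g11
  · exact g12
  · exact g13
  · exact g14
  · exact g15

/-- the ten root involutions generate `Gam` -/
theorem H_eq : H = Gam := by
  apply le_antisymm
  · unfold H
    rw [Subgroup.closure_le]
    rintro _ ⟨i, rfl⟩
    exact T_mem i
  · unfold Gam
    rw [Subgroup.closure_le]
    rintro _ ⟨k, rfl⟩
    exact gM_mem k

end Cfsg.Agent.TwoESix.Gens
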