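/-
Relations between the ten root involutions `T 0, …, T 9` of ²E₆(2) (`T i` = `t_{i+2}`): Coxeter relations of Y₃₃₃,
spider relation, `E₇` relations.
-/
import Cfsg.Agent.TwoESix.Gens
set_option autoImplicit false

namespace Cfsg.Agent.TwoESix.Rels

open Cfsg.Agent.TwoESix.Data Cfsg.Agent.TwoESix.Words Cfsg.Agent.TwoESix.Iso Cfsg.Agent.TwoESix.Gens
open Cfsg.Agent.Lib Cfsg.Agent.Lib.F2MatGroup

/-- the edges of the diagram Y₃₃₃ on `0, …, 9` (centre `3`, arms `2 1 0`, `4 5 6`, `7 8 9`) -/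
def edges : List (ℕ × ℕ) := [(0, 1), (1, 2), (2, 3), (3, 4), (4, 5), (5, 6), (3, 7), (7, 8), (8, 9)]

/-- adjacency -/
def adj (i j : Fin 10) : Bool := edges.contains (i.val, j.val) || edges.contains (j.val, i.val)

/-- Coxeter relations -/
def cox : List (List ℕ × List ℕ) := (List.range 10).flatMap fun i => (List.range i).map fun j =>
  if edges.contains (j, i) then ([i, j, i], [j, i, j]) else ([i, j], [j, i])

theorem cox_check : eqs 78 cox (Ts ++ Ms) = true := by decide +kernel

theorem T_sq (i : Fin 10) : T i * T i = 1 := by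
  apply Units.ext
  have h := Nat.eq_of_beq_eq_true (Ts_check' i)
  show F2Mat.toMat 78 (Ts.getD i 0) * F2Mat.toMat 78 (Ts.getD i 0) = 1
  rw [← F2Mat.toMat_mul, h, F2Mat.toMat_one]

theorem T_inv (i : Fin 10) : (T i)⁻¹ = T i := inv_eq_of_mul_eq_one_left (T_sq i)

theorem evG_pair (i j : Fin 10) : evG LG [(i : ℕ), (j : ℕ)] = T i * T j := by
  rw [evG_cons, evG_cons, evG_nil, mul_one, getG_T, getG_T]

theorem evG_three (i j k : Fin 10) : evG LG [(i : ℕ), (j : ℕ), (k : ℕ)] = T i * T j * T k := by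
  rw [evG_cons, evG_cons, evG_cons, evG_nil, mul_one, getG_T, getG_T, getG_T, mul_assoc]

theorem cox_mem : ∀ i j : Fin 10, i ≠ j →
    (if adj i j then
      (([(i : ℕ), (j : ℕ), (i : ℕ)], [(j : ℕ), (i : ℕ), (j : ℕ)]) ∈ cox ∨
        ([(j : ℕ), (i : ℕ), (j : ℕ)], [(i : ℕ), (j : ℕ), (i : ℕ)]) ∈ cox)
    else (([(i : ℕ), (j : ℕ)], [(j : ℕ), (i : ℕ)]) ∈ cox ∨ ([(j : ℕ), (i : ℕ)], [(i : ℕ), (j : ℕ)]) ∈ cox)) := by
  decide +kernel

theorem T_comm (i j : Fin 10) (h : adj i j = false) : T i * T j = T j * T i := by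
  by_cases hij : i = j
  · rw [hij]
  have h1 := cox_mem i j hij
  rw [if_neg (by rw [h]; exact Bool.false_ne_true)] at h1
  rcases h1 with h1 | h1
  · have h2 := eqs_sound codes_LG cox_check _ h1
    rwa [evG_pair, evG_pair] at h2
  · have h2 := eqs_sound codes_LG cox_check _ h1
    rw [evG_pair, evG_pair] at h2
    exact h2.symm

theorem T_braid (i j : Fin 10) (h : adj i j = true) : T i * T j * T i = T j * T i * T j := by
  have hij : i ≠ j := by
    rintro rfl
    revert h
    revert i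
    decide +kernel
  have h1 := cox_mem i j hij
  rw [if_pos h] at h1
  rcases h1 with h1 | h1
  · have h2 := eqs_sound codes_LG cox_check _ h1
    rwa [evG_three, evG_three] at h2
  · have h2 := eqs_sound codes_LG cox_check _ h1
    rw [evG_three, evG_three] at h2
    exact h2.symm

theorem T_order_three (i j : Fin 10) (h : adj i j = true) : (T i * T j) ^ 3 = 1 := by
  have h1 := T_braid i j h
  have h2 : (T i * T j) ^ 3 = (T i * T j * T i) * (T j * T i * T j) := by
    rw [pow_succ, pow_two]; simp only [mul_assoc]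
  rw [h2, ← h1]
  have h3 : T i * T j * T i * (T i * T j * T i) = T i * (T j * ((T i * T i) * T j)) * T i := by
    simp only [mul_assoc]
  rw [h3, T_sq, one_mul, T_sq, mul_one, T_sq]

theorem T_order_two (i j : Fin 10) (h : adj i j = false) : (T i * T j) ^ 2 = 1 := by
  rw [pow_two]
  have h1 := T_comm i j h
  calc T i * T j * (T i * T j) = T i * (T j * T i) * T j := by simp only [mul_assoc]
    _ = 1 := by rw [← h1, ← mul_assoc, T_sq, one_mul, T_sq]

/-! ### Longer relations -/

/-- the word `w` repeated `n` times -/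
def rep (w : List ℕ) : ℕ → List ℕ
  | 0 => []
  | n + 1 => w ++ rep w n

theorem evG_append {G : Type*} [Group G] (L : List G) (w w' : List ℕ) :
    evG L (w ++ w') = evG L w * evG L w' := by
  induction w with
  | nil => rw [List.nil_append, evG_nil, one_mul]
  | cons i w ih => rw [List.cons_append, evG_cons, evG_cons, ih, mul_assoc]

theorem evG_rep {G : Type*} [Group G] (L : List G) (w : List ℕ) (n : ℕ) :
    evG L (rep w n) = evG L w ^ n := by
  induction n with
  | zero => rw [rep, evG_nil, pow_zero]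
  | succ n ih => rw [rep, evG_append, ih, pow_succ']

/-- the long relations: pairs (word, exponent) -/
def longRels : List (List ℕ × ℕ) := [
  -- the spider word, and its images under permutations of the arms
  ([3, 2, 1, 3, 4, 5, 3, 7, 8], 10),
  -- the two `E₇` words of the presentation of the Baby Monster
  ([3, 2, 1, 4, 5, 6, 7], 9),
  ([3, 2, 1, 4, 7, 8, 9], 9),
  -- the other four `E₇` words, and variants
  ([3, 2, 1, 0, 4, 5, 7], 9),
  ([3, 2, 1, 0, 4, 7, 8], 9),
  ([3, 2, 4, 5, 6, 7, 8], 9),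
  ([3, 2, 4, 5, 7, 8, 9], 9),
  ([3, 2, 1, 0, 7, 8, 4], 9),
  ([3, 4, 5, 6, 2, 1, 7], 9),
  ([3, 4, 5, 6, 7, 8, 2], 9),
  ([3, 7, 8, 9, 2, 1, 4], 9),
  ([3, 7, 8, 9, 4, 5, 2], 9)]

theorem long_check : eqs 78 (longRels.map fun p => (rep p.1 p.2, [])) (Ts ++ Ms) = true := by decide +kernel

theorem long_rel {w : List ℕ} {n : ℕ} (h : (w, n) ∈ longRels) : evG LG w ^ n = 1 := by
  have h1 := eqs_sound codes_LG long_check (rep w n, []) (List.mem_map.2 ⟨(w, n), h, rfl⟩)
  rw [evG_rep, evG_nil] at h1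
  exact h1

/-- the value of a word in the `T i` -/
theorem evG_T (w : List (Fin 10)) : evG LG (w.map Fin.val) = (w.map T).prod := by
  induction w with
  | nil => rfl
  | cons i w ih => rw [List.map_cons, List.map_cons, List.prod_cons, evG_cons, ih, getG_T]

theorem long_rel' (w : List (Fin 10)) (n : ℕ) (h : (w.map Fin.val, n) ∈ longRels) : (w.map T).prod ^ n = 1 := by
  rw [← evG_T]
  exact long_rel h

theorem spider : (T 3 * T 2 * T 1 * T 3 * T 4 * T 5 * T 3 * T 7 * T 8) ^ 10 = 1 := by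
  have h := long_rel' [3, 2, 1, 3, 4, 5, 3, 7, 8] 10 (by decide +kernel)
  simpa only [List.map_cons, List.map_nil, List.prod_cons, List.prod_nil, mul_one, ← mul_assoc] using h

theorem e7_a : (T 3 * T 2 * T 1 * T 4 * T 5 * T 6 * T 7) ^ 9 = 1 := by
  have h := long_rel' [3, 2, 1, 4, 5, 6, 7] 9 (by decide +kernel)
  simpa only [List.map_cons, List.map_nil, List.prod_cons, List.prod_nil, mul_one, ← mul_assoc] using h

theorem e7_b : (T 3 * T 2 * T 1 * T 4 * T 7 * T 8 * T 9) ^ 9 = 1 := by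
  have h := long_rel' [3, 2, 1, 4, 7, 8, 9] 9 (by decide +kernel)
  simpa only [List.map_cons, List.map_nil, List.prod_cons, List.prod_nil, mul_one, ← mul_assoc] using h

theorem e7_c : (T 3 * T 2 * T 1 * T 0 * T 4 * T 5 * T 7) ^ 9 = 1 := by
  have h := long_rel' [3, 2, 1, 0, 4, 5, 7] 9 (by decide +kernel)
  simpa only [List.map_cons, List.map_nil, List.prod_cons, List.prod_nil, mul_one, ← mul_assoc] using h

theorem e7_d : (T 3 * T 2 * T 1 * T 0 * T 4 * T 7 * T 8) ^ 9 = 1 := by
  have h := long_rel' [3, 2, 1, 0, 4, 7, 8] 9 (by decide +kernel)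
  simpa only [List.map_cons, List.map_nil, List.prod_cons, List.prod_nil, mul_one, ← mul_assoc] using h

theorem e7_e : (T 3 * T 2 * T 4 * T 5 * T 6 * T 7 * T 8) ^ 9 = 1 := by
  have h := long_rel' [3, 2, 4, 5, 6, 7, 8] 9 (by decide +kernel)
  simpa only [List.map_cons, List.map_nil, List.prod_cons, List.prod_nil, mul_one, ← mul_assoc] using h

theorem e7_f : (T 3 * T 2 * T 4 * T 5 * T 7 * T 8 * T 9) ^ 9 = 1 := by
  have h := long_rel' [3, 2, 4, 5, 7, 8, 9] 9 (by decide +kernel)
  simpa only [List.map_cons, List.map_nil, List.prod_cons, List.prod_nil, mul_one, ← mul_assoc] using h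

end Cfsg.Agent.TwoESix.Rels
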