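/-
²E₆(2) is generated by ten involutions satisfying the relations of the diagram Y₃₃₃ (Coxeter relations, spider relation,
all `E₇` relations).
-/
import Cfsg.Agent.TwoESix.Rels
set_option autoImplicit false

namespace Cfsg.Agent.TwoESix.Main

open Cfsg.Lie Cfsg.Agent.TwoESix.Data Cfsg.Agent.TwoESix.Words Cfsg.Agent.TwoESix.Iso Cfsg.Agent.TwoESix.Gens
open Cfsg.Agent.TwoESix.Rels
open Cfsg.Agent.Lib Cfsg.Agent.Lib.F2MatGroup

/-- The relations of the ten elements `t 0, …, t 9` (`t i` = `t_{i+2}` of the diagram Y₄₃₃ without the end node `t1`;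
centre `t 3`, arms `t 2, t 1, t 0`; `t 4, t 5, t 6`; `t 7, t 8, t 9`). -/
structure Y333 {G : Type*} [Group G] (t : Fin 10 → G) : Prop where
  sq : ∀ i, t i * t i = 1
  comm : ∀ i j, adj i j = false → t i * t j = t j * t i
  braid : ∀ i j, adj i j = true → t i * t j * t i = t j * t i * t j
  spider : (t 3 * t 2 * t 1 * t 3 * t 4 * t 5 * t 3 * t 7 * t 8) ^ 10 = 1
  e7_a : (t 3 * t 2 * t 1 * t 4 * t 5 * t 6 * t 7) ^ 9 = 1
  e7_b : (t 3 * t 2 * t 1 * t 4 * t 7 * t 8 * t 9) ^ 9 = 1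
  e7_c : (t 3 * t 2 * t 1 * t 0 * t 4 * t 5 * t 7) ^ 9 = 1
  e7_d : (t 3 * t 2 * t 1 * t 0 * t 4 * t 7 * t 8) ^ 9 = 1
  e7_e : (t 3 * t 2 * t 4 * t 5 * t 6 * t 7 * t 8) ^ 9 = 1
  e7_f : (t 3 * t 2 * t 4 * t 5 * t 7 * t 8 * t 9) ^ 9 = 1

theorem Y333.map {G H : Type*} [Group G] [Group H] {t : Fin 10 → G} (h : Y333 t) (f : G →* H) :
    Y333 (fun i => f (t i)) where
  sq i := by rw [← map_mul, h.sq, map_one]
  comm i j hij := by rw [← map_mul, ← map_mul, h.comm i j hij]
  braid i j hij := by simp only [← map_mul, h.braid i j hij]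
  spider := by simp only [← map_mul, ← map_pow, h.spider, map_one]
  e7_a := by simp only [← map_mul, ← map_pow, h.e7_a, map_one]
  e7_b := by simp only [← map_mul, ← map_pow, h.e7_b, map_one]
  e7_c := by simp only [← map_mul, ← map_pow, h.e7_c, map_one]
  e7_d := by simp only [← map_mul, ← map_pow, h.e7_d, map_one]
  e7_e := by simp only [← map_mul, ← map_pow, h.e7_e, map_one]
  e7_f := by simp only [← map_mul, ← map_pow, h.e7_f, map_one]

theorem Y333.of_injective {G H : Type*} [Group G] [Group H] {t : Fin 10 → G} (f : G →* H)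
    (hf : Function.Injective f) (h : Y333 (fun i => f (t i))) : Y333 t where
  sq i := hf (by rw [map_mul, map_one]; exact h.sq i)
  comm i j hij := hf (by rw [map_mul, map_mul]; exact h.comm i j hij)
  braid i j hij := hf (by simp only [map_mul]; exact h.braid i j hij)
  spider := hf (by simp only [map_mul, map_pow, map_one]; exact h.spider)
  e7_a := hf (by simp only [map_mul, map_pow, map_one]; exact h.e7_a)
  e7_b := hf (by simp only [map_mul, map_pow, map_one]; exact h.e7_b)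
  e7_c := hf (by simp only [map_mul, map_pow, map_one]; exact h.e7_c)
  e7_d := hf (by simp only [map_mul, map_pow, map_one]; exact h.e7_d)
  e7_e := hf (by simp only [map_mul, map_pow, map_one]; exact h.e7_e)
  e7_f := hf (by simp only [map_mul, map_pow, map_one]; exact h.e7_f)

theorem Y333_T : Y333 T where
  sq := T_sq
  comm := T_comm
  braid := T_braid
  spider := spider
  e7_a := e7_a
  e7_b := e7_b
  e7_c := e7_c
  e7_d := e7_d
  e7_e := e7_e
  e7_f := e7_f

/-! ### The `T i` are conjugates of the root element `x_{p₂}(1)` -/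

/-- the conjugating words -/
theorem tw_shape : ∀ i : Fin 10, ∃ w : List ℕ, (∀ j ∈ w, 10 ≤ j ∧ j < 26) ∧
    (w ++ 10 :: w.reverse, [(i : ℕ)]) ∈ tw := by
  intro i
  refine ⟨(tw.getD i ([], [])).1.take ((tw.getD i ([], [])).1.length / 2), ?_, ?_⟩
  · revert i
    decide +kernel
  · revert i
    decide +kernel

theorem gM_sq (k : Fin 16) : gM k * gM k = 1 := by
  apply Units.ext
  have h := Nat.eq_of_beq_eq_true (Ms_check' k)
  show F2Mat.toMat 78 (Ms.getD k 0) * F2Mat.toMat 78 (Ms.getD k 0) = 1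
  rw [← F2Mat.toMat_mul, h, F2Mat.toMat_one]

theorem getG_sq (j : ℕ) (h : 10 ≤ j ∧ j < 26) : getG LG j * getG LG j = 1 := by
  have h6 : j = 10 + (⟨j - 10, by omega⟩ : Fin 16).val := by
    have : (⟨j - 10, by omega⟩ : Fin 16).val = j - 10 := rfl
    omega
  rw [h6, getG_gM, gM_sq]

theorem evG_reverse (w : List ℕ) (hw : ∀ j ∈ w, 10 ≤ j ∧ j < 26) : evG LG w.reverse = (evG LG w)⁻¹ := by
  induction w with
  | nil => rw [List.reverse_nil, evG_nil, inv_one]
  | cons j w ih =>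
    have h3 : (getG LG j)⁻¹ = getG LG j := inv_eq_of_mul_eq_one_left (getG_sq j (hw j List.mem_cons_self))
    rw [List.reverse_cons, evG_append, ih fun k hk => hw k (List.mem_cons_of_mem _ hk)]
    have h4 : evG LG [j] = getG LG j := by rw [evG_cons, evG_nil, mul_one]
    have h5 : (evG LG (j :: w))⁻¹ = (evG LG w)⁻¹ * (getG LG j)⁻¹ := by rw [evG_cons, mul_inv_rev]
    exact (congrArg (fun x => (evG LG w)⁻¹ * x) (h4.trans h3.symm)).trans h5.symm

/-- every `T i` is conjugate in `Gam` to the root element of `p₂` -/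
theorem T_conj (i : Fin 10) : ∃ g ∈ Gam, T i = g * gM 0 * g⁻¹ := by
  obtain ⟨w, hw, hmem⟩ := tw_shape i
  have h1 := eqs_sound codes_LG tw_check _ hmem
  rw [evG_cons, evG_nil, mul_one, getG_T, evG_append, evG_cons, evG_reverse w hw] at h1
  refine ⟨evG LG w, ?_, ?_⟩
  · refine evG_mem' Gam _ fun j hj => ?_
    have h5 := hw j hj
    have h6 : j = 10 + (⟨j - 10, by omega⟩ : Fin 16).val := by
      have : (⟨j - 10, by omega⟩ : Fin 16).val = j - 10 := rfl
      omega
    rw [h6, getG_gM]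
    exact Subgroup.subset_closure ⟨_, rfl⟩
  · rw [← h1, mul_assoc]
    rfl

theorem gM_ne_one : gM 0 ≠ 1 := by
  intro h
  have h1 : F2Mat.toMat 78 (Ms.getD 0 0) = F2Mat.toMat 78 (F2Mat.one 78) := by
    rw [F2Mat.toMat_one]
    exact congrArg Units.val h
  have h2 : Nat.blt (Ms.getD 0 0) (Nat.pow 2 (78 * 78)) = true := by decide +kernel
  rw [Nat.blt_eq] at h2
  have h3 := F2Mat.toMat_inj h2 F2Mat.one_lt' h1
  revert h3
  decide +kernel

theorem T_ne_one (i : Fin 10) : T i ≠ 1 := by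
  obtain ⟨g, -, hg⟩ := T_conj i
  intro h
  rw [h] at hg
  apply gM_ne_one
  have : gM 0 = g⁻¹ * (g * gM 0 * g⁻¹) * g := by group
  rw [this, ← hg]
  group

/-- ²E₆(2) is generated by ten conjugates of the root element `x_{p₂}(1)` satisfying the relations of Y₃₃₃. -/
theorem exists_gens (K : Type*) [Field K] [Fintype K] (hK : Fintype.card K = 4) :
    ∃ (t : Fin 10 → twistedE6 K 2) (r : twistedE6 K 2), Y333 t ∧ Subgroup.closure (Set.range t) = ⊤ ∧
      ((r : GL chevE6.Idx K) : Matrix chevE6.Idx chevE6.Idx K) = chevE6.x K e6p2 1 ∧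
      (∀ i, t i ≠ 1) ∧ ∀ i, ∃ g, t i = g * r * g⁻¹ := by
  obtain ⟨w, f, h2, hw, hf, hmap, hval⟩ := exists_phi K hK
  have hmem : ∀ g ∈ Gam, f g ∈ twistedE6 K 2 := fun g hg => hmap ▸ ⟨g, hg, rfl⟩
  refine ⟨fun i => ⟨f (T i), hmem _ (T_mem i)⟩, ⟨f (gM 0), hmem _ (Subgroup.subset_closure ⟨0, rfl⟩)⟩, ?_, ?_, ?_, ?_, ?_⟩
  · exact Y333.of_injective (twistedE6 K 2).subtype Subtype.coe_injective (Y333_T.map f)
  · apply Subgroup.map_injective (f := (twistedE6 K 2).subtype) Subtype.coe_injective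
    rw [MonoidHom.map_closure, ← MonoidHom.range_eq_map, Subgroup.range_subtype]
    refine Eq.trans ?_ hmap
    rw [← H_eq, H, MonoidHom.map_closure]
    congr 1
    ext x
    constructor
    · rintro ⟨_, ⟨i, rfl⟩, rfl⟩
      exact ⟨T i, ⟨i, rfl⟩, rfl⟩
    · rintro ⟨_, ⟨i, rfl⟩, rfl⟩
      exact ⟨_, ⟨i, rfl⟩, rfl⟩
  · show ((f (gM 0) : GL chevE6.Idx K) : Matrix chevE6.Idx chevE6.Idx K) = chevE6.x K e6p2 1
    rw [hval]
    simp [lw, ws, ChevalleyDatum.wordMat, Coded.cv_one]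
    rfl
  · intro i h
    apply T_ne_one i
    apply hf
    rw [map_one]
    exact congrArg Subtype.val h
  · intro i
    obtain ⟨g, hg, hgi⟩ := T_conj i
    refine ⟨⟨f g, hmem g hg⟩, Subtype.ext ?_⟩
    show f (T i) = f g * f (gM 0) * (f g)⁻¹
    rw [hgi, map_mul, map_mul, map_inv]

end Cfsg.Agent.TwoESix.Main
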