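/-
Explicit configurations of root involutions of ²E₆(2) in the 78-dimensional model: a special pair, a line with a root
special to its three points, a symplectic pair with a root opposite to both; the product of a symplectic pair is not a
root involution.
-/
import Cfsg.Agent.TwoESix.Main
import Cfsg.Agent.TwoESix.RootsData
import Cfsg.Agent.Lib.F2Rank
set_option autoImplicit false

namespace Cfsg.Agent.TwoESix.RootsCfg

open Cfsg.Agent.TwoESix.Data Cfsg.Agent.TwoESix.Words Cfsg.Agent.TwoESix.Iso Cfsg.Agent.TwoESix.Gens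
open Cfsg.Agent.TwoESix.Rels Cfsg.Agent.TwoESix.Main Cfsg.Agent.TwoESix.RootsData
open Cfsg.Agent.Lib Cfsg.Agent.Lib.F2MatGroup

/-- the class of root involutions of `Gam` -/
def TG : Set (GL (Fin 78) (ZMod 2)) := {x | ∃ g ∈ Gam, x = g * gM 0 * g⁻¹}

theorem TG_T (i : Fin 10) : T i ∈ TG := T_conj i

theorem TG_conj {x g : GL (Fin 78) (ZMod 2)} (hx : x ∈ TG) (hg : g ∈ Gam) : g * x * g⁻¹ ∈ TG := by
  obtain ⟨h, hh, rfl⟩ := hx
  exact ⟨g * h, Gam.mul_mem hg hh, by group⟩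

theorem TG_sq {x : GL (Fin 78) (ZMod 2)} (hx : x ∈ TG) : x * x = 1 := by
  obtain ⟨h, hh, rfl⟩ := hx
  calc h * gM 0 * h⁻¹ * (h * gM 0 * h⁻¹) = h * (gM 0 * gM 0) * h⁻¹ := by group
    _ = 1 := by rw [gM_sq]; group

theorem TG_inv {x : GL (Fin 78) (ZMod 2)} (hx : x ∈ TG) : x⁻¹ = x := inv_eq_of_mul_eq_one_left (TG_sq hx)

theorem TG_mem {x : GL (Fin 78) (ZMod 2)} (hx : x ∈ TG) : x ∈ Gam := by
  obtain ⟨h, hh, rfl⟩ := hx
  exact Gam.mul_mem (Gam.mul_mem hh (Subgroup.subset_closure ⟨0, rfl⟩)) (Gam.inv_mem hh)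

theorem TG_ne_one {x : GL (Fin 78) (ZMod 2)} (hx : x ∈ TG) : x ≠ 1 := by
  obtain ⟨h, hh, rfl⟩ := hx
  intro h1
  apply gM_ne_one
  have : gM 0 = h⁻¹ * (h * gM 0 * h⁻¹) * h := by group
  rw [this, h1]
  group

/-- letters of generators -/
def lets (w : List ℕ) : Bool := w.all fun j => Nat.ble 10 j && Nat.blt j 26

theorem lets_spec {w : List ℕ} (h : lets w = true) : ∀ j ∈ w, 10 ≤ j ∧ j < 26 := by
  intro j hj
  have h1 := List.all_eq_true.1 h j hj
  rwa [Bool.and_eq_true, Nat.ble_eq, Nat.blt_eq] at h1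

theorem evG_lets_mem {w : List ℕ} (h : lets w = true) : evG LG w ∈ Gam := by
  refine evG_mem' Gam _ fun j hj => ?_
  have h5 := lets_spec h j hj
  have h6 : j = 10 + (⟨j - 10, by omega⟩ : Fin 16).val := by
    have : (⟨j - 10, by omega⟩ : Fin 16).val = j - 10 := rfl
    omega
  rw [h6, getG_gM]
  exact Subgroup.subset_closure ⟨_, rfl⟩

/-- the conjugate of `gM 0` by a word -/
def cw (w : List ℕ) : List ℕ := w ++ 10 :: w.reverse

theorem evG_cw {w : List ℕ} (h : lets w = true) : evG LG (cw w) = evG LG w * gM 0 * (evG LG w)⁻¹ := by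
  unfold cw
  rw [evG_append, evG_cons, evG_reverse w (lets_spec h), mul_assoc]
  rfl

theorem cw_mem {w : List ℕ} (h : lets w = true) : evG LG (cw w) ∈ TG := ⟨_, evG_lets_mem h, evG_cw h⟩

/-- the words used are words in the generators -/
theorem lets_ok : lets wa = true ∧ lets wb = true ∧ lets wx = true ∧ lets wd = true ∧ lets wxa = true ∧
    lets wxb = true := by decide +kernel

/-- the identities -/
def cfg : List (List ℕ × List ℕ) := [
  (cw wa ++ cw wb, cw wd ++ (cw wa ++ cw wd)),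
  (cw wx ++ (cw wa ++ (cw wx ++ cw wa)), cw wxa),
  (cw wx ++ (cw wb ++ (cw wx ++ cw wb)), cw wxb),
  (cw wx ++ ((cw wa ++ cw wb) ++ (cw wx ++ (cw wa ++ cw wb))), cw wd ++ (cw wxa ++ cw wd)),
  (cw wa ++ (cw wx ++ (cw wb ++ (cw wx ++ cw wb))), (cw wx ++ (cw wb ++ (cw wx ++ cw wb))) ++ cw wa)]

theorem cfg_check : eqs 78 cfg (Ts ++ Ms) = true := by decide +kernel

theorem cfg_line : ∃ a ∈ TG, ∃ b ∈ TG, ∃ x ∈ TG, a * b ∈ TG ∧ (x * a) ^ 2 ∈ TG ∧ (x * b) ^ 2 ∈ TG ∧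
    (x * (a * b)) ^ 2 ∈ TG ∧ a * (x * b) ^ 2 = (x * b) ^ 2 * a := by
  obtain ⟨ha, hb, hx, hd, hxa, hxb⟩ := lets_ok
  have key := eqs_sound codes_LG cfg_check
  have k0 := key _ (List.mem_cons_self)
  have k1 := key _ (List.mem_cons_of_mem _ List.mem_cons_self)
  have k2 := key _ (List.mem_cons_of_mem _ (List.mem_cons_of_mem _ List.mem_cons_self))
  have k3 := key _ (List.mem_cons_of_mem _ (List.mem_cons_of_mem _ (List.mem_cons_of_mem _ List.mem_cons_self)))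
  have k4 := key _ (List.mem_cons_of_mem _ (List.mem_cons_of_mem _ (List.mem_cons_of_mem _
    (List.mem_cons_of_mem _ List.mem_cons_self))))
  simp only [evG_append] at k0 k1 k2 k3 k4
  have md := cw_mem hd
  refine ⟨_, cw_mem ha, _, cw_mem hb, _, cw_mem hx, ?_, ?_, ?_, ?_, ?_⟩
  · rw [k0, ← mul_assoc]
    nth_rw 2 [← TG_inv md]
    exact TG_conj (cw_mem ha) (TG_mem md)
  · rw [pow_two, mul_assoc, k1]
    exact cw_mem hxa
  · rw [pow_two, mul_assoc, k2]
    exact cw_mem hxb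
  · rw [pow_two, mul_assoc, k3, ← mul_assoc]
    nth_rw 2 [← TG_inv md]
    exact TG_conj (cw_mem hxa) (TG_mem md)
  · rw [pow_two, mul_assoc (evG LG (cw wx)), k4]

theorem spe_ex : ∃ a ∈ TG, ∃ b ∈ TG, (a * b) ^ 2 ∈ TG := by
  obtain ⟨a, ha, b, hb, x, hx, -, h1, -⟩ := cfg_line
  exact ⟨x, hx, a, ha, h1⟩

theorem mD_check : Nat.beq (evW 78 (Ts ++ Ms) [1, 3]) mD = true := by decide +kernel

theorem rk1 : Nat.beq (F2Mat.mul 78 mF (Ms.getD ((0 : Fin 16) : ℕ) 0)) mF = true := by decide +kernel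
theorem rk2 : Nat.beq (F2Mat.mul 78 mF mW) mEa = true := by decide +kernel
theorem rk3 : Nat.beq (F2Mat.mul 78 (F2Mat.mul 78 mU (Nat.xor mD (F2Mat.one 78))) mV) mEb = true := by
  decide +kernel
theorem rk4 : F2Rank.diagOk 78 56 mEa = true := by decide +kernel
theorem rk5 : F2Rank.diagOk 78 32 mEb = true := by decide +kernel

/-- the product of the symplectic pair `t3`, `t5` is not a root involution -/
theorem sym_notMem : T 1 * T 3 ∉ TG := by
  rintro ⟨g, -, hg⟩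
  have hD : Codes 78 (T 1 * T 3) mD := by
    have h1 := codes_evW codes_LG [1, 3]
    have h2 : evG LG [1, 3] = T 1 * T 3 := evG_pair 1 3
    rw [h2] at h1
    unfold Codes at *
    rw [h1, Nat.eq_of_beq_eq_true mD_check]
  exact F2Rank.not_conj (n := 78) (a := 56) (b := 32) (by norm_num) (by norm_num) (by norm_num)
    (codes_gM 0) hD rk1 rk2 rk3 rk4 rk5 g hg.symm

theorem T13_ne : T 1 * T 3 ≠ 1 := by
  intro h
  have h1 := codes_evW codes_LG [1, 3]
  have h2 : evG LG [1, 3] = T 1 * T 3 := evG_pair 1 3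
  rw [h2, h] at h1
  unfold Codes at h1
  rw [Nat.eq_of_beq_eq_true mD_check, Units.val_one, ← F2Mat.toMat_one] at h1
  have h3 : Nat.blt mD (Nat.pow 2 (78 * 78)) = true := by decide +kernel
  rw [Nat.blt_eq] at h3
  have h4 := F2Mat.toMat_inj F2Mat.one_lt' h3 h1
  revert h4
  decide +kernel

theorem cfg_sym : ∃ a ∈ TG, ∃ b ∈ TG, ∃ x ∈ TG, a ≠ b ∧ a * b = b * a ∧ a * b ∉ TG ∧
    (a * x) ^ 3 = 1 ∧ (x * b) ^ 3 = 1 := by
  refine ⟨T 1, TG_T 1, T 3, TG_T 3, T 2, TG_T 2, ?_, T_comm 1 3 (by decide), sym_notMem,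
    T_order_three 1 2 (by decide), T_order_three 2 3 (by decide)⟩
  intro h
  apply T13_ne
  rw [h, T_sq]

end Cfsg.Agent.TwoESix.RootsCfg
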