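/-
The isomorphism of `twistedE6 K 2`, `|K| = 4`, with the matrix group `Gam` carries the class `rootClass K` to `TG`;
transport of `Lab.Roots` along isomorphisms.
-/
import Cfsg.Agent.BabyU.Setup
import Cfsg.Agent.BabyU.Lab
import Cfsg.Agent.TwoESix.RootsCfg
set_option autoImplicit false

namespace Cfsg.Agent.TwoESix.ClassIso

open Cfsg.Lie Cfsg.Agent.BabyU Cfsg.Agent.TwoESix.Iso Cfsg.Agent.TwoESix.RootsCfg Cfsg.Agent.TwoESix.Coded
open Cfsg.Agent.TwoESix.Main Cfsg.Agent.TwoESix.Data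

/-- an isomorphism carrying `rootClass K` to `TG` -/
theorem exists_equiv (K : Type*) [Field K] [Fintype K] (hK : Fintype.card K = 4) :
    ∃ θ : twistedE6 K 2 ≃* Gam, ∀ x, x ∈ rootClass K ↔ ((θ x : Gam) : GL (Fin 78) (ZMod 2)) ∈ TG := by
  obtain ⟨w, f, h2, hw, hf, hmap, hval⟩ := exists_phi K hK
  have hmem : ∀ g ∈ Gam, f g ∈ twistedE6 K 2 := fun g hg => hmap ▸ ⟨g, hg, rfl⟩
  have hval0 : ((f (gM 0) : GL chevE6.Idx K) : Matrix chevE6.Idx chevE6.Idx K) = chevE6.x K e6p2 1 := by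
    rw [hval]
    simp [lw, ws, ChevalleyDatum.wordMat, Coded.cv_one]
    rfl
  let φ : Gam →* twistedE6 K 2 := (f.comp Gam.subtype).codRestrict (twistedE6 K 2) fun g => hmem g g.2
  have hφ : ∀ g : Gam, ((φ g : twistedE6 K 2) : GL chevE6.Idx K) = f g := fun _ => rfl
  have hinj : Function.Injective φ := fun a b h => Subtype.ext (hf (by
    rw [← hφ, ← hφ, h]))
  have hsurj : Function.Surjective φ := by
    rintro ⟨x, hx⟩
    rw [← hmap] at hx
    obtain ⟨g, hg, rfl⟩ := hx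
    exact ⟨⟨g, hg⟩, rfl⟩
  let θ : Gam ≃* twistedE6 K 2 := MulEquiv.ofBijective φ ⟨hinj, hsurj⟩
  have hθ : ∀ g : Gam, ((θ g : twistedE6 K 2) : GL chevE6.Idx K) = f g := fun _ => rfl
  have h0 : gM 0 ∈ Gam := Subgroup.subset_closure ⟨0, rfl⟩
  have key : ∀ y : Gam, θ y ∈ rootClass K ↔ (y : GL (Fin 78) (ZMod 2)) ∈ TG := by
    intro y
    constructor
    · rintro ⟨g, r, hr, hy⟩
      have hr' : r = θ ⟨gM 0, h0⟩ := by
        apply Subtype.ext
        apply Units.ext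
        rw [hr, hθ]
        exact hval0.symm
      obtain ⟨g, rfl⟩ := θ.surjective g
      rw [hr', ← map_inv, ← map_mul, ← map_mul] at hy
      have h1 := θ.injective hy
      exact ⟨g, g.2, by rw [h1]; rfl⟩
    · rintro ⟨g, hg, hy⟩
      refine ⟨θ ⟨g, hg⟩, θ ⟨gM 0, h0⟩, hval0, ?_⟩
      have h1 : y = ⟨g, hg⟩ * ⟨gM 0, h0⟩ * (⟨g, hg⟩ : Gam)⁻¹ := Subtype.ext hy
      rw [h1, map_mul, map_mul, map_inv]
  refine ⟨θ.symm, fun x => ?_⟩
  rw [← key, θ.apply_symm_apply]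

/-- transport of the structure `Lab.Roots` -/
theorem roots_of_equiv {E E' : Type*} [Group E] [Group E'] {T : Set E} {T' : Set E'} (θ : E ≃* E')
    (h : ∀ x, x ∈ T ↔ θ x ∈ T') (R : Lab.Roots E' T') : Lab.Roots E T := by
  have hc : ∀ (g : E') (x : E) (y : E), g * θ x * g⁻¹ = θ y → θ.symm g * x * (θ.symm g)⁻¹ = y := by
    intro g x y hg
    apply θ.injective
    rw [map_mul, map_mul, map_inv, θ.apply_symm_apply, hg]
  have hT : ∀ y ∈ T', ∃ x ∈ T, θ x = y := fun y hy =>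
    ⟨θ.symm y, (h _).2 (by rwa [θ.apply_symm_apply]), θ.apply_symm_apply y⟩
  refine ⟨?_, ?_, ?_, ?_, ?_, ?_, ?_, ?_, ?_, ?_, ?_⟩
  · rintro r hr rfl
    exact R.ne_one _ ((h _).1 hr) (map_one θ)
  · intro r hr
    apply θ.injective
    rw [map_mul, map_one, R.sq _ ((h _).1 hr)]
  · intro r hr g
    rw [h, map_mul, map_mul, map_inv]
    exact R.conj _ ((h _).1 hr) _
  · intro r hr s hs
    obtain ⟨g, hg⟩ := R.one _ ((h _).1 hr) _ ((h _).1 hs)
    exact ⟨_, hc _ _ _ hg⟩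
  · obtain ⟨a, ha, b, hb, hab⟩ := R.spe_ex
    obtain ⟨a, ha', rfl⟩ := hT a ha
    obtain ⟨b, hb', rfl⟩ := hT b hb
    exact ⟨a, ha', b, hb', by rw [h, map_pow, map_mul]; exact hab⟩
  · intro a ha b hb a' ha' b' hb' h1 h2
    rw [h, map_pow, map_mul] at h1 h2
    obtain ⟨g, hg, hg'⟩ := R.spe _ ((h _).1 ha) _ ((h _).1 hb) _ ((h _).1 ha') _ ((h _).1 hb') h1 h2
    exact ⟨_, hc _ _ _ hg, hc _ _ _ hg'⟩
  · intro a ha b hb a' ha' b' hb' h1 h2
    rw [h, map_mul] at h1 h2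
    obtain ⟨g, hg, hg'⟩ := R.col _ ((h _).1 ha) _ ((h _).1 hb) _ ((h _).1 ha') _ ((h _).1 hb') h1 h2
    exact ⟨_, hc _ _ _ hg, hc _ _ _ hg'⟩
  · intro a ha b hb a' ha' b' hb' hne h1 h2 hne' h1' h2'
    rw [h, map_mul] at h2 h2'
    have h3 : θ a * θ b = θ b * θ a := by rw [← map_mul, h1, map_mul]
    have h3' : θ a' * θ b' = θ b' * θ a' := by rw [← map_mul, h1', map_mul]
    obtain ⟨g, hg, hg'⟩ := R.sym _ ((h _).1 ha) _ ((h _).1 hb) _ ((h _).1 ha') _ ((h _).1 hb')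
      (fun e => hne (θ.injective e)) h3 h2 (fun e => hne' (θ.injective e)) h3' h2'
    exact ⟨_, hc _ _ _ hg, hc _ _ _ hg'⟩
  · intro r hr H hH
    apply R.perf _ ((h _).1 hr) (H.map θ.toMonoidHom)
    have h1 : Subgroup.centralizer ({θ r} : Set E') = (Subgroup.centralizer ({r} : Set E)).map θ.toMonoidHom := by
      ext y
      rw [Subgroup.mem_map, Subgroup.mem_centralizer_singleton_iff]
      constructor
      · intro hy
        refine ⟨θ.symm y, ?_, θ.apply_symm_apply y⟩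
        rw [Subgroup.mem_centralizer_singleton_iff]
        apply θ.injective
        rw [map_mul, map_mul, θ.apply_symm_apply]
        exact hy
      · rintro ⟨x, hx, rfl⟩
        rw [Subgroup.mem_centralizer_singleton_iff] at hx
        show θ x * θ r = θ r * θ x
        rw [← map_mul, hx, map_mul]
    rw [h1, Subgroup.relIndex_map_map_of_injective _ _ θ.injective]
    exact hH
  · obtain ⟨a, ha, b, hb, x, hx, h1, h2, h3, h4, h5⟩ := R.cfg_line
    obtain ⟨a, ha', rfl⟩ := hT a ha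
    obtain ⟨b, hb', rfl⟩ := hT b hb
    obtain ⟨x, hx', rfl⟩ := hT x hx
    simp only [← map_mul, ← map_pow] at h1 h2 h3 h4 h5
    exact ⟨a, ha', b, hb', x, hx', (h _).2 h1, (h _).2 h2, (h _).2 h3, (h _).2 h4, θ.injective h5⟩
  · obtain ⟨a, ha, b, hb, x, hx, h1, h2, h3, h4, h5⟩ := R.cfg_sym
    obtain ⟨a, ha', rfl⟩ := hT a ha
    obtain ⟨b, hb', rfl⟩ := hT b hb
    obtain ⟨x, hx', rfl⟩ := hT x hx
    simp only [← map_mul, ← map_pow] at h2 h3 h4 h5
    exact ⟨a, ha', b, hb', x, hx', fun e => h1 (by rw [e]), θ.injective h2, fun e => h3 ((h _).1 e),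
      θ.injective (by rw [h4, map_one]), θ.injective (by rw [h5, map_one])⟩

end Cfsg.Agent.TwoESix.ClassIso
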