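/-
Linear algebra certificates for packed matrices over the field with two elements: a vector satisfying linear relations lies
in an explicit small space; a matrix commuting with given matrices and killing a cyclic vector is zero.
-/
import Cfsg.Agent.Lib.F2MatGroup
set_option autoImplicit false

namespace Cfsg.Agent.TwoESix.LinCert

open Cfsg.Agent.Lib Cfsg.Agent.Lib.F2Mat Matrix

/-- `B` is the transpose of `A` -/
def trOk (n A B : ℕ) : Bool :=
  (List.range n).all fun i => (List.range n).all fun j => A.testBit (n * i + j) == B.testBit (n * j + i)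

theorem toMat_tr {n A B : ℕ} (h : trOk n A B = true) : toMat n B = (toMat n A)ᵀ := by
  unfold trOk at h
  simp only [List.all_eq_true, List.mem_range, beq_iff_eq] at h
  ext i j
  rw [Matrix.transpose_apply, toMat_apply, toMat_apply, h j j.2 i i.2]

theorem mulVec_of_tr {n A B : ℕ} (h : trOk n A B = true) (v : ℕ) :
    (toMat n A).mulVec (toVec n v) = toVec n (vmul n v B) := by
  rw [toVec_vmul, toMat_tr h, Matrix.vecMul_transpose]

theorem toMat_xor (n A B : ℕ) : toMat n (A ^^^ B) = toMat n A + toMat n B := by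
  ext i j
  rw [Matrix.add_apply, toMat_apply, toMat_apply, toMat_apply, Nat.testBit_xor, ← bz_xor]

theorem toVec_xor (n A B : ℕ) : toVec n (A ^^^ B) = toVec n A + toVec n B := by
  ext i
  rw [Pi.add_apply, toVec_apply, toVec_apply, toVec_apply, Nat.testBit_xor, ← bz_xor]

/-- every vector is packed -/
theorem exists_pack {n : ℕ} (x : Fin n → ZMod 2) : ∃ v < 2 ^ n, toVec n v = x := by
  let f : ℕ → Bool := fun j => if h : j < n then decide (x ⟨j, h⟩ = 1) else false
  have key : ∀ m, ∃ v < 2 ^ m, ∀ j < m, v.testBit j = f j := by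
    intro m
    induction m with
    | zero => exact ⟨0, by norm_num, fun j hj => absurd hj (by omega)⟩
    | succ m ih =>
      obtain ⟨v, hv, h⟩ := ih
      rcases hf : f m with _ | _
      · refine ⟨v, lt_of_lt_of_le hv (Nat.pow_le_pow_right (by norm_num) (by omega)), fun j hj => ?_⟩
        rcases Nat.lt_succ_iff_lt_or_eq.1 hj with h1 | rfl
        · exact h j h1
        · rw [hf, Nat.testBit_lt_two_pow hv]
      · refine ⟨2 ^ m + v, by rw [pow_succ]; omega, fun j hj => ?_⟩
        rcases Nat.lt_succ_iff_lt_or_eq.1 hj with h1 | rfl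
        · rw [Nat.testBit_two_pow_add_gt h1, h j h1]
        · rw [Nat.testBit_two_pow_add_eq, Nat.testBit_lt_two_pow hv, hf]; rfl
  obtain ⟨v, hv, h⟩ := key n
  refine ⟨v, hv, ?_⟩
  ext j
  rw [toVec_apply, h j j.2]
  have hj : f j = decide (x j = 1) := by simp [f]
  rw [hj]
  rcases (show ∀ a : ZMod 2, a = 0 ∨ a = 1 by decide) (x j) with h1 | h1
  · rw [h1]; rfl
  · rw [h1]; rfl

/-- sum of products -/
def sumLA (n : ℕ) (L : List (ℕ × ℕ)) : ℕ :=
  List.rec 0 (fun p _ ih => Nat.xor (F2Mat.mul n p.1 p.2) ih) L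

theorem sumLA_cons (n : ℕ) (p : ℕ × ℕ) (L : List (ℕ × ℕ)) :
    sumLA n (p :: L) = F2Mat.mul n p.1 p.2 ^^^ sumLA n L := rfl

theorem sumLA_mulVec {n : ℕ} {x : Fin n → ZMod 2} (L : List (ℕ × ℕ))
    (h : ∀ p ∈ L, (toMat n p.2).mulVec x = 0) : (toMat n (sumLA n L)).mulVec x = 0 := by
  induction L with
  | nil =>
    have : toMat n (sumLA n []) = 0 := by
      ext i j
      show bz ((0 : ℕ).testBit _) = 0
      rw [Nat.zero_testBit]; rfl
    rw [this, Matrix.zero_mulVec]
  | cons p L ih =>
    rw [sumLA_cons, toMat_xor, Matrix.add_mulVec, ih fun q hq => h q (List.mem_cons_of_mem _ hq), toMat_mul,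
      ← Matrix.mulVec_mulVec, h p List.mem_cons_self, Matrix.mulVec_zero, add_zero]

/-- A vector killed by the matrices `p.2`, `p ∈ L`, lies in the space spanned by the first `m` rows of `Gt`. -/
theorem exists_small {n m Gm Gt Fm : ℕ} {L : List (ℕ × ℕ)}
    (hc : Nat.beq (Nat.xor (sumLA n L) (one n)) (F2Mat.mul n Gm Fm) = true) (hG : trOk n Gm Gt = true)
    (hF : Nat.blt Fm (Nat.pow 2 (n * m)) = true) {x : Fin n → ZMod 2}
    (h : ∀ p ∈ L, (toMat n p.2).mulVec x = 0) : ∃ u < 2 ^ m, x = toVec n (vmul n u Gt) := by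
  obtain ⟨u, hu, hux⟩ := exists_pack ((toMat n Fm).mulVec x)
  have h1 : (toMat n Gm * toMat n Fm).mulVec x = x := by
    rw [← toMat_mul, ← Nat.eq_of_beq_eq_true hc]
    have : toMat n (Nat.xor (sumLA n L) (one n)) = toMat n (sumLA n L) + 1 := by
      rw [← toMat_one, ← toMat_xor]; rfl
    rw [this, Matrix.add_mulVec, sumLA_mulVec L h, zero_add, Matrix.one_mulVec]
  refine ⟨u, ?_, ?_⟩
  · rw [Nat.blt_eq] at hF
    have hz : ∀ j, m ≤ j → u.testBit j = false := by
      intro j hj
      by_cases hjn : j < n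
      · have h2 := congrFun hux ⟨j, hjn⟩
        rw [toVec_apply] at h2
        have h3 : (toMat n Fm).mulVec x ⟨j, hjn⟩ = 0 := by
          rw [Matrix.mulVec, dotProduct]
          refine Finset.sum_eq_zero fun k _ => ?_
          have h4 : Fm.testBit (n * j + k) = false := by
            apply Nat.testBit_lt_two_pow
            refine lt_of_lt_of_le hF (Nat.pow_le_pow_right (by norm_num) ?_)
            have : n * m ≤ n * j := Nat.mul_le_mul_left _ hj
            omega
          have h5 : toMat n Fm ⟨j, hjn⟩ k = 0 := by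
            show bz (Fm.testBit (n * j + k)) = 0
            rw [h4]; rfl
          rw [h5, zero_mul]
        rw [h3] at h2
        have h2' : bz (u.testBit j) = 0 := h2
        rcases hb : u.testBit j with _ | _
        · rfl
        · rw [hb] at h2'
          exact absurd h2' one_ne_zero
      · exact Nat.testBit_lt_two_pow (lt_of_lt_of_le hu (Nat.pow_le_pow_right (by norm_num) (by omega)))
    exact Nat.lt_pow_two_of_testBit u hz
  · rw [← mulVec_of_tr hG, hux, Matrix.mulVec_mulVec, h1]

/-! ### Cyclic vectors -/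

/-- vectors obtained from the list `L` (newest first) by applying transposed matrices: step `(t, k)` appends
`vmul (entry k of the list) t` -/
def spin (n : ℕ) (steps : List (ℕ × ℕ)) (L : List ℕ) : List ℕ :=
  List.rec (motive := fun _ => List ℕ → List ℕ) (fun L => L)
    (fun p _ ih L => ih (vmul n (F2MatGroup.get 0 L p.2) p.1 :: L)) steps L

theorem spin_nil (n : ℕ) (L : List ℕ) : spin n [] L = L := rfl
theorem spin_cons (n : ℕ) (p : ℕ × ℕ) (s : List (ℕ × ℕ)) (L : List ℕ) :
    spin n (p :: s) L = spin n s (vmul n (F2MatGroup.get 0 L p.2) p.1 :: L) := rfl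

theorem get_mem_or (L : List ℕ) (k : ℕ) : F2MatGroup.get 0 L k ∈ L ∨ F2MatGroup.get 0 L k = 0 := by
  induction L generalizing k with
  | nil => right; rfl
  | cons a L ih =>
    rcases k with _ | k
    · left; exact List.mem_cons_self
    · rw [F2MatGroup.get_cons_succ]
      rcases ih k with h | h
      · exact Or.inl (List.mem_cons_of_mem _ h)
      · exact Or.inr h

theorem spin_kill {n : ℕ} {X : Matrix (Fin n) (Fin n) (ZMod 2)} (steps : List (ℕ × ℕ))
    (hX : ∀ p ∈ steps, X * (toMat n p.1)ᵀ = (toMat n p.1)ᵀ * X) (L : List ℕ)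
    (hL : ∀ v ∈ L, X.mulVec (toVec n v) = 0) : ∀ v ∈ spin n steps L, X.mulVec (toVec n v) = 0 := by
  induction steps generalizing L with
  | nil => exact hL
  | cons p s ih =>
    rw [spin_cons]
    refine ih (fun q hq => hX q (List.mem_cons_of_mem _ hq)) _ ?_
    intro v hv
    rcases List.mem_cons.1 hv with rfl | hv
    · have h0 : X.mulVec (toVec n (F2MatGroup.get 0 L p.2)) = 0 := by
        rcases get_mem_or L p.2 with h | h
        · exact hL _ h
        · rw [h]
          have : toVec n 0 = 0 := by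
            ext i; show bz ((0 : ℕ).testBit _) = 0; rw [Nat.zero_testBit]; rfl
          rw [this, Matrix.mulVec_zero]
      rw [toVec_vmul, ← Matrix.mulVec_transpose, Matrix.mulVec_mulVec, hX p List.mem_cons_self,
        ← Matrix.mulVec_mulVec, h0, Matrix.mulVec_zero]
    · exact hL v hv

/-- the rows of `B` are in the list -/
def rowsIn (n : ℕ) (B : ℕ) (L : List ℕ) : Bool :=
  (List.range n).all fun i => L.any fun v => Nat.beq v (Nat.mod (Nat.shiftRight B (Nat.mul n i)) (Nat.pow 2 n))

/-- A matrix commuting with the matrices of the steps and killing the starting vectors is zero, if the vectors obtained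
contain the rows of an invertible matrix. -/
theorem eq_zero_of_spin {n B Bi : ℕ} {X : Matrix (Fin n) (Fin n) (ZMod 2)} {steps : List (ℕ × ℕ)} {L : List ℕ}
    (hX : ∀ p ∈ steps, X * (toMat n p.1)ᵀ = (toMat n p.1)ᵀ * X) (hL : ∀ v ∈ L, X.mulVec (toVec n v) = 0)
    (hB : rowsIn n B (spin n steps L) = true) (hi : Nat.beq (F2Mat.mul n Bi B) (one n) = true) : X = 0 := by
  have h1 := spin_kill steps hX L hL
  have h2 : toMat n B * Xᵀ = 0 := by
    ext i j
    have h3 := List.all_eq_true.1 hB i (List.mem_range.2 i.2)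
    obtain ⟨v, hv, hvb⟩ := List.any_eq_true.1 h3
    have h4 := congrFun (h1 v hv) j
    rw [Pi.zero_apply] at h4
    rw [Matrix.zero_apply, ← h4, Matrix.mul_apply, Matrix.mulVec, dotProduct]
    refine Finset.sum_congr rfl fun k _ => ?_
    rw [Matrix.transpose_apply, mul_comm]
    congr 1
    rw [toMat_apply, toVec_apply, Nat.eq_of_beq_eq_true hvb]
    congr 1
    show _ = ((B >>> (n * i)) % 2 ^ n).testBit k
    rw [Nat.testBit_mod_two_pow, Nat.testBit_shiftRight]
    simp
  have h5 : Xᵀ = 0 := by
    have h6 : toMat n Bi * toMat n B = 1 := by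
      rw [← toMat_mul, Nat.eq_of_beq_eq_true hi, toMat_one]
    calc Xᵀ = (toMat n Bi * toMat n B) * Xᵀ := by rw [h6, Matrix.one_mul]
      _ = 0 := by rw [Matrix.mul_assoc, h2, Matrix.mul_zero]
  rw [← Matrix.transpose_transpose X, h5, Matrix.transpose_zero]

end Cfsg.Agent.TwoESix.LinCert
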