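/-
The field automorphism `Phi` of ²E₆(2) in the 78-dimensional model: an involution of `GL (Fin 78) (ZMod 2)` normalising
`Gam`; it fixes the root elements of `±p₂, ±p₄` and maps `x_S(t)` to `x_S(t²)`.
-/
import Cfsg.Agent.TwoESix.RootsCfg
set_option autoImplicit false

namespace Cfsg.Agent.TwoESix.Phi

open Cfsg.Agent.TwoESix.Data Cfsg.Agent.TwoESix.Iso Cfsg.Agent.TwoESix.Gens Cfsg.Agent.TwoESix.RootsCfg
open Cfsg.Agent.Lib Cfsg.Agent.Lib.F2MatGroup

/-- the packed matrix of the field automorphism -/
def mPhi : ℕ := 0x80000000000000000003000000000000000000020000000000000000000c000000000000000000080000000000000000003000000000000000000020000000000000000000c000000000000000000080000000000000000003000000000000000000020000000000000000000c000000000000000000080000000000000000003000000000000000000020000000000000000000c000000000000000000080000000000000000003000000000000000000020000000000000000000c000000000000000000080000000000000000003000000000000000000020000000000000000000c000000000000000000080000000000000000003000000000000000000020000000000000000000c0000000000000000000800000000000000000030000000000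00000000020000000000000000000c000000000000000000080000000000000000003000000000000000000020000000000000000000c000000000000000000080000000000000000003000000000000000000020000000000000000000c000000000000000000080000000000000000003000000000000000000020000000000000000000c000000000000000000080000000000000000003000000000000000000020000000000000000000c000000000000000000080000000000000000001000000000000000000020000000000000000000400000000000000000008000000000000000000100000000000000000002000000000000000000040000000000000000000800000000000000000010000000000000000000200000000000000000004000000000000000000080000000000000000001000000000000000000020000000000000000000400000000000000000008000000000000000000100000000000000000002000000000000000000040000000000000000000800000000000000000010000000000000000000200000000000000000004000000000000000000080000000000000000003000000000000000000020000000000000000000c000000000000000000080000000000000000001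

theorem phi_check : Nat.beq (F2Mat.mul 78 mPhi mPhi) (F2Mat.one 78) = true := by decide +kernel

/-- the field automorphism -/
def Phi : GL (Fin 78) (ZMod 2) := F2MatGroup.unit 78 mPhi mPhi phi_check phi_check

theorem codes_Phi : Codes 78 Phi mPhi := rfl

theorem Phi_sq : Phi * Phi = 1 := by
  apply Units.ext
  have h := Nat.eq_of_beq_eq_true phi_check
  show F2Mat.toMat 78 mPhi * F2Mat.toMat 78 mPhi = 1
  rw [← F2Mat.toMat_mul, h, F2Mat.toMat_one]

theorem Phi_inv : Phi⁻¹ = Phi := inv_eq_of_mul_eq_one_left Phi_sq

/-- conjugation by `Phi` on the generators -/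
def bar : Fin 16 → Fin 16 := ![0, 1, 2, 3, 4, 6, 5, 7, 9, 8, 10, 12, 11, 13, 15, 14]

theorem bar_check : ((List.finRange 16).all fun k =>
    Nat.beq (F2Mat.mul 78 (F2Mat.mul 78 mPhi (Ms.getD k 0)) mPhi) (Ms.getD (bar k) 0)) = true := by decide +kernel

theorem Phi_gM (k : Fin 16) : Phi * gM k * Phi = gM (bar k) := by
  have h := List.all_eq_true.1 bar_check k (List.mem_finRange k)
  exact ((codes_Phi.mul (codes_gM k)).mul codes_Phi).eq (codes_gM (bar k)) h

theorem Phi_conj_mem {g : GL (Fin 78) (ZMod 2)} (hg : g ∈ Gam) : Phi * g * Phi ∈ Gam := by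
  have h1 : Gam ≤ Gam.comap (MulAut.conj Phi).toMonoidHom := by
    unfold Gam
    rw [Subgroup.closure_le]
    rintro _ ⟨k, rfl⟩
    show MulAut.conj Phi (gM k) ∈ Subgroup.closure (Set.range gM)
    rw [MulAut.conj_apply, Phi_inv, Phi_gM]
    exact Subgroup.subset_closure ⟨_, rfl⟩
  have h2 := h1 hg
  have h3 : MulAut.conj Phi g ∈ Gam := h2
  rwa [MulAut.conj_apply, Phi_inv] at h3

theorem Phi_conj_mem_iff {g : GL (Fin 78) (ZMod 2)} : Phi * g * Phi ∈ Gam ↔ g ∈ Gam := by
  refine ⟨fun h => ?_, Phi_conj_mem⟩
  have h1 := Phi_conj_mem h
  have h2 : Phi * (Phi * g * Phi) * Phi = g := by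
    calc Phi * (Phi * g * Phi) * Phi = (Phi * Phi) * g * (Phi * Phi) := by simp only [mul_assoc]
      _ = g := by rw [Phi_sq, one_mul, mul_one]
  rwa [h2] at h1

/-- `Phi` preserves the class of root involutions -/
theorem Phi_TG {x : GL (Fin 78) (ZMod 2)} (hx : x ∈ TG) : Phi * x * Phi ∈ TG := by
  obtain ⟨g, hg, rfl⟩ := hx
  refine ⟨Phi * g * Phi, Phi_conj_mem hg, ?_⟩
  have h0 : Phi * gM 0 * Phi = gM 0 := Phi_gM 0
  calc Phi * (g * gM 0 * g⁻¹) * Phi
      = Phi * g * (Phi * Phi) * gM 0 * (Phi * Phi) * g⁻¹ * Phi := by
        rw [Phi_sq]; simp only [mul_assoc, one_mul, mul_one]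
    _ = (Phi * g * Phi) * (Phi * gM 0 * Phi) * (Phi * g⁻¹ * Phi) := by simp only [mul_assoc]
    _ = (Phi * g * Phi) * gM 0 * (Phi * g * Phi)⁻¹ := by
        rw [h0, mul_inv_rev, mul_inv_rev, Phi_inv]; simp only [mul_assoc]

end Cfsg.Agent.TwoESix.Phi
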