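/-
Linear algebra part of the computation of the centraliser in `²E₆(2):⟨Phi⟩` of the unipotent group of F₄(2): a matrix
commuting with the 24 root elements `U0 0, …, U0 23` maps `e_{-θ}` to one of at most 128 vectors; a matrix commuting also
with `U0 24 = x_{-θ}(1)` is `1` or `Phi`.
-/
import Cfsg.Agent.TwoESix.LinCert
import Cfsg.Agent.TwoESix.Phi
import Cfsg.Agent.TwoESix.CentData
set_option autoImplicit false

namespace Cfsg.Agent.TwoESix.CentLin

open Cfsg.Agent.TwoESix.Data Cfsg.Agent.TwoESix.Iso Cfsg.Agent.TwoESix.Gens Cfsg.Agent.TwoESix.RootsCfg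
open Cfsg.Agent.TwoESix.LinCert Cfsg.Agent.TwoESix.Phi
open Cfsg.Agent.Lib Cfsg.Agent.Lib.F2Mat Cfsg.Agent.Lib.F2MatGroup Matrix

/-- the elements -/
def U0 (i : ℕ) : GL (Fin 78) (ZMod 2) := evG LG (CentData.tw.getD i [])

/-- the list of all of them -/
def LU : List (GL (Fin 78) (ZMod 2)) := (List.range 25).map U0

theorem words_check : ((List.range 25).all fun i =>
    Nat.beq (evW 78 (Ts ++ Ms) (CentData.tw.getD i [])) (CentData.tm.getD i 0)) = true := by decide +kernel

theorem codes_U0 {i : ℕ} (hi : i < 25) : Codes 78 (U0 i) (CentData.tm.getD i 0) := by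
  have h := codes_evW codes_LG (CentData.tw.getD i [])
  have h1 := Nat.eq_of_beq_eq_true (List.all_eq_true.1 words_check i (List.mem_range.2 hi))
  unfold Codes at *
  rw [← h1]
  exact h

theorem len_tm : CentData.tm.length = 25 := by decide +kernel

theorem codes_LU : List.Forall₂ (Codes 78) LU CentData.tm := by
  rw [List.forall₂_iff_get]
  refine ⟨by rw [len_tm]; simp [LU], fun i h1 h2 => ?_⟩
  have hi : i < 25 := by simpa [LU] using h1
  have h3 := codes_U0 hi
  rw [List.getD_eq_getElem _ _ (by rw [len_tm]; exact hi)] at h3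
  simpa [LU] using h3

theorem getG_LU {i : ℕ} (hi : i < 25) : getG LU i = U0 i := by
  unfold getG LU
  rw [List.getD_eq_getElem _ _ (by simpa using hi)]
  simp

theorem getG_LU_ge {i : ℕ} (hi : 25 ≤ i) : getG LU i = 1 := by
  unfold getG LU
  rw [List.getD_eq_default]
  simpa using hi

theorem tr_check : ((List.range 25).all fun i =>
    trOk 78 (CentData.tm.getD i 0) (CentData.tt.getD i 0)) = true := by decide +kernel

theorem toMat_tt {i : ℕ} (hi : i < 25) :
    (toMat 78 (CentData.tt.getD i 0))ᵀ = (U0 i : Matrix (Fin 78) (Fin 78) (ZMod 2)) := by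
  rw [toMat_tr (List.all_eq_true.1 tr_check i (List.mem_range.2 hi)), Matrix.transpose_transpose]
  exact (codes_U0 hi).symm

theorem U0_mulVec {i : ℕ} (hi : i < 25) (v : ℕ) :
    (U0 i : Matrix (Fin 78) (Fin 78) (ZMod 2)).mulVec (toVec 78 v) = toVec 78 (vmul 78 v (CentData.tt.getD i 0)) := by
  have h := codes_U0 hi
  unfold Codes at h
  rw [h, mulVec_of_tr (List.all_eq_true.1 tr_check i (List.mem_range.2 hi))]

/-! ### Relations -/

/-- the matrix of a relation (a list of words) -/
def relM (L : List ℕ) (r : List (List ℕ)) : ℕ :=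
  List.rec 0 (fun w _ ih => Nat.xor (evW 78 L w) ih) r

theorem relM_cons (L : List ℕ) (w : List ℕ) (r : List (List ℕ)) : relM L (w :: r) = evW 78 L w ^^^ relM L r := rfl

theorem toMat_zero' (n : ℕ) : toMat n 0 = 0 := by
  ext i j
  show bz ((0 : ℕ).testBit _) = 0
  rw [Nat.zero_testBit]; rfl

/-- letters below `m` -/
def below (m : ℕ) (r : List (List ℕ)) : Bool := r.all fun w => w.all fun i => Nat.blt i m

theorem comm_evG {g : GL (Fin 78) (ZMod 2)} {m : ℕ} (hm : m ≤ 25) (hg : ∀ i < m, g * U0 i = U0 i * g) {w : List ℕ}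
    (hw : (w.all fun i => Nat.blt i m) = true) : g * evG LU w = evG LU w * g := by
  induction w with
  | nil => rw [evG_nil, mul_one, one_mul]
  | cons i w ih =>
    rw [List.all_cons, Bool.and_eq_true, Nat.blt_eq] at hw
    rw [evG_cons, ← mul_assoc, getG_LU (lt_of_lt_of_le hw.1 hm), hg i hw.1, mul_assoc, ih hw.2, mul_assoc]

theorem comm_relM {g : GL (Fin 78) (ZMod 2)} {m : ℕ} (hm : m ≤ 25) (hg : ∀ i < m, g * U0 i = U0 i * g)
    {r : List (List ℕ)} (hr : below m r = true) :
    (g : Matrix (Fin 78) (Fin 78) (ZMod 2)) * toMat 78 (relM CentData.tm r) =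
      toMat 78 (relM CentData.tm r) * (g : Matrix (Fin 78) (Fin 78) (ZMod 2)) := by
  induction r with
  | nil =>
    have : toMat 78 (relM CentData.tm []) = 0 := toMat_zero' 78
    rw [this, Matrix.mul_zero, Matrix.zero_mul]
  | cons w r ih =>
    unfold below at hr
    rw [List.all_cons, Bool.and_eq_true] at hr
    have h1 := codes_evW codes_LU w
    unfold Codes at h1
    have h2 : (g : Matrix (Fin 78) (Fin 78) (ZMod 2)) * toMat 78 (evW 78 CentData.tm w) =
        toMat 78 (evW 78 CentData.tm w) * (g : Matrix (Fin 78) (Fin 78) (ZMod 2)) := by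
      rw [← h1, ← Units.val_mul, ← Units.val_mul, comm_evG hm hg hr.1]
    rw [relM_cons, toMat_xor, Matrix.mul_add, Matrix.add_mul, ih hr.2, h2]

/-- column `b` is zero -/
def colZ (A b : ℕ) : Bool := (List.range 78).all fun i => !(A.testBit (78 * i + b))

theorem mulVec_single_of_colZ {A : ℕ} {b : Fin 78} (h : colZ A b = true) :
    (toMat 78 A).mulVec (Pi.single b 1) = 0 := by
  rw [Matrix.mulVec_single_one]
  ext i
  have h1 := List.all_eq_true.1 h i (List.mem_range.2 i.2)
  rw [Bool.not_eq_true'] at h1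
  rw [Matrix.col_apply, toMat_apply, h1, Pi.zero_apply, bz_false]

/-- all relations: letters, column `b` -/
def relOk (m b : ℕ) (R : List (List (List ℕ))) : Bool :=
  R.all fun r => below m r && colZ (relM CentData.tm r) b

/-- pairs (multiplier, relation matrix) -/
def prs (Ls : List ℕ) (R : List (List (List ℕ))) : List (ℕ × ℕ) := List.zip Ls (R.map (relM CentData.tm))

theorem rel_vanish {g : GL (Fin 78) (ZMod 2)} {m : ℕ} (hm : m ≤ 25) (hg : ∀ i < m, g * U0 i = U0 i * g)
    {b : Fin 78} {R : List (List (List ℕ))} (hR : relOk m b R = true) {Ls : List ℕ} :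
    ∀ p ∈ prs Ls R, (toMat 78 p.2).mulVec ((g : Matrix (Fin 78) (Fin 78) (ZMod 2)).mulVec (Pi.single b 1)) = 0 := by
  intro p hp
  have h1 := (List.of_mem_zip (show (p.1, p.2) ∈ List.zip Ls (R.map (relM CentData.tm)) from hp)).2
  obtain ⟨r, hr, hrp⟩ := List.mem_map.1 h1
  have h2 := List.all_eq_true.1 hR r hr
  rw [Bool.and_eq_true] at h2
  rw [← hrp, Matrix.mulVec_mulVec, ← comm_relM hm hg h2.1, ← Matrix.mulVec_mulVec, mulVec_single_of_colZ h2.2,
    Matrix.mulVec_zero]

/-! ### The first vector -/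

theorem rel1_check : relOk 24 6 CentData.r1 = true := by decide +kernel

theorem cert1_check : Nat.beq (Nat.xor (sumLA 78 (prs CentData.l1 CentData.r1)) (one 78))
    (F2Mat.mul 78 CentData.g1 CentData.f1) = true := by decide +kernel

theorem cert1_tr : trOk 78 CentData.g1 CentData.gt1 = true := by decide +kernel

theorem cert1_lt : Nat.blt CentData.f1 (Nat.pow 2 (78 * 8)) = true := by decide +kernel

theorem step1 {g : GL (Fin 78) (ZMod 2)} (hg : ∀ i < 24, g * U0 i = U0 i * g) :
    ∃ u < 2 ^ 8, (g : Matrix (Fin 78) (Fin 78) (ZMod 2)).mulVec (Pi.single 6 1) = toVec 78 (vmul 78 u CentData.gt1) :=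
  exists_small cert1_check cert1_tr cert1_lt
    (rel_vanish (by norm_num) hg (b := 6) (R := CentData.r1) (Ls := CentData.l1) rel1_check)

/-! ### The second vector -/

theorem rel2_check : relOk 25 31 CentData.r2 = true := by decide +kernel

theorem cert2_check : Nat.beq (Nat.xor (sumLA 78 (prs CentData.l2 CentData.r2)) (one 78))
    (F2Mat.mul 78 CentData.g2 CentData.f2) = true := by decide +kernel

theorem cert2_tr : trOk 78 CentData.g2 CentData.gt2 = true := by decide +kernel

theorem cert2_lt : Nat.blt CentData.f2 (Nat.pow 2 (78 * 2)) = true := by decide +kernel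

/-- the spinning steps with the transposed matrices -/
def stp : List (ℕ × ℕ) := CentData.st.map fun p => (CentData.tt.getD p.1 0, p.2)

theorem st_lt : (CentData.st.all fun p => Nat.blt p.1 25) = true := by decide +kernel

theorem spin_check : rowsIn 78 CentData.b2 (spin 78 stp [2 ^ 31]) = true := by decide +kernel

theorem b2_check : Nat.beq (F2Mat.mul 78 CentData.b2i CentData.b2) (one 78) = true := by decide +kernel

theorem toVec_two_pow (b : Fin 78) : toVec 78 (2 ^ (b : ℕ)) = Pi.single b 1 := by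
  ext j
  rw [toVec_apply, Nat.testBit_two_pow]
  by_cases h : j = b
  · subst h; simp [bz]
  · have h' : ¬ (b : ℕ) = (j : ℕ) := fun h1 => h (Fin.ext h1.symm)
    simp [bz, h, h']

/-- two matrices commuting with the 25 elements and agreeing on `e_31` are equal -/
theorem eq_of_comm {X Y : Matrix (Fin 78) (Fin 78) (ZMod 2)}
    (hX : ∀ i < 25, X * (U0 i : Matrix (Fin 78) (Fin 78) (ZMod 2)) = (U0 i : Matrix (Fin 78) (Fin 78) (ZMod 2)) * X)
    (hY : ∀ i < 25, Y * (U0 i : Matrix (Fin 78) (Fin 78) (ZMod 2)) = (U0 i : Matrix (Fin 78) (Fin 78) (ZMod 2)) * Y)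
    (h : X.mulVec (Pi.single 31 1) = Y.mulVec (Pi.single 31 1)) : X = Y := by
  rw [← sub_eq_zero]
  refine eq_zero_of_spin (n := 78) (steps := stp) (L := [2 ^ 31]) ?_ ?_ spin_check b2_check
  · intro p hp
    obtain ⟨q, hq, rfl⟩ := List.mem_map.1 hp
    have h1 := List.all_eq_true.1 st_lt q hq
    rw [Nat.blt_eq] at h1
    show (X - Y) * (toMat 78 (CentData.tt.getD q.1 0))ᵀ = (toMat 78 (CentData.tt.getD q.1 0))ᵀ * (X - Y)
    rw [toMat_tt h1, Matrix.sub_mul, Matrix.mul_sub, hX _ h1, hY _ h1]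
  · intro v hv
    rw [List.mem_singleton] at hv
    subst hv
    have h1 : toVec 78 (2 ^ 31) = Pi.single 31 1 := toVec_two_pow 31
    rw [h1, Matrix.sub_mulVec, h, sub_self]

theorem phi_comm_check : ((List.range 25).all fun i => Nat.beq (F2Mat.mul 78 mPhi (CentData.tm.getD i 0))
    (F2Mat.mul 78 (CentData.tm.getD i 0) mPhi)) = true := by decide +kernel

theorem Phi_U0 {i : ℕ} (hi : i < 25) : Phi * U0 i = U0 i * Phi :=
  (codes_Phi.mul (codes_U0 hi)).eq ((codes_U0 hi).mul codes_Phi)
    (List.all_eq_true.1 phi_comm_check i (List.mem_range.2 hi))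

theorem Phi_31 : (Phi : Matrix (Fin 78) (Fin 78) (ZMod 2)).mulVec (Pi.single 31 1) = toVec 78 0xc0000000 := by
  rw [Matrix.mulVec_single_one]
  ext i
  have h0 : (Phi : Matrix (Fin 78) (Fin 78) (ZMod 2)) = toMat 78 mPhi := codes_Phi
  rw [Matrix.col_apply, h0, toMat_apply, toVec_apply]
  have h : ((List.range 78).all fun i => mPhi.testBit (78 * i + 31) == (0xc0000000 : ℕ).testBit i) = true := by
    decide +kernel
  have h1 := List.all_eq_true.1 h i (List.mem_range.2 i.2)
  rw [beq_iff_eq] at h1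
  exact congrArg bz h1

theorem cands2 : vmul 78 0 CentData.gt2 = 0 ∧ vmul 78 1 CentData.gt2 = 0x40000000 ∧
    vmul 78 2 CentData.gt2 = 0x80000000 ∧ vmul 78 3 CentData.gt2 = 0xc0000000 := by decide +kernel

/-- the centraliser of F₄(2) -/
theorem step2 {g : GL (Fin 78) (ZMod 2)} (hg : ∀ i < 25, g * U0 i = U0 i * g) : g = 1 ∨ g = Phi := by
  obtain ⟨u, hu, hx⟩ := exists_small cert2_check cert2_tr cert2_lt
    (rel_vanish le_rfl hg (b := 31) (R := CentData.r2) (Ls := CentData.l2) rel2_check)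
  have hg' : ∀ i < 25, (g : Matrix (Fin 78) (Fin 78) (ZMod 2)) * (U0 i : Matrix (Fin 78) (Fin 78) (ZMod 2)) =
      (U0 i : Matrix (Fin 78) (Fin 78) (ZMod 2)) * (g : Matrix (Fin 78) (Fin 78) (ZMod 2)) := by
    intro i hi
    rw [← Units.val_mul, ← Units.val_mul, hg i hi]
  have hP : ∀ i < 25, (Phi : Matrix (Fin 78) (Fin 78) (ZMod 2)) * (U0 i : Matrix (Fin 78) (Fin 78) (ZMod 2)) =
      (U0 i : Matrix (Fin 78) (Fin 78) (ZMod 2)) * (Phi : Matrix (Fin 78) (Fin 78) (ZMod 2)) := by
    intro i hi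
    rw [← Units.val_mul, ← Units.val_mul, Phi_U0 hi]
  obtain ⟨c0, c1, c2, c3⟩ := cands2
  have e31 : toVec 78 0x80000000 = Pi.single 31 1 := toVec_two_pow 31
  have hdet : ∀ X : Matrix (Fin 78) (Fin 78) (ZMod 2), X * X = 0 → (g : Matrix (Fin 78) (Fin 78) (ZMod 2)) ≠ X := by
    intro X hX h
    have h1 : ((g * g : GL (Fin 78) (ZMod 2)) : Matrix (Fin 78) (Fin 78) (ZMod 2)) = 0 := by
      rw [Units.val_mul, h, hX]
    exact (g * g).ne_zero h1
  have h4 : u = 0 ∨ u = 1 ∨ u = 2 ∨ u = 3 := by omega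
  rcases h4 with rfl | rfl | rfl | rfl
  · exfalso
    refine hdet 0 (by rw [Matrix.mul_zero]) (eq_of_comm hg' (fun i _ => by rw [Matrix.zero_mul, Matrix.mul_zero]) ?_)
    rw [hx, c0, Matrix.zero_mulVec]
    ext i; show bz ((0 : ℕ).testBit _) = 0; rw [Nat.zero_testBit]; rfl
  · exfalso
    have hPP : (Phi : Matrix (Fin 78) (Fin 78) (ZMod 2)) * (Phi : Matrix (Fin 78) (Fin 78) (ZMod 2)) = 1 := by
      rw [← Units.val_mul, Phi_sq, Units.val_one]
    refine hdet ((Phi : Matrix (Fin 78) (Fin 78) (ZMod 2)) + 1) ?_ (eq_of_comm hg' (fun i hi => ?_) ?_)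
    · rw [Matrix.add_mul, Matrix.mul_add, hPP, Matrix.mul_one, Matrix.one_mul, add_comm (1 : Matrix _ _ (ZMod 2)),
        ]
      exact ZModModule.add_self _
    · rw [Matrix.add_mul, Matrix.mul_add, hP i hi, Matrix.one_mul, Matrix.mul_one]
    · rw [hx, c1, Matrix.add_mulVec, Phi_31, Matrix.one_mulVec, ← e31, ← toVec_xor]
      rfl
  · left
    apply Units.ext
    refine eq_of_comm hg' (fun i _ => by rw [Units.val_one, Matrix.one_mul, Matrix.mul_one]) ?_
    rw [hx, c2, Units.val_one, Matrix.one_mulVec, e31]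
  · right
    apply Units.ext
    refine eq_of_comm hg' hP ?_
    rw [hx, c3, Phi_31]

end Cfsg.Agent.TwoESix.CentLin
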