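import Cfsg.Agent.TwoESix.ExtModelB

/-!
# The algebra, and an extremal element
-/

set_option autoImplicit false

namespace Cfsg.Agent.TwoESix.ExtModel

open Cfsg.Agent.Lib Cfsg.Agent.Lib.F2Mat
open Cfsg.Agent.TwoESix.ExtCode Cfsg.Agent.TwoESix.ExtData Cfsg.Agent.TwoESix.ExtAlg
open Cfsg.Agent.TwoESix.Data Cfsg.Agent.TwoESix.Iso

/-! ### Maps preserving a product and a form -/

section

variable {W : Type*} [AddCommGroup W] [Module (ZMod 2) W] (br : W →ₗ[ZMod 2] W →ₗ[ZMod 2] W)
  (bil : W →ₗ[ZMod 2] W →ₗ[ZMod 2] ZMod 2)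

/-- the maps preserving product and form -/
def Pres : Subgroup (W ≃ₗ[ZMod 2] W) where
  carrier := {n | (∀ x y, n (br x y) = br (n x) (n y)) ∧ ∀ x y, bil (n x) (n y) = bil x y}
  mul_mem' {a b} ha hb := ⟨fun x y => by
    rw [LinearEquiv.mul_apply, hb.1, ha.1]; rfl, fun x y => by
    rw [LinearEquiv.mul_apply, LinearEquiv.mul_apply, ha.2, hb.2]⟩
  one_mem' := ⟨fun _ _ => rfl, fun _ _ => rfl⟩
  inv_mem' {a} ha := by
    have h1 : ∀ x, a (a⁻¹ x) = x := fun x => by rw [← LinearEquiv.mul_apply, mul_inv_cancel]; rfl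
    refine ⟨fun x y => ?_, fun x y => ?_⟩
    · apply a.injective
      rw [h1, ha.1, h1, h1]
    · rw [← ha.2, h1, h1]

theorem Pres_eq (A : Alg W) : Pres A.br A.B = A.Aut := rfl

variable {br bil}

theorem mem_Pres {n : W ≃ₗ[ZMod 2] W} :
    n ∈ Pres br bil ↔ (∀ x y, n (br x y) = br (n x) (n y)) ∧ ∀ x y, bil (n x) (n y) = bil x y := Iff.rfl

theorem Pres_br {n : W ≃ₗ[ZMod 2] W} (h : n ∈ Pres br bil) (x y : W) : n (br x y) = br (n x) (n y) := h.1 x y
theorem Pres_bil {n : W ≃ₗ[ZMod 2] W} (h : n ∈ Pres br bil) (x y : W) : bil (n x) (n y) = bil x y := h.2 x y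

theorem der_of {z : W} (h : br.compr₂ (br z) = br.comp (br z) + br.compl₂ (br z)) (v w : W) :
    br z (br v w) = br (br z v) w + br v (br z w) :=
  LinearMap.congr_fun (LinearMap.congr_fun h v) w

theorem quad_of {z w : W} (h : (br.flip (br z w)).comp (br z) =
        ((bil z).comp (br.flip w)).smulRight z + bil z w • br z + (bil z).smulRight (br z w)) (v : W) :
    br (br z v) (br z w) = bil z (br v w) • z + bil z w • br z v + bil z v • br z w :=
  LinearMap.congr_fun h v

end

/-- the group -/
noncomputable def Γ : Subgroup (V ≃ₗ[ZMod 2] V) := Gam.map gl.toMonoidHom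

theorem mM_mem (k : Fin 16) : mM k ∈ Γ := ⟨gM k, Subgroup.subset_closure ⟨k, rfl⟩, rfl⟩

theorem Γ_eq : Γ = Subgroup.closure (Set.range mM) := by
  unfold Γ Gam
  rw [MonoidHom.map_closure]
  congr 1
  ext x
  constructor
  · rintro ⟨_, ⟨k, rfl⟩, rfl⟩
    exact ⟨k, rfl⟩
  · rintro ⟨k, rfl⟩
    exact ⟨_, ⟨k, rfl⟩, rfl⟩

theorem Γ_le_Pres : Γ ≤ Pres br bil := by
  rw [Γ_eq, Subgroup.closure_le]
  rintro _ ⟨k, rfl⟩
  exact mem_Pres.2 ⟨mM_br k, mM_bil k⟩

/-! ### Spanning vectors -/

/-- the basis vector number 20 -/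
def b0 : ℕ := 0x100000

theorem MT_length : MT.length = 16 := by decide +kernel
theorem vs_length : vs.length = 78 := by decide +kernel

theorem vs_head : Nat.beq (vs.getD 0 0) b0 = true := by decide +kernel

/-- check of the tree -/
def treeOk : Bool := allN (fun k => force (Prod.fst (tree.getD k (0, 0))) fun j => force (Prod.snd (tree.getD k (0, 0))) fun i =>
  and (and (Nat.ble j k) (Nat.blt i 16)) (Nat.beq (vmul 78 (vs.getD j 0) (MT.getD i 0)) (vs.getD (Nat.succ k) 0))) 77

theorem tree_check : treeOk = true := by decide +kernel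

theorem vs_mem (k : ℕ) (hk : k < 78) : ∃ γ ∈ Γ, γ (vc b0) = vc (vs.getD k 0) := by
  induction k using Nat.strong_induction_on with
  | _ k ih =>
    rcases k with _ | k
    · exact ⟨1, Γ.one_mem, by rw [Nat.eq_of_beq_eq_true vs_head]; rfl⟩
    · have h := allN_sound tree_check k (by omega)
      rw [force_eq, force_eq, Bool.and_eq_true, Bool.and_eq_true, Nat.ble_eq, Nat.blt_eq] at h
      obtain ⟨γ, hγ, h1⟩ := ih _ (by omega) (by omega : (tree.getD k (0, 0)).1 < 78)
      refine ⟨mM ⟨(tree.getD k (0, 0)).2, h.1.2⟩ * γ, Γ.mul_mem (mM_mem _) hγ, ?_⟩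
      rw [LinearEquiv.mul_apply, h1, mM_apply, op_vc, Nat.eq_of_beq_eq_true h.2]

/-- the matrix with the given rows -/
def pack (L : List ℕ) : ℕ := List.rec 0 (fun a _ ih => Nat.xor a (Nat.shiftLeft ih 78)) L

theorem pack_cons (a : ℕ) (L : List ℕ) : pack (a :: L) = a ^^^ (pack L <<< 78) := rfl

theorem row_pack {L : List ℕ} (hL : L.all (fun a => Nat.blt a (Nat.pow 2 78)) = true) (j : ℕ) :
    row (pack L) j = L.getD j 0 := by
  induction L generalizing j with
  | nil => rw [row_eq]; simp [pack]
  | cons a L ih =>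
    rw [List.all_cons, Bool.and_eq_true, Nat.blt_eq] at hL
    have ha : a < 2 ^ 78 := hL.1
    rw [pack_cons, row_eq]
    rcases j with _ | j
    · rw [List.getD_cons_zero, Nat.mul_zero, Nat.shiftRight_zero]
      apply Nat.eq_of_testBit_eq
      intro i
      rw [Nat.testBit_mod_two_pow, Nat.testBit_xor, Nat.testBit_shiftLeft]
      by_cases hi : i < 78
      · have h2 : ¬ 78 ≤ i := by omega
        simp [hi, h2]
      · have h1 : a.testBit i = false := Nat.testBit_lt_two_pow (lt_of_lt_of_le ha
          (Nat.pow_le_pow_right (by norm_num) (by omega)))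
        simp [hi, h1]
    · rw [List.getD_cons_succ, ← ih hL.2, row_eq, Nat.shiftRight_xor_distrib]
      have h1 : a >>> (78 * (j + 1)) = 0 := by
        rw [Nat.shiftRight_eq_div_pow]
        apply Nat.div_eq_of_lt
        exact lt_of_lt_of_le ha (Nat.pow_le_pow_right (by norm_num) (by omega))
      have h2 : (pack L <<< 78) >>> (78 * (j + 1)) = pack L >>> (78 * j) := by
        rw [show 78 * (j + 1) = 78 + 78 * j by ring, Nat.shiftRight_add, Nat.shiftLeft_shiftRight]
      rw [h1, h2, Nat.zero_xor]

/-- a list of 78 vectors with invertible matrix spans -/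
theorem span_of {L : List ℕ} (hL : L.all (fun a => Nat.blt a (Nat.pow 2 78)) = true) {N : ℕ}
    (h : Nat.beq (mul 78 N (pack L)) (one 78) = true) (x : V) :
    x = ∑ j : Fin 78, co (op N x) j • vc (L.getD j 0) := by
  have h1 : op (mul 78 N (pack L)) x = x := by rw [op_eq_of h, op_one]
  rw [op_mul, eq_sum (op N x), map_sum] at h1
  conv_lhs => rw [← h1]
  refine Finset.sum_congr rfl fun j _ => ?_
  rw [map_smul, op_e, row_pack hL]

theorem vs_lt : vs.all (fun a => Nat.blt a (Nat.pow 2 78)) = true := by decide +kernel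

theorem VI_check : Nat.beq (mul 78 VI (pack vs)) (one 78) = true := by decide +kernel

/-- a linear condition satisfied on the orbit of `b0` holds everywhere -/
theorem orbit_induction {W : Type*} [AddCommMonoid W] [Module (ZMod 2) W] {f g : V →ₗ[ZMod 2] W}
    (h : ∀ γ ∈ Γ, f (γ (vc b0)) = g (γ (vc b0))) : f = g := by
  refine LinearMap.ext fun x => ?_
  rw [span_of vs_lt VI_check x, map_sum, map_sum]
  refine Finset.sum_congr rfl fun j _ => ?_
  obtain ⟨γ, hγ, h1⟩ := vs_mem j j.2
  rw [map_smul, map_smul, ← h1, h γ hγ]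

/-! ### Invariance of the form -/

theorem adc_b0 (y : V) : br (vc b0) y = op (adc b0) y := br_vc b0 y

theorem inv_check : (force (mul 78 (adc b0) Jc) fun S => trOk S S) = true := by decide +kernel

theorem br_comm' (x y : V) : br x y = br y x := by
  have h := br_self (x + y)
  simp only [map_add, LinearMap.add_apply, br_self, zero_add, add_zero] at h
  exact eq_of_add ((add_comm _ _).trans h)

theorem bil_comm' (x y : V) : bil x y = bil y x := by
  have h := bil_self (x + y)
  simp only [map_add, LinearMap.add_apply, bil_self, zero_add, add_zero] at h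
  exact eq_of_add ((add_comm _ _).trans h)

theorem inv_b0 (x z : V) : bil (br x (vc b0)) z = bil x (br (vc b0) z) := by
  have h := inv_check
  rw [force_eq] at h
  rw [br_comm' x, br_vc, br_vc, bil_apply, ← op_mul, op_tr h, op_mul, bil_apply, op_tr J_check]

theorem bil_inv (x y z : V) : bil (br x y) z = bil x (br y z) := by
  have h1 : ∀ x z : V, (bil.flip z).comp (br x) = (bil x).comp (br.flip z) := by
    intro x z
    apply orbit_induction
    intro γ hγ
    have hP := Γ_le_Pres hγ
    show bil (br x (γ (vc b0))) z = bil x (br (γ (vc b0)) z)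
    obtain ⟨x, rfl⟩ := γ.surjective x
    obtain ⟨z, rfl⟩ := γ.surjective z
    rw [← Pres_br hP, ← Pres_br hP, Pres_bil hP, Pres_bil hP, inv_b0]
  exact LinearMap.congr_fun (h1 x z) y

/-- **The algebra.** -/
noncomputable def A : Alg V where
  br := br
  B := bil
  br_self := br_self
  B_self := bil_self
  nondeg := bil_nondeg
  inv := bil_inv

theorem A_br : A.br = br := rfl
theorem A_B : A.B = bil := rfl

theorem Γ_le : Γ ≤ A.Aut := by
  rw [← Pres_eq, A_br, A_B]
  exact Γ_le_Pres

/-! ### The extremal element `b0` -/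

theorem sq_check : Nat.beq (mul 78 (adc b0) (adc b0)) 0 = true := by decide +kernel

/-- derivation -/
theorem der_check : (force (adc b0) fun X => allI (fun i a =>
    Nat.beq (mul 78 a X) (Nat.xor (adc (row X i)) (mul 78 X a))) AD 0) = true := by decide +kernel

/-- the quadratic identity -/
theorem quad_check : (force (adc b0) fun X => force (vmul 78 b0 Jc) fun φ => allN (fun i =>
    force (row X i) fun r => Nat.beq (mul 78 X (adc r))
      (Nat.xor (Nat.xor (out (vmul 78 r Jc) b0) (out φ r)) (cond (tb φ i) X 0))) 78) = true := by decide +kernel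

theorem b0_ext : A.IsExt (vc b0) where
  ne h := by
    have h1 := congrFun (congrArg co h) ⟨20, by norm_num⟩
    rw [vc_apply, co_zero] at h1
    have h2 : b0.testBit 20 = true := by decide
    rw [h2] at h1
    exact absurd h1 (by decide)
  sq v := by
    rw [A_br, br_vc, br_vc, ← op_mul, op_eq_of sq_check, op_zero]
  der v w := by
    rw [A_br]
    have hc := der_check
    rw [force_eq] at hc
    have h1 : br.compr₂ (br (vc b0)) = br.comp (br (vc b0)) + br.compl₂ (br (vc b0)) := by
      refine ext_e fun i => LinearMap.ext fun y => ?_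
      have h2 := allI_sound hc i (by rw [AD_length]; exact i.2)
      rw [zero_add] at h2
      have h3 := op_eq_of h2 y
      rw [op_mul] at h3
      have h4 : op (Nat.xor (adc (row (adc b0) i)) (mul 78 (adc b0) (AD.getD i 0))) y =
        op (adc (row (adc b0) i)) y + op (mul 78 (adc b0) (AD.getD i 0)) y := op_xor _ _ _
      rw [h4, op_mul] at h3
      rw [LinearMap.compr₂_apply, LinearMap.add_apply, LinearMap.add_apply, LinearMap.comp_apply,
        LinearMap.compl₂_apply, br_e, br_e, br_vc, br_vc, br_vc, op_e, br_vc]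
      exact h3
    exact der_of h1 v w
  quad v w := by
    rw [A_br, A_B]
    have hc := quad_check
    rw [force_eq, force_eq] at hc
    have key : ∀ i : Fin 78, ∀ w, br (br (vc b0) (e i)) (br (vc b0) w) =
        bil (vc b0) (br (e i) w) • vc b0 + bil (vc b0) w • br (vc b0) (e i) + bil (vc b0) (e i) • br (vc b0) w := by
      intro i w
      have h2 := allN_sound hc i i.2
      rw [force_eq] at h2
      have h3 := op_eq_of h2 w
      have h4 : ∀ a b c : ℕ, op (Nat.xor (Nat.xor a b) c) w = op a w + op b w + op c w := by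
        intro a b c
        have h5 : op (Nat.xor (Nat.xor a b) c) w = op (Nat.xor a b) w + op c w := op_xor _ _ _
        have h6 : op (Nat.xor a b) w = op a w + op b w := op_xor _ _ _
        rw [h5, h6]
      have hr : Nat.blt (row (adc b0) i) (Nat.pow 2 78) = true := by
        rw [Nat.blt_eq]; exact row_lt _ _
      rw [h4, op_mul, bil_out (show Nat.blt b0 (Nat.pow 2 78) = true by decide +kernel), bil_out hr] at h3
      have h7 : op (cond (tb (vmul 78 b0 Jc) i) (adc b0) 0) w = bil (vc b0) (e i) • br (vc b0) w := by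
        rw [bil_apply, op_vc, co_e, dotProduct_single, mul_one, vc_apply, ← tb_eq, br_vc]
        cases tb (vmul 78 b0 Jc) i
        · rw [cond_false, op_zero, bz_false, zero_smul]
        · rw [cond_true, bz_true, one_smul]
      have h8 : br (vc b0) (e i) = vc (row (adc b0) i) := by rw [br_vc, op_e]
      rw [h7] at h3
      rw [br_vc b0 w] at h3
      rw [← bil_inv, h8, br_vc (row (adc b0) i), br_vc b0 w]
      exact h3
    have h1 : (br.flip (br (vc b0) w)).comp (br (vc b0)) =
        ((bil (vc b0)).comp (br.flip w)).smulRight (vc b0) + bil (vc b0) w • br (vc b0) +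
          (bil (vc b0)).smulRight (br (vc b0) w) := by
      refine ext_e fun i => ?_
      rw [LinearMap.add_apply, LinearMap.add_apply, LinearMap.smulRight_apply, LinearMap.smulRight_apply,
        LinearMap.smul_apply, LinearMap.comp_apply, LinearMap.comp_apply, LinearMap.flip_apply, LinearMap.flip_apply]
      exact key i w
    exact quad_of h1 v

end Cfsg.Agent.TwoESix.ExtModel
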