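/-
The centraliser in `²E₆(2):⟨Phi⟩` of the unipotent group of F₄(2).
-/
import Cfsg.Agent.TwoESix.CentLin
import Cfsg.Agent.TwoESix.ExtModelC
set_option autoImplicit false

namespace Cfsg.Agent.TwoESix.Cent

open Cfsg.Agent.TwoESix.Data Cfsg.Agent.TwoESix.Iso Cfsg.Agent.TwoESix.Gens Cfsg.Agent.TwoESix.RootsCfg
open Cfsg.Agent.TwoESix.Phi Cfsg.Agent.TwoESix.CentLin
open Cfsg.Agent.TwoESix.ExtCode Cfsg.Agent.TwoESix.ExtData Cfsg.Agent.TwoESix.ExtAlg Cfsg.Agent.TwoESix.ExtModel
open Cfsg.Agent.Lib Cfsg.Agent.Lib.F2Mat Cfsg.Agent.Lib.F2MatGroup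

/-! ### `Phi` is an automorphism of the algebra -/

/-- the transpose of `mPhi` -/
def mPhiT : ℕ := 0xc000000000000000000100000000000000000003000000000000000000040000000000000000000c000000000000000000100000000000000000003000000000000000000040000000000000000000c000000000000000000100000000000000000003000000000000000000040000000000000000000c000000000000000000100000000000000000003000000000000000000040000000000000000000c000000000000000000100000000000000000003000000000000000000040000000000000000000c000000000000000000100000000000000000003000000000000000000040000000000000000000c000000000000000000100000000000000000003000000000000000000040000000000000000000c000000000000000000100000000000000000003000000000000000000040000000000000000000c000000000000000000100000000000000000003000000000000000000040000000000000000000c000000000000000000100000000000000000003000000000000000000040000000000000000000c000000000000000000100000000000000000003000000000000000000040000000000000000000c000000000000000000100000000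000000000003000000000000000000040000000000000000000800000000000000000010000000000000000000200000000000000000004000000000000000000080000000000000000001000000000000000000020000000000000000000400000000000000000008000000000000000000100000000000000000002000000000000000000040000000000000000000800000000000000000010000000000000000000200000000000000000004000000000000000000080000000000000000001000000000000000000020000000000000000000400000000000000000008000000000000000000100000000000000000002000000000000000000040000000000000000000c00000000000000000010000000000000000000300000000000000000004000000000000000000080000000000000000001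

theorem phiT_check : ExtCode.trOk mPhi mPhiT = true := by decide +kernel

theorem phi_eqv : eqv mPhiT = true := by decide +kernel

theorem phi_form : Nat.beq (mul 78 (mul 78 mPhiT Jc) mPhi) Jc = true := by decide +kernel

theorem gl_Phi (x : V) : gl Phi x = op mPhiT x := by
  have h := ExtCode.toMat_tr phiT_check
  apply co_inj
  rw [gl_apply, op_apply, h, Matrix.vecMul_transpose]
  rfl

theorem Phi_mem : gl Phi ∈ A.Aut := by
  refine ⟨fun x y => ?_, fun x y => ?_⟩
  · rw [gl_Phi, gl_Phi, gl_Phi]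
    exact eqv_sound phi_eqv x y
  · have h := ExtCode.toMat_tr phiT_check
    have h1 := Nat.eq_of_beq_eq_true phi_form
    have h2 : toMat 78 mPhiT * toMat 78 Jc * toMat 78 mPhi = toMat 78 Jc := by
      rw [← toMat_mul, ← toMat_mul, h1]
    rw [A_B, gl_Phi, gl_Phi, bil_apply, bil_apply, op_apply, op_apply, op_apply, op_apply, Matrix.vecMul_vecMul]
    conv_lhs => rw [h, Matrix.vecMul_transpose, Matrix.dotProduct_mulVec, Matrix.vecMul_vecMul, ← h, h2]

theorem gl_mem {g : GL (Fin 78) (ZMod 2)} (hg : g ∈ Gam) : gl g ∈ A.Aut := Γ_le ⟨g, hg, rfl⟩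

/-! ### Coded actions -/

theorem gl_U0 {i : ℕ} (hi : i < 25) (v : ℕ) : gl (U0 i) (vc v) = vc (vmul 78 v (CentData.tt.getD i 0)) := by
  apply co_inj
  rw [gl_apply]
  exact U0_mulVec hi v

/-- `e_{-θ}` -/
def z0 : ℕ := 0x40

theorem z0_single : co (vc z0) = Pi.single 6 1 := toVec_two_pow 6

theorem vc_inj {a b : ℕ} (ha : a < 2 ^ 78) (hb : b < 2 ^ 78) (h : vc a = vc b) : a = b :=
  toVec_inj ha hb (congrArg co h)

/-- the word of `x_{-θ}(1)` without the middle and last part -/
def wz : List ℕ := (CentData.tw.getD 24 []).take 24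

theorem wz_check : (lets wz && decide (cw wz = CentData.tw.getD 24 [])) = true := by decide +kernel

theorem b0_to_z0 : Nat.beq (List.rec b0 (fun i _ ih => vmul 78 ih (MT.getD (i - 10) 0)) wz) z0 = true := by
  decide +kernel

theorem gl_word (w : List ℕ) (hw : lets w = true) (v : ℕ) :
    gl (evG LG w) (vc v) = vc (List.rec v (fun i _ ih => vmul 78 ih (MT.getD (i - 10) 0)) w) := by
  induction w with
  | nil => rw [evG_nil, map_one]; rfl
  | cons i w ih =>
    have h5 := lets_spec hw i List.mem_cons_self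
    have hw' : lets w = true := by
      unfold lets at hw ⊢
      rw [List.all_cons, Bool.and_eq_true] at hw
      exact hw.2
    have h6 : i = 10 + (⟨i - 10, by omega⟩ : Fin 16).val := by
      have : (⟨i - 10, by omega⟩ : Fin 16).val = i - 10 := rfl
      omega
    rw [evG_cons, map_mul, LinearEquiv.mul_apply, ih hw']
    conv_lhs => rw [h6, getG_gM]
    show mM _ _ = _
    rw [mM_apply, op_vc]

theorem b0_check : Nat.beq (Nat.xor (Nat.xor (F2Mat.one 78) (adc b0)) (out (vmul 78 b0 Jc) b0)) (MT.getD 0 0) = true := by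
  decide +kernel

theorem g_b0 : A.g (vc b0) = gl (gM 0) := by
  apply LinearEquiv.toLinearMap_injective
  refine LinearMap.ext fun x => ?_
  have h1 : mM 0 x = x + op (adc b0) x + bil (vc b0) x • vc b0 := by
    have h4 : ∀ a b c : ℕ, op (Nat.xor (Nat.xor a b) c) x = op a x + op b x + op c x := by
      intro a b c
      have h5 : op (Nat.xor (Nat.xor a b) c) x = op (Nat.xor a b) x + op c x := op_xor _ _ _
      have h6 : op (Nat.xor a b) x = op a x + op b x := op_xor _ _ _
      rw [h5, h6]
    have h2 := op_eq_of b0_check x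
    rw [h4, op_one, bil_out (show Nat.blt b0 (Nat.pow 2 78) = true by decide +kernel)] at h2
    rw [h2]
    exact mM_apply 0 x
  have h3 := Alg.g_apply b0_ext x
  rw [A_br, A_B, br_vc, ← h1] at h3
  exact h3

theorem ext_z0 : A.IsExt (vc z0) := by
  have h := wz_check
  rw [Bool.and_eq_true] at h
  have h1 := gl_word wz h.1 b0
  rw [Nat.eq_of_beq_eq_true b0_to_z0] at h1
  rw [← h1]
  exact b0_ext.map (gl_mem (evG_lets_mem h.1))

theorem g_z0 : A.g (vc z0) = gl (U0 24) := by
  have h := wz_check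
  rw [Bool.and_eq_true, decide_eq_true_eq] at h
  have h1 := gl_word wz h.1 b0
  rw [Nat.eq_of_beq_eq_true b0_to_z0] at h1
  have h2 : U0 24 = evG LG wz * gM 0 * (evG LG wz)⁻¹ := by
    rw [← evG_cw h.1, h.2]
    rfl
  rw [← h1, Alg.g_map b0_ext (gl_mem (evG_lets_mem h.1)), g_b0, h2, map_mul, map_mul, map_inv]

/-! ### The extremal images -/

/-- candidate number `u` -/
def cu (u : ℕ) : ℕ := vmul 78 u CentData.gt1

/-- left side of the quadratic identity -/
def qL (c : ℕ) : ℕ := vmul 78 (vmul 78 (2 ^ 71) (adc c)) (adc (vmul 78 (2 ^ 21) (adc c)))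

/-- right side of the quadratic identity -/
def qR (c : ℕ) : ℕ := Nat.xor (Nat.xor (cond (bilc c (vmul 78 (2 ^ 71) (adc (2 ^ 21)))) c 0)
  (cond (bilc c (2 ^ 71)) (vmul 78 (2 ^ 21) (adc c)) 0)) (cond (bilc c (2 ^ 21)) (vmul 78 (2 ^ 71) (adc c)) 0)

/-- `x` is fixed by `r`, or violates an identity of extremal elements, or is one of four -/
def ext4 (u : ℕ) : Bool :=
  force (cu u) fun c =>
    or (Nat.beq (vmul 78 c (CentData.tt.getD 11 0)) c)
      (or (not (Nat.beq (vmul 78 (vmul 78 (2 ^ 20) (adc c)) (adc c)) 0))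
        (or (not (Nat.beq (qL c) (qR c))) (or (or (Nat.beq u 2) (Nat.beq u 19)) (or (Nat.beq u 38) (Nat.beq u 183)))))

theorem ext4_check : allN ext4 256 = true := by decide +kernel

theorem z0_moved : Nat.beq (vmul 78 z0 (CentData.tt.getD 11 0)) z0 = false := by decide +kernel

theorem cu_lt (u : ℕ) : cu u < 2 ^ 78 := vmul_lt _ _

theorem vc_cond (b : Bool) (c : ℕ) : vc (cond b c 0) = bz b • vc c := by
  cases b
  · rw [cond_false, vc_zero, bz_false, zero_smul]
  · rw [cond_true, bz_true, one_smul]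

theorem quad_codes {c : ℕ} (hc : c < 2 ^ 78) (h : A.IsExt (vc c)) : qL c = qR c := by
  have h1 := h.quad (vc (2 ^ 21)) (vc (2 ^ 71))
  rw [A_br, A_B, br_vc_vc, br_vc_vc, br_vc_vc, br_vc_vc, bil_vc, bil_vc, bil_vc] at h1
  apply vc_inj (vmul_lt _ _)
  · have hb : ∀ (b : Bool) (x : ℕ), x < 2 ^ 78 → cond b x 0 < 2 ^ 78 := by
      intro b x hx
      cases b
      · exact Nat.two_pow_pos 78
      · exact hx
    exact Nat.xor_lt_two_pow (Nat.xor_lt_two_pow (hb _ _ hc) (hb _ _ (vmul_lt _ _))) (hb _ _ (vmul_lt _ _))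
  · have h2 : ∀ a b : ℕ, vc (Nat.xor a b) = vc a + vc b := vc_xor
    rw [qR, h2, h2, vc_cond, vc_cond, vc_cond]
    exact h1

theorem sq_codes {c : ℕ} (h : A.IsExt (vc c)) (v : ℕ) : vmul 78 (vmul 78 v (adc c)) (adc c) = 0 := by
  have h1 := h.sq (vc v)
  rw [A_br, br_vc_vc, br_vc_vc, ← vc_zero] at h1
  exact vc_inj (vmul_lt _ _) (Nat.two_pow_pos 78) h1

theorem four_of_ext {u : ℕ} (hu : u < 256) (h : A.IsExt (vc (cu u))) (hr : gl (U0 11) (vc (cu u)) ≠ vc (cu u)) :
    u = 2 ∨ u = 19 ∨ u = 38 ∨ u = 183 := by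
  have h1 := allN_sound ext4_check u hu
  unfold ext4 at h1
  rw [force_eq] at h1
  rcases hb : Nat.beq (vmul 78 (cu u) (CentData.tt.getD 11 0)) (cu u) with _ | _
  · rcases hc : Nat.beq (vmul 78 (vmul 78 (2 ^ 20) (adc (cu u))) (adc (cu u))) 0 with _ | _
    · rw [sq_codes h, Nat.beq_refl] at hc
      exact absurd hc Bool.noConfusion
    · rcases hd : Nat.beq (qL (cu u)) (qR (cu u)) with _ | _
      · rw [quad_codes (cu_lt u) h, Nat.beq_refl] at hd
        exact absurd hd Bool.noConfusion
      · rw [hb, hc, hd] at h1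
        simp only [Bool.false_or, Bool.not_true, Bool.or_eq_true, Nat.beq_eq] at h1
        rcases h1 with (h1 | h1) | (h1 | h1)
        · exact Or.inl h1
        · exact Or.inr (Or.inl h1)
        · exact Or.inr (Or.inr (Or.inl h1))
        · exact Or.inr (Or.inr (Or.inr h1))
  · exfalso
    apply hr
    rw [gl_U0 (by norm_num), Nat.eq_of_beq_eq_true hb]

/-! ### The theorem -/

/-- the long element `r = x_θ(1)` -/
abbrev rr : GL (Fin 78) (ZMod 2) := U0 11
/-- the short element `s` -/
abbrev ss : GL (Fin 78) (ZMod 2) := U0 23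

theorem comm_check : allN (fun i => and
    (Nat.beq (F2Mat.mul 78 (CentData.tm.getD 11 0) (CentData.tm.getD i 0))
      (F2Mat.mul 78 (CentData.tm.getD i 0) (CentData.tm.getD 11 0)))
    (Nat.beq (F2Mat.mul 78 (CentData.tm.getD 23 0) (CentData.tm.getD i 0))
      (F2Mat.mul 78 (CentData.tm.getD i 0) (CentData.tm.getD 23 0)))) 24 = true := by decide +kernel

theorem rr_comm {i : ℕ} (hi : i < 24) : rr * U0 i = U0 i * rr := by
  have h := allN_sound comm_check i hi
  rw [Bool.and_eq_true] at h
  exact ((codes_U0 (by norm_num)).mul (codes_U0 (by omega))).eq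
    ((codes_U0 (by omega)).mul (codes_U0 (by norm_num))) h.1

theorem ss_comm {i : ℕ} (hi : i < 24) : ss * U0 i = U0 i * ss := by
  have h := allN_sound comm_check i hi
  rw [Bool.and_eq_true] at h
  exact ((codes_U0 (by norm_num)).mul (codes_U0 (by omega))).eq
    ((codes_U0 (by omega)).mul (codes_U0 (by norm_num))) h.2

theorem img_check : (and (Nat.beq (cu 2) z0) (and (Nat.beq (cu 19) (vmul 78 z0 (CentData.tt.getD 11 0)))
    (and (Nat.beq (cu 38) (vmul 78 z0 (CentData.tt.getD 23 0)))
      (Nat.beq (cu 183) (vmul 78 (vmul 78 z0 (CentData.tt.getD 23 0)) (CentData.tt.getD 11 0)))))) = true := by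
  decide +kernel

theorem rr_moves : gl rr (vc z0) ≠ vc z0 := by
  intro h
  rw [gl_U0 (by norm_num)] at h
  have h1 := vc_inj (vmul_lt _ _) (show z0 < 2 ^ 78 by decide +kernel) h
  have h2 := z0_moved
  rw [h1, Nat.beq_refl] at h2
  exact absurd h2 Bool.noConfusion

/-- **An element of `²E₆(2):⟨Phi⟩` commuting with the unipotent group of F₄(2) is in `⟨Phi⟩ × ⟨r, s⟩`.** -/
theorem centr {g : GL (Fin 78) (ZMod 2)} (hg : gl g ∈ A.Aut) (hc : ∀ i < 24, g * U0 i = U0 i * g) :
    ∃ a, (a = 1 ∨ a = rr ∨ a = ss ∨ a = rr * ss) ∧ (g = a ∨ g = a * Phi) := by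
  obtain ⟨u, hu, hx⟩ := step1 hc
  have hx' : gl g (vc z0) = vc (cu u) := by
    apply co_inj
    rw [gl_apply, z0_single]
    exact hx
  have hext : A.IsExt (vc (cu u)) := by
    rw [← hx']
    exact ext_z0.map hg
  have hne : gl (U0 11) (vc (cu u)) ≠ vc (cu u) := by
    intro h
    rw [← hx', ← LinearEquiv.mul_apply, ← map_mul, ← hc 11 (by norm_num), map_mul, LinearEquiv.mul_apply] at h
    exact rr_moves ((gl g).injective h)
  have h4 := four_of_ext hu hext hne
  have hi := img_check
  rw [Bool.and_eq_true, Bool.and_eq_true, Bool.and_eq_true] at hi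
  obtain ⟨i1, i2, i3, i4⟩ := hi
  -- an element of `⟨r, s⟩` with the same image
  obtain ⟨a, ha, haz, hac⟩ : ∃ a : GL (Fin 78) (ZMod 2), (a = 1 ∨ a = rr ∨ a = ss ∨ a = rr * ss) ∧
      gl a (vc z0) = vc (cu u) ∧ ∀ i < 24, a * U0 i = U0 i * a := by
    rcases h4 with rfl | rfl | rfl | rfl
    · refine ⟨1, Or.inl rfl, ?_, fun i _ => by rw [one_mul, mul_one]⟩
      rw [map_one, Nat.eq_of_beq_eq_true i1]
      rfl
    · refine ⟨rr, Or.inr (Or.inl rfl), ?_, fun i hi => rr_comm hi⟩
      rw [gl_U0 (by norm_num), Nat.eq_of_beq_eq_true i2]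
    · refine ⟨ss, Or.inr (Or.inr (Or.inl rfl)), ?_, fun i hi => ss_comm hi⟩
      rw [gl_U0 (by norm_num), Nat.eq_of_beq_eq_true i3]
    · refine ⟨rr * ss, Or.inr (Or.inr (Or.inr rfl)), ?_, fun i hi => ?_⟩
      · rw [map_mul, LinearEquiv.mul_apply, gl_U0 (by norm_num), gl_U0 (by norm_num), Nat.eq_of_beq_eq_true i4]
      · rw [mul_assoc, ss_comm hi, ← mul_assoc, rr_comm hi, mul_assoc]
  refine ⟨a, ha, ?_⟩
  -- `a⁻¹ g` centralises F₄(2)
  have hfix : gl (a⁻¹ * g) (vc z0) = vc z0 := by
    rw [map_mul, LinearEquiv.mul_apply, hx', ← haz, ← LinearEquiv.mul_apply, ← map_mul, inv_mul_cancel, map_one]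
    rfl
  have haA : a⁻¹ ∈ Gam := by
    have h11 : rr ∈ Gam := evG_lets_mem (by decide +kernel)
    have h23 : ss ∈ Gam := evG_lets_mem (by decide +kernel)
    apply Gam.inv_mem
    rcases ha with rfl | rfl | rfl | rfl
    · exact Gam.one_mem
    · exact h11
    · exact h23
    · exact Gam.mul_mem h11 h23
  have hA' : gl (a⁻¹ * g) ∈ A.Aut := by
    rw [map_mul]
    exact Subgroup.mul_mem _ (gl_mem haA) hg
  have h24 : (a⁻¹ * g) * U0 24 = U0 24 * (a⁻¹ * g) := by
    have h5 := Alg.g_map ext_z0 hA'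
    rw [hfix, g_z0, ← map_inv, ← map_mul, ← map_mul] at h5
    have h6 := gl.injective h5
    calc (a⁻¹ * g) * U0 24 = ((a⁻¹ * g) * U0 24 * (a⁻¹ * g)⁻¹) * (a⁻¹ * g) := by group
      _ = U0 24 * (a⁻¹ * g) := by rw [← h6]
  have h25 : ∀ i < 25, (a⁻¹ * g) * U0 i = U0 i * (a⁻¹ * g) := by
    intro i hi
    rcases Nat.lt_succ_iff_lt_or_eq.1 hi with h | rfl
    · have h7 := hac i h
      have h8 : a⁻¹ * U0 i = U0 i * a⁻¹ := by
        calc a⁻¹ * U0 i = a⁻¹ * (U0 i * a) * a⁻¹ := by group
          _ = a⁻¹ * (a * U0 i) * a⁻¹ := by rw [h7]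
          _ = U0 i * a⁻¹ := by group
      rw [mul_assoc, hc i h, ← mul_assoc, h8, mul_assoc]
    · exact h24
  rcases step2 h25 with h | h
  · left
    rw [← mul_one a, ← h, mul_inv_cancel_left]
  · right
    rw [← h, mul_inv_cancel_left]

/-- the version for `Gam` -/
theorem centr_Gam {g : GL (Fin 78) (ZMod 2)} (hg : g ∈ Gam ∨ g * Phi ∈ Gam) (hc : ∀ i < 24, g * U0 i = U0 i * g) :
    ∃ a, (a = 1 ∨ a = rr ∨ a = ss ∨ a = rr * ss) ∧ (g = a ∨ g = a * Phi) := by
  refine centr ?_ hc
  rcases hg with hg | hg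
  · exact gl_mem hg
  · have h1 : g = (g * Phi) * Phi := by rw [mul_assoc, Phi_sq, mul_one]
    rw [h1, map_mul]
    exact Subgroup.mul_mem _ (gl_mem hg) Phi_mem

end Cfsg.Agent.TwoESix.Cent
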