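/-
An explicit configuration of 19 root involutions of ²E₆(2) in the 78-dimensional model, stable under the field
automorphism `Phi`: all products of collinear pairs, commutators of special pairs and commuting pairs among them.
-/
import Cfsg.Agent.TwoESix.Phi
import Cfsg.Agent.TwoESix.FrameData
set_option autoImplicit false

namespace Cfsg.Agent.TwoESix.Frame

open Cfsg.Agent.TwoESix.Data Cfsg.Agent.TwoESix.Words Cfsg.Agent.TwoESix.Iso Cfsg.Agent.TwoESix.Gens
open Cfsg.Agent.TwoESix.Rels Cfsg.Agent.TwoESix.Main Cfsg.Agent.TwoESix.RootsCfg Cfsg.Agent.TwoESix.Phi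
open Cfsg.Agent.TwoESix.FrameData
open Cfsg.Agent.Lib Cfsg.Agent.Lib.F2MatGroup

/-- the root involutions of the configuration -/
def Rt (i : ℕ) : GL (Fin 78) (ZMod 2) := evG LG (cw (rw.getD i []))

theorem rw_lets : (rw.all fun w => lets w) = true := by decide +kernel

theorem Rt_mem (i : ℕ) : Rt i ∈ TG := by
  apply cw_mem
  rcases Nat.lt_or_ge i rw.length with h | h
  · rw [List.getD_eq_getElem _ _ h]
    exact List.all_eq_true.1 rw_lets _ (List.getElem_mem h)
  · rw [List.getD_eq_default _ _ h]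
    rfl

theorem Rt_check : ((List.range 19).all fun i =>
    Nat.beq (evW 78 (Ts ++ Ms) (cw (rw.getD i []))) (Rm.getD i 0)) = true := by decide +kernel

/-- the list of the root involutions, with the field automorphism at the end -/
def RL : List (GL (Fin 78) (ZMod 2)) := (List.range 19).map Rt ++ [Phi]

theorem codes_Rt (i : ℕ) (h : i < 19) : Codes 78 (Rt i) (Rm.getD i 0) := by
  have h1 := List.all_eq_true.1 Rt_check i (List.mem_range.2 h)
  rw [← Nat.eq_of_beq_eq_true h1]
  exact codes_evW codes_LG _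

theorem Rm_eq : Rm = (List.range 19).map fun i => Rm.getD i 0 := by decide +kernel

theorem codes_RL : List.Forall₂ (Codes 78) RL (Rm ++ [mPhi]) := by
  rw [Rm_eq]
  apply List.rel_append
  · rw [List.forall₂_map_left_iff, List.forall₂_map_right_iff, List.forall₂_same]
    intro i hi
    exact codes_Rt i (List.mem_range.1 hi)
  · exact List.Forall₂.cons codes_Phi List.Forall₂.nil

theorem comm_check : eqs 78 (commL.map fun p => ([p.1, p.2], [p.2, p.1])) (Rm ++ [mPhi]) = true := by decide +kernel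
theorem line_check : eqs 78 (lineL.map fun p => ([p.1, p.2.1], [p.2.2])) (Rm ++ [mPhi]) = true := by decide +kernel
theorem spe_check : eqs 78 (speL.map fun p => ([p.1, p.2.1, p.1, p.2.1], [p.2.2])) (Rm ++ [mPhi]) = true := by
  decide +kernel
theorem m_check : eqs 78 (mL.map fun p => ([8, p.1, 8], [p.2])) (Rm ++ [mPhi]) = true := by decide +kernel
theorem s_check : eqs 78 (sL.map fun p => ([19, p.1, 19], [p.2])) (Rm ++ [mPhi]) = true := by decide +kernel
theorem ne_check : neqs 78 ((List.range 19).flatMap fun i => (List.range i).map fun j => ([i], [j]))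
    (Rm ++ [mPhi]) = true := by decide +kernel

theorem get_Rt {i : ℕ} (h : i < 19) : getG RL i = Rt i := by
  unfold getG RL
  rw [List.getD_eq_getElem?_getD, List.getElem?_append_left (by simpa using h), List.getElem?_map,
    List.getElem?_range h]
  rfl

theorem get_Phi : getG RL 19 = Phi := by
  unfold getG RL
  rw [List.getD_eq_getElem?_getD, List.getElem?_append_right (by simp)]
  rfl

theorem ev1 {i : ℕ} (h : i < 19) : evG RL [i] = Rt i := by
  rw [evG_cons, evG_nil, mul_one, get_Rt h]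

theorem ev2 {i j : ℕ} (h : i < 19) (h' : j < 19) : evG RL [i, j] = Rt i * Rt j := by
  rw [evG_cons, ev1 h', get_Rt h]

theorem ok_lists : (commL.all fun p => Nat.blt p.1 19 && Nat.blt p.2 19) = true ∧
    (lineL.all fun p => Nat.blt p.1 19 && (Nat.blt p.2.1 19 && Nat.blt p.2.2 19)) = true ∧
    (speL.all fun p => Nat.blt p.1 19 && (Nat.blt p.2.1 19 && Nat.blt p.2.2 19)) = true ∧
    (mL.all fun p => Nat.blt p.1 19 && Nat.blt p.2 19) = true ∧
    (sL.all fun p => Nat.blt p.1 19 && Nat.blt p.2 19) = true := by decide +kernel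

theorem R_comm {i j : ℕ} (h : (i, j) ∈ commL) : Rt i * Rt j = Rt j * Rt i := by
  have h1 := eqs_sound codes_RL comm_check _ (List.mem_map.2 ⟨_, h, rfl⟩)
  have h2 := List.all_eq_true.1 ok_lists.1 _ h
  rw [Bool.and_eq_true, Nat.blt_eq, Nat.blt_eq] at h2
  rwa [ev2 h2.1 h2.2, ev2 h2.2 h2.1] at h1

theorem R_line {i j k : ℕ} (h : (i, j, k) ∈ lineL) : Rt i * Rt j = Rt k := by
  have h1 := eqs_sound codes_RL line_check _ (List.mem_map.2 ⟨_, h, rfl⟩)
  have h2 := List.all_eq_true.1 ok_lists.2.1 _ h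
  rw [Bool.and_eq_true, Bool.and_eq_true, Nat.blt_eq, Nat.blt_eq, Nat.blt_eq] at h2
  rwa [ev2 h2.1 h2.2.1, ev1 h2.2.2] at h1

theorem R_spe {i j k : ℕ} (h : (i, j, k) ∈ speL) : (Rt i * Rt j) ^ 2 = Rt k := by
  have h1 := eqs_sound codes_RL spe_check _ (List.mem_map.2 ⟨_, h, rfl⟩)
  have h2 := List.all_eq_true.1 ok_lists.2.2.1 _ h
  rw [Bool.and_eq_true, Bool.and_eq_true, Nat.blt_eq, Nat.blt_eq, Nat.blt_eq] at h2
  simp only [evG_cons, evG_nil, mul_one, get_Rt h2.1, get_Rt h2.2.1, get_Rt h2.2.2] at h1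
  rw [pow_two, mul_assoc, h1]

theorem R_m {i j : ℕ} (h : (i, j) ∈ mL) : Rt 8 * Rt i * Rt 8 = Rt j := by
  have h1 := eqs_sound codes_RL m_check _ (List.mem_map.2 ⟨_, h, rfl⟩)
  have h2 := List.all_eq_true.1 ok_lists.2.2.2.1 _ h
  rw [Bool.and_eq_true, Nat.blt_eq, Nat.blt_eq] at h2
  simp only [evG_cons, evG_nil, mul_one, get_Rt h2.1, get_Rt h2.2, get_Rt (show 8 < 19 by norm_num)] at h1
  rw [mul_assoc, h1]

theorem R_s {i j : ℕ} (h : (i, j) ∈ sL) : Phi * Rt i * Phi = Rt j := by
  have h1 := eqs_sound codes_RL s_check _ (List.mem_map.2 ⟨_, h, rfl⟩)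
  have h2 := List.all_eq_true.1 ok_lists.2.2.2.2 _ h
  rw [Bool.and_eq_true, Nat.blt_eq, Nat.blt_eq] at h2
  simp only [evG_cons, evG_nil, mul_one, get_Rt h2.1, get_Rt h2.2, get_Phi] at h1
  rw [mul_assoc, h1]

theorem R_ne {i j : ℕ} (hi : i < 19) (hij : j < i) : Rt i ≠ Rt j := by
  have h1 := neqs_sound (by norm_num) codes_RL ne_check ([i], [j])
    (List.mem_flatMap.2 ⟨i, List.mem_range.2 hi, List.mem_map.2 ⟨j, List.mem_range.2 hij, rfl⟩⟩)
  rwa [ev1 hi, ev1 (hij.trans hi)] at h1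

end Cfsg.Agent.TwoESix.Frame
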