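/-
The configuration of `BabyU.FusCfg` in the 78-dimensional model of ²E₆(2), for the field automorphism.
-/
import Cfsg.Agent.TwoESix.Frame
import Cfsg.Agent.BabyU.FusCfg
set_option autoImplicit false

namespace Cfsg.Agent.TwoESix.FrameCfg

open Cfsg.Agent.TwoESix.Data Cfsg.Agent.TwoESix.Iso Cfsg.Agent.TwoESix.Gens
open Cfsg.Agent.TwoESix.RootsCfg Cfsg.Agent.TwoESix.Phi Cfsg.Agent.TwoESix.FrameData Cfsg.Agent.TwoESix.Frame
open Cfsg.Agent.BabyU.FusCfg

/-- root involutions as elements of the subgroup `Gam` -/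
def TS : Set ↥Gam := {x | (x : GL (Fin 78) (ZMod 2)) ∈ TG}

/-- the field automorphism as an automorphism of `Gam` -/
def sig : ↥Gam →* ↥Gam where
  toFun x := ⟨Phi * x * Phi, Phi_conj_mem x.2⟩
  map_one' := Subtype.ext (by show Phi * 1 * Phi = 1; rw [mul_one, Phi_sq])
  map_mul' x y := Subtype.ext (by
    show Phi * (x * y : GL (Fin 78) (ZMod 2)) * Phi = Phi * x * Phi * (Phi * y * Phi)
    calc Phi * (x * y : GL (Fin 78) (ZMod 2)) * Phi = Phi * x * 1 * y * Phi := by rw [mul_one]; group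
      _ = Phi * x * (Phi * Phi) * y * Phi := by rw [Phi_sq]
      _ = _ := by group)

theorem sig_sig (x : ↥Gam) : sig (sig x) = x := by
  apply Subtype.ext
  show Phi * (Phi * x * Phi) * Phi = x
  calc Phi * (Phi * (x : GL (Fin 78) (ZMod 2)) * Phi) * Phi = (Phi * Phi) * x * (Phi * Phi) := by group
    _ = x := by rw [Phi_sq, one_mul, mul_one]

theorem sig_TS {x : ↥Gam} (hx : x ∈ TS) : sig x ∈ TS := Phi_TG hx

/-- the root involutions in `Gam` -/
def S (i : ℕ) : ↥Gam := ⟨Rt i, TG_mem (Rt_mem i)⟩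

theorem S_mem (i : ℕ) : S i ∈ TS := Rt_mem i

theorem S_comm {i j : ℕ} (h : (i, j) ∈ commL) : S i * S j = S j * S i := Subtype.ext (R_comm h)
theorem S_line {i j k : ℕ} (h : (i, j, k) ∈ lineL) : S i * S j = S k := Subtype.ext (R_line h)
theorem S_spe {i j k : ℕ} (h : (i, j, k) ∈ speL) : (S i * S j) ^ 2 = S k := Subtype.ext (R_spe h)
theorem S_s {i j : ℕ} (h : (i, j) ∈ sL) : sig (S i) = S j := Subtype.ext (R_s h)

/-- conjugation inside the configuration from a special pair and a line: `x y x = (x y)² y` -/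
theorem S_conj {i j k l : ℕ} (h : (i, j, k) ∈ speL) (h' : (k, j, l) ∈ lineL) : S i * S j * S i = S l := by
  rw [← S_line h', ← S_spe h, pow_two]
  have h1 : (S j) * (S j) = 1 := Subtype.ext (TG_sq (Rt_mem j))
  calc S i * S j * S i = S i * S j * S i * (S j * S j) := by rw [h1, mul_one]
    _ = _ := by group

/-- the configuration -/
def cfg : Cfg ↥Gam TS sig where
  b3 := S 0
  b3s := S 1
  g := S 2
  b3g := S 3
  b3sg := S 4
  a := S 5
  as_ := S 6
  r := S 7
  b := S 9
  bs := S 10
  h14 := S 11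
  h34 := S 12
  k23 := S 13
  h24 := S 14
  c13 := S 15
  c23 := S 16
  b3k := S 17
  b3sk := S 18
  m_b3 := S_mem _
  m_b3s := S_mem _
  m_g := S_mem _
  m_b3g := S_mem _
  m_b3sg := S_mem _
  m_a := S_mem _
  m_as := S_mem _
  m_r := S_mem _
  m_b := S_mem _
  m_bs := S_mem _
  m_h14 := S_mem _
  m_h34 := S_mem _
  m_k23 := S_mem _
  m_h24 := S_mem _
  m_c13 := S_mem _
  m_c23 := S_mem _
  m_b3k := S_mem _
  m_b3sk := S_mem _
  σ_b3 := S_s (by decide)
  σ_b3s := S_s (by decide)
  σ_g := S_s (by decide)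
  σ_a := S_s (by decide)
  σ_as := S_s (by decide)
  σ_r := S_s (by decide)
  σ_b := S_s (by decide)
  σ_bs := S_s (by decide)
  σ_h14 := S_s (by decide)
  σ_h34 := S_s (by decide)
  g_b3 := S_conj (k := 5) (by decide) (by decide)
  g_b3s := S_conj (k := 6) (by decide) (by decide)
  k_b3 := S_conj (k := 10) (by decide) (by decide)
  k_b3s := S_conj (k := 9) (by decide) (by decide)
  l_a := S_line (by decide)
  l_as := S_line (by decide)
  l_bs := S_line (by decide)
  l_b := S_line (by decide)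
  s_b3g := S_spe (by decide)
  s_h14 := S_spe (by decide)
  s_b3k := S_spe (by decide)
  s_h24 := S_spe (by decide)
  s_ab := S_spe (by decide)
  s_b3s_a := S_spe (by decide)
  s_b3_as := S_spe (by decide)
  s_h24_a := S_spe (by decide)
  s_h24_as := S_spe (by decide)
  s_h34_a := S_spe (by decide)
  s_h34_as := S_spe (by decide)
  c_b3 := S_comm (by decide)
  c_a := S_comm (by decide)
  c_b_as := (S_comm (i := 6) (j := 9) (by decide)).symm
  c_r_a := (S_comm (i := 5) (j := 7) (by decide)).symm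
  c_r_as := (S_comm (i := 6) (j := 7) (by decide)).symm
  c_r_b3 := (S_comm (i := 0) (j := 7) (by decide)).symm
  c_r_b3s := (S_comm (i := 1) (j := 7) (by decide)).symm
  c_r_g := (S_comm (i := 2) (j := 7) (by decide)).symm
  c_r_h14 := S_comm (by decide)
  c_r_h34 := S_comm (by decide)
  c_c13_a := (S_comm (i := 5) (j := 15) (by decide)).symm
  c_c13_as := (S_comm (i := 6) (j := 15) (by decide)).symm
  c_c13_b3g := (S_comm (i := 3) (j := 15) (by decide)).symm
  c_c23_b := (S_comm (i := 9) (j := 16) (by decide)).symm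
  c_c23_bs := (S_comm (i := 10) (j := 16) (by decide)).symm
  c_c23_b3k := S_comm (by decide)
  c_k_a := (S_comm (i := 5) (j := 13) (by decide)).symm
  c_k_as := (S_comm (i := 6) (j := 13) (by decide)).symm
  c_b3_a := S_comm (by decide)
  c_b3s_as := S_comm (by decide)
  ne_a := fun h => R_ne (i := 6) (j := 5) (by norm_num) (by norm_num) (congrArg Subtype.val h).symm

end Cfsg.Agent.TwoESix.FrameCfg
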