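/-
The generators `U0 0, …, U0 23` of the unipotent group of `F₄(2)` and the configuration `FrameCfg.cfg`: the data `Gen` of
`BabyU.FusGen`.
-/
import Cfsg.Agent.TwoESix.FrameCfg
import Cfsg.Agent.TwoESix.FrameUData
import Cfsg.Agent.TwoESix.CentLin
import Cfsg.Agent.BabyU.FusGen
import Cfsg.Agent.Lib.F2Unitri
set_option autoImplicit false

namespace Cfsg.Agent.TwoESix.FrameU

open Cfsg.Agent.TwoESix.Data Cfsg.Agent.TwoESix.Iso Cfsg.Agent.TwoESix.Gens
open Cfsg.Agent.TwoESix.RootsCfg Cfsg.Agent.TwoESix.Phi Cfsg.Agent.TwoESix.FrameData Cfsg.Agent.TwoESix.Frame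
open Cfsg.Agent.TwoESix.FrameCfg Cfsg.Agent.TwoESix.FrameUData Cfsg.Agent.TwoESix.CentLin
open Cfsg.Agent.Lib Cfsg.Agent.Lib.F2MatGroup Cfsg.Agent.Lib.F2Unitri
open Cfsg.Agent.BabyU.FusCfg Cfsg.Agent.BabyU.FusGen

theorem tw_lets : (CentData.tw.all fun w => lets w) = true := by decide +kernel

theorem U0_mem (i : ℕ) : U0 i ∈ Gam := by
  apply evG_lets_mem
  rcases Nat.lt_or_ge i CentData.tw.length with h | h
  · rw [List.getD_eq_getElem _ _ h]
    exact List.all_eq_true.1 tw_lets _ (List.getElem_mem h)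
  · rw [List.getD_eq_default _ _ h]
    rfl

theorem lwd_lets : (lwd.all fun w => lets w) = true := by decide +kernel
theorem cwd_lets : (cwd.all fun w => lets w) = true := by decide +kernel

theorem lets_getD {L : List (List ℕ)} (h : (L.all fun w => lets w) = true) (i : ℕ) : lets (L.getD i []) = true := by
  rcases Nat.lt_or_ge i L.length with h1 | h1
  · rw [List.getD_eq_getElem _ _ h1]
    exact List.all_eq_true.1 h _ (List.getElem_mem h1)
  · rw [List.getD_eq_default _ _ h1]
    rfl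

theorem long_check : ((List.range 12).all fun i =>
    Nat.beq (evW 78 (Ts ++ Ms) (cw (lwd.getD i []))) (CentData.tm.getD i 0)) = true := by decide +kernel

/-- the long root elements are root involutions -/
theorem U0_TG {i : ℕ} (hi : i < 12) : U0 i ∈ TG := by
  have h1 := List.all_eq_true.1 long_check i (List.mem_range.2 hi)
  have h2 := (codes_evW codes_LG (cw (lwd.getD i []))).eq (codes_U0 (i := i) (by omega)) h1
  rw [← h2]
  exact cw_mem (lets_getD lwd_lets i)

/-- root involutions `c` with `c * c^Phi` a short root element -/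
def Cu (i : ℕ) : GL (Fin 78) (ZMod 2) := evG LG (cw (cwd.getD i []))

theorem Cu_TG (i : ℕ) : Cu i ∈ TG := cw_mem (lets_getD cwd_lets i)

theorem Cu_check : ((List.range 12).all fun i =>
    Nat.beq (evW 78 (Ts ++ Ms) (cw (cwd.getD i []))) (Cm.getD i 0)) = true := by decide +kernel

theorem codes_Cu {i : ℕ} (h : i < 12) : Codes 78 (Cu i) (Cm.getD i 0) := by
  have h1 := List.all_eq_true.1 Cu_check i (List.mem_range.2 h)
  rw [← Nat.eq_of_beq_eq_true h1]
  exact codes_evW codes_LG _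

/-- all elements -/
def RU : List (GL (Fin 78) (ZMod 2)) := (List.range 12).map Cu ++ ([Phi, Rt 5, Rt 6, Rt 7, Rt 15] ++ LU)

/-- their matrices -/
def RUm : List ℕ := Cm ++ ([mPhi, Rm.getD 5 0, Rm.getD 6 0, Rm.getD 7 0, Rm.getD 15 0] ++ CentData.tm)

theorem Cm_eq : Cm = (List.range 12).map fun i => Cm.getD i 0 := by decide +kernel

theorem codes_RU : List.Forall₂ (Codes 78) RU RUm := by
  unfold RU RUm
  rw [Cm_eq]
  apply List.rel_append
  · rw [List.forall₂_map_left_iff, List.forall₂_map_right_iff, List.forall₂_same]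
    intro i hi
    exact codes_Cu (List.mem_range.1 hi)
  · apply List.rel_append
    · exact .cons codes_Phi (.cons (codes_Rt 5 (by norm_num)) (.cons (codes_Rt 6 (by norm_num))
        (.cons (codes_Rt 7 (by norm_num)) (.cons (codes_Rt 15 (by norm_num)) .nil))))
    · exact codes_LU

theorem get_Cu {i : ℕ} (h : i < 12) : getG RU i = Cu i := by
  unfold getG RU
  rw [List.getD_eq_getElem?_getD, List.getElem?_append_left (by simpa using h), List.getElem?_map,
    List.getElem?_range h]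
  rfl

theorem get_rest (j : ℕ) : getG RU (12 + j) = getG ([Phi, Rt 5, Rt 6, Rt 7, Rt 15] ++ LU) j := by
  unfold getG RU
  rw [List.getD_eq_getElem?_getD, List.getElem?_append_right (by simp), List.getD_eq_getElem?_getD]
  simp

theorem get_U0 {i : ℕ} (h : i < 25) : getG RU (17 + i) = U0 i := by
  have e : 17 + i = 12 + (5 + i) := by omega
  rw [e, get_rest, ← getG_LU h]
  unfold getG
  rw [List.getD_eq_getElem?_getD, List.getElem?_append_right (by simp), List.getD_eq_getElem?_getD]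
  simp

/-- the words for the conjugate of `a` -/
def rhoW (i : ℕ) : List ℕ := [[13], [14], [13, 15], [13, 16]].getD (rho.getD i 0) []

theorem r_check : eqs 78 ((List.range 24).map fun i => ([17 + i, 15], [15, 17 + i])) RUm = true := by decide +kernel
theorem s_check' : eqs 78 ((List.range 12).map fun i => ([17 + i, 13, 14], [13, 14, 17 + i])) RUm = true := by
  decide +kernel
theorem c_check : eqs 78 ((List.range 12).map fun i => ([i, 12, i, 12], [29 + i])) RUm = true := by decide +kernel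
theorem c_check' : eqs 78 ((List.range 12).map fun i => ([12, i, 12, i], [29 + i])) RUm = true := by decide +kernel
theorem a_check : eqs 78 ((List.range 12).map fun i => ([29 + i, 13], rhoW i ++ [29 + i])) RUm = true := by
  decide +kernel

theorem get12 : getG RU 12 = Phi := rfl
theorem get13 : getG RU 13 = Rt 5 := rfl
theorem get14 : getG RU 14 = Rt 6 := rfl
theorem get15 : getG RU 15 = Rt 7 := rfl
theorem get16 : getG RU 16 = Rt 15 := rfl

theorem U0_r {i : ℕ} (h : i < 24) : U0 i * Rt 7 = Rt 7 * U0 i := by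
  have h1 := eqs_sound codes_RU r_check _ (List.mem_map.2 ⟨i, List.mem_range.2 h, rfl⟩)
  simp only [evG_cons, evG_nil, mul_one, get15, get_U0 (show i < 25 by omega)] at h1
  exact h1

theorem U0_s {i : ℕ} (h : i < 12) : U0 i * (Rt 5 * Rt 6) = (Rt 5 * Rt 6) * U0 i := by
  have h1 := eqs_sound codes_RU s_check' _ (List.mem_map.2 ⟨i, List.mem_range.2 h, rfl⟩)
  simp only [evG_cons, evG_nil, mul_one, get13, get14, get_U0 (show i < 25 by omega)] at h1
  rw [h1, mul_assoc]

theorem Cu_eq {i : ℕ} (h : i < 12) : Cu i * (Phi * Cu i * Phi) = U0 (12 + i) := by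
  have h1 := eqs_sound codes_RU c_check _ (List.mem_map.2 ⟨i, List.mem_range.2 h, rfl⟩)
  have e : 29 + i = 17 + (12 + i) := by omega
  simp only [evG_cons, evG_nil, mul_one, get12, get_Cu h, e, get_U0 (show 12 + i < 25 by omega)] at h1
  rw [← h1]
  simp only [mul_assoc]

theorem Cu_eq' {i : ℕ} (h : i < 12) : (Phi * Cu i * Phi) * Cu i = U0 (12 + i) := by
  have h1 := eqs_sound codes_RU c_check' _ (List.mem_map.2 ⟨i, List.mem_range.2 h, rfl⟩)
  have e : 29 + i = 17 + (12 + i) := by omega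
  simp only [evG_cons, evG_nil, mul_one, get12, get_Cu h, e, get_U0 (show 12 + i < 25 by omega)] at h1
  rw [← h1]
  simp only [mul_assoc]

theorem rhoW_cases {i : ℕ} (h : i < 12) : rhoW i = [13] ∨ rhoW i = [14] ∨ rhoW i = [13, 15] ∨ rhoW i = [13, 16] := by
  have h1 : ∀ i < 12, rhoW i = [13] ∨ rhoW i = [14] ∨ rhoW i = [13, 15] ∨ rhoW i = [13, 16] := by decide
  exact h1 i h

theorem U0_a {i : ℕ} (h : i < 12) : U0 (12 + i) * Rt 5 = Rt 5 * U0 (12 + i) ∨
    U0 (12 + i) * Rt 5 = Rt 6 * U0 (12 + i) ∨ U0 (12 + i) * Rt 5 = (Rt 5 * Rt 7) * U0 (12 + i) ∨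
    U0 (12 + i) * Rt 5 = (Rt 5 * Rt 15) * U0 (12 + i) := by
  have h1 := eqs_sound codes_RU a_check _ (List.mem_map.2 ⟨i, List.mem_range.2 h, rfl⟩)
  have e : 29 + i = 17 + (12 + i) := by omega
  rcases rhoW_cases h with h2 | h2 | h2 | h2 <;> rw [h2, e] at h1 <;>
    simp only [List.cons_append, List.nil_append, evG_cons, evG_nil, mul_one, get13, get14, get15, get16,
      get_U0 (show 12 + i < 25 by omega)] at h1
  · exact Or.inl h1
  · exact Or.inr (Or.inl h1)
  · exact Or.inr (Or.inr (Or.inl (by rw [h1, mul_assoc])))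
  · exact Or.inr (Or.inr (Or.inr (by rw [h1, mul_assoc])))

theorem uni_check : ((List.range 24).all fun i => uniOk 78 wt (CentData.tm.getD i 0)) = true := by decide +kernel

theorem U0_uni {i : ℕ} (h : i < 24) : U0 i ∈ Uni (fun i : Fin 78 => wt.getD i 0) :=
  uniOk_sound (codes_U0 (by omega)) (List.all_eq_true.1 uni_check i (List.mem_range.2 h))

/-- as elements of `Gam` -/
def Ux (i : ℕ) : ↥Gam := ⟨U0 i, U0_mem i⟩

/-- as elements of `Gam` -/
def Cx (i : ℕ) : ↥Gam := ⟨Cu i, TG_mem (Cu_TG i)⟩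

/-- the long root elements -/
def Lset : Set ↥Gam := {x | ∃ i < 12, x = Ux i}

/-- the roots `c` -/
def Sset : Set ↥Gam := {x | ∃ i < 12, x = Cx i}

theorem Cx_sig {i : ℕ} (h : i < 12) : Cx i * sig (Cx i) = Ux (12 + i) := Subtype.ext (Cu_eq h)
theorem Cx_sig' {i : ℕ} (h : i < 12) : sig (Cx i) * Cx i = Ux (12 + i) := Subtype.ext (Cu_eq' h)

theorem gen : Gen cfg Lset Sset where
  l_mem := by rintro _ ⟨i, hi, rfl⟩; exact U0_TG hi
  l_σ := by
    rintro _ ⟨i, hi, rfl⟩
    apply Subtype.ext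
    show Phi * U0 i * Phi = U0 i
    rw [Phi_U0 (by omega), mul_assoc, Phi_sq, mul_one]
  l_r := by rintro _ ⟨i, hi, rfl⟩; exact Subtype.ext (U0_r (by omega))
  l_s := by rintro _ ⟨i, hi, rfl⟩; exact Subtype.ext (U0_s hi)
  s_mem := by rintro _ ⟨i, hi, rfl⟩; exact Cu_TG i
  s_σσ := by rintro _ ⟨i, hi, rfl⟩; exact sig_sig _
  s_comm := by rintro _ ⟨i, hi, rfl⟩; rw [Cx_sig hi, Cx_sig' hi]
  s_r := by
    rintro _ ⟨i, hi, rfl⟩
    rw [Cx_sig hi]
    exact Subtype.ext (U0_r (by omega))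
  s_a := by
    rintro _ ⟨i, hi, rfl⟩
    rw [Cx_sig hi]
    rcases U0_a hi with h | h | h | h
    · exact Or.inl (Subtype.ext h)
    · exact Or.inr (Or.inl (Subtype.ext h))
    · exact Or.inr (Or.inr ⟨S 7, S_mem 7, S_s (by decide), Subtype.ext h⟩)
    · exact Or.inr (Or.inr ⟨S 15, S_mem 15, S_s (by decide), Subtype.ext h⟩)
  two := by
    refine IsPGroup.to_le ((isPGroup_Uni (fun i : Fin 78 => wt.getD i 0)).comap_of_injective Gam.subtype
      Gam.subtype_injective) ?_
    rw [Subgroup.closure_le]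
    rintro _ (⟨i, hi, rfl⟩ | ⟨_, ⟨i, hi, rfl⟩, rfl⟩)
    · exact U0_uni (by omega)
    · show Cx i * sig (Cx i) ∈ _
      rw [Cx_sig hi]
      exact U0_uni (by omega)

/-- the centraliser condition follows from the centraliser of the 24 elements -/
theorem cent_of (h : ∀ g ∈ Gam, (∀ i < 24, g * U0 i = U0 i * g) →
      g = 1 ∨ g = Rt 7 ∨ g = Rt 5 * Rt 6 ∨ g = Rt 7 * (Rt 5 * Rt 6)) : Cent cfg Lset Sset := by
  rintro ⟨x, hx⟩ h1 h2
  have h3 := h x hx (fun i hi => by
    rcases Nat.lt_or_ge i 12 with h4 | h4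
    · exact (congrArg Subtype.val (h1 (Ux i) ⟨i, h4, rfl⟩)).symm
    · obtain ⟨j, rfl⟩ := Nat.exists_eq_add_of_le h4
      have h5 := h2 (Cx j) ⟨j, by omega, rfl⟩
      rw [Cx_sig (by omega)] at h5
      exact (congrArg Subtype.val h5).symm)
  rcases h3 with h3 | h3 | h3 | h3
  · exact Or.inl (Subtype.ext h3)
  · exact Or.inr (Or.inl (Subtype.ext h3))
  · exact Or.inr (Or.inr (Or.inl (Subtype.ext h3)))
  · exact Or.inr (Or.inr (Or.inr (Subtype.ext h3)))

end Cfsg.Agent.TwoESix.FrameU
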