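/-
The centraliser condition `Cent` of `BabyU.FusGen` for the configuration `FrameCfg.cfg`, when the field automorphism is
not an inner automorphism of the group.
-/
import Cfsg.Agent.TwoESix.FrameU
import Cfsg.Agent.TwoESix.Cent
set_option autoImplicit false

namespace Cfsg.Agent.TwoESix.FrameCent

open Cfsg.Agent.TwoESix.Data Cfsg.Agent.TwoESix.Iso Cfsg.Agent.TwoESix.Gens
open Cfsg.Agent.TwoESix.RootsCfg Cfsg.Agent.TwoESix.Phi Cfsg.Agent.TwoESix.FrameData Cfsg.Agent.TwoESix.Frame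
open Cfsg.Agent.TwoESix.FrameCfg Cfsg.Agent.TwoESix.FrameU Cfsg.Agent.TwoESix.CentLin
open Cfsg.Agent.Lib Cfsg.Agent.Lib.F2MatGroup
open Cfsg.Agent.BabyU.FusCfg Cfsg.Agent.BabyU.FusGen

theorem rr_check : Nat.beq (CentData.tm.getD 11 0) (Rm.getD 7 0) = true := by decide +kernel

theorem rr_eq : U0 11 = Rt 7 := (codes_U0 (by norm_num)).eq (codes_Rt 7 (by norm_num)) rr_check

theorem ss_check : Nat.beq (CentData.tm.getD 23 0) (F2Mat.mul 78 (Rm.getD 5 0) (Rm.getD 6 0)) = true := by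
  decide +kernel

theorem ss_eq : U0 23 = Rt 5 * Rt 6 :=
  (codes_U0 (by norm_num)).eq ((codes_Rt 5 (by norm_num)).mul (codes_Rt 6 (by norm_num))) ss_check

/-- the centraliser of the 24 elements, if the field automorphism is not in `Gam` -/
theorem cent_Gam (hPhi : Phi ∉ Gam) {g : GL (Fin 78) (ZMod 2)} (hg : g ∈ Gam) (hc : ∀ i < 24, g * U0 i = U0 i * g) :
    g = 1 ∨ g = Rt 7 ∨ g = Rt 5 * Rt 6 ∨ g = Rt 7 * (Rt 5 * Rt 6) := by
  obtain ⟨a, ha, h⟩ := Cent.centr_Gam (Or.inl hg) hc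
  have h7 : Rt 7 ∈ Gam := TG_mem (Rt_mem 7)
  have h56 : Rt 5 * Rt 6 ∈ Gam := Gam.mul_mem (TG_mem (Rt_mem 5)) (TG_mem (Rt_mem 6))
  have ha' : a = 1 ∨ a = Rt 7 ∨ a = Rt 5 * Rt 6 ∨ a = Rt 7 * (Rt 5 * Rt 6) := by
    rw [← rr_eq, ← ss_eq]
    exact ha
  rcases h with h | h
  · rw [h]; exact ha'
  · exfalso
    apply hPhi
    have haG : a ∈ Gam := by
      rcases ha' with h1 | h1 | h1 | h1
      · rw [h1]; exact Gam.one_mem
      · rw [h1]; exact h7
      · rw [h1]; exact h56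
      · rw [h1]; exact Gam.mul_mem h7 h56
    have h2 : Phi = a⁻¹ * g := by rw [h]; group
    rw [h2]
    exact Gam.mul_mem (Gam.inv_mem haG) hg

/-- the field automorphism is not in `Gam` if it is not inner -/
theorem Phi_notMem (h : ∀ y : ↥Gam, ∃ x : ↥Gam, sig x ≠ y * x * y⁻¹) : Phi ∉ Gam := by
  intro hP
  obtain ⟨x, hx⟩ := h ⟨Phi, hP⟩
  apply hx
  apply Subtype.ext
  show Phi * (x : GL (Fin 78) (ZMod 2)) * Phi = Phi * x * Phi⁻¹
  rw [Phi_inv]

theorem cent (hPhi : Phi ∉ Gam) : Cent cfg Lset Sset := cent_of fun _ hg hc => cent_Gam hPhi hg hc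

end Cfsg.Agent.TwoESix.FrameCent
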