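import Cfsg.Agent.TwoESix.Cox10
import Cfsg.Agent.R01.Lifts

/-!
# Lifting the ten nodes of `Y₃₃₃` through a central extension by a group of order two

`π : M →* E` has kernel `{1, z}`, `z` central of order two; `e : Fin 10 → E` satisfies the Coxeter relations of
`Y₃₃₃`, the spider relation and all six `E₇` relations (`Good e`).  Then there are lifts `m` of `e` satisfying the
Coxeter relations and the spider relation exactly (`exists_cox`), and if no lift of `e` is `Good` then, after
permuting the arms, the ninth powers of the `E₇` words with long arm `t4 t3 t2` are `z`, the other ones are `1`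
(`exists_zrels`).
-/

set_option autoImplicit false

namespace Cfsg.Agent.TwoESix.Lift

open Cfsg.Agent.TwoESix.Cox10 Cfsg.Agent.R01.Lifts

/-- The relations of `Y₃₃₃` modulo the spider relation and all `E₇` relations. -/
structure Good {G : Type*} [Group G] (s : Fin 10 → G) : Prop where
  lift : M10.IsLiftable s
  spider : ev s spider ^ 10 = 1
  e321 : ev s W321 ^ 9 = 1
  e231 : ev s W231 ^ 9 = 1
  e213 : ev s W213 ^ 9 = 1

/-- The relations of the double cover. -/
structure ZRels {G : Type*} [Group G] (s : Fin 10 → G) (z : G) : Prop where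
  lift : M10.IsLiftable s
  spider : ev s spider ^ 10 = 1
  e321 : ev s W321 ^ 9 = z
  e231 : ev s W231 ^ 9 = 1
  e213 : ev s W213 ^ 9 = 1

theorem ZRels.good {G : Type*} [Group G] {s : Fin 10 → G} (h : ZRels s 1) : Good s :=
  ⟨h.lift, h.spider, h.e321, h.e231, h.e213⟩

theorem Good.zrels {G : Type*} [Group G] {s : Fin 10 → G} (h : Good s) : ZRels s 1 :=
  ⟨h.lift, h.spider, h.e321, h.e231, h.e213⟩

/-! ### Braid and commutation relations in a group with Coxeter relations -/

theorem lab_adj : ∀ i j : Fin 10, adj i j = true → lab i j = 3 := by decide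
theorem adj_symm : ∀ i j : Fin 10, adj i j = true → adj j i = true := by decide
theorem adj_of_lab : ∀ i j : Fin 10, lab i j = 3 → adj i j = true := by decide

section Cox

variable {G : Type*} [Group G] {s : Fin 10 → G}

theorem braid (hs : M10.IsLiftable s) {i j : Fin 10} (h : adj i j = true) :
    s i * s j * s i = s j * s i * s j := by
  have h1 : (s i * s j) ^ 3 = 1 := by
    have := hs i j
    rwa [M10_apply, lab_adj i j h] at this
  have ei : (s i)⁻¹ = s i := inv_eq_of_mul_eq_one_left (sq hs i)
  have ej : (s j)⁻¹ = s j := inv_eq_of_mul_eq_one_left (sq hs j)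
  have h2 : (s i * s j * s i) * (s j * s i * s j) = 1 := by
    rw [← h1]; simp only [pow_succ, pow_zero, one_mul, mul_assoc]
  rw [eq_inv_of_mul_eq_one_left h2]
  simp only [mul_inv_rev, ei, ej, mul_assoc]

theorem comm_of (hs : M10.IsLiftable s) {i j : Fin 10} (h : lab i j = 2) : Commute (s i) (s j) := by
  have h1 : (s i * s j) ^ 2 = 1 := by
    have := hs i j
    rwa [M10_apply, h] at this
  have ei : (s i)⁻¹ = s i := inv_eq_of_mul_eq_one_left (sq hs i)
  have ej : (s j)⁻¹ = s j := inv_eq_of_mul_eq_one_left (sq hs j)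
  have h2 : (s i * s j) * (s i * s j) = 1 := by rw [← h1, pow_two]
  show s i * s j = s j * s i
  rw [eq_inv_of_mul_eq_one_left h2, mul_inv_rev, ei, ej]

end Cox

/-! ### A combinatorial closure -/

/-- A symmetric relation on the nodes which is stable under moving one of two non adjacent nodes along an edge, and
which holds for the pair `(0, 6)`, holds for all non adjacent pairs. -/
theorem all_pairs (P : Fin 10 → Fin 10 → Prop) (hs : ∀ i j, P i j → P j i)
    (hm : ∀ k i j, adj i j = true → lab k i = 2 → lab k j = 2 → P k i → P k j) (h06 : P 0 6) :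
    ∀ i j, lab i j = 2 → P i j := by
  have mv : ∀ (k i : Fin 10) (j : Fin 10), (adj i j && lab k i == 2 && lab k j == 2) = true → P k i → P k j := by
    intro k i j h
    simp only [Bool.and_eq_true, beq_iff_eq] at h
    exact hm k i j h.1.1 h.1.2 h.2
  have p05 := mv 0 6 5 (by decide) h06
  have p04 := mv 0 5 4 (by decide) p05
  have p03 := mv 0 4 3 (by decide) p04
  have p02 := mv 0 3 2 (by decide) p03
  have p07 := mv 0 3 7 (by decide) p03
  have p08 := mv 0 7 8 (by decide) p07
  have p09 := mv 0 8 9 (by decide) p08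
  have p60 := hs _ _ h06
  have p61 := mv 6 0 1 (by decide) p60
  have p62 := mv 6 1 2 (by decide) p61
  have p63 := mv 6 2 3 (by decide) p62
  have p64 := mv 6 3 4 (by decide) p63
  have p67 := mv 6 3 7 (by decide) p63
  have p68 := mv 6 7 8 (by decide) p67
  have p69 := mv 6 8 9 (by decide) p68
  have p90 := hs _ _ p09
  have p91 := mv 9 0 1 (by decide) p90
  have p92 := mv 9 1 2 (by decide) p91
  have p93 := mv 9 2 3 (by decide) p92
  have p94 := mv 9 3 4 (by decide) p93
  have p95 := mv 9 4 5 (by decide) p94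
  have p96 := mv 9 5 6 (by decide) p95
  have p97 := mv 9 3 7 (by decide) p93
  -- node 1
  have p16 := hs _ _ p61
  have p15 := mv 1 6 5 (by decide) p16
  have p14 := mv 1 5 4 (by decide) p15
  have p13 := mv 1 4 3 (by decide) p14
  have p17 := mv 1 3 7 (by decide) p13
  have p18 := mv 1 7 8 (by decide) p17
  have p19 := mv 1 8 9 (by decide) p18
  -- node 2
  have p20 := hs _ _ p02
  have p26 := hs _ _ p62
  have p25 := mv 2 6 5 (by decide) p26
  have p24 := mv 2 5 4 (by decide) p25
  have p29 := hs _ _ p92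
  have p28 := mv 2 9 8 (by decide) p29
  have p27 := mv 2 8 7 (by decide) p28
  -- node 3
  have p30 := hs _ _ p03
  have p31 := mv 3 0 1 (by decide) p30
  have p36 := hs _ _ p63
  have p35 := mv 3 6 5 (by decide) p36
  have p39 := hs _ _ p93
  have p38 := mv 3 9 8 (by decide) p39
  -- node 4
  have p40 := hs _ _ p04
  have p41 := mv 4 0 1 (by decide) p40
  have p42 := mv 4 1 2 (by decide) p41
  have p46 := hs _ _ p64
  have p49 := hs _ _ p94
  have p48 := mv 4 9 8 (by decide) p49
  have p47 := mv 4 8 7 (by decide) p48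
  -- node 5
  have p50 := hs _ _ p05
  have p51 := mv 5 0 1 (by decide) p50
  have p52 := mv 5 1 2 (by decide) p51
  have p53 := mv 5 2 3 (by decide) p52
  have p57 := mv 5 3 7 (by decide) p53
  have p58 := mv 5 7 8 (by decide) p57
  have p59 := mv 5 8 9 (by decide) p58
  -- node 7
  have p70 := hs _ _ p07
  have p71 := mv 7 0 1 (by decide) p70
  have p72 := mv 7 1 2 (by decide) p71
  have p74 := hs _ _ p47
  have p75 := mv 7 4 5 (by decide) p74
  have p76 := mv 7 5 6 (by decide) p75
  have p79 := hs _ _ p97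
  -- node 8
  have p80 := hs _ _ p08
  have p81 := mv 8 0 1 (by decide) p80
  have p82 := mv 8 1 2 (by decide) p81
  have p83 := mv 8 2 3 (by decide) p82
  have p84 := mv 8 3 4 (by decide) p83
  have p85 := mv 8 4 5 (by decide) p84
  have p86 := mv 8 5 6 (by decide) p85
  intro i j h
  fin_cases i <;> fin_cases j <;> first
    | assumption
    | exact absurd h (by decide)

/-! ### Central extensions -/

section Ext

variable {M E : Type*} [Group M] [Group E] {π : M →* E} {z : M}

theorem conj_eq (h : Ext π z) {g a b : M} (hc : Commute (π g) (π a)) (hb : Commute b a) :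
    Commute b (g * a * g⁻¹) := by
  rcases h.conj_of_commute hc with h1 | h1
  · rw [h1]; exact hb
  · rw [h1]; exact hb.mul_right (h.comm b)

/-- A lift of a neighbour satisfying the braid relation exactly. -/
theorem exists_braid (h : Ext π z) {x y : E} (hxy : x * y * x = y * x * y) (a : M) (ha : π a = x) :
    ∃ b, π b = y ∧ a * b * a = b * a * b := by
  obtain ⟨b, hb⟩ := h.surj y
  have h1 : π (a * b * a) = π (b * a * b) := by
    simp only [map_mul, ha, hb, hxy]
  rcases h.map_eq.1 h1 with h2 | h2
  · exact ⟨b, hb, h2⟩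
  · refine ⟨b * z, by rw [map_mul, hb, h.mapz, mul_one], ?_⟩
    have e1 : a * (b * z) * a = a * b * a * z := by
      calc a * (b * z) * a = a * b * (z * a) := by group
        _ = a * b * (a * z) := by rw [h.comm a]
        _ = a * b * a * z := by group
    have e2 : b * z * a * (b * z) = b * a * b := by
      calc b * z * a * (b * z) = b * (z * (a * b)) * z := by group
        _ = b * ((a * b) * z) * z := by rw [h.comm (a * b)]
        _ = b * (a * b) * z * z := by group
        _ = b * a * b := by rw [h.mul_z_mul_z]; group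
    rw [e1, e2, h2, h.mul_z_mul_z]

theorem exists_braids (h : Ext π z) {e : Fin 10 → E} (he : M10.IsLiftable e) :
    ∃ m : Fin 10 → M, (∀ i, π (m i) = e i) ∧ ∀ i j, adj i j = true → m i * m j * m i = m j * m i * m j := by
  obtain ⟨m3, h3⟩ := h.surj (e 3)
  obtain ⟨m2, h2, b2⟩ := exists_braid h (braid he (i := 3) (j := 2) (by decide)) m3 h3
  obtain ⟨m1, h1, b1⟩ := exists_braid h (braid he (i := 2) (j := 1) (by decide)) m2 h2
  obtain ⟨m0, h0, b0⟩ := exists_braid h (braid he (i := 1) (j := 0) (by decide)) m1 h1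
  obtain ⟨m4, h4, b4⟩ := exists_braid h (braid he (i := 3) (j := 4) (by decide)) m3 h3
  obtain ⟨m5, h5, b5⟩ := exists_braid h (braid he (i := 4) (j := 5) (by decide)) m4 h4
  obtain ⟨m6, h6, b6⟩ := exists_braid h (braid he (i := 5) (j := 6) (by decide)) m5 h5
  obtain ⟨m7, h7, b7⟩ := exists_braid h (braid he (i := 3) (j := 7) (by decide)) m3 h3
  obtain ⟨m8, h8, b8⟩ := exists_braid h (braid he (i := 7) (j := 8) (by decide)) m7 h7
  obtain ⟨m9, h9, b9⟩ := exists_braid h (braid he (i := 8) (j := 9) (by decide)) m8 h8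
  refine ⟨![m0, m1, m2, m3, m4, m5, m6, m7, m8, m9], ?_, ?_⟩
  · intro i
    fin_cases i
    · exact h0
    · exact h1
    · exact h2
    · exact h3
    · exact h4
    · exact h5
    · exact h6
    · exact h7
    · exact h8
    · exact h9
  · have key : ∀ i j : Fin 10, adj i j = true → (i, j) ∈ ([(0, 1), (1, 0), (1, 2), (2, 1), (2, 3), (3, 2), (3, 4),
        (4, 3), (4, 5), (5, 4), (5, 6), (6, 5), (3, 7), (7, 3), (7, 8), (8, 7), (8, 9), (9, 8)] :
        List (Fin 10 × Fin 10)) := by decide
    intro i j hij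
    have := key i j hij
    simp only [List.mem_cons, Prod.mk.injEq, List.not_mem_nil, or_false] at this
    rcases this with ⟨rfl, rfl⟩ | ⟨rfl, rfl⟩ | ⟨rfl, rfl⟩ | ⟨rfl, rfl⟩ | ⟨rfl, rfl⟩ | ⟨rfl, rfl⟩ | ⟨rfl, rfl⟩ |
      ⟨rfl, rfl⟩ | ⟨rfl, rfl⟩ | ⟨rfl, rfl⟩ | ⟨rfl, rfl⟩ | ⟨rfl, rfl⟩ | ⟨rfl, rfl⟩ | ⟨rfl, rfl⟩ | ⟨rfl, rfl⟩ |
      ⟨rfl, rfl⟩ | ⟨rfl, rfl⟩ | ⟨rfl, rfl⟩
    · exact b0.symm
    · exact b0
    · exact b1.symm
    · exact b1
    · exact b2.symm
    · exact b2
    · exact b4
    · exact b4.symm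
    · exact b5
    · exact b5.symm
    · exact b6
    · exact b6.symm
    · exact b7
    · exact b7.symm
    · exact b8
    · exact b8.symm
    · exact b9
    · exact b9.symm

theorem conj_braid {a b : M} (h : a * b * a = b * a * b) : (a * b) * a * (a * b)⁻¹ = b := by
  rw [h]; group

/-- Moving a commuting pair along an edge. -/
theorem comm_move (h : Ext π z) {e : Fin 10 → E} (he : M10.IsLiftable e) {m : Fin 10 → M}
    (hm : ∀ i, π (m i) = e i) (hb : ∀ i j, adj i j = true → m i * m j * m i = m j * m i * m j)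
    (k i j : Fin 10) (hij : adj i j = true) (hki : lab k i = 2) (hkj : lab k j = 2)
    (hc : Commute (m k) (m i)) : Commute (m k) (m j) := by
  have h1 := conj_braid (hb i j hij)
  have h2 : Commute (m i * m j * m k * (m i * m j)⁻¹) (m i * m j * m i * (m i * m j)⁻¹) := by
    show _ * _ = _ * _
    have := hc.eq
    calc m i * m j * m k * (m i * m j)⁻¹ * (m i * m j * m i * (m i * m j)⁻¹)
        = m i * m j * (m k * m i) * (m i * m j)⁻¹ := by group
      _ = m i * m j * (m i * m k) * (m i * m j)⁻¹ := by rw [this]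
      _ = _ := by group
  rw [h1] at h2
  have hk : Commute (π (m i * m j)) (π (m k)) := by
    rw [map_mul, hm, hm, hm]
    exact ((comm_of he hki).symm.mul_left (comm_of he hkj).symm)
  rcases h.conj_of_commute hk with h3 | h3
  · rw [h3] at h2; exact h2
  · rw [h3] at h2
    show m k * m j = m j * m k
    have h4 : m k * z * m j = m j * (m k * z) := h2.eq
    have h5 : m k * m j * z = m j * m k * z := by
      calc m k * m j * z = m k * (m j * z) := by group
        _ = m k * (z * m j) := by rw [h.comm (m j)]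
        _ = m k * z * m j := by group
        _ = _ := by rw [h4]; group
    exact mul_right_cancel h5

theorem z_pow_63 (h : Ext π z) : z ^ 63 = z := pow_odd_of_sq h.zz (by decide)

/-- The lifts commute. -/
theorem comm_lift (h : Ext π z) {e : Fin 10 → E} (he : M10.IsLiftable e) (h132 : ev e W132 ^ 9 = 1)
    {m : Fin 10 → M} (hm : ∀ i, π (m i) = e i)
    (hb : ∀ i j, adj i j = true → m i * m j * m i = m j * m i * m j) :
    ∀ i j, lab i j = 2 → Commute (m i) (m j) := by
  have mv := comm_move h he hm hb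
  refine all_pairs (fun i j => Commute (m i) (m j)) (fun i j hc => hc.symm) mv ?_
  by_contra h06
  -- then `m 0` commutes with none of the other ones
  have hn : ∀ j : Fin 10, lab 0 j = 2 → ¬ Commute (m 0) (m j) := by
    have n5 : ¬ Commute (m 0) (m 5) := fun hc => h06 (mv 0 5 6 (by decide) (by decide) (by decide) hc)
    have n4 : ¬ Commute (m 0) (m 4) := fun hc => n5 (mv 0 4 5 (by decide) (by decide) (by decide) hc)
    have n3 : ¬ Commute (m 0) (m 3) := fun hc => n4 (mv 0 3 4 (by decide) (by decide) (by decide) hc)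
    have n2 : ¬ Commute (m 0) (m 2) := fun hc => n3 (mv 0 2 3 (by decide) (by decide) (by decide) hc)
    have n7 : ¬ Commute (m 0) (m 7) := fun hc => n3 (mv 0 7 3 (by decide) (by decide) (by decide) hc)
    have n8 : ¬ Commute (m 0) (m 8) := fun hc => n7 (mv 0 8 7 (by decide) (by decide) (by decide) hc)
    have n9 : ¬ Commute (m 0) (m 9) := fun hc => n8 (mv 0 9 8 (by decide) (by decide) (by decide) hc)
    intro j hj
    fin_cases j <;> first
      | assumption
      | exact absurd hj (by decide)
  have hconj : ∀ j : Fin 10, lab 0 j = 2 → m 0 * m j * (m 0)⁻¹ = m j * z := by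
    intro j hj
    have hc : Commute (π (m 0)) (π (m j)) := by rw [hm, hm]; exact comm_of he hj
    rcases h.conj_of_commute hc with h1 | h1
    · exfalso
      apply hn j hj
      show m 0 * m j = m j * m 0
      calc m 0 * m j = (m 0 * m j * (m 0)⁻¹) * m 0 := by group
        _ = m j * m 0 := by rw [h1]
    · exact h1
  have hlist : ∀ w : List (Fin 10), (∀ j ∈ w, lab 0 j = 2) → ∀ x ∈ w.map m, m 0 * x * (m 0)⁻¹ = x * z := by
    intro w hw x hx
    obtain ⟨j, hj, rfl⟩ := List.mem_map.1 hx
    exact hconj j (hw j hj)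
  have h1 := conj_prod h.comm ((rep 9 W132).map m) (hlist (rep 9 W132) (by decide))
  have hlen : ((rep 9 W132).map m).length = 63 := by rw [List.length_map]; decide
  rw [hlen, z_pow_63 h] at h1
  have h2 : π ((rep 9 W132).map m).prod = 1 := by
    show π (ev m (rep 9 W132)) = 1
    rw [ev_map, ← h132, ← ev_rep]
    congr 1
    funext i; exact hm i
  rcases (h.ker _).1 h2 with h3 | h3
  · rw [h3, one_mul, mul_one, mul_inv_cancel] at h1
    exact h.zne h1.symm
  · rw [h3, h.comm, mul_assoc, mul_inv_cancel, mul_one] at h1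
    have : z * z = z * 1 := by rw [← h1]; rw [mul_one]
    exact h.zne (mul_left_cancel this)

theorem all_nodes (P : Fin 10 → Prop) (hm : ∀ i j, adj i j = true → P i → P j) (h3 : P 3) : ∀ i, P i := by
  have p2 := hm 3 2 (by decide) h3
  have p1 := hm 2 1 (by decide) p2
  have p0 := hm 1 0 (by decide) p1
  have p4 := hm 3 4 (by decide) h3
  have p5 := hm 4 5 (by decide) p4
  have p6 := hm 5 6 (by decide) p5
  have p7 := hm 3 7 (by decide) h3
  have p8 := hm 7 8 (by decide) p7
  have p9 := hm 8 9 (by decide) p8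
  intro i
  fin_cases i <;> assumption

/-- Squares move along edges. -/
theorem sq_move {m : Fin 10 → M} (hb : ∀ i j, adj i j = true → m i * m j * m i = m j * m i * m j)
    {c : M} (hc : ∀ g : M, g * c = c * g) (i j : Fin 10) (hij : adj i j = true) (h : m i * m i = c) :
    m j * m j = c := by
  have h1 := conj_braid (hb i j hij)
  calc m j * m j = (m i * m j * m i * (m i * m j)⁻¹) * (m i * m j * m i * (m i * m j)⁻¹) := by rw [h1]
    _ = (m i * m j) * (m i * m i) * (m i * m j)⁻¹ := by group
    _ = c := by rw [h, hc, mul_assoc, mul_inv_cancel, mul_one]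

/-- The cyclic group of order four. -/
abbrev Z4 : Type := Multiplicative (ZMod 4)

/-- its generator -/
def g4 : Z4 := Multiplicative.ofAdd 1

theorem g4_4 : g4 ^ 4 = 1 := by decide
theorem g4_2 : g4 ^ 2 ≠ 1 := by decide

theorem ev_pair (m : Fin 10 → M) (w : List (Fin 10)) :
    ev (fun i => ((m i, g4) : M × Z4)) w = (ev m w, g4 ^ w.length) := by
  induction w with
  | nil => rfl
  | cons i w ih => rw [ev_cons, ih, ev_cons, List.length_cons, pow_succ']; rfl

/-- The lifts are involutions. -/
theorem sq_lift (h : Ext π z) {e : Fin 10 → E} (h132 : ev e W132 ^ 9 = 1)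
    (he : M10.IsLiftable e)
    {m : Fin 10 → M} (hm : ∀ i, π (m i) = e i)
    (hb : ∀ i j, adj i j = true → m i * m j * m i = m j * m i * m j)
    (hc : ∀ i j, lab i j = 2 → Commute (m i) (m j)) (i : Fin 10) : m i * m i = 1 := by
  have h3 : m 3 * m 3 = 1 ∨ m 3 * m 3 = z := by
    apply (h.ker _).1
    rw [map_mul, hm, sq he]
  rcases h3 with h3 | h3
  · exact all_nodes (fun i => m i * m i = 1) (fun i j => sq_move hb (c := 1) (by simp) i j) h3 i
  · exfalso
    have hsq := all_nodes (fun i => m i * m i = z) (fun i j => sq_move hb (c := z) h.comm i j) h3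
    let c : M × Z4 := (z, g4 ^ 2)
    have hcc : ∀ g : M × Z4, g * c = c * g := by
      rintro ⟨a, b⟩
      exact Prod.ext (h.comm a) (mul_comm _ _)
    have hcen : c ∈ Subgroup.center (M × Z4) := by
      rw [Subgroup.mem_center_iff]; exact hcc
    let N : Subgroup (M × Z4) := Subgroup.zpowers c
    have hNc : N ≤ Subgroup.center (M × Z4) := Subgroup.zpowers_le.2 hcen
    have hN : N.Normal := by
      refine ⟨fun n hn g => ?_⟩
      have := Subgroup.mem_center_iff.1 (hNc hn) g
      rw [this, mul_assoc, mul_inv_cancel, mul_one]; exact hn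
    let q := QuotientGroup.mk' N
    let b : Fin 10 → (M × Z4) ⧸ N := fun i => q (m i, g4)
    have hq : ∀ x : M × Z4, q x = 1 ↔ x ∈ N := fun x => QuotientGroup.eq_one_iff x
    have hcN : c ∈ N := Subgroup.mem_zpowers c
    have e2 : ∀ i, b i * b i = 1 := by
      intro i
      show q _ * q _ = 1
      rw [← map_mul, hq]
      have : ((m i, g4) : M × Z4) * (m i, g4) = c := by
        refine Prod.ext (hsq i) ?_
        show g4 * g4 = g4 ^ 2
        rw [pow_two]
      rw [this]; exact hcN
    have hlift : M10.IsLiftable b := by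
      intro i j
      show (b i * b j) ^ lab i j = 1
      rcases lab_cases i j with ⟨h1, rfl⟩ | h1 | h1
      · rw [h1, pow_one]; exact e2 i
      · rw [h1, pow_two]
        have hcb : b i * b j = b j * b i := by
          show q _ * q _ = q _ * q _
          rw [← map_mul, ← map_mul]
          congr 1
          exact Prod.ext (hc i j h1).eq rfl
        calc b i * b j * (b i * b j) = b i * (b j * b i) * b j := by group
          _ = b i * (b i * b j) * b j := by rw [hcb]
          _ = (b i * b i) * (b j * b j) := by group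
          _ = 1 := by rw [e2, e2, one_mul]
      · rw [h1]
        have hbb : b i * b j * b i = b j * b i * b j := by
          show q _ * q _ * q _ = q _ * q _ * q _
          simp only [← map_mul]
          congr 1
          exact Prod.ext (hb i j (adj_of_lab i j h1)) rfl
        calc (b i * b j) ^ 3 = (b i * b j * b i) * (b j * b i * b j) := by
              simp only [pow_succ, pow_zero, one_mul, mul_assoc]
          _ = (b j * b i * b j) * (b j * b i * b j) := by rw [hbb]
          _ = b j * b i * (b j * b j) * b i * b j := by group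
          _ = b j * (b i * b i) * b j := by rw [e2 j]; group
          _ = 1 := by rw [e2 i, mul_one, e2 j]
    have h18 := ev_eq_ev hlift chk_18
    rw [ev_nil] at h18
    have hev : ev b (rep 18 W132) = q (ev (fun i => ((m i, g4) : M × Z4)) (rep 18 W132)) := by
      rw [ev_map]
    rw [hev, hq, ev_pair, ev_rep] at h18
    have hlen : (rep 18 W132).length = 126 := by decide +kernel
    have h9 : ev m W132 ^ 18 = 1 := by
      have h2 : π (ev m W132 ^ 9) = 1 := by
        have e1 : (fun i => π (m i)) = e := funext hm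
        rw [map_pow, ev_map, e1, h132]
      have e18 : ev m W132 ^ 18 = ev m W132 ^ 9 * ev m W132 ^ 9 := by rw [← pow_add]
      rcases (h.ker _).1 h2 with h3 | h3
      · rw [e18, h3, one_mul]
      · rw [e18, h3, h.zz]
    have hg : g4 ^ 126 = g4 ^ 2 := by
      rw [show (126 : ℕ) = 4 * 31 + 2 from rfl, pow_add, pow_mul, g4_4, one_pow, one_mul]
    rw [hlen, h9, hg] at h18
    obtain ⟨k, hk⟩ := Subgroup.mem_zpowers_iff.1 h18
    have hk1 : z ^ k = 1 := congrArg Prod.fst hk
    have hk2 : (g4 ^ 2) ^ k = g4 ^ 2 := congrArg Prod.snd hk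
    have hoz : orderOf z = 2 := by
      refine orderOf_eq_prime ?_ h.zne
      rw [pow_two]; exact h.zz
    have hd : (2 : ℤ) ∣ k := by
      have := orderOf_dvd_iff_zpow_eq_one.2 hk1
      rwa [hoz] at this
    obtain ⟨l, rfl⟩ := hd
    rw [zpow_mul] at hk2
    have : ((g4 ^ 2 : Z4) ^ (2 : ℤ)) = 1 := by
      rw [zpow_ofNat, ← pow_mul]; exact g4_4
    rw [this, one_zpow] at hk2
    exact g4_2 hk2.symm

/-- **Lifts with the exact Coxeter and spider relations.** -/
theorem exists_cox (h : Ext π z) {e : Fin 10 → E} (he : Good e) :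
    ∃ m : Fin 10 → M, (∀ i, π (m i) = e i) ∧ M10.IsLiftable m ∧ ev m spider ^ 10 = 1 := by
  obtain ⟨m, hm, hb⟩ := exists_braids h he.lift
  have h132 : ev e W132 ^ 9 = 1 := by rw [W231_eq he.lift he.spider]; exact he.e231
  have hc := comm_lift h he.lift h132 hm hb
  have hsq := sq_lift h h132 he.lift hm hb hc
  have hl : M10.IsLiftable m := by
    intro i j
    show (m i * m j) ^ lab i j = 1
    rcases lab_cases i j with ⟨h1, rfl⟩ | h1 | h1
    · rw [h1, pow_one]; exact hsq i
    · rw [h1, (hc i j h1).mul_pow, pow_two, pow_two, hsq, hsq, one_mul]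
    · rw [h1]
      have hbb := hb i j (adj_of_lab i j h1)
      calc (m i * m j) ^ 3 = (m i * m j * m i) * (m j * m i * m j) := by
            simp only [pow_succ, pow_zero, one_mul, mul_assoc]
        _ = (m j * m i * m j) * (m j * m i * m j) := by rw [hbb]
        _ = m j * m i * (m j * m j) * m i * m j := by group
        _ = m j * (m i * m i) * m j := by rw [hsq j]; group
        _ = 1 := by rw [hsq i, mul_one, hsq j]
  refine ⟨m, hm, hl, ?_⟩
  have hπ : π (ev m spider ^ 10) = 1 := by
    rw [map_pow, ev_map, ← he.spider]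
    congr 2
    funext i; exact hm i
  rcases (h.ker _).1 hπ with h1 | h1
  · exact h1
  · apply spider_eq_one hl
    · intro g; rw [h1]; exact (h.comm g).symm
    · rw [h1, h.zz]

/-! ### The signs of the `E₇` words -/

theorem ev_mul_z (h : Ext π z) (s : Fin 10 → M) (w : List (Fin 10)) :
    ev (fun i => s i * z) w = ev s w * z ^ w.length := by
  induction w with
  | nil => simp [ev_nil]
  | cons i w ih =>
    rw [ev_cons, ih, ev_cons, List.length_cons, pow_succ']
    calc s i * z * (ev s w * z ^ w.length) = s i * (z * ev s w) * z ^ w.length := by group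
      _ = s i * (ev s w * z) * z ^ w.length := by rw [h.comm]
      _ = _ := by group

theorem ev7_mul_z (h : Ext π z) (s : Fin 10 → M) {w : List (Fin 10)} (hw : w.length = 7) :
    ev (fun i => s i * z) w ^ 9 = ev s w ^ 9 * z := by
  rw [ev_mul_z h, hw, pow_odd_of_sq h.zz (by decide : Odd 7)]
  have hcom : Commute (ev s w) z := h.comm _
  rw [hcom.mul_pow, pow_odd_of_sq h.zz (by decide : Odd 9)]

theorem lift_mul_z (h : Ext π z) {s : Fin 10 → M} (hs : M10.IsLiftable s) :
    M10.IsLiftable (fun i => s i * z) := by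
  intro i j
  show (s i * z * (s j * z)) ^ lab i j = 1
  have e : s i * z * (s j * z) = s i * s j := by
    calc s i * z * (s j * z) = s i * (z * s j) * z := by group
      _ = s i * (s j * z) * z := by rw [h.comm (s j)]
      _ = s i * s j * z * z := by group
      _ = s i * s j := h.mul_z_mul_z _
  rw [e]; exact hs i j

theorem spider_mul_z (h : Ext π z) {s : Fin 10 → M} (hs : ev s spider ^ 10 = 1) :
    ev (fun i => s i * z) spider ^ 10 = 1 := by
  rw [ev_mul_z h]
  have hcom : Commute (ev s spider) (z ^ spider.length) := Commute.pow_right (h.comm _) _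
  rw [hcom.mul_pow, hs, one_mul, ← pow_mul]
  have hl : spider.length * 10 = 2 * 45 := by decide
  rw [hl, pow_mul, pow_two, h.zz, one_pow]

/-- **The lifts of the ten nodes in the double cover.** -/
theorem exists_zrels (h : Ext π z) {e : Fin 10 → E} (he : Good e)
    (hgen : Subgroup.closure (Set.range e) = ⊤)
    (hno : ∀ m : Fin 10 → M, (∀ i, π (m i) = e i) → ¬ Good m) :
    ∃ p : Fin 10 → Fin 10, (p = id ∨ p = pAB ∨ p = pAC) ∧ ∃ m : Fin 10 → M,
      (∀ i, π (m i) = e (p i)) ∧ ZRels m z ∧ Subgroup.closure (Set.range m) = ⊤ := by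
  obtain ⟨m, hm, hl, hsp⟩ := exists_cox h he
  have hmap : ∀ w : List (Fin 10), ev e w ^ 9 = 1 → ev m w ^ 9 = 1 ∨ ev m w ^ 9 = z := by
    intro w hw
    apply (h.ker _).1
    rw [map_pow, ev_map, ← hw]
    congr 2
    funext i; exact hm i
  -- it is enough to find lifts
  have htop : ∀ p : Fin 10 → Fin 10, Function.Surjective p → ∀ m' : Fin 10 → M,
      (∀ i, π (m' i) = e (p i)) → ZRels m' z → Subgroup.closure (Set.range m') = ⊤ := by
    intro p hp m' hm' hz
    have hzm : z ∈ Subgroup.closure (Set.range m') := by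
      rw [← hz.e321]
      refine Subgroup.pow_mem _ ?_ _
      rw [ev]
      apply Subgroup.list_prod_mem
      intro x hx
      obtain ⟨i, _, rfl⟩ := List.mem_map.1 hx
      exact Subgroup.subset_closure ⟨i, rfl⟩
    rw [eq_top_iff]
    intro c _
    have h1 : π c ∈ Subgroup.map π (Subgroup.closure (Set.range m')) := by
      rw [MonoidHom.map_closure]
      have : Set.range e ⊆ π '' Set.range m' := by
        rintro _ ⟨x, rfl⟩
        obtain ⟨y, rfl⟩ := hp x
        exact ⟨m' y, ⟨y, rfl⟩, hm' y⟩
      exact Subgroup.closure_mono this (hgen ▸ Subgroup.mem_top _)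
    obtain ⟨c', hc', hcc⟩ := h1
    rcases h.map_eq.1 hcc with h2 | h2
    · rw [← h2]; exact hc'
    · have e : c = c' * z := by rw [h2, h.mul_z_mul_z]
      rw [e]
      exact Subgroup.mul_mem _ hc' hzm
  have hsurjAB : Function.Surjective pAB := fun i => ⟨pAB i, pAB_pAB i⟩
  have hsurjAC : Function.Surjective pAC := fun i => ⟨pAC i, pAC_pAC i⟩
  -- the three good cases
  have caseA : ∀ m : Fin 10 → M, (∀ i, π (m i) = e i) → M10.IsLiftable m → ev m spider ^ 10 = 1 →
      ev m W321 ^ 9 = z → ev m W231 ^ 9 = 1 → ev m W213 ^ 9 = 1 →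
      ∃ p : Fin 10 → Fin 10, (p = id ∨ p = pAB ∨ p = pAC) ∧ ∃ m : Fin 10 → M,
      (∀ i, π (m i) = e (p i)) ∧ ZRels m z ∧ Subgroup.closure (Set.range m) = ⊤ := by
    intro m hm hl hsp h1 h2 h3
    have hz : ZRels m z := ⟨hl, hsp, h1, h2, h3⟩
    exact ⟨id, Or.inl rfl, m, hm, hz, htop id Function.surjective_id m hm hz⟩
  have caseB : ∀ m : Fin 10 → M, (∀ i, π (m i) = e i) → M10.IsLiftable m → ev m spider ^ 10 = 1 →
      ev m W321 ^ 9 = 1 → ev m W231 ^ 9 = z → ev m W213 ^ 9 = 1 →
      ∃ p : Fin 10 → Fin 10, (p = id ∨ p = pAB ∨ p = pAC) ∧ ∃ m : Fin 10 → M,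
      (∀ i, π (m i) = e (p i)) ∧ ZRels m z ∧ Subgroup.closure (Set.range m) = ⊤ := by
    intro m hm hl hsp h1 h2 h3
    have hz : ZRels (fun i => m (pAB i)) z := by
      refine ⟨lift_perm hl lab_pAB, spider_pAB hl hsp, ?_, ?_, ?_⟩
      · rw [ev_comp, pow9_eq hl chkAB1]; exact h2
      · rw [ev_comp, pow9_eq hl chkAB2]; exact h1
      · rw [ev_comp, pow9_eq hl chkAB3, W213_eq hl hsp]; exact h3
    exact ⟨pAB, Or.inr (Or.inl rfl), fun i => m (pAB i), fun i => hm _, hz,
      htop pAB hsurjAB _ (fun i => hm _) hz⟩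
  have caseC : ∀ m : Fin 10 → M, (∀ i, π (m i) = e i) → M10.IsLiftable m → ev m spider ^ 10 = 1 →
      ev m W321 ^ 9 = 1 → ev m W231 ^ 9 = 1 → ev m W213 ^ 9 = z →
      ∃ p : Fin 10 → Fin 10, (p = id ∨ p = pAB ∨ p = pAC) ∧ ∃ m : Fin 10 → M,
      (∀ i, π (m i) = e (p i)) ∧ ZRels m z ∧ Subgroup.closure (Set.range m) = ⊤ := by
    intro m hm hl hsp h1 h2 h3
    have hz : ZRels (fun i => m (pAC i)) z := by
      refine ⟨lift_perm hl lab_pAC, spider_pAC hl hsp, ?_, ?_, ?_⟩
      · rw [ev_comp, pow9_eq hl chkAC1, W213_eq hl hsp]; exact h3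
      · rw [ev_comp, pow9_eq hl chkAC2, W231_eq hl hsp]; exact h2
      · rw [ev_comp, pow9_eq hl chkAC3, W321_eq hl hsp]; exact h1
    exact ⟨pAC, Or.inr (Or.inr rfl), fun i => m (pAC i), fun i => hm _, hz,
      htop pAC hsurjAC _ (fun i => hm _) hz⟩
  have hm' : ∀ i, π (m i * z) = e i := fun i => by rw [map_mul, h.mapz, mul_one]; exact hm i
  have hl' := lift_mul_z h hl
  have hsp' := spider_mul_z h hsp
  have l1 : W321.length = 7 := rfl
  have l2 : W231.length = 7 := rfl
  have l3 : W213.length = 7 := rfl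
  rcases hmap W321 he.e321 with h1 | h1 <;> rcases hmap W231 he.e231 with h2 | h2 <;>
    rcases hmap W213 he.e213 with h3 | h3
  · exact absurd ⟨hl, hsp, h1, h2, h3⟩ (hno m hm)
  · exact caseC m hm hl hsp h1 h2 h3
  · exact caseB m hm hl hsp h1 h2 h3
  · refine caseA _ hm' hl' hsp' ?_ ?_ ?_
    · rw [ev7_mul_z h m l1, h1, one_mul]
    · rw [ev7_mul_z h m l2, h2, h.zz]
    · rw [ev7_mul_z h m l3, h3, h.zz]
  · exact caseA m hm hl hsp h1 h2 h3
  · refine caseB _ hm' hl' hsp' ?_ ?_ ?_
    · rw [ev7_mul_z h m l1, h1, h.zz]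
    · rw [ev7_mul_z h m l2, h2, one_mul]
    · rw [ev7_mul_z h m l3, h3, h.zz]
  · refine caseC _ hm' hl' hsp' ?_ ?_ ?_
    · rw [ev7_mul_z h m l1, h1, h.zz]
    · rw [ev7_mul_z h m l2, h2, h.zz]
    · rw [ev7_mul_z h m l3, h3, one_mul]
  · refine absurd ⟨hl', hsp', ?_, ?_, ?_⟩ (hno _ hm')
    · rw [ev7_mul_z h m l1, h1, h.zz]
    · rw [ev7_mul_z h m l2, h2, h.zz]
    · rw [ev7_mul_z h m l3, h3, h.zz]

end Ext

/-! ### Functoriality, the central involution -/

section

variable {G : Type*} [Group G] {s : Fin 10 → G} {z : G}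

theorem Good.map {H : Type*} [Group H] (h : Good s) (f : G →* H) : Good (fun i => f (s i)) := by
  refine ⟨fun i j => ?_, ?_, ?_, ?_, ?_⟩
  · show (f (s i) * f (s j)) ^ _ = 1
    rw [← map_mul, ← map_pow]
    have := h.lift i j
    rw [this, map_one]
  · rw [← ev_map, ← map_pow, h.spider, map_one]
  · rw [← ev_map, ← map_pow, h.e321, map_one]
  · rw [← ev_map, ← map_pow, h.e231, map_one]
  · rw [← ev_map, ← map_pow, h.e213, map_one]

theorem ZRels.map {H : Type*} [Group H] (h : ZRels s z) (f : G →* H) : ZRels (fun i => f (s i)) (f z) := by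
  refine ⟨fun i j => ?_, ?_, ?_, ?_, ?_⟩
  · show (f (s i) * f (s j)) ^ _ = 1
    rw [← map_mul, ← map_pow]
    have := h.lift i j
    rw [this, map_one]
  · rw [← ev_map, ← map_pow, h.spider, map_one]
  · rw [← ev_map, ← map_pow, h.e321]
  · rw [← ev_map, ← map_pow, h.e231, map_one]
  · rw [← ev_map, ← map_pow, h.e213, map_one]

/-! ### The central involution -/

theorem chk_sq1 : chk (rep 9 W321 ++ rep 9 W321) [] = true := by decide +kernel
theorem chk_c (i : Fin 10) (hi : (i == 0 || i == 1 || i == 2 || i == 3 || i == 4 || i == 5 || i == 7) = true) :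
    chk (rep 9 W321 ++ [i]) ([i] ++ rep 9 W321) = true := by
  revert i; decide +kernel
theorem chk_c' (i : Fin 10) (hi : (i == 0 || i == 1 || i == 2 || i == 3 || i == 4 || i == 7 || i == 8) = true) :
    chk (rep 9 W312 ++ [i]) ([i] ++ rep 9 W312) = true := by
  revert i; decide +kernel

theorem ZRels.zz (h : ZRels s z) : z * z = 1 := by
  have := ev_eq_ev h.lift chk_sq1
  rw [ev_append, ev_rep, ev_nil, h.e321] at this
  exact this

theorem ZRels.e312 (h : ZRels s z) : ev s W312 ^ 9 = z := by rw [W321_eq h.lift h.spider, h.e321]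

theorem ZRels.e132 (h : ZRels s z) : ev s W132 ^ 9 = 1 := by rw [W231_eq h.lift h.spider, h.e231]

theorem ZRels.e123 (h : ZRels s z) : ev s W123 ^ 9 = 1 := by rw [W213_eq h.lift h.spider, h.e213]

theorem comm_word (h : M10.IsLiftable s) {i : Fin 10} {w : List (Fin 10)} (hw : ∀ j ∈ w, lab i j = 2) :
    Commute (s i) (ev s w) := by
  induction w with
  | nil => rw [ev_nil]; exact Commute.one_right _
  | cons j w ih =>
    rw [ev_cons]
    exact (comm_of h (hw j (by simp))).mul_right (ih fun k hk => hw k (by simp [hk]))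

theorem ZRels.z_comm (h : ZRels s z) (i : Fin 10) : Commute (s i) z := by
  have key1 : ∀ i : Fin 10, (i == 0 || i == 1 || i == 2 || i == 3 || i == 4 || i == 5 || i == 7) = true →
      Commute (s i) z := by
    intro i hi
    have := ev_eq_ev h.lift (chk_c i hi)
    rw [ev_append, ev_append, ev_rep, h.e321, ev_cons, ev_nil, mul_one] at this
    exact this.symm
  have key2 : ∀ i : Fin 10, (i == 0 || i == 1 || i == 2 || i == 3 || i == 4 || i == 7 || i == 8) = true →
      Commute (s i) z := by
    intro i hi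
    have := ev_eq_ev h.lift (chk_c' i hi)
    rw [ev_append, ev_append, ev_rep, h.e312, ev_cons, ev_nil, mul_one] at this
    exact this.symm
  have k6 : Commute (s 6) z := by
    rw [← h.e312]
    exact (comm_word h.lift (by decide)).pow_right 9
  have k9 : Commute (s 9) z := by
    rw [← h.e321]
    exact (comm_word h.lift (by decide)).pow_right 9
  fin_cases i
  · exact key1 _ (by decide)
  · exact key1 _ (by decide)
  · exact key1 _ (by decide)
  · exact key1 _ (by decide)
  · exact key1 _ (by decide)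
  · exact key1 _ (by decide)
  · exact k6
  · exact key1 _ (by decide)
  · exact key2 _ (by decide)
  · exact k9

theorem ZRels.z_central (h : ZRels s z) (htop : Subgroup.closure (Set.range s) = ⊤) (g : G) : Commute g z := by
  have hg : g ∈ Subgroup.closure (Set.range s) := htop ▸ Subgroup.mem_top g
  induction hg using Subgroup.closure_induction with
  | mem y hy => obtain ⟨k, rfl⟩ := hy; exact h.z_comm k
  | one => exact Commute.one_left _
  | mul a b _ _ ha hb => exact ha.mul_left hb
  | inv a _ ha => exact ha.inv_left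

end

end Cfsg.Agent.TwoESix.Lift
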