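/-
Ten root involutions `S 0, …, S 9` generating ²E₆(2) in the 78-dimensional model, satisfying the relations `Lift.Good`,
on which the field automorphism acts by the interchange of the arms `4 5 6` and `7 8 9` of the diagram.
-/
import Cfsg.Agent.TwoESix.SwapData
import Cfsg.Agent.TwoESix.FrameCfg
import Cfsg.Agent.TwoESix.GoodInst
import Cfsg.Agent.BabyU.OutFree
set_option autoImplicit false
set_option Elab.async false

namespace Cfsg.Agent.TwoESix.SwapNodes

open Cfsg.Agent.TwoESix.Data Cfsg.Agent.TwoESix.Words Cfsg.Agent.TwoESix.Iso Cfsg.Agent.TwoESix.Gens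
open Cfsg.Agent.TwoESix.Rels Cfsg.Agent.TwoESix.Main Cfsg.Agent.TwoESix.RootsCfg Cfsg.Agent.TwoESix.Phi
open Cfsg.Agent.TwoESix.SwapData Cfsg.Agent.TwoESix.FrameCfg
open Cfsg.Agent.Lib Cfsg.Agent.Lib.F2MatGroup

/-- the ten root involutions -/
def S0 (i : Fin 10) : GL (Fin 78) (ZMod 2) := evG LG (cw (sw.getD i []))

theorem sw_lets : (sw.all fun w => lets w) = true := by decide +kernel

theorem S0_mem (i : Fin 10) : S0 i ∈ TG := by
  apply cw_mem
  have h : (i : ℕ) < sw.length := i.2
  rw [List.getD_eq_getElem _ _ h]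
  exact List.all_eq_true.1 sw_lets _ (List.getElem_mem h)

theorem S0_check : ((List.range 10).all fun i =>
    Nat.beq (evW 78 (Ts ++ Ms) (cw (sw.getD i []))) (Sm.getD i 0)) = true := by decide +kernel

theorem codes_S0 (i : Fin 10) : Codes 78 (S0 i) (Sm.getD i 0) := by
  have h1 := List.all_eq_true.1 S0_check i (List.mem_range.2 i.2)
  rw [← Nat.eq_of_beq_eq_true h1]
  exact codes_evW codes_LG _

theorem G_check1 : Nat.beq (F2Mat.mul 78 mG mGi) (F2Mat.one 78) = true := by decide +kernel
theorem G_check2 : Nat.beq (F2Mat.mul 78 mGi mG) (F2Mat.one 78) = true := by decide +kernel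

/-- the conjugating matrix -/
def Gc : GL (Fin 78) (ZMod 2) := F2MatGroup.unit 78 mG mGi G_check1 G_check2

theorem codes_Gc : Codes 78 Gc mG := rfl

theorem conj_check : ((List.finRange 10).all fun i : Fin 10 =>
    Nat.beq (F2Mat.mul 78 mG (Sm.getD i 0)) (F2Mat.mul 78 (Ts.getD i 0) mG)) = true := by decide +kernel

theorem Gc_S0 (i : Fin 10) : Gc * S0 i = T i * Gc := by
  have h := List.all_eq_true.1 conj_check i (List.mem_finRange i)
  have hT : Codes 78 (T i) (Ts.getD i 0) := rfl
  exact (codes_Gc.mul (codes_S0 i)).eq (hT.mul codes_Gc) h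

theorem S0_eq (i : Fin 10) : S0 i = Gc⁻¹ * T i * Gc := by
  rw [mul_assoc, ← Gc_S0, inv_mul_cancel_left]

theorem phi_check : ((List.finRange 10).all fun i : Fin 10 =>
    Nat.beq (F2Mat.mul 78 (F2Mat.mul 78 mPhi (Sm.getD i 0)) mPhi) (Sm.getD (BabyU.OutFree.pBC i) 0)) = true := by
  decide +kernel

theorem Phi_S0 (i : Fin 10) : Phi.Phi * S0 i * Phi.Phi = S0 (BabyU.OutFree.pBC i) := by
  have h := List.all_eq_true.1 phi_check i (List.mem_finRange i)
  exact ((codes_Phi.mul (codes_S0 i)).mul codes_Phi).eq (codes_S0 _) h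

theorem conj_T (i : Fin 10) : (MulAut.conj Gc⁻¹).toMonoidHom (T i) = S0 i := by
  show MulAut.conj Gc⁻¹ (T i) = S0 i
  rw [MulAut.conj_apply, inv_inv]
  exact (S0_eq i).symm

theorem range_S0 : Set.range S0 = (MulAut.conj Gc⁻¹).toMonoidHom '' Set.range T := by
  ext x
  constructor
  · rintro ⟨i, rfl⟩
    exact ⟨T i, ⟨i, rfl⟩, conj_T i⟩
  · rintro ⟨_, ⟨i, rfl⟩, rfl⟩
    exact ⟨i, (conj_T i).symm⟩

theorem closure_eq : Subgroup.closure (Set.range S0) = Gam := by
  have hle : Subgroup.closure (Set.range S0) ≤ Gam := by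
    rw [Subgroup.closure_le]
    rintro _ ⟨i, rfl⟩
    exact TG_mem (S0_mem i)
  have hfin : Finite (GL (Fin 78) (ZMod 2)) := inferInstance
  apply SetLike.coe_injective
  apply Set.eq_of_subset_of_ncard_le hle _ (Set.toFinite _)
  have e1 : Subgroup.closure (Set.range S0) = (Subgroup.closure (Set.range T)).map (MulAut.conj Gc⁻¹).toMonoidHom := by
    rw [MonoidHom.map_closure, range_S0]
  have e2 : Subgroup.closure (Set.range T) = Gam := H_eq
  have hinj : Function.Injective (MulAut.conj Gc⁻¹).toMonoidHom := (MulAut.conj Gc⁻¹).injective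
  rw [e1, e2, Subgroup.coe_map, Set.ncard_image_of_injective _ hinj]

/-- the ten root involutions in `Gam` -/
def S (i : Fin 10) : ↥Gam := ⟨S0 i, TG_mem (S0_mem i)⟩

theorem S_mem (i : Fin 10) : S i ∈ TS := S0_mem i

theorem sig_S (i : Fin 10) : sig (S i) = S (BabyU.OutFree.pBC i) := Subtype.ext (Phi_S0 i)

theorem Y333_S : Y333 S := by
  apply Y333.of_injective Gam.subtype Subtype.coe_injective
  have h := Y333_T.map (MulAut.conj Gc⁻¹).toMonoidHom
  have e : (fun i => (MulAut.conj Gc⁻¹).toMonoidHom (T i)) = fun i => Gam.subtype (S i) := funext conj_T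
  rwa [e] at h

theorem closure_S : Subgroup.closure (Set.range S) = ⊤ := by
  apply Subgroup.map_injective (f := Gam.subtype) Subtype.coe_injective
  rw [MonoidHom.map_closure, ← MonoidHom.range_eq_map, Subgroup.range_subtype]
  have e : Gam.subtype '' Set.range S = Set.range S0 := by rw [← Set.range_comp]; rfl
  rw [e]
  exact closure_eq

/-- the nodes generate `Gam` and satisfy the relations -/
theorem gg_S : BabyU.OutFree.GG S := ⟨GoodInst.good_of_Y333 Y333_S, closure_S⟩

end Cfsg.Agent.TwoESix.SwapNodes
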