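import Cfsg.Agent.BabyU.RootCfg
import Cfsg.Agent.BabyU.OutCount

/-!
# The hypotheses of the theorem on outer automorphisms follow from `RootFacts`
-/

set_option autoImplicit false

namespace Cfsg.Agent.TwoESix.LeviHyp

open Cfsg Cfsg.Agent.R01.PSUSix Cfsg.Agent.BabyU Cfsg.Agent.BabyU.RootCfg

variable {E : Type*} [Group E] {F : Type*} [Field F] [Fintype F] {hF : Fintype.card F = 2 ^ 2} {R : Set E}

/-- The restriction of a chart to the centraliser of an opposite pair. -/
theorem chart_equiv (RF : RootFacts hF R) {r s : E} (hr : r ∈ R) (hs : s ∈ R) (h : RootCfg.Opp r s) :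
    ∃ ψ : ↥(Subgroup.centralizer ({r, s} : Set E)) ≃* PSU 6 F 2,
      (∀ x : ↥(Subgroup.centralizer ({r, s} : Set E)), (x : E) ∈ R ↔ ψ x ∈ TT hF 6) := by
  obtain ⟨ψ, C⟩ := RF.chart r hr
  have hle : Subgroup.centralizer ({r, s} : Set E) ≤ Subgroup.centralizer ({r} : Set E) :=
    Subgroup.centralizer_le (Set.singleton_subset_iff.2 (Set.mem_insert r {s}))
  have hs' : ∀ x : ↥(Subgroup.centralizer ({r, s} : Set E)), (x : E) * s = s * x := fun x =>
    (Subgroup.mem_centralizer_iff.1 x.2 s (Set.mem_insert_of_mem r rfl)).symm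
  set f : ↥(Subgroup.centralizer ({r, s} : Set E)) →* PSU 6 F 2 := ψ.comp (Subgroup.inclusion hle) with hf
  have hinj : Function.Injective f := by
    rw [injective_iff_map_eq_one]
    intro x hx
    have h1 := C.inj s hs h (Subgroup.inclusion hle x) (hs' x) hx
    have h2 : ((Subgroup.inclusion hle x : ↥(Subgroup.centralizer ({r} : Set E))) : E) = 1 := by rw [h1]; rfl
    exact Subtype.ext h2
  have hsurj : Function.Surjective f := by
    intro u
    obtain ⟨x, hx, e⟩ := C.surj s hs h u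
    have hr' : (x : E) * r = r * x := Subgroup.mem_centralizer_singleton_iff.1 x.2
    have hm : (x : E) ∈ Subgroup.centralizer ({r, s} : Set E) := by
      rw [Subgroup.mem_centralizer_iff]
      intro y hy
      rcases hy with rfl | hy
      · exact hr'.symm
      · rw [Set.mem_singleton_iff] at hy
        rw [hy]; exact hx.symm
    exact ⟨⟨x, hm⟩, e⟩
  refine ⟨MulEquiv.ofBijective f ⟨hinj, hsurj⟩, fun x => ⟨fun hx => ?_, fun hx => ?_⟩⟩
  · rcases C.root (Subgroup.inclusion hle x) hx with h1 | h1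
    · exfalso
      have h2 : x = 1 := hinj (h1.trans (map_one f).symm)
      exact RF.ne _ hx (congrArg Subtype.val h2)
    · exact h1
  · exact C.back s hs h (Subgroup.inclusion hle x) (hs' x) hx

/-- `OutCount.Hyp` from `RootFacts` and the transitivity on opposite pairs. -/
theorem outHyp (RF : RootFacts hF R)
    (htr : ∀ r ∈ R, ∀ s ∈ R, ∀ r' ∈ R, ∀ s' ∈ R, r ≠ s → (r * s) ^ 3 = 1 → r' ≠ s' → (r' * s') ^ 3 = 1 →
      ∃ g : E, g * r * g⁻¹ = r' ∧ g * s * g⁻¹ = s') : OutCount.Hyp hF R where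
  conj := fun x r hr => RF.conj r hr x
  opp := fun r s r' s' ⟨hr, hs, hn, h3⟩ ⟨hr', hs', hn', h3'⟩ =>
    htr r hr s hs r' hr' s' hs' (fun e => hn (by rw [e])) h3 (fun e => hn' (by rw [e])) h3'
  chart := fun r s ⟨hr, hs, hn, h3⟩ => by
    obtain ⟨ψ, h⟩ := chart_equiv RF hr hs ⟨fun e => hn (by rw [e]), h3⟩
    exact ⟨ψ, fun x hx => (h x).1 hx⟩

end Cfsg.Agent.TwoESix.LeviHyp
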