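import Cfsg.Agent.TwoESix.GenBase
import Cfsg.Agent.BabyU.Key

/-!
# ²E₆(2): generation of `C_R(b)`, `b` the product of a triangle  (G2)
-/

set_option autoImplicit false
set_option linter.unusedSectionVars false
set_option Elab.async false
set_option maxRecDepth 100000

namespace Cfsg.Agent.TwoESix.GenTri

open Cfsg.Lie
open Cfsg.Agent.ChevalleyStructure
open Cfsg.Agent.ChevalleyStructure.Elts hiding x_add x_zero x_eq_one_iff
open Cfsg.Agent.ChevalleyStructure.TwE6Basic
open Cfsg.Agent.ChevalleyStructure.TwE6BN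
open Cfsg.Agent.TwoESix.LeviA
open Cfsg.Agent.TwoESix.LeviB
open Cfsg.Agent.TwoESix.LeviC
open Cfsg.Agent.TwoESix.LeviD
open Cfsg.Agent.TwoESix.LongPairs
open Cfsg.Agent.TwoESix.LongCard
open Cfsg.Agent.TwoESix.FlagH
open Cfsg.Agent.TwoESix.FlagI
open Cfsg.Agent.TwoESix.FlagK
open Cfsg.Agent.TwoESix.FlagL
open Cfsg.Agent.TwoESix.FlagM
open Cfsg.Agent.TwoESix.FlagN
open Cfsg.Agent.TwoESix.FlagO
open Cfsg.Agent.TwoESix.GenBase
open Cfsg.Agent.BabyU (rootClass)

open scoped commutatorElement Pointwise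

universe u

variable {K : Type u} [Field K]

section Gen

variable {G : Type*} [Group G]

theorem sq2 {a b : G} (aa : a * a = 1) (bb : b * b = 1) (ab : a * b = b * a) : a * b * (a * b) = 1 := by
  calc a * b * (a * b) = a * (b * a) * b := by simp only [mul_assoc]
    _ = (a * a) * (b * b) := by rw [← ab]; simp only [mul_assoc]
    _ = 1 := by rw [aa, bb, mul_one]

theorem cm2 {a b g : G} (ha : a * g = g * a) (hb : b * g = g * b) : a * b * g = g * (a * b) := by
  rw [mul_assoc, hb, ← mul_assoc, ha, mul_assoc]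

end Gen

theorem pts : pt 46 = 70 ∧ pt 47 = 69 ∧ pt 48 = 68 ∧ pt 49 = 67 ∧ pt 50 = 66 ∧ pt 51 = 65 ∧ pt 52 = 64 ∧ pt 53 = 63 ∧
    pt 54 = 62 ∧ pt 55 = 61 ∧ pt 61 = 55 ∧ pt 62 = 54 ∧ pt 63 = 53 ∧ pt 64 = 52 ∧ pt 65 = 51 ∧ pt 66 = 50 ∧
    pt 67 = 49 ∧ pt 68 = 48 ∧ pt 69 = 47 ∧ pt 70 = 46 := by decide +kernel

theorem r46 : rho 46 = 46 := by decide +kernel
theorem r47 : rho 47 = 47 := by decide +kernel
theorem r51 : rho 51 = 51 := by decide +kernel
theorem r53 : rho 53 = 53 := by decide +kernel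
theorem r63 : rho 63 = 63 := by decide +kernel
theorem r65 : rho 65 = 65 := by decide +kernel
theorem r69 : rho 69 = 69 := by decide +kernel
theorem r70 : rho 70 = 70 := by decide +kernel
theorem r25 : rho 25 = 25 := by decide +kernel
theorem r18 : rho 18 = 18 := by decide +kernel
theorem r6 : rho 6 = 6 := by decide +kernel
theorem r60 : rho 60 = 60 := by decide +kernel
theorem r44 : rho 44 = 44 := by decide +kernel
theorem r11 : rho 11 = 11 := by decide +kernel

theorem h48 : (48 : Fin 72) ∈ l20 := by decide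
theorem h49 : (49 : Fin 72) ∈ l20 := by decide
theorem h52 : (52 : Fin 72) ∈ l20 := by decide
theorem h54 : (54 : Fin 72) ∈ l20 := by decide
theorem h55 : (55 : Fin 72) ∈ l20 := by decide
theorem h66 : (66 : Fin 72) ∈ l20 := by decide
theorem n48 : rho 48 ≠ 48 := by decide +kernel
theorem n49 : rho 49 ≠ 49 := by decide +kernel
theorem n52 : rho 52 ≠ 52 := by decide +kernel
theorem n54 : rho 54 ≠ 54 := by decide +kernel
theorem n55 : rho 55 ≠ 55 := by decide +kernel
theorem n66 : rho 66 ≠ 66 := by decide +kernel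

/-- the condition on the Levi root of `zT` -/
theorem zT_ok : ∀ s ∈ [(36 : Fin 72), 37, 38, 40, 41, 45], 36 ≤ s.val ∧ rho s ≠ s ∧
    chevE6.commTerms s.val (rho s).val = [] ∧ (rho s).val ≠ chevE6.neg s.val := by decide +kernel

theorem ext20 {P : Fin 72 → Prop} (h : P 46 ∧ P 47 ∧ P 48 ∧ P 49 ∧ P 50 ∧ P 51 ∧ P 52 ∧ P 53 ∧ P 54 ∧ P 55 ∧
    P 61 ∧ P 62 ∧ P 63 ∧ P 64 ∧ P 65 ∧ P 66 ∧ P 67 ∧ P 68 ∧ P 69 ∧ P 70) : ∀ r ∈ l20, P r := by
  obtain ⟨h1, h2, h3, h4, h5, h6, h7, h8, h9, h10, h11, h12, h13, h14, h15, h16, h17, h18, h19, h20⟩ := h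
  intro r hr
  simp only [l20, List.mem_cons, List.not_mem_nil, or_false] at hr
  rcases hr with rfl | rfl | rfl | rfl | rfl | rfl | rfl | rfl | rfl | rfl | rfl | rfl | rfl | rfl | rfl | rfl |
    rfl | rfl | rfl | rfl <;> assumption

section Four

variable [Fintype K] {φ : K →+* K} (F : Four K φ)
include F

theorem frm_eq (t s : Fin 72 → K) : frm t s = t 70 * s 46 + (t 69 * s 47 + (t 68 * s 48 + (t 67 * s 49 +
    (t 66 * s 50 + (t 65 * s 51 + (t 64 * s 52 + (t 63 * s 53 + (t 62 * s 54 + (t 61 * s 55 +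
    (t 55 * s 61 + (t 54 * s 62 + (t 53 * s 63 + (t 52 * s 64 + (t 51 * s 65 + (t 50 * s 66 +
    (t 49 * s 67 + (t 48 * s 68 + (t 47 * s 69 + (t 46 * s 70 + 0))))))))))))))))))) := by
  obtain ⟨h1, h2, h3, h4, h5, h6, h7, h8, h9, h10, h11, h12, h13, h14, h15, h16, h17, h18, h19, h20⟩ := pts
  simp only [frm, l20, List.map_cons, List.map_nil, List.sum_cons, List.sum_nil, h1, h2, h3, h4, h5, h6, h7, h8, h9,
    h10, h11, h12, h13, h14, h15, h16, h17, h18, h19, h20]

theorem comm_of {p q : ↥(twistedE6 K 2)} {t s : Fin 72 → K} (hp : HasC (p : GL chevE6.Idx K) t)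
    (hq : HasC (q : GL chevE6.Idx K) s) (h : frm t s = 0) : p * q = q * p := by
  have := F.charP
  have h1 := comm_frm hp hq
  rw [h, TwE6Basic.x_zero] at h1
  exact Subtype.ext (commutatorElement_eq_one_iff_mul_comm.1 h1)

theorem not_comm_of {p q : ↥(twistedE6 K 2)} {t s : Fin 72 → K} (hp : HasC (p : GL chevE6.Idx K) t)
    (hq : HasC (q : GL chevE6.Idx K) s) (h : frm t s ≠ 0) : p * q ≠ q * p := by
  have := F.charP
  intro h2
  have h1 := comm_frm hp hq
  rw [commutatorElement_eq_one_iff_mul_comm.2 (congrArg Subtype.val h2)] at h1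
  exact h ((x_eq_one_iff (by norm_num) _).1 h1.symm)

theorem xe_C {r : Fin 72} (hr : r ∈ l20) (hrr : rho r = r) : HasC (xe F r hrr : GL chevE6.Idx K) (sgl r 1) := by
  have := F.charP
  exact HasC.mkx hr 1

theorem ze_C {k k' : Fin 72} (hk : k ∈ l20) (hk' : rho k ≠ k) (h' : k' ∈ l20) (h : rho k = k') (a : K) :
    HasC (ze F k hk hk' a : GL chevE6.Idx K) (sgl k a + sgl k' (φ a)) := by
  have := F.charP
  exact HasC.mkz hk h' h φ a

theorem mulC {p q : ↥(twistedE6 K 2)} {t s : Fin 72 → K} (hp : HasC (p : GL chevE6.Idx K) t)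
    (hq : HasC (q : GL chevE6.Idx K) s) : HasC ((p * q : ↥(twistedE6 K 2)) : GL chevE6.Idx K) (t + s) := by
  have := F.charP
  exact hp.mul hq

theorem ne_of {q : ↥(twistedE6 K 2)} {s : Fin 72 → K} (hq : HasC (q : GL chevE6.Idx K) s) {r : Fin 72} (hr : r ∈ l20)
    (h : s r ≠ 0) : q ≠ 1 ∧ q ≠ r0 F := by
  have := F.charP
  refine ⟨fun h1 => hq.ne_one hr h (congrArg Subtype.val h1), fun h1 => ?_⟩
  have h2 : HasC ((r0 F : ↥(twistedE6 K 2)) : GL chevE6.Idx K) 0 := ⟨1, by rw [lp_zero, one_mul]; rfl⟩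
  rw [h1] at hq
  exact h (hq.eq h2 r hr)

/-- membership in the root class depends only on the coordinates -/
theorem notT {p q : ↥(twistedE6 K 2)} (hq : q ∈ RE K) {t s : Fin 72 → K}
    (hpc : HasC (p : GL chevE6.Idx K) t) (hqc : HasC (q : GL chevE6.Idx K) s) (h : ∀ r ∈ l20, t r = s r)
    (hT : q ∉ rootClass K) {r : Fin 72} (hr : r ∈ l20) (hsr : s r ≠ 0) : p ∉ rootClass K := by
  have := F.charP
  obtain ⟨v, hv⟩ := hpc
  obtain ⟨w, hw⟩ := id hqc
  rw [lp_congr F h] at hv
  have e : (p : GL chevE6.Idx K) = q * x 71 (v - w) := by rw [hv, hw, mul_assoc, x_add, add_sub_cancel]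
  have hE : x 71 (v - w) ∈ twistedE6 K 2 := by
    have h4 : x 71 (v - w) = (q : GL chevE6.Idx K)⁻¹ * p := by rw [e, inv_mul_cancel_left]
    rw [h4]
    exact mul_mem (inv_mem q.2) p.2
  obtain ⟨h1, h2⟩ := ne_of F hqc hr hsr
  rcases zero_or_one F (x71_E F hE) with h0 | h0
  · rw [h0, TwE6Basic.x_zero, mul_one] at e
    rwa [Subtype.ext e]
  · rw [h0] at e
    have e2 : p = q * r0 F := Subtype.ext e
    rw [e2]
    exact not_T_w F hq hT h1 h2

theorem norm_one {a : K} (ha : a ≠ 0) : a * φ a = 1 := by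
  have h := FiniteField.pow_card_sub_one_eq_one a ha
  rw [F.card] at h
  rw [F.sq, ← pow_succ']
  exact h

/-- products `z_k(a) x_m(1) x_r(1)` which are root involutions -/
theorem zT {s r k m : Fin 72} (h36 : 36 ≤ s.val) (hs : rho s ≠ s) (hs2 : chevE6.commTerms s.val (rho s).val = [])
    (hs3 : (rho s).val ≠ chevE6.neg s.val) (h : ZX s r k m) (hr : rho r = r) (hm : rho m = m) (hk : k ∈ l20)
    (hk' : rho k ≠ k) {a : K} (ha : a ≠ 0) : ze F k hk hk' a * xe F m hm * xe F r hr ∈ rootClass K := by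
  have := F.charP
  have hZ : z φ s a ∈ twistedE6 K 2 := y_mem_E_pos F h36 hs hs2 hs3 a
  obtain ⟨Z, rfl⟩ : ∃ Z : ↥(twistedE6 K 2), Z = ⟨z φ s a, hZ⟩ := ⟨_, rfl⟩
  have e : (⟨z φ s a, hZ⟩ : ↥(twistedE6 K 2)) * xe F r hr =
      xe F r hr * ⟨z φ s a, hZ⟩ * (ze F k hk hk' a * xe F m hm) := Subtype.ext (by
    have h1 := comm_zx h φ a
    rw [norm_one F ha] at h1
    exact h1)
  generalize (⟨z φ s a, hZ⟩ : ↥(twistedE6 K 2)) = Z at e
  have e1 : ze F k hk hk' a * xe F m hm = Z⁻¹ * (xe F r hr)⁻¹ * (Z * xe F r hr) := by rw [e]; group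
  have e2 : ze F k hk hk' a * xe F m hm * xe F r hr = Z⁻¹ * xe F r hr * Z := by
    rw [e1, inv_eq_of_mul_eq_one_left (xe_sq F r hr)]
    calc Z⁻¹ * xe F r hr * (Z * xe F r hr) * xe F r hr = Z⁻¹ * xe F r hr * Z * (xe F r hr * xe F r hr) := by group
      _ = _ := by rw [xe_sq F, mul_one]
  rw [e2]
  have h1 := conj_T (xe_T F r hr) Z⁻¹
  rwa [inv_inv] at h1

/-- a member of `GS b` from its coordinates and a witness -/
theorem memS {b y m : ↥(twistedE6 K 2)} {tb ty tm : Fin 72 → K} (hb : HasC (b : GL chevE6.Idx K) tb)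
    (hyT : y ∈ rootClass K) (hyR : y ∈ RE K) (hy : HasC (y : GL chevE6.Idx K) ty) (hf : frm ty tb = 0)
    {v v' : Fin 72} (hv : rho v = v) (hv' : rho v' = v') (h : v'.val = chevE6.neg v.val) (hvl : v ∈ l20)
    (mR : m ∈ RE K) (hm : HasC (m : GL chevE6.Idx K) tm) (mm : m * m = 1)
    (c1 : m * xe F v hv = xe F v hv * m) (c2 : m * xe F v' hv' = xe F v' hv' * m)
    {r : Fin 72} (hr : r ∈ l20) (hmr : tm r ≠ 0) (heq : ∀ r ∈ l20, (ty + tb) r = (sgl v 1 + tm : Fin 72 → K) r)
    {r' : Fin 72} (hr' : r' ∈ l20) (hs : (sgl v 1 + tm : Fin 72 → K) r' ≠ 0) :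
    y ∈ Subgroup.closure (GS K b) :=
  Subgroup.subset_closure (Or.inr ⟨hyT, hyR, comm_of F hy hb hf,
    notT F (mul_mem (xe_RE F hvl hv) mR) (mulC F hy hb) (mulC F (xe_C F hvl hv) hm) heq
      (vis F hv hv' h mm (ne_of F hm hr hmr).1 c1 c2) hr' hs⟩)

theorem conj_C {X g : ↥(twistedE6 K 2)} {t : Fin 72 → K} (h : X * g = g * X)
    (hg : HasC (g : GL chevE6.Idx K) t) : HasC ((X * g * X⁻¹ : ↥(twistedE6 K 2)) : GL chevE6.Idx K) t := by
  rwa [h, mul_inv_cancel_right]

theorem conj_C' {s r k : Fin 72} (hs : rho s = s) (hr : rho r = r) (hk : rho k = k) (h : Si r s k) (h' : Co s k)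
    (hrl : r ∈ l20) (hkl : k ∈ l20) :
    HasC ((xe F s hs * xe F r hr * (xe F s hs)⁻¹ : ↥(twistedE6 K 2)) : GL chevE6.Idx K) (sgl r 1 + sgl k 1) := by
  have e : xe F s hs * xe F r hr * (xe F s hs)⁻¹ = xe F r hr * xe F k hk := by
    rw [xe_xe F hs hr hk h, mul_assoc (xe F r hr), xe_comm F hs hk h', ← mul_assoc, mul_inv_cancel_right]
  rw [e]
  exact mulC F (xe_C F hrl hr) (xe_C F hkl hk)

/-- the product of the triangle -/
def bT : ↥(twistedE6 K 2) := xe F 46 r46 * xe F 53 r53 * xe F 65 r65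

theorem tri : Cfsg.Agent.BabyU.Key.Tri (rootClass K) (xe F 46 r46) (xe F 53 r53) (xe F 65 r65) where
  pR := xe_T F 46 r46
  qR := xe_T F 53 r53
  rR := xe_T F 65 r65
  pq := xe_comm F r46 r53 (by decide +kernel)
  pr := xe_comm F r46 r65 (by decide +kernel)
  qr := xe_comm F r53 r65 (by decide +kernel)
  qne := fun h => x_ne (K := K) (r := 53) (s := 65) (by norm_num) (by norm_num) (by norm_num) (congrArg Subtype.val h)
  ex := by
    have := F.charP
    refine ⟨xe F 25 r25, xe_T F 25 r25, ⟨fun h => x_ne (K := K) (r := 25) (s := 46) (by norm_num) (by norm_num)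
      (by norm_num) (congrArg Subtype.val h), Subtype.ext (cube_neg (v := 25) (v' := 46) r25 (by decide +kernel))⟩,
      xe_comm F r25 r53 (by decide +kernel), xe_comm F r25 r65 (by decide +kernel)⟩

theorem bT_C : HasC (bT F : GL chevE6.Idx K) (sgl 46 1 + sgl 53 1 + sgl 65 1) :=
  mulC F (mulC F (xe_C F (by decide) r46) (xe_C F (by decide) r53)) (xe_C F (by decide) r65)

theorem bT_RE : bT F ∈ RE K :=
  mul_mem (mul_mem (xe_RE F (by decide) r46) (xe_RE F (by decide) r53)) (xe_RE F (by decide) r65)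

theorem bT_not : bT F ∉ rootClass K := by
  have h := vis F r46 r25 (by decide +kernel) (m := xe F 53 r53 * xe F 65 r65)
    (sq2 (xe_sq F 53 r53) (xe_sq F 65 r65) (xe_comm F r53 r65 (by decide +kernel)))
    (ne_of F (mulC F (xe_C F (by decide) r53) (xe_C F (by decide) r65)) (r := 53) (by decide) (by simp [sgl])).1
    (cm2 (xe_comm F r53 r46 (by decide +kernel)) (xe_comm F r65 r46 (by decide +kernel)))
    (cm2 (xe_comm F r53 r25 (by decide +kernel)) (xe_comm F r65 r25 (by decide +kernel)))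
  rwa [← mul_assoc] at h

theorem m46 : xe F 46 r46 ∈ Subgroup.closure (GS K (bT F)) := by
  have := F.charP
  refine memS F (bT_C F) (xe_T F 46 r46) (xe_RE F (by decide) r46) (xe_C F (by decide) r46) ?_ r53 r18
    (by decide +kernel) (by decide) (xe_RE F (by decide) r65) (xe_C F (by decide) r65) (xe_sq F 65 r65)
    (xe_comm F r65 r53 (by decide +kernel)) (xe_comm F r65 r18 (by decide +kernel)) (r := 65) (by decide)
    (by simp [sgl]) (ext20 ?_) (r' := 65) (by decide) (by simp [sgl])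
  · rw [frm_eq F]; simp [sgl]
  · simp [sgl, CharTwo.add_self_eq_zero]

theorem m53 : xe F 53 r53 ∈ Subgroup.closure (GS K (bT F)) := by
  have := F.charP
  refine memS F (bT_C F) (xe_T F 53 r53) (xe_RE F (by decide) r53) (xe_C F (by decide) r53) ?_ r46 r25
    (by decide +kernel) (by decide) (xe_RE F (by decide) r65) (xe_C F (by decide) r65) (xe_sq F 65 r65)
    (xe_comm F r65 r46 (by decide +kernel)) (xe_comm F r65 r25 (by decide +kernel)) (r := 65) (by decide)
    (by simp [sgl]) (ext20 ?_) (r' := 65) (by decide) (by simp [sgl])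
  · rw [frm_eq F]; simp [sgl]
  · simp [sgl, CharTwo.add_self_eq_zero]

theorem m65 : xe F 65 r65 ∈ Subgroup.closure (GS K (bT F)) := by
  have := F.charP
  refine memS F (bT_C F) (xe_T F 65 r65) (xe_RE F (by decide) r65) (xe_C F (by decide) r65) ?_ r46 r25
    (by decide +kernel) (by decide) (xe_RE F (by decide) r53) (xe_C F (by decide) r53) (xe_sq F 53 r53)
    (xe_comm F r53 r46 (by decide +kernel)) (xe_comm F r53 r25 (by decide +kernel)) (r := 53) (by decide)
    (by simp [sgl]) (ext20 ?_) (r' := 53) (by decide) (by simp [sgl])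
  · rw [frm_eq F]; simp [sgl]
  · simp [sgl, CharTwo.add_self_eq_zero]

theorem m69 : xe F 69 r69 ∈ Subgroup.closure (GS K (bT F)) := by
  have := F.charP
  refine memS F (bT_C F) (xe_T F 69 r69) (xe_RE F (by decide) r69) (xe_C F (by decide) r69) ?_ r46 r25
    (by decide +kernel) (by decide) (m := xe F 53 r53 * xe F 65 r65 * xe F 69 r69)
    (mul_mem (mul_mem (xe_RE F (by decide) r53) (xe_RE F (by decide) r65)) (xe_RE F (by decide) r69))
    (mulC F (mulC F (xe_C F (by decide) r53) (xe_C F (by decide) r65)) (xe_C F (by decide) r69))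
    (sq2 (sq2 (xe_sq F 53 r53) (xe_sq F 65 r65) (xe_comm F r53 r65 (by decide +kernel))) (xe_sq F 69 r69)
      (cm2 (xe_comm F r53 r69 (by decide +kernel)) (xe_comm F r65 r69 (by decide +kernel))))
    (cm2 (cm2 (xe_comm F r53 r46 (by decide +kernel)) (xe_comm F r65 r46 (by decide +kernel)))
      (xe_comm F r69 r46 (by decide +kernel)))
    (cm2 (cm2 (xe_comm F r53 r25 (by decide +kernel)) (xe_comm F r65 r25 (by decide +kernel)))
      (xe_comm F r69 r25 (by decide +kernel))) (r := 53) (by decide)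
    (by simp [sgl]) (ext20 ?_) (r' := 53) (by decide) (by simp [sgl])
  · rw [frm_eq F]; simp [sgl]
  · simp [sgl, CharTwo.add_self_eq_zero]

theorem r0_mem : r0 F ∈ Subgroup.closure (GS K (bT F)) := by
  refine Subgroup.subset_closure (Or.inr ⟨xe_T F 71 (by decide +kernel), r0_RE F, ?_, ?_⟩)
  · exact (S_cent F _ (R_le F (bT_RE F))).symm
  · have h := ne_of F (bT_C F) (r := 46) (by decide) (by simp [sgl])
    have h2 := not_T_w F (bT_RE F) (bT_not F) h.1 h.2
    rwa [S_cent F _ (R_le F (bT_RE F))] at h2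

theorem m47 : xe F 47 r47 ∈ Subgroup.closure (GS K (bT F)) := by
  have := F.charP
  refine Subgroup.subset_closure (Or.inr ⟨xe_T F 47 r47, xe_RE F (by decide) r47,
    comm_of F (xe_C F (by decide) r47) (bT_C F) (by rw [frm_eq F]; simp [sgl]), fun hT => bT_not F ?_⟩)
  have h := conj_T hT (xe F 11 r11)
  have e : xe F 11 r11 * (xe F 47 r47 * bT F) * (xe F 11 r11)⁻¹ = bT F := by
    have h1 : xe F 11 r11 * xe F 65 r65 = xe F 65 r65 * xe F 11 r11 * xe F 47 r47 :=
      xe_xe F r11 r65 r47 (by decide +kernel)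
    have c47 := xe_comm F r11 r47 (by decide +kernel)
    have c46 := xe_comm F r11 r46 (by decide +kernel)
    have c53 := xe_comm F r11 r53 (by decide +kernel)
    have d46 := xe_comm F r47 r46 (by decide +kernel)
    have d53 := xe_comm F r47 r53 (by decide +kernel)
    have d65 := xe_comm F r47 r65 (by decide +kernel)
    have s47 := xe_sq F 47 r47
    rw [mul_inv_eq_iff_eq_mul]
    show xe F 11 r11 * (xe F 47 r47 * (xe F 46 r46 * xe F 53 r53 * xe F 65 r65)) =
      xe F 46 r46 * xe F 53 r53 * xe F 65 r65 * xe F 11 r11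
    calc xe F 11 r11 * (xe F 47 r47 * (xe F 46 r46 * xe F 53 r53 * xe F 65 r65))
        = (xe F 11 r11 * xe F 47 r47) * xe F 46 r46 * xe F 53 r53 * xe F 65 r65 := by simp only [mul_assoc]
      _ = xe F 47 r47 * (xe F 11 r11 * xe F 46 r46) * xe F 53 r53 * xe F 65 r65 := by rw [c47]; simp only [mul_assoc]
      _ = xe F 47 r47 * xe F 46 r46 * (xe F 11 r11 * xe F 53 r53) * xe F 65 r65 := by rw [c46]; simp only [mul_assoc]
      _ = xe F 47 r47 * xe F 46 r46 * xe F 53 r53 * (xe F 11 r11 * xe F 65 r65) := by rw [c53]; simp only [mul_assoc]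
      _ = (xe F 47 r47 * xe F 46 r46) * xe F 53 r53 * xe F 65 r65 * xe F 11 r11 * xe F 47 r47 := by
        rw [h1]; simp only [mul_assoc]
      _ = xe F 46 r46 * (xe F 47 r47 * xe F 53 r53) * xe F 65 r65 * xe F 11 r11 * xe F 47 r47 := by
        rw [d46]; simp only [mul_assoc]
      _ = xe F 46 r46 * xe F 53 r53 * (xe F 47 r47 * xe F 65 r65) * xe F 11 r11 * xe F 47 r47 := by
        rw [d53]; simp only [mul_assoc]
      _ = xe F 46 r46 * xe F 53 r53 * xe F 65 r65 * xe F 47 r47 * (xe F 11 r11 * xe F 47 r47) := by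
        rw [d65]; simp only [mul_assoc]
      _ = xe F 46 r46 * xe F 53 r53 * xe F 65 r65 * (xe F 47 r47 * xe F 47 r47) * xe F 11 r11 := by
        rw [c47]; simp only [mul_assoc]
      _ = _ := by rw [s47, mul_one]
  rwa [e] at h


theorem ze0 (k : Fin 72) (hk : k ∈ l20) (hk' : rho k ≠ k) : ze F k hk hk' 0 = 1 := by
  have := F.charP
  refine Subtype.ext ?_
  show x k.val 0 * x (rho k).val (φ 0) = 1
  rw [map_zero, TwE6Basic.x_zero, TwE6Basic.x_zero, one_mul]

/-! ### The short root elements -/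


theorem z48 (a : K) : ze F 48 h48 n48 a ∈ Subgroup.closure (GS K (bT F)) := by
  have := F.charP
  rcases eq_or_ne a 0 with rfl | ha
  · rw [ze0 F]; exact one_mem _
  have hok := zT_ok 40 (by decide)
  have hT := zT F hok.1 hok.2.1 hok.2.2.1 hok.2.2.2 (r := 46) (k := 48) (m := 53) (by decide +kernel) r46 r53 h48 n48 ha
  have hm : ze F 48 h48 n48 a * xe F 53 r53 * xe F 46 r46 ∈ Subgroup.closure (GS K (bT F)) := by
    refine memS F (bT_C F) hT (mul_mem (mul_mem (ze_RE F 48 h48 n48 a) (xe_RE F (by decide) r53))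
      (xe_RE F (by decide) r46)) (mulC F (mulC F (ze_C F h48 n48 (k' := 50) (by decide) (by decide +kernel) a)
        (xe_C F (by decide) r53)) (xe_C F (by decide) r46)) ?_ r65 r6
      (by decide +kernel) (by decide) (ze_RE F 48 h48 n48 a)
      (ze_C F h48 n48 (k' := 50) (by decide) (by decide +kernel) a) (ze_sq F 48 h48 n48 a)
      (ze_comm F h48 n48 r65 (by decide +kernel) (by decide +kernel) a)
      (ze_comm F h48 n48 r6 (by decide +kernel) (by decide +kernel) a) (r := 48) (by decide)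
      (by simp [sgl, ha]) (ext20 ?_) (r' := 48) (by decide) (by simp [sgl, ha])
    · rw [frm_eq F]; simp [sgl]
    · simp [sgl, CharTwo.add_self_eq_zero]
  have h2 := mul_mem (mul_mem hm (inv_mem (m46 F))) (inv_mem (m53 F))
  rwa [mul_inv_cancel_right, mul_inv_cancel_right] at h2

theorem z49 (a : K) : ze F 49 h49 n49 a ∈ Subgroup.closure (GS K (bT F)) := by
  have := F.charP
  rcases eq_or_ne a 0 with rfl | ha
  · rw [ze0 F]; exact one_mem _
  have hok := zT_ok 41 (by decide)
  have hT := zT F hok.1 hok.2.1 hok.2.2.1 hok.2.2.2 (r := 46) (k := 49) (m := 65) (by decide +kernel) r46 r65 h49 n49 ha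
  have hm : ze F 49 h49 n49 a * xe F 65 r65 * xe F 46 r46 ∈ Subgroup.closure (GS K (bT F)) := by
    refine memS F (bT_C F) hT (mul_mem (mul_mem (ze_RE F 49 h49 n49 a) (xe_RE F (by decide) r65))
      (xe_RE F (by decide) r46)) (mulC F (mulC F (ze_C F h49 n49 (k' := 61) (by decide) (by decide +kernel) a)
        (xe_C F (by decide) r65)) (xe_C F (by decide) r46)) ?_ r53 r18
      (by decide +kernel) (by decide) (ze_RE F 49 h49 n49 a)
      (ze_C F h49 n49 (k' := 61) (by decide) (by decide +kernel) a) (ze_sq F 49 h49 n49 a)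
      (ze_comm F h49 n49 r53 (by decide +kernel) (by decide +kernel) a)
      (ze_comm F h49 n49 r18 (by decide +kernel) (by decide +kernel) a) (r := 49) (by decide)
      (by simp [sgl, ha]) (ext20 ?_) (r' := 49) (by decide) (by simp [sgl, ha])
    · rw [frm_eq F]; simp [sgl]
    · simp [sgl, CharTwo.add_self_eq_zero]
  have h2 := mul_mem (mul_mem hm (inv_mem (m46 F))) (inv_mem (m65 F))
  rwa [mul_inv_cancel_right, mul_inv_cancel_right] at h2

theorem z54 (a : K) : ze F 54 h54 n54 a ∈ Subgroup.closure (GS K (bT F)) := by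
  have := F.charP
  rcases eq_or_ne a 0 with rfl | ha
  · rw [ze0 F]; exact one_mem _
  have hok := zT_ok 36 (by decide)
  have hT := zT F hok.1 hok.2.1 hok.2.2.1 hok.2.2.2 (r := 53) (k := 54) (m := 65) (by decide +kernel) r53 r65 h54 n54 ha
  have hm : ze F 54 h54 n54 a * xe F 65 r65 * xe F 53 r53 ∈ Subgroup.closure (GS K (bT F)) := by
    refine memS F (bT_C F) hT (mul_mem (mul_mem (ze_RE F 54 h54 n54 a) (xe_RE F (by decide) r65))
      (xe_RE F (by decide) r53)) (mulC F (mulC F (ze_C F h54 n54 (k' := 64) (by decide) (by decide +kernel) a)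
        (xe_C F (by decide) r65)) (xe_C F (by decide) r53)) ?_ r46 r25
      (by decide +kernel) (by decide) (ze_RE F 54 h54 n54 a)
      (ze_C F h54 n54 (k' := 64) (by decide) (by decide +kernel) a) (ze_sq F 54 h54 n54 a)
      (ze_comm F h54 n54 r46 (by decide +kernel) (by decide +kernel) a)
      (ze_comm F h54 n54 r25 (by decide +kernel) (by decide +kernel) a) (r := 54) (by decide)
      (by simp [sgl, ha]) (ext20 ?_) (r' := 54) (by decide) (by simp [sgl, ha])
    · rw [frm_eq F]; simp [sgl]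
    · simp [sgl, CharTwo.add_self_eq_zero]
  have h2 := mul_mem (mul_mem hm (inv_mem (m53 F))) (inv_mem (m65 F))
  rwa [mul_inv_cancel_right, mul_inv_cancel_right] at h2

theorem z52 (a : K) : ze F 52 h52 n52 a ∈ Subgroup.closure (GS K (bT F)) := by
  have := F.charP
  rcases eq_or_ne a 0 with rfl | ha
  · rw [ze0 F]; exact one_mem _
  have hok := zT_ok 45 (by decide)
  have hT := zT F hok.1 hok.2.1 hok.2.2.1 hok.2.2.2 (r := 46) (k := 52) (m := 69) (by decide +kernel) r46 r69 h52 n52 ha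
  have zc := ze_C F h52 n52 (k' := 62) (by decide) (by decide +kernel) a
  have hm : ze F 52 h52 n52 a * xe F 69 r69 * xe F 46 r46 ∈ Subgroup.closure (GS K (bT F)) := by
    refine memS F (bT_C F) hT (mul_mem (mul_mem (ze_RE F 52 h52 n52 a) (xe_RE F (by decide) r69))
      (xe_RE F (by decide) r46)) (mulC F (mulC F zc (xe_C F (by decide) r69)) (xe_C F (by decide) r46)) ?_ r53 r18
      (by decide +kernel) (by decide) (m := ze F 52 h52 n52 a * xe F 69 r69 * xe F 65 r65)
      (mul_mem (mul_mem (ze_RE F 52 h52 n52 a) (xe_RE F (by decide) r69)) (xe_RE F (by decide) r65))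
      (mulC F (mulC F zc (xe_C F (by decide) r69)) (xe_C F (by decide) r65))
      (sq2 (sq2 (ze_sq F 52 h52 n52 a) (xe_sq F 69 r69)
          (ze_comm F h52 n52 r69 (by decide +kernel) (by decide +kernel) a)) (xe_sq F 65 r65)
        (cm2 (ze_comm F h52 n52 r65 (by decide +kernel) (by decide +kernel) a)
          (xe_comm F r69 r65 (by decide +kernel))))
      (cm2 (cm2 (ze_comm F h52 n52 r53 (by decide +kernel) (by decide +kernel) a)
        (xe_comm F r69 r53 (by decide +kernel))) (xe_comm F r65 r53 (by decide +kernel)))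
      (cm2 (cm2 (ze_comm F h52 n52 r18 (by decide +kernel) (by decide +kernel) a)
        (xe_comm F r69 r18 (by decide +kernel))) (xe_comm F r65 r18 (by decide +kernel)))
      (r := 52) (by decide) (by simp [sgl, ha]) (ext20 ?_) (r' := 52) (by decide) (by simp [sgl, ha])
    · rw [frm_eq F]; simp [sgl]
    · simp [sgl, CharTwo.add_self_eq_zero]
  have h2 := mul_mem (mul_mem hm (inv_mem (m46 F))) (inv_mem (m69 F))
  rwa [mul_inv_cancel_right, mul_inv_cancel_right] at h2

theorem z55 (a : K) : ze F 55 h55 n55 a ∈ Subgroup.closure (GS K (bT F)) := by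
  have := F.charP
  rcases eq_or_ne a 0 with rfl | ha
  · rw [ze0 F]; exact one_mem _
  have hok := zT_ok 38 (by decide)
  have hT := zT F hok.1 hok.2.1 hok.2.2.1 hok.2.2.2 (r := 53) (k := 55) (m := 69) (by decide +kernel) r53 r69 h55 n55 ha
  have zc := ze_C F h55 n55 (k' := 67) (by decide) (by decide +kernel) a
  have hm : ze F 55 h55 n55 a * xe F 69 r69 * xe F 53 r53 ∈ Subgroup.closure (GS K (bT F)) := by
    refine memS F (bT_C F) hT (mul_mem (mul_mem (ze_RE F 55 h55 n55 a) (xe_RE F (by decide) r69))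
      (xe_RE F (by decide) r53)) (mulC F (mulC F zc (xe_C F (by decide) r69)) (xe_C F (by decide) r53)) ?_ r46 r25
      (by decide +kernel) (by decide) (m := ze F 55 h55 n55 a * xe F 69 r69 * xe F 65 r65)
      (mul_mem (mul_mem (ze_RE F 55 h55 n55 a) (xe_RE F (by decide) r69)) (xe_RE F (by decide) r65))
      (mulC F (mulC F zc (xe_C F (by decide) r69)) (xe_C F (by decide) r65))
      (sq2 (sq2 (ze_sq F 55 h55 n55 a) (xe_sq F 69 r69)
          (ze_comm F h55 n55 r69 (by decide +kernel) (by decide +kernel) a)) (xe_sq F 65 r65)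
        (cm2 (ze_comm F h55 n55 r65 (by decide +kernel) (by decide +kernel) a)
          (xe_comm F r69 r65 (by decide +kernel))))
      (cm2 (cm2 (ze_comm F h55 n55 r46 (by decide +kernel) (by decide +kernel) a)
        (xe_comm F r69 r46 (by decide +kernel))) (xe_comm F r65 r46 (by decide +kernel)))
      (cm2 (cm2 (ze_comm F h55 n55 r25 (by decide +kernel) (by decide +kernel) a)
        (xe_comm F r69 r25 (by decide +kernel))) (xe_comm F r65 r25 (by decide +kernel)))
      (r := 55) (by decide) (by simp [sgl, ha]) (ext20 ?_) (r' := 55) (by decide) (by simp [sgl, ha])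
    · rw [frm_eq F]; simp [sgl]
    · simp [sgl, CharTwo.add_self_eq_zero]
  have h2 := mul_mem (mul_mem hm (inv_mem (m53 F))) (inv_mem (m69 F))
  rwa [mul_inv_cancel_right, mul_inv_cancel_right] at h2

theorem z66 (a : K) : ze F 66 h66 n66 a ∈ Subgroup.closure (GS K (bT F)) := by
  have := F.charP
  rcases eq_or_ne a 0 with rfl | ha
  · rw [ze0 F]; exact one_mem _
  have hok := zT_ok 37 (by decide)
  have hT := zT F hok.1 hok.2.1 hok.2.2.1 hok.2.2.2 (r := 65) (k := 66) (m := 69) (by decide +kernel) r65 r69 h66 n66 ha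
  have zc := ze_C F h66 n66 (k' := 68) (by decide) (by decide +kernel) a
  have hm : ze F 66 h66 n66 a * xe F 69 r69 * xe F 65 r65 ∈ Subgroup.closure (GS K (bT F)) := by
    refine memS F (bT_C F) hT (mul_mem (mul_mem (ze_RE F 66 h66 n66 a) (xe_RE F (by decide) r69))
      (xe_RE F (by decide) r65)) (mulC F (mulC F zc (xe_C F (by decide) r69)) (xe_C F (by decide) r65)) ?_ r46 r25
      (by decide +kernel) (by decide) (m := ze F 66 h66 n66 a * xe F 69 r69 * xe F 53 r53)
      (mul_mem (mul_mem (ze_RE F 66 h66 n66 a) (xe_RE F (by decide) r69)) (xe_RE F (by decide) r53))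
      (mulC F (mulC F zc (xe_C F (by decide) r69)) (xe_C F (by decide) r53))
      (sq2 (sq2 (ze_sq F 66 h66 n66 a) (xe_sq F 69 r69)
          (ze_comm F h66 n66 r69 (by decide +kernel) (by decide +kernel) a)) (xe_sq F 53 r53)
        (cm2 (ze_comm F h66 n66 r53 (by decide +kernel) (by decide +kernel) a)
          (xe_comm F r69 r53 (by decide +kernel))))
      (cm2 (cm2 (ze_comm F h66 n66 r46 (by decide +kernel) (by decide +kernel) a)
        (xe_comm F r69 r46 (by decide +kernel))) (xe_comm F r53 r46 (by decide +kernel)))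
      (cm2 (cm2 (ze_comm F h66 n66 r25 (by decide +kernel) (by decide +kernel) a)
        (xe_comm F r69 r25 (by decide +kernel))) (xe_comm F r53 r25 (by decide +kernel)))
      (r := 66) (by decide) (by simp [sgl, ha]) (ext20 ?_) (r' := 66) (by decide) (by simp [sgl, ha])
    · rw [frm_eq F]; simp [sgl]
    · simp [sgl, CharTwo.add_self_eq_zero]
  have h2 := mul_mem (mul_mem hm (inv_mem (m65 F))) (inv_mem (m69 F))
  rwa [mul_inv_cancel_right, mul_inv_cancel_right] at h2

/-! ### The odd diagonals -/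

theorem conj_mulC {X p q : ↥(twistedE6 K 2)} {t s : Fin 72 → K}
    (hp : HasC ((X * p * X⁻¹ : ↥(twistedE6 K 2)) : GL chevE6.Idx K) t)
    (hq : HasC ((X * q * X⁻¹ : ↥(twistedE6 K 2)) : GL chevE6.Idx K) s) :
    HasC ((X * (p * q) * X⁻¹ : ↥(twistedE6 K 2)) : GL chevE6.Idx K) (t + s) := by
  have e : X * (p * q) * X⁻¹ = X * p * X⁻¹ * (X * q * X⁻¹) := by group
  rw [e]
  exact mulC F hp hq

theorem mul_comm_C {X p : ↥(twistedE6 K 2)} {t : Fin 72 → K} (h : p * X = X * p)
    (hp : HasC (p : GL chevE6.Idx K) t) : HasC ((X * p * X⁻¹ : ↥(twistedE6 K 2)) : GL chevE6.Idx K) t :=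
  conj_C F h.symm hp

theorem o63 : xe F 63 r63 * xe F 70 r70 ∈ Subgroup.closure (GS K (bT F)) := by
  have := F.charP
  have hok := zT_ok 40 (by decide)
  have hT := zT F hok.1 hok.2.1 hok.2.2.1 hok.2.2.2 (r := 63) (k := 66) (m := 70) (by decide +kernel) r63 r70 h66 n66
    (one_ne_zero (α := K))
  have zc := ze_C F h66 n66 (k' := 68) (by decide) (by decide +kernel) (1 : K)
  have hy : ze F 66 h66 n66 1 * xe F 70 r70 * xe F 63 r63 ∈ Subgroup.closure (GS K (bT F)) := by
    refine Subgroup.subset_closure (Or.inr ⟨hT, mul_mem (mul_mem (ze_RE F 66 h66 n66 1) (xe_RE F (by decide) r70))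
      (xe_RE F (by decide) r63), comm_of F (mulC F (mulC F zc (xe_C F (by decide) r70)) (xe_C F (by decide) r63))
        (bT_C F) ?_, fun hb => ?_⟩)
    · rw [frm_eq F]; simp [sgl, CharTwo.add_self_eq_zero]
    · have h1 := conj_T hb (xe F 60 r60)
      have hC := conj_mulC F (X := xe F 60 r60) (conj_mulC F (conj_mulC F
        (mul_comm_C F (ze_comm F h66 n66 r60 (by decide +kernel) (by decide +kernel) 1) zc)
        (mul_comm_C F (xe_comm F r70 r60 (by decide +kernel)) (xe_C F (by decide) r70)))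
        (mul_comm_C F (xe_comm F r63 r60 (by decide +kernel)) (xe_C F (by decide) r63)))
        (conj_mulC F (conj_mulC F
          (conj_C' F r60 r46 r63 (by decide +kernel) (by decide +kernel) (by decide) (by decide))
          (conj_C' F r60 r53 r70 (by decide +kernel) (by decide +kernel) (by decide) (by decide)))
          (mul_comm_C F (xe_comm F r65 r60 (by decide +kernel)) (xe_C F (by decide) r65)))
      have zm := mulC F zc (mulC F (xe_C F (r := 53) (by decide) r53) (xe_C F (r := 65) (by decide) r65))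
      refine notT F (q := xe F 46 r46 * (ze F 66 h66 n66 1 * (xe F 53 r53 * xe F 65 r65)))
        (mul_mem (xe_RE F (by decide) r46) (mul_mem (ze_RE F 66 h66 n66 1) (mul_mem (xe_RE F (by decide) r53)
          (xe_RE F (by decide) r65)))) hC (mulC F (xe_C F (by decide) r46) zm) (ext20 ?_)
        (vis F r46 r25 (by decide +kernel) ?_ (ne_of F zm (r := 53) (by decide) (by simp [sgl])).1 ?_ ?_)
        (r := 53) (by decide) (by simp [sgl]) h1
      · simp [sgl, CharTwo.add_self_eq_zero]
      · exact sq2 (ze_sq F 66 h66 n66 1) (sq2 (xe_sq F 53 r53) (xe_sq F 65 r65) (xe_comm F r53 r65 (by decide +kernel)))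
          (cm2 (ze_comm F h66 n66 r53 (by decide +kernel) (by decide +kernel) 1).symm
            (ze_comm F h66 n66 r65 (by decide +kernel) (by decide +kernel) 1).symm).symm
      · exact cm2 (ze_comm F h66 n66 r46 (by decide +kernel) (by decide +kernel) 1)
          (cm2 (xe_comm F r53 r46 (by decide +kernel)) (xe_comm F r65 r46 (by decide +kernel)))
      · exact cm2 (ze_comm F h66 n66 r25 (by decide +kernel) (by decide +kernel) 1)
          (cm2 (xe_comm F r53 r25 (by decide +kernel)) (xe_comm F r65 r25 (by decide +kernel)))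
  have h2 := mul_mem (inv_mem (z66 F 1)) hy
  rwa [mul_assoc, inv_mul_cancel_left, xe_comm F r70 r63 (by decide +kernel)] at h2

theorem o51 : xe F 51 r51 * xe F 70 r70 ∈ Subgroup.closure (GS K (bT F)) := by
  have := F.charP
  have hok := zT_ok 41 (by decide)
  have hT := zT F hok.1 hok.2.1 hok.2.2.1 hok.2.2.2 (r := 51) (k := 55) (m := 70) (by decide +kernel) r51 r70 h55 n55
    (one_ne_zero (α := K))
  have zc := ze_C F h55 n55 (k' := 67) (by decide) (by decide +kernel) (1 : K)
  have hy : ze F 55 h55 n55 1 * xe F 70 r70 * xe F 51 r51 ∈ Subgroup.closure (GS K (bT F)) := by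
    refine Subgroup.subset_closure (Or.inr ⟨hT, mul_mem (mul_mem (ze_RE F 55 h55 n55 1) (xe_RE F (by decide) r70))
      (xe_RE F (by decide) r51), comm_of F (mulC F (mulC F zc (xe_C F (by decide) r70)) (xe_C F (by decide) r51))
        (bT_C F) ?_, fun hb => ?_⟩)
    · rw [frm_eq F]; simp [sgl, CharTwo.add_self_eq_zero]
    · have h1 := conj_T hb (xe F 44 r44)
      have hC := conj_mulC F (X := xe F 44 r44) (conj_mulC F (conj_mulC F
        (mul_comm_C F (ze_comm F h55 n55 r44 (by decide +kernel) (by decide +kernel) 1) zc)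
        (mul_comm_C F (xe_comm F r70 r44 (by decide +kernel)) (xe_C F (by decide) r70)))
        (mul_comm_C F (xe_comm F r51 r44 (by decide +kernel)) (xe_C F (by decide) r51)))
        (conj_mulC F (conj_mulC F
          (conj_C' F r44 r46 r51 (by decide +kernel) (by decide +kernel) (by decide) (by decide))
          (mul_comm_C F (xe_comm F r53 r44 (by decide +kernel)) (xe_C F (by decide) r53)))
          (conj_C' F r44 r65 r70 (by decide +kernel) (by decide +kernel) (by decide) (by decide)))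
      have zm := mulC F zc (mulC F (xe_C F (r := 53) (by decide) r53) (xe_C F (r := 65) (by decide) r65))
      refine notT F (q := xe F 46 r46 * (ze F 55 h55 n55 1 * (xe F 53 r53 * xe F 65 r65)))
        (mul_mem (xe_RE F (by decide) r46) (mul_mem (ze_RE F 55 h55 n55 1) (mul_mem (xe_RE F (by decide) r53)
          (xe_RE F (by decide) r65)))) hC (mulC F (xe_C F (by decide) r46) zm) (ext20 ?_)
        (vis F r46 r25 (by decide +kernel) ?_ (ne_of F zm (r := 53) (by decide) (by simp [sgl])).1 ?_ ?_)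
        (r := 53) (by decide) (by simp [sgl]) h1
      · simp [sgl, CharTwo.add_self_eq_zero]
      · exact sq2 (ze_sq F 55 h55 n55 1) (sq2 (xe_sq F 53 r53) (xe_sq F 65 r65) (xe_comm F r53 r65 (by decide +kernel)))
          (cm2 (ze_comm F h55 n55 r53 (by decide +kernel) (by decide +kernel) 1).symm
            (ze_comm F h55 n55 r65 (by decide +kernel) (by decide +kernel) 1).symm).symm
      · exact cm2 (ze_comm F h55 n55 r46 (by decide +kernel) (by decide +kernel) 1)
          (cm2 (xe_comm F r53 r46 (by decide +kernel)) (xe_comm F r65 r46 (by decide +kernel)))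
      · exact cm2 (ze_comm F h55 n55 r25 (by decide +kernel) (by decide +kernel) 1)
          (cm2 (xe_comm F r53 r25 (by decide +kernel)) (xe_comm F r65 r25 (by decide +kernel)))
  have h2 := mul_mem (inv_mem (z55 F 1)) hy
  rwa [mul_assoc, inv_mul_cancel_left, xe_comm F r70 r51 (by decide +kernel)] at h2

theorem N_le : Subgroup.closure (GS K (bT F)) ≤ RE K := by
  rw [Subgroup.closure_le]
  rintro y (rfl | hy)
  · exact bT_RE F
  · exact hy.2.1

theorem N_comm {n : ↥(twistedE6 K 2)} (hn : n ∈ Subgroup.closure (GS K (bT F))) : n * bT F = bT F * n := by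
  have h : Subgroup.closure (GS K (bT F)) ≤ Subgroup.centralizer {bT F} := by
    rw [Subgroup.closure_le]
    rintro y (rfl | hy)
    · exact Subgroup.mem_centralizer_singleton_iff.2 rfl
    · exact Subgroup.mem_centralizer_singleton_iff.2 hy.2.2.1
  exact Subgroup.mem_centralizer_singleton_iff.1 (h hn)

/-- **(G2)** `C_R(b)`, `b` the product of the triangle `x_46, x_53, x_65`, is generated by `b` and root involutions `y`
with `y b` not a root involution. -/
theorem gen_tri : Gen K (bT F) := by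
  have := F.charP
  have h46 := m46 F
  have h47 := m47 F
  have h53 := m53 F
  have h65 := m65 F
  have h69 := m69 F
  have hz : ∀ p (hp : p ∈ rp) (t : K), ze F p.1 (rp_tab p hp).1 (rp_tab p hp).2.2.2.1 t ∈
      Subgroup.closure (GS K (bT F)) := by
    intro p hp t
    have h := hp
    simp only [rp, List.mem_cons, List.not_mem_nil, or_false] at h
    rcases h with rfl | rfl | rfl | rfl | rfl | rfl
    · exact z48 F t
    · exact z49 F t
    · exact z52 F t
    · exact z54 F t
    · exact z55 F t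
    · exact z66 F t
  refine close F _ (N_le F) (r0_mem F) (xe_RE F (r := 70) (by decide) r70) (xe_sq F 70 r70) (fun n hn => N_comm F hn)
    (not_comm_of F (xe_C F (by decide) r70) (bT_C F) ?_) ?_ hz
  · rw [frm_eq F]; simp [sgl]
  · intro r hr
    have h := hr
    simp only [fx, List.mem_cons, List.not_mem_nil, or_false] at h
    rcases h with rfl | rfl | rfl | rfl | rfl | rfl | rfl | rfl
    · exact Or.inl h46
    · exact Or.inl h47
    · exact Or.inr (o51 F)
    · exact Or.inl h53
    · exact Or.inr (o63 F)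
    · exact Or.inl h65
    · exact Or.inl h69
    · refine Or.inr ?_
      rw [xe_sq F 70 r70]
      exact one_mem _

theorem bT_w_not : bT F * r0 F ∉ rootClass K := by
  have h := ne_of F (bT_C F) (r := 46) (by decide) (by simp [sgl])
  exact not_T_w F (bT_RE F) (bT_not F) h.1 h.2

/-- **(G2)** in the form of S1736(a). -/
theorem good_tri : ∃ p q r : ↥(twistedE6 K 2), Cfsg.Agent.BabyU.Key.Tri (rootClass K) p q r ∧
    (p * q * r ∈ RE K ∧ p * q * r * r0 F ∉ rootClass K ∧
      ∀ x ∈ RE K, x * (p * q * r) = p * q * r * x → x ∈ Subgroup.closure ({y | y ∈ rootClass K ∧ y ∈ RE K ∧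
        y * (p * q * r) = p * q * r * y ∧ y * (p * q * r) ∉ rootClass K} ∪ {p * q * r, r0 F})) := by
  refine ⟨xe F 46 r46, xe F 53 r53, xe F 65 r65, tri F, bT_RE F, bT_w_not F, fun x hx hxb => ?_⟩
  have h := gen_tri F x hx hxb
  refine (Subgroup.closure_mono ?_) h
  rintro y (rfl | hy)
  · exact Or.inr (Or.inl rfl)
  · exact Or.inl hy

end Four

end Cfsg.Agent.TwoESix.GenTri
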