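import Cfsg.Agent.TwoESix.ExtModelF
import Cfsg.Agent.TwoESix.ClassIso

/-!
# The root involutions of `²E₆(2)`

`Basic R`: `R` is a class of involutions; the product of two elements of `R` has order 1, 2, 3 or 4; the opposite pairs
form one orbit; `R` is the set of all 2-central involutions.
`exists_rootEquiv`: `twistedE6 K 2`, `|K| = 4`, is the group `Γ` of the 78-dimensional algebra `A`, root involutions are
those of the extremal elements.
`basic`: `Basic (rootClass K)`.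
-/

set_option autoImplicit false

namespace Cfsg.Agent.TwoESix.ExtTwisted

open Cfsg.Lie Cfsg.Agent.BabyU Cfsg.Agent.TwoESix.RootsCfg Cfsg.Agent.TwoESix.Iso
open Cfsg.Agent.TwoESix.ExtCode Cfsg.Agent.TwoESix.ExtAlg Cfsg.Agent.TwoESix.ExtModel
open Cfsg.Agent.TwoESix.ExtAlg.Alg Cfsg.Agent.TwoESix.ExtLocal Cfsg.Agent.TwoESix.ExtGlobal

/-- properties of the class of root involutions -/
structure Basic {E : Type*} [Group E] (R : Set E) : Prop where
  ne : ∀ r ∈ R, r ≠ 1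
  sq : ∀ r ∈ R, r * r = 1
  conj : ∀ r ∈ R, ∀ g : E, g * r * g⁻¹ ∈ R
  one : ∀ r ∈ R, ∀ s ∈ R, ∃ g : E, g * r * g⁻¹ = s
  ord : ∀ r ∈ R, ∀ s ∈ R, (r * s) ^ 4 = 1 ∨ (r * s) ^ 3 = 1
  opp : ∃ r ∈ R, ∃ s ∈ R, r ≠ s ∧ (r * s) ^ 3 = 1
  opp_trans : ∀ r ∈ R, ∀ s ∈ R, ∀ r' ∈ R, ∀ s' ∈ R, r ≠ s → (r * s) ^ 3 = 1 → r' ≠ s' → (r' * s') ^ 3 = 1 →
    ∃ g : E, g * r * g⁻¹ = r' ∧ g * s * g⁻¹ = s'
  central : ∀ x : E, Cfsg.IsTwoCentralInvolution x ↔ x ∈ R

/-! ### Transport -/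

theorem twoCentral_map {E E' : Type*} [Group E] [Group E'] [Finite E] (θ : E ≃* E') {x : E}
    (h : Cfsg.IsTwoCentralInvolution x) : Cfsg.IsTwoCentralInvolution (θ x) := by
  obtain ⟨h1, P, hP, hc⟩ := h
  refine ⟨by rw [← h1]; exact orderOf_injective θ.toMonoidHom θ.injective x, P.mapSurjective (f := θ.toMonoidHom) θ.surjective, ?_, ?_⟩
  · exact ⟨x, hP, rfl⟩
  · rintro _ ⟨y, hy, rfl⟩
    show θ y * θ x = θ x * θ y
    rw [← map_mul, hc y hy, map_mul]

theorem Basic.of_equiv {E E' : Type*} [Group E] [Group E'] [Finite E] {R : Set E} {R' : Set E'} (θ : E ≃* E')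
    (h : ∀ x, x ∈ R ↔ θ x ∈ R') (B : Basic R') : Basic R := by
  have : Finite E' := Finite.of_equiv _ θ.toEquiv
  have hc : ∀ (g : E') (x : E) (y : E), g * θ x * g⁻¹ = θ y → θ.symm g * x * (θ.symm g)⁻¹ = y := by
    intro g x y hg
    apply θ.injective
    rw [map_mul, map_mul, map_inv, θ.apply_symm_apply, hg]
  have hT : ∀ y ∈ R', ∃ x ∈ R, θ x = y := fun y hy =>
    ⟨θ.symm y, (h _).2 (by rwa [θ.apply_symm_apply]), θ.apply_symm_apply y⟩
  have hp : ∀ (x y : E) (n : ℕ), (θ x * θ y) ^ n = 1 ↔ (x * y) ^ n = 1 := by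
    intro x y n
    rw [← map_mul, ← map_pow, map_eq_one_iff θ θ.injective]
  refine ⟨?_, ?_, ?_, ?_, ?_, ?_, ?_, ?_⟩
  · rintro r hr rfl
    exact B.ne _ ((h _).1 hr) (map_one θ)
  · intro r hr
    apply θ.injective
    rw [map_mul, map_one, B.sq _ ((h _).1 hr)]
  · intro r hr g
    rw [h, map_mul, map_mul, map_inv]
    exact B.conj _ ((h _).1 hr) _
  · intro r hr s hs
    obtain ⟨g, hg⟩ := B.one _ ((h _).1 hr) _ ((h _).1 hs)
    exact ⟨_, hc _ _ _ hg⟩
  · intro r hr s hs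
    have := B.ord _ ((h _).1 hr) _ ((h _).1 hs)
    rwa [hp, hp] at this
  · obtain ⟨a, ha, b, hb, hab, h3⟩ := B.opp
    obtain ⟨a, ha', rfl⟩ := hT a ha
    obtain ⟨b, hb', rfl⟩ := hT b hb
    rw [hp] at h3
    exact ⟨a, ha', b, hb', fun e => hab (by rw [e]), h3⟩
  · intro a ha b hb a' ha' b' hb' hn h1 hn' h2
    rw [← hp] at h1 h2
    obtain ⟨g, hg, hg'⟩ := B.opp_trans _ ((h _).1 ha) _ ((h _).1 hb) _ ((h _).1 ha') _ ((h _).1 hb')
      (fun e => hn (θ.injective e)) h1 (fun e => hn' (θ.injective e)) h2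
    exact ⟨_, hc _ _ _ hg, hc _ _ _ hg'⟩
  · intro x
    rw [h, ← B.central]
    constructor
    · exact twoCentral_map θ
    · intro hx
      have := twoCentral_map θ.symm hx
      rwa [θ.symm_apply_apply] at this

theorem Basic.auto {E E' : Type*} [Group E] [Group E'] [Finite E] {R : Set E} {R' : Set E'} (B : Basic R)
    (B' : Basic R') (θ : E ≃* E') (x : E) : x ∈ R ↔ θ x ∈ R' := by
  have : Finite E' := Finite.of_equiv _ θ.toEquiv
  rw [← B.central, ← B'.central]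
  constructor
  · exact twoCentral_map θ
  · intro hx
    have := twoCentral_map θ.symm hx
    rwa [θ.symm_apply_apply] at this

/-! ### In the model -/

/-- root involutions of the model -/
def RΓ : Set Γ := {x | (x : V ≃ₗ[ZMod 2] V) ∈ A.R}

theorem basic_Γ : Basic RΓ := by
  refine ⟨?_, ?_, ?_, ?_, ?_, ?_, ?_, ?_⟩
  · rintro r ⟨z, hz, h⟩ rfl
    exact g_ne_one hz h
  · rintro r ⟨z, hz, h⟩
    apply Subtype.ext
    show (r : V ≃ₗ[ZMod 2] V) * r = 1
    rw [← h, g_sq]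
  · intro r hr g
    exact R_conj (Γ_le g.2) hr
  · rintro r ⟨z, hz, h⟩ s ⟨w, hw, h'⟩
    obtain ⟨γ, hγ, h1⟩ := glob.trans hz
    obtain ⟨δ, hδ, h2⟩ := glob.trans hw
    refine ⟨⟨δ, hδ⟩ * ⟨γ, hγ⟩⁻¹, Subtype.ext ?_⟩
    show δ * γ⁻¹ * r * (δ * γ⁻¹)⁻¹ = s
    rw [← h, ← h', ← g_map hz (A.Aut.mul_mem (Γ_le hδ) (A.Aut.inv_mem (Γ_le hγ))), LinearEquiv.mul_apply, ← h1,
      inv_apply, h2]
  · rintro r ⟨z, hz, h⟩ s ⟨w, hw, h'⟩
    rcases z2 (A.B z w) with h0 | h1
    · left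
      apply Subtype.ext
      show ((r : V ≃ₗ[ZMod 2] V) * s) ^ 4 = 1
      rw [← h, ← h', pow_four hz hw h0]
    · right
      apply Subtype.ext
      show ((r : V ≃ₗ[ZMod 2] V) * s) ^ 3 = 1
      rw [← h, ← h', ((opp_iff hz hw).1 h1).1]
  · have h1 := (opp_iff ec_ext yc_ext).1 B_ey
    refine ⟨⟨_, glob.ge⟩, ⟨_, ec_ext, rfl⟩, ⟨_, glob.gy⟩, ⟨_, yc_ext, rfl⟩, fun e => h1.2 (congrArg Subtype.val e), ?_⟩
    exact Subtype.ext h1.1
  · rintro r ⟨z, hz, h⟩ s ⟨w, hw, h'⟩ r' ⟨z', hz', k⟩ s' ⟨w', hw', k'⟩ hn h3 hn' h3'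
    have h4 : A.B z w = 1 := (opp_iff hz hw).2 ⟨by rw [h, h']; exact congrArg Subtype.val h3, by
      rw [h, h']; exact fun e => hn (Subtype.ext e)⟩
    have h5 : A.B z' w' = 1 := (opp_iff hz' hw').2 ⟨by rw [k, k']; exact congrArg Subtype.val h3', by
      rw [k, k']; exact fun e => hn' (Subtype.ext e)⟩
    obtain ⟨γ, hγ, h6, h7⟩ := glob.opp_trans hz hw h4 hz' hw' h5
    refine ⟨⟨γ, hγ⟩, Subtype.ext ?_, Subtype.ext ?_⟩
    · show γ * r * γ⁻¹ = r'
      rw [← h, ← g_map hz (Γ_le hγ), h6, k]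
    · show γ * s * γ⁻¹ = s'
      rw [← h', ← g_map hw (Γ_le hγ), h7, k']
  · exact fun x => glob.twoCentral_iff x

/-- conjugates of the first generator are the root involutions -/
theorem gl_TG (x : GL (Fin 78) (ZMod 2)) : x ∈ TG ↔ gl x ∈ A.R := by
  constructor
  · rintro ⟨g, hg, rfl⟩
    have h1 : gl g ∈ A.Aut := Γ_le ⟨g, hg, rfl⟩
    rw [map_mul, map_mul, map_inv]
    refine R_conj h1 ⟨vc b0, b0_ext, g_b0⟩
  · rintro ⟨z, hz, h⟩
    obtain ⟨γ, hγ, h1⟩ := glob.trans hz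
    obtain ⟨γ₀, hγ₀, h2⟩ := yc_mem
    obtain ⟨g, hg, h3⟩ := Γ.mul_mem hγ hγ₀
    have h3' : gl g = γ * γ₀ := h3
    refine ⟨g, hg, ?_⟩
    apply gl.injective
    rw [map_mul, map_mul, map_inv, ← h, ← h1, ← h2, ← LinearEquiv.mul_apply, ← h3',
      g_map b0_ext (Γ_le ⟨g, hg, rfl⟩ : gl g ∈ A.Aut), g_b0]
    rfl

/-- `Gam` is `Γ` -/
noncomputable def gamEquiv : Gam ≃* Γ := Gam.equivMapOfInjective gl.toMonoidHom gl.injective

theorem gamEquiv_apply (x : Gam) : ((gamEquiv x : Γ) : V ≃ₗ[ZMod 2] V) = gl x := rfl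

/-- **The group `²E₆(2)` acts on the algebra.** -/
theorem exists_rootEquiv (K : Type*) [Field K] [Fintype K] (hK : Fintype.card K = 4) :
    ∃ θ : twistedE6 K 2 ≃* Γ, ∀ x, x ∈ rootClass K ↔ ((θ x : Γ) : V ≃ₗ[ZMod 2] V) ∈ A.R := by
  obtain ⟨θ, h⟩ := Cfsg.Agent.TwoESix.ClassIso.exists_equiv K hK
  refine ⟨θ.trans gamEquiv, fun x => ?_⟩
  rw [h, gl_TG, MulEquiv.trans_apply, gamEquiv_apply]

/-- **The root involutions of `²E₆(2)`.** -/
theorem basic (K : Type*) [Field K] [Fintype K] (hK : Fintype.card K = 4) : Basic (rootClass K) := by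
  obtain ⟨θ, h⟩ := exists_rootEquiv K hK
  exact Basic.of_equiv θ h basic_Γ

/-- **(o3)** Isomorphisms preserve the root involutions. -/
theorem auto (K K' : Type*) [Field K] [Fintype K] [Field K'] [Fintype K'] (hK : Fintype.card K = 4)
    (hK' : Fintype.card K' = 4) (θ : twistedE6 K 2 ≃* twistedE6 K' 2) (x : twistedE6 K 2) :
    x ∈ rootClass K ↔ θ x ∈ rootClass K' :=
  (basic K hK).auto (basic K' hK') θ x

/-! ### Double covers -/

/-- An automorphism of a central extension with kernel of order two, mapping the kernel to itself, preserves the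
preimages of root involutions. -/
theorem cover_auto {M : Type*} [Group M] {E : Type*} [Group E] [Finite E] {R : Set E} (B : Basic R) {π : M →* E}
    (hπ : Function.Surjective π) (α : M ≃* M) (hk : ∀ m, π m = 1 ↔ π (α m) = 1) (m : M) :
    π m ∈ R ↔ π (α m) ∈ R := by
  have h1 : π.ker = (π.comp α.toMonoidHom).ker := by
    ext m
    exact hk m
  have h2 : Function.Surjective (π.comp α.toMonoidHom) := hπ.comp α.surjective
  let θ : E ≃* E := ((QuotientGroup.quotientKerEquivOfSurjective π hπ).symm.trans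
    (QuotientGroup.quotientMulEquivOfEq h1)).trans (QuotientGroup.quotientKerEquivOfSurjective _ h2)
  have h3 : ∀ m, θ (π m) = π (α m) := by
    intro m
    have h4 : (QuotientGroup.quotientKerEquivOfSurjective π hπ).symm (π m) = (m : M ⧸ π.ker) := by
      rw [MulEquiv.symm_apply_eq]
      rfl
    show (QuotientGroup.quotientKerEquivOfSurjective _ h2) ((QuotientGroup.quotientMulEquivOfEq h1)
      ((QuotientGroup.quotientKerEquivOfSurjective π hπ).symm (π m))) = π (α m)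
    rw [h4]
    rfl
  rw [← h3]
  exact B.auto B θ _

/-- the centraliser of `t` preserves the root involutions -/
theorem setup_inv {G : Type*} [Group G] {t : G} {M : Subgroup G} {E : Type*} [Group E] [Finite E] {π : M →* E} {R : Set E}
    (B : Basic R) (S : Setup t M π) (g : G) (hg : g * t = t * g) (m m' : M) (h : (m' : G) = g * m * g⁻¹)
    (hm : π m ∈ R) : π m' ∈ R := by
  have hg' : g⁻¹ * t = t * g⁻¹ := by
    calc g⁻¹ * t = g⁻¹ * (t * g) * g⁻¹ := by group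
      _ = g⁻¹ * (g * t) * g⁻¹ := by rw [hg]
      _ = t * g⁻¹ := by group
  let α : M ≃* M :=
    { toFun := fun x => ⟨g * x * g⁻¹, S.norm g hg x x.2⟩
      invFun := fun x => ⟨g⁻¹ * x * g, by
        have := S.norm g⁻¹ hg' x x.2
        rwa [inv_inv] at this⟩
      left_inv := fun x => Subtype.ext (by show g⁻¹ * (g * x * g⁻¹) * g = x; group)
      right_inv := fun x => Subtype.ext (by show g * (g⁻¹ * x * g) * g⁻¹ = x; group)
      map_mul' := fun x y => Subtype.ext (by show g * (x * y) * g⁻¹ = g * x * g⁻¹ * (g * y * g⁻¹); group) }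
  have h1 : m' = α m := Subtype.ext h
  rw [h1]
  refine (cover_auto B S.surj α (fun x => ?_) m).1 hm
  rw [S.ker, S.ker]
  have h2 : ((α x : M) : G) = g * x * g⁻¹ := rfl
  rw [h2]
  constructor
  · rintro (h | h)
    · left; rw [h]; group
    · right; rw [h, hg]; group
  · rintro (h | h)
    · left
      calc (x : G) = g⁻¹ * (g * x * g⁻¹) * g := by group
        _ = 1 := by rw [h]; group
    · right
      calc (x : G) = g⁻¹ * (g * x * g⁻¹) * g := by group
        _ = t := by rw [h, hg']; group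

end Cfsg.Agent.TwoESix.ExtTwisted
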