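import Cfsg.Agent.ChevalleyStructure.CoxeterWordCheck
import Cfsg.Agent.Fischer.ZCentral

/-!
Consequences of the Coxeter relations of the diagram `Y₃₃₃` and the spider relation, for an arbitrary group `G` with
elements `s 0, …, s 9` (printed `t2, …, t11`: `s k = t(k+2)`; centre `t5 = s 3`; arms `t4 t3 t2 = s 2, s 1, s 0`,
`t6 t7 t8 = s 4, s 5, s 6`, `t9 t10 t11 = s 7, s 8, s 9`).

* `ev_eq_ev`: equality of two words is decided on the root lattice (kernel computation).
* `spider_eq_one`: if the tenth power of the spider is central of exponent two, it is trivial.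
* `W321_eq` …: the two `E₇` words with the same long arm have the same ninth power.
-/

set_option autoImplicit false

namespace Cfsg.Agent.TwoESix.Cox10

open Cfsg.Agent.ChevalleyStructure.CoxeterGeom Cfsg.Agent.ChevalleyStructure.CoxeterWordCheck

/-- Adjacency in the diagram `Y₃₃₃`. -/
def adj (i j : Fin 10) : Bool :=
  ([(0, 1), (1, 2), (2, 3), (3, 4), (4, 5), (5, 6), (3, 7), (7, 8), (8, 9)] : List (Fin 10 × Fin 10)).any
    fun e => (e.1 == i && e.2 == j) || (e.1 == j && e.2 == i)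

/-- The labels. -/
def lab (i j : Fin 10) : ℕ := if i = j then 1 else if adj i j then 3 else 2

theorem lab_symm : ∀ i j : Fin 10, lab j i = lab i j := by decide

theorem lab_diag : ∀ i : Fin 10, lab i i = 1 := by decide

theorem lab_off : ∀ i j : Fin 10, i ≠ j → lab i j ≠ 1 := by decide

theorem lab_cases : ∀ i j : Fin 10, lab i j = 1 ∧ i = j ∨ lab i j = 2 ∨ lab i j = 3 := by decide

/-- The Coxeter matrix of `Y₃₃₃`. -/
def M10 : CoxeterMatrix (Fin 10) where
  M := Matrix.of lab
  isSymm := Matrix.IsSymm.ext fun i j => lab_symm i j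
  diagonal := lab_diag
  off_diagonal := lab_off

theorem M10_apply (i j : Fin 10) : M10 i j = lab i j := rfl

/-- The Cartan matrix of `Y₃₃₃`. -/
def A10 (i j : Fin 10) : ℤ := if i = j then 2 else if adj i j then -1 else 0

theorem A10_diag : ∀ i : Fin 10, A10 i i = 2 := by decide

theorem A10_rel : ∀ i j : Fin 10, i ≠ j → (lab i j = 2 ∧ A10 i j = 0 ∧ A10 j i = 0) ∨
    (lab i j = 3 ∧ A10 i j = -1 ∧ A10 j i = -1) := by decide

theorem isCartan : IsCartan M10 A10 where
  diag := A10_diag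
  rel i j hij := by
    rcases A10_rel i j hij with h | h
    · exact Or.inl h
    · exact Or.inr (Or.inl h)

variable {G : Type*} [Group G]

/-- Value of a word. -/
def ev (s : Fin 10 → G) (w : List (Fin 10)) : G := (w.map s).prod

theorem ev_append (s : Fin 10 → G) (v w : List (Fin 10)) : ev s (v ++ w) = ev s v * ev s w := by
  rw [ev, ev, ev, List.map_append, List.prod_append]

theorem ev_nil (s : Fin 10 → G) : ev s [] = 1 := rfl

theorem ev_cons (s : Fin 10 → G) (i : Fin 10) (w : List (Fin 10)) : ev s (i :: w) = s i * ev s w := by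
  rw [ev, ev, List.map_cons, List.prod_cons]

theorem ev_map {H : Type*} [Group H] (f : G →* H) (s : Fin 10 → G) (w : List (Fin 10)) :
    f (ev s w) = ev (fun i => f (s i)) w := by
  rw [ev, ev, map_list_prod, List.map_map]; rfl

theorem ev_comp (s : Fin 10 → G) (p : Fin 10 → Fin 10) (w : List (Fin 10)) :
    ev (fun i => s (p i)) w = ev s (w.map p) := by
  rw [ev, ev, List.map_map]; rfl

/-- `k`-fold repetition of a word. -/
def rep (k : ℕ) (w : List (Fin 10)) : List (Fin 10) := (List.replicate k w).flatten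

theorem ev_rep (s : Fin 10 → G) (k : ℕ) (w : List (Fin 10)) : ev s (rep k w) = ev s w ^ k := by
  induction k with
  | zero => simp [rep, ev_nil]
  | succ k ih =>
    rw [rep, List.replicate_succ, List.flatten_cons, ev_append, ← rep, ih, pow_succ']

variable {s : Fin 10 → G}

theorem sq (hs : M10.IsLiftable s) (i : Fin 10) : s i * s i = 1 := by
  have := hs i i
  rwa [M10.diagonal, pow_one] at this

theorem ev_reverse (hs : M10.IsLiftable s) (w : List (Fin 10)) : ev s w.reverse = (ev s w)⁻¹ := by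
  induction w with
  | nil => simp [ev_nil]
  | cons i w ih =>
    rw [List.reverse_cons, ev_append, ih, ev_cons, ev_cons, ev_nil, mul_one, mul_inv_rev,
      inv_eq_of_mul_eq_one_left (sq hs i)]

/-- The homomorphism from the Coxeter group. -/
theorem ev_eq_lift (hs : M10.IsLiftable s) (w : List (Fin 10)) :
    ev s w = M10.toCoxeterSystem.lift ⟨s, hs⟩ (M10.toCoxeterSystem.wordProd w) := by
  rw [CoxeterSystem.wordProd, map_list_prod, ev, List.map_map]
  congr 1
  refine List.map_congr_left fun i _ => ?_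
  rw [Function.comp_apply, CoxeterSystem.lift_apply_simple]

/-- The kernel check for the equality of two words in the Coxeter group `Y₃₃₃`. -/
def chk (w w' : List (Fin 10)) : Bool :=
  (List.range 10).all (fun i => actList (rows A10) (w.map (·.val)) (unit 10 i) ==
      actList (rows A10) (w'.map (·.val)) (unit 10 i))

theorem ev_eq_ev (hs : M10.IsLiftable s) {w w' : List (Fin 10)} (h : chk w w' = true) : ev s w = ev s w' := by
  rw [ev_eq_lift hs, ev_eq_lift hs,
    wordProd_eq_wordProd M10.toCoxeterSystem isCartan w w' h]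

/-- The spider word `t5 t4 t3 t5 t6 t7 t5 t9 t10`. -/
def spider : List (Fin 10) := [3, 2, 1, 3, 4, 5, 3, 7, 8]

/-- `t5 t4 t3 t2 t6 t7 t9` -/
def W321 : List (Fin 10) := [3, 2, 1, 0, 4, 5, 7]
/-- `t5 t4 t3 t2 t6 t9 t10` -/
def W312 : List (Fin 10) := [3, 2, 1, 0, 4, 7, 8]
/-- `t5 t4 t3 t6 t7 t8 t9` -/
def W231 : List (Fin 10) := [3, 2, 1, 4, 5, 6, 7]
/-- `t5 t4 t6 t7 t8 t9 t10` -/
def W132 : List (Fin 10) := [3, 2, 4, 5, 6, 7, 8]
/-- `t5 t4 t3 t6 t9 t10 t11` -/
def W213 : List (Fin 10) := [3, 2, 1, 4, 7, 8, 9]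
/-- `t5 t4 t6 t7 t9 t10 t11` -/
def W123 : List (Fin 10) := [3, 2, 4, 5, 7, 8, 9]

theorem chk_18 : chk (rep 18 W132) [] = true := by decide +kernel

/-- Three conjugates of the tenth power of the spider have product one. -/
theorem chk_triple : chk (rep 10 spider ++ [8, 7, 5, 1] ++ rep 10 spider ++ [1, 5, 7, 8] ++ [7, 8, 4, 5, 2] ++
    rep 10 spider ++ [2, 5, 4, 8, 7]) [] = true := by decide +kernel

/-- the spider with the first two arms exchanged -/
def spiderAB : List (Fin 10) := [3, 4, 5, 3, 2, 1, 3, 7, 8]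
/-- the spider with the first and the last arm exchanged -/
def spiderAC : List (Fin 10) := [3, 7, 8, 3, 4, 5, 3, 2, 1]
/-- the spider with the last two arms exchanged -/
def spiderBC : List (Fin 10) := [3, 2, 1, 3, 7, 8, 3, 4, 5]

theorem chk_AB : chk (rep 10 spiderAB) ([7, 8, 7, 5, 1] ++ rep 10 spider.reverse ++ [1, 5, 7, 8, 7]) = true := by
  decide +kernel
theorem chk_AC : chk (rep 10 spiderAC) ([8, 5, 3, 1] ++ rep 10 spider.reverse ++ [1, 3, 5, 8]) = true := by
  decide +kernel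
theorem chk_BC : chk (rep 10 spiderBC) ([8, 5, 2, 3, 2] ++ rep 10 spider.reverse ++ [2, 3, 2, 5, 8]) = true := by
  decide +kernel

/-- A central element of exponent two which is the tenth power of the spider is trivial. -/
theorem spider_eq_one (hs : M10.IsLiftable s) (hc : ∀ g : G, ev s spider ^ 10 * g = g * ev s spider ^ 10)
    (h2 : ev s spider ^ 10 * ev s spider ^ 10 = 1) : ev s spider ^ 10 = 1 := by
  have h := ev_eq_ev hs chk_triple
  simp only [ev_append, ev_rep, ev_nil] at h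
  have r1 : ev s [1, 5, 7, 8] = (ev s [8, 7, 5, 1])⁻¹ := ev_reverse hs [8, 7, 5, 1]
  have r2 : ev s [2, 5, 4, 8, 7] = (ev s [7, 8, 4, 5, 2])⁻¹ := ev_reverse hs [7, 8, 4, 5, 2]
  rw [r1, r2] at h
  set S := ev s spider ^ 10 with hS
  have e : S * ev s [8, 7, 5, 1] * S * (ev s [8, 7, 5, 1])⁻¹ * ev s [7, 8, 4, 5, 2] * S *
      (ev s [7, 8, 4, 5, 2])⁻¹ = S * S * S := by
    calc S * ev s [8, 7, 5, 1] * S * (ev s [8, 7, 5, 1])⁻¹ * ev s [7, 8, 4, 5, 2] * S *
          (ev s [7, 8, 4, 5, 2])⁻¹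
        = S * (ev s [8, 7, 5, 1] * S) * (ev s [8, 7, 5, 1])⁻¹ * (ev s [7, 8, 4, 5, 2] * S) *
          (ev s [7, 8, 4, 5, 2])⁻¹ := by simp only [mul_assoc]
      _ = S * (S * ev s [8, 7, 5, 1]) * (ev s [8, 7, 5, 1])⁻¹ * (S * ev s [7, 8, 4, 5, 2]) *
          (ev s [7, 8, 4, 5, 2])⁻¹ := by
          rw [← hc (ev s [8, 7, 5, 1]), ← hc (ev s [7, 8, 4, 5, 2])]
      _ = S * S * S := by group
  rw [e, h2, one_mul] at h
  exact h

theorem inv_conj_one {P u : G} {k : ℕ} (h : P ^ k = 1) : u * P⁻¹ ^ k * u⁻¹ = 1 := by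
  rw [inv_pow, h, inv_one, mul_one, mul_inv_cancel]

theorem spiderAB_one (hs : M10.IsLiftable s) (h : ev s spider ^ 10 = 1) : ev s spiderAB ^ 10 = 1 := by
  have h1 := ev_eq_ev hs chk_AB
  have r : ev s [1, 5, 7, 8, 7] = (ev s [7, 8, 7, 5, 1])⁻¹ := ev_reverse hs [7, 8, 7, 5, 1]
  rw [ev_append, ev_append, ev_rep, ev_rep, ev_reverse hs, r, inv_conj_one h] at h1
  exact h1

theorem spiderAC_one (hs : M10.IsLiftable s) (h : ev s spider ^ 10 = 1) : ev s spiderAC ^ 10 = 1 := by
  have h1 := ev_eq_ev hs chk_AC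
  have r : ev s [1, 3, 5, 8] = (ev s [8, 5, 3, 1])⁻¹ := ev_reverse hs [8, 5, 3, 1]
  rw [ev_append, ev_append, ev_rep, ev_rep, ev_reverse hs, r, inv_conj_one h] at h1
  exact h1

theorem spiderBC_one (hs : M10.IsLiftable s) (h : ev s spider ^ 10 = 1) : ev s spiderBC ^ 10 = 1 := by
  have h1 := ev_eq_ev hs chk_BC
  have r : ev s [2, 3, 2, 5, 8] = (ev s [8, 5, 2, 3, 2])⁻¹ := ev_reverse hs [8, 5, 2, 3, 2]
  rw [ev_append, ev_append, ev_rep, ev_rep, ev_reverse hs, r, inv_conj_one h] at h1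
  exact h1

/-! ### The `E₇` words -/

/-- `b, …, i` for the long arm `t4 t3 t2` -/
def idA : Fin 8 → Fin 10 := ![5, 4, 3, 2, 1, 0, 7, 8]
/-- `b, …, i` for the long arm `t6 t7 t8` -/
def idB : Fin 8 → Fin 10 := ![1, 2, 3, 4, 5, 6, 7, 8]
/-- `b, …, i` for the long arm `t9 t10 t11` -/
def idC : Fin 8 → Fin 10 := ![1, 2, 3, 7, 8, 9, 4, 5]

theorem lab_idA : ∀ i j : Fin 8, Fischer.Derived.lab i j = lab (idA i) (idA j) := by decide
theorem lab_idB : ∀ i j : Fin 8, Fischer.Derived.lab i j = lab (idB i) (idB j) := by decide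
theorem lab_idC : ∀ i j : Fin 8, Fischer.Derived.lab i j = lab (idC i) (idC j) := by decide

theorem lift8 (hs : M10.IsLiftable s) {f : Fin 8 → Fin 10}
    (hf : ∀ i j : Fin 8, Fischer.Derived.lab i j = lab (f i) (f j)) :
    Fischer.Derived.M8.IsLiftable (fun k => s (f k)) := by
  intro i j
  show (s (f i) * s (f j)) ^ Fischer.Derived.lab i j = 1
  rw [hf]
  exact hs _ _

theorem ev8 (s : Fin 10 → G) (f : Fin 8 → Fin 10) (w : List (Fin 8)) :
    Fischer.Derived.ev (fun k => s (f k)) w = ev s (w.map f) := by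
  rw [Fischer.Derived.ev, ev, List.map_map]; rfl

theorem z8 (hs : M10.IsLiftable s) {f : Fin 8 → Fin 10}
    (hf : ∀ i j : Fin 8, Fischer.Derived.lab i j = lab (f i) (f j))
    (hsp : ev s (Fischer.Derived.spider.map f) ^ 10 = 1) :
    ev s (Fischer.ZCentral.wz'.map f) ^ 9 = ev s (Fischer.ZCentral.wz.map f) ^ 9 := by
  have h := Fischer.ZCentral.z_eq (lift8 hs hf) (by rw [ev8]; exact hsp)
  rwa [ev8, ev8] at h

theorem chkA : chk (rep 9 W321) (rep 9 (Fischer.ZCentral.wz.map idA)) = true := by decide +kernel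
theorem chkA' : chk (rep 9 W312) (rep 9 (Fischer.ZCentral.wz'.map idA)) = true := by decide +kernel
theorem chkB : chk (rep 9 W231) (rep 9 (Fischer.ZCentral.wz.map idB)) = true := by decide +kernel
theorem chkB' : chk (rep 9 W132) (rep 9 (Fischer.ZCentral.wz'.map idB)) = true := by decide +kernel
theorem chkC : chk (rep 9 W213) (rep 9 (Fischer.ZCentral.wz.map idC)) = true := by decide +kernel
theorem chkC' : chk (rep 9 W123) (rep 9 (Fischer.ZCentral.wz'.map idC)) = true := by decide +kernel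

theorem pow9_eq (hs : M10.IsLiftable s) {w w' : List (Fin 10)} (h : chk (rep 9 w) (rep 9 w') = true) :
    ev s w ^ 9 = ev s w' ^ 9 := by
  have := ev_eq_ev hs h
  rwa [ev_rep, ev_rep] at this

theorem W321_eq (hs : M10.IsLiftable s) (hsp : ev s spider ^ 10 = 1) : ev s W312 ^ 9 = ev s W321 ^ 9 := by
  rw [pow9_eq hs chkA, pow9_eq hs chkA']
  exact z8 hs lab_idA (spiderAB_one hs hsp)

theorem W231_eq (hs : M10.IsLiftable s) (hsp : ev s spider ^ 10 = 1) : ev s W132 ^ 9 = ev s W231 ^ 9 := by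
  rw [pow9_eq hs chkB, pow9_eq hs chkB']
  exact z8 hs lab_idB hsp

theorem W213_eq (hs : M10.IsLiftable s) (hsp : ev s spider ^ 10 = 1) : ev s W123 ^ 9 = ev s W213 ^ 9 := by
  rw [pow9_eq hs chkC, pow9_eq hs chkC']
  exact z8 hs lab_idC (spiderBC_one hs hsp)

/-! ### Permuting the arms -/

/-- exchange the first two arms -/
def pAB : Fin 10 → Fin 10 := ![6, 5, 4, 3, 2, 1, 0, 7, 8, 9]
/-- exchange the first and the last arm -/
def pAC : Fin 10 → Fin 10 := ![9, 8, 7, 3, 4, 5, 6, 2, 1, 0]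

theorem lab_pAB : ∀ i j : Fin 10, lab (pAB i) (pAB j) = lab i j := by decide
theorem lab_pAC : ∀ i j : Fin 10, lab (pAC i) (pAC j) = lab i j := by decide
theorem pAB_pAB : ∀ i : Fin 10, pAB (pAB i) = i := by decide
theorem pAC_pAC : ∀ i : Fin 10, pAC (pAC i) = i := by decide

theorem lift_perm (hs : M10.IsLiftable s) {p : Fin 10 → Fin 10} (hp : ∀ i j, lab (p i) (p j) = lab i j) :
    M10.IsLiftable (fun i => s (p i)) := by
  intro i j
  show (s (p i) * s (p j)) ^ lab i j = 1
  rw [← hp]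
  exact hs _ _

theorem chkAB1 : chk (rep 9 (W321.map pAB)) (rep 9 W231) = true := by decide +kernel
theorem chkAB2 : chk (rep 9 (W231.map pAB)) (rep 9 W321) = true := by decide +kernel
theorem chkAB3 : chk (rep 9 (W213.map pAB)) (rep 9 W123) = true := by decide +kernel
theorem chkAC1 : chk (rep 9 (W321.map pAC)) (rep 9 W123) = true := by decide +kernel
theorem chkAC2 : chk (rep 9 (W231.map pAC)) (rep 9 W132) = true := by decide +kernel
theorem chkAC3 : chk (rep 9 (W213.map pAC)) (rep 9 W312) = true := by decide +kernel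

theorem spider_pAB (hs : M10.IsLiftable s) (h : ev s spider ^ 10 = 1) :
    ev (fun i => s (pAB i)) spider ^ 10 = 1 := by
  rw [ev_comp]; exact spiderAB_one hs h

theorem spider_pAC (hs : M10.IsLiftable s) (h : ev s spider ^ 10 = 1) :
    ev (fun i => s (pAC i)) spider ^ 10 = 1 := by
  rw [ev_comp]; exact spiderAC_one hs h

end Cfsg.Agent.TwoESix.Cox10
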