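import Cfsg.Agent.TwoESix.FlagI
import Cfsg.Agent.BabyU.RootCfg

/-!
# Three more facts on the root involutions of `²E₆(2)`

* `spe`: if two root involutions do not commute and their product has order dividing four, then the square of the
  product is a root involution;
* `odd`: every involution commutes with a root involution;
* `ker`: an involution `x ≠ r` in the kernel of a chart at `r` is conjugate to `x * r`.
-/

set_option autoImplicit false
set_option linter.unusedSectionVars false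

namespace Cfsg.Agent.TwoESix.KeyExtra

open Cfsg Cfsg.Lie
open Cfsg.Agent.ChevalleyStructure
open Cfsg.Agent.ChevalleyStructure.Elts hiding x_add x_zero x_eq_one_iff
open Cfsg.Agent.ChevalleyStructure.TwE6Basic
open Cfsg.Agent.ChevalleyStructure.TwE6BN
open Cfsg.Agent.TwoESix.LeviA
open Cfsg.Agent.TwoESix.LeviB
open Cfsg.Agent.TwoESix.LeviC
open Cfsg.Agent.TwoESix.LeviD
open Cfsg.Agent.TwoESix.LongPairs
open Cfsg.Agent.TwoESix.LongCard
open Cfsg.Agent.TwoESix.FlagH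
open Cfsg.Agent.TwoESix.FlagI
open Cfsg.Agent.BabyU (rootClass)
open Cfsg.Agent.BabyU.RootCfg (ChartAt mem_cent)

open scoped commutatorElement Pointwise

universe u

variable {K : Type u} [Field K]

/-! ### The centre of `U_J` -/

/-- the roots of `U_J` other than the highest root -/
def L20 : List (Fin 72) := [46, 47, 48, 49, 50, 51, 52, 53, 54, 55, 61, 62, 63, 64, 65, 66, 67, 68, 69, 70]

/-- the root `71 - r` -/
def op (r : Fin 72) : Fin 72 := ⟨(116 - r.val) % 72, Nat.mod_lt _ (by norm_num)⟩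

/-- `r` is a root of `U_J` -/
def IsU (r : Fin 72) : Prop := 36 ≤ r.val ∧ ¬ chevE6.InRootSub {j | j ∈ Jn} r.val

instance : DecidablePred IsU := fun r => by unfold IsU; infer_instance

theorem tabA : ∀ r ∈ L20, IsU r ∧ r ≠ 71 ∧ op r ∈ L20 ∧ op (op r) = r ∧ rho r ∈ L20 ∧
    (op r).val ≠ chevE6.neg r.val ∧ (op r).val ≠ r.val ∧
    ∃ c ∈ [(1 : ℤ), -1], chevE6.commTerms r.val (op r).val = [(71, c, 1, 1)] := by decide +kernel

theorem tabB : ∀ r : Fin 72, IsU r → r = 71 ∨ r ∈ L20 := by decide +kernel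

theorem tabC : ∀ r ∈ L20, ∀ s : Fin 72, IsU s → s = op r ∨ s = r ∨
    (s.val ≠ chevE6.neg r.val ∧ chevE6.commTerms r.val s.val = []) := by decide +kernel

theorem tabE : ∀ r ∈ L20, rho r = r ∨ (chevE6.commTerms r.val (rho r).val = [] ∧
    (rho r).val ≠ chevE6.neg r.val) := by decide +kernel

section Two

variable [CharP K 2]

theorem comm_op {r : Fin 72} (hr : r ∈ L20) (t u : K) :
    x (op r).val u * x r.val t = x r.val t * x (op r).val u * x 71 (t * u) := by
  obtain ⟨-, -, -, -, -, h1, h2, c, hc, h3⟩ := tabA r hr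
  exact comm_single (K := K) r.2 (op r).2 h2 h1 (by simpa using hc) h3 t u

theorem comm_other {r s : Fin 72} (hr : r ∈ L20) (hs : IsU s) (hne : s ≠ op r) (t u : K) :
    x s.val u * x r.val t = x r.val t * x s.val u := by
  rcases tabC r hr s hs with h | rfl | ⟨h1, h2⟩
  · exact absurd h hne
  · rw [x_add, x_add, add_comm]
  · by_cases hrs : s = r
    · subst hrs
      rw [x_add, x_add, add_comm]
    · exact comm_of_commTerms (K := K) r.2 s.2 (fun h => hrs (Fin.ext h)) h1 h2 t u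

/-- the subgroup generated by the root groups of `U_J` outside `D` -/
def Mg (K : Type u) [Field K] (D : List (Fin 72)) : Subgroup (GL chevE6.Idx K) :=
  Subgroup.closure {g | ∃ r : Fin 72, (IsU r ∧ r ∉ D) ∧ ∃ t : K, g = x r.val t}

theorem x_mem_Mg {D : List (Fin 72)} {r : Fin 72} (hr : IsU r) (hD : r ∉ D) (t : K) : x r.val t ∈ Mg K D :=
  Subgroup.subset_closure ⟨r, ⟨hr, hD⟩, t, rfl⟩

theorem Mg_le {D : List (Fin 72)} {M : Subgroup (GL chevE6.Idx K)}
    (h : ∀ r : Fin 72, IsU r → r ∉ D → ∀ t : K, x r.val t ∈ M) : Mg K D ≤ M := by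
  refine (Subgroup.closure_le M).2 ?_
  rintro _ ⟨r, ⟨hr, hD⟩, t, rfl⟩
  exact h r hr hD t

theorem Mg_le_UR (D : List (Fin 72)) : Mg K D ≤ UR K Jn := Mg_le fun _ hr _ t => x_mem_UR hr.1 hr.2 t

theorem X71_le_Mg {D : List (Fin 72)} (hD : (71 : Fin 72) ∉ D) : chevE6.rootSubgroup K 71 ≤ Mg K D := by
  intro g hg
  obtain ⟨t, rfl⟩ := mem_X.1 hg
  exact x_mem_Mg (r := 71) (by decide +kernel) hD t

theorem step {D : List (Fin 72)} {r : Fin 72} (hr : IsU r) (hD : (71 : Fin 72) ∉ r :: D)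
    {g : GL chevE6.Idx K} (hg : g ∈ Mg K D) : ∃ s : K, ∃ m ∈ Mg K (r :: D), g = x r.val s * m := by
  have hn : chevE6.rootSubgroup K r.val ≤ Subgroup.normalizer (Mg K (r :: D) : Set (GL chevE6.Idx K)) := by
    refine le_normalizer fun y hy m hm => ?_
    have hyU : y ∈ UR K Jn := by
      obtain ⟨t, rfl⟩ := mem_X.1 hy
      exact x_mem_UR hr.1 hr.2 t
    have h1 := X71_le_Mg hD (comm_UR hyU (Mg_le_UR _ hm))
    have e : y * m * y⁻¹ = ⁅y, m⁆ * m := by rw [commutatorElement_def]; group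
    rw [e]
    exact mul_mem h1 hm
  have h1 : ((chevE6.rootSubgroup K r.val ⊔ Mg K (r :: D) : Subgroup _) : Set (GL chevE6.Idx K)) =
      (chevE6.rootSubgroup K r.val : Set (GL chevE6.Idx K)) * (Mg K (r :: D) : Set (GL chevE6.Idx K)) :=
    Subgroup.coe_mul_of_left_le_normalizer_right _ _ hn
  have h2 : g ∈ ((chevE6.rootSubgroup K r.val ⊔ Mg K (r :: D) : Subgroup _) : Set (GL chevE6.Idx K)) := by
    refine (Mg_le fun s hs hsD t => ?_ : Mg K D ≤ chevE6.rootSubgroup K r.val ⊔ Mg K (r :: D)) hg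
    by_cases h : s = r
    · subst h
      exact Subgroup.mem_sup_left (mem_X.2 ⟨t, rfl⟩)
    · exact Subgroup.mem_sup_right (x_mem_Mg hs (by rw [List.mem_cons]; exact fun h' => h'.elim h hsD) t)
  rw [h1] at h2
  obtain ⟨y, hy, m, hm, rfl⟩ := h2
  obtain ⟨s, rfl⟩ := mem_X.1 hy
  exact ⟨s, m, hm, rfl⟩

theorem comm_Mg {D : List (Fin 72)} {q : Fin 72} (hq : q ∈ L20) (hD : op q ∈ D) {m : GL chevE6.Idx K}
    (hm : m ∈ Mg K D) (t : K) : m * x q.val t = x q.val t * m := by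
  have h1 : Mg K D ≤ Subgroup.centralizer {x q.val t} := by
    refine Mg_le fun s hs hsD u => ?_
    rw [Subgroup.mem_centralizer_singleton_iff]
    exact comm_other hq hs (fun h => hsD (h ▸ hD)) t u
  exact Subgroup.mem_centralizer_singleton_iff.1 (h1 hm)

theorem UR_le_Mg : UR K Jn ≤ Mg K [] := UR_le fun _ hr hr' t => x_mem_Mg ⟨hr, hr'⟩ (by simp) t

theorem ne71 {r : Fin 72} (hr : r ∈ L20) : (71 : Fin 72) ∉ [r] := by
  rw [List.mem_singleton]
  exact (tabA r hr).2.1.symm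

theorem coef {q : Fin 72} (hq : q ∈ L20) {g : GL chevE6.Idx K} (hg : g ∈ UR K Jn) :
    ∃ c : K, ∀ t : K, g * x q.val t = x q.val t * g * x 71 (c * t) := by
  obtain ⟨hU, hn, ho, hoo, -⟩ := tabA q hq
  obtain ⟨hU', hn', -⟩ := tabA _ ho
  obtain ⟨s, m, hm, rfl⟩ := step hU' (by rw [List.mem_singleton]; exact hn'.symm) (UR_le_Mg hg)
  refine ⟨s, fun t => ?_⟩
  have h1 := comm_Mg hq (D := [op q]) (by simp) hm t
  have h2 := comm_op hq t s
  have h3 : m * x 71 (s * t) = x 71 (s * t) * m := U_comm_top (UR_le_U (Mg_le_UR _ hm)) _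
  calc x (op q).val s * m * x q.val t = x (op q).val s * (m * x q.val t) := by group
    _ = (x (op q).val s * x q.val t) * m := by rw [h1]; group
    _ = x q.val t * x (op q).val s * (x 71 (s * t) * m) := by rw [h2, mul_comm t s]; group
    _ = x q.val t * (x (op q).val s * m) * x 71 (s * t) := by rw [← h3]; group

theorem center_UR {g : GL chevE6.Idx K} (hg : g ∈ UR K Jn)
    (h : ∀ q ∈ L20, g * x q.val 1 = x q.val 1 * g) : g ∈ chevE6.rootSubgroup K 71 := by
  have key : ∀ l : List (Fin 72), (∀ r ∈ l, r ∈ L20) → g ∈ Mg K l := by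
    intro l
    induction l with
    | nil => exact fun _ => UR_le_Mg hg
    | cons r l ih =>
      intro hl
      have hr : r ∈ L20 := hl r List.mem_cons_self
      obtain ⟨hU, hn, ho, hoo, -⟩ := tabA r hr
      have h71 : (71 : Fin 72) ∉ r :: l := fun h' => (tabA _ (hl _ h')).2.1 rfl
      obtain ⟨s, m, hm, e⟩ := step hU h71 (ih fun r' hr' => hl r' (List.mem_cons_of_mem _ hr'))
      have h1 := comm_Mg ho (D := r :: l) (by rw [hoo]; exact List.mem_cons_self) hm 1
      have h2 := h _ ho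
      have h3 := comm_op ho 1 s
      rw [hoo] at h3
      have h4 : x 71 (1 * s) = (1 : GL chevE6.Idx K) := by
        rw [e, mul_assoc, h1, ← mul_assoc, ← mul_assoc] at h2
        have h5 := mul_right_cancel h2
        rw [h3] at h5
        exact mul_eq_left.1 h5
      have h6 : s = 0 := by
        rw [one_mul] at h4
        exact (TwE6Basic.x_eq_one_iff (by norm_num) s).1 h4
      rw [e, h6, TwE6Basic.x_zero, one_mul]
      exact hm
  refine (Mg_le fun r hr hrD t => ?_ : Mg K L20 ≤ _) (key L20 fun _ h => h)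
  rcases tabB r hr with rfl | h'
  · exact mem_X.2 ⟨t, rfl⟩
  · exact absurd h' hrD

end Two

section Four

variable [Fintype K] {φ : K →+* K} (F : Four K φ)
include F

/-- The centre of `U_J ∩ E`. -/
theorem center_RE {x' : ↥(twistedE6 K 2)} (hx : x' ∈ RE K) (h : ∀ q ∈ RE K, x' * q = q * x') :
    x' = 1 ∨ x' = r0 F := by
  have := F.charP
  have hg : (x' : GL chevE6.Idx K) ∈ UR K Jn := Subgroup.mem_subgroupOf.1 hx
  refine X71_E F (center_UR hg fun q hq => ?_)
  obtain ⟨hU, hn, ho, hoo, hρ, -⟩ := tabA q hq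
  rcases tabE q hq with h0 | ⟨h0, h0'⟩
  · have h1 : xe F q h0 ∈ RE K := Subgroup.mem_subgroupOf.2 (x_mem_UR hU.1 hU.2 1)
    exact congrArg Subtype.val (h _ h1)
  · by_cases hqq : rho q = q
    · have h1 : xe F q hqq ∈ RE K := Subgroup.mem_subgroupOf.2 (x_mem_UR hU.1 hU.2 1)
      exact congrArg Subtype.val (h _ h1)
    obtain ⟨c, hc⟩ := coef hq hg
    obtain ⟨c', hc'⟩ := coef hρ hg
    obtain ⟨hU', -⟩ := tabA _ hρ
    have key : ∀ t : K, c' * φ t + c * t = 0 := by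
      intro t
      have hm : x q.val t * x (rho q).val (φ t) ∈ twistedE6 K 2 := y_mem_E_pos F hU.1 hqq h0 h0' t
      have h1 : (⟨_, hm⟩ : ↥(twistedE6 K 2)) ∈ RE K :=
        Subgroup.mem_subgroupOf.2 (mul_mem (x_mem_UR hU.1 hU.2 t) (x_mem_UR hU'.1 hU'.2 (φ t)))
      have h2 : (x' : GL chevE6.Idx K) * (x q.val t * x (rho q).val (φ t)) =
        (x q.val t * x (rho q).val (φ t)) * x' := congrArg Subtype.val (h _ h1)
      have h3 : x 71 (c * t) * x (rho q).val (φ t) = x (rho q).val (φ t) * x 71 (c * t) :=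
        (U_comm_top (mem_U hU'.1 _) _).symm
      have h4 : (x q.val t * x (rho q).val (φ t)) * x' * x 71 (c' * φ t + c * t) =
          (x q.val t * x (rho q).val (φ t)) * x' := by
        rw [← h2, ← x_add]
        calc _ = x q.val t * (x (rho q).val (φ t) * x' * x 71 (c' * φ t)) * x 71 (c * t) := by
              rw [h2]; group
          _ = x q.val t * (x' : GL chevE6.Idx K) * (x (rho q).val (φ t) * x 71 (c * t)) := by rw [← hc']; group
          _ = (x q.val t * (x' : GL chevE6.Idx K) * x 71 (c * t)) * x (rho q).val (φ t) := by rw [← h3]; group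
          _ = _ := by rw [← hc, mul_assoc]
      exact (TwE6Basic.x_eq_one_iff (by norm_num) _).1 (mul_eq_left.1 h4)
    have hc1 := key 1
    rw [map_one, mul_one, mul_one] at hc1
    obtain ⟨w, hw⟩ := exists_omega F
    have hc2 := key w
    have hc3 : c' = 0 := by
      have h2 : (2 : K) = 0 := CharP.cast_eq_zero K 2
      linear_combination hc2 - w * hc1 - c' * hw + c' * w * h2
    have hc4 : c = 0 := by rw [hc3, zero_add] at hc1; exact hc1
    have := hc 1
    rwa [hc4, zero_mul, TwE6Basic.x_zero, mul_one] at this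

theorem exists_conj {r : ↥(twistedE6 K 2)} (hr : r ∈ rootClass K) : ∃ k : ↥(twistedE6 K 2), k * r0 F * k⁻¹ = r := by
  have := F.charP
  obtain ⟨w', -, hw'⟩ := exists_fixW 46 (by decide +kernel)
  obtain ⟨k, r, hr, rfl⟩ := hr
  refine ⟨k * we F w', Subtype.ext ?_⟩
  have h2 := wn_conj (K := K) w' 71 1
  rw [hw'] at h2
  have h3 : (r : GL chevE6.Idx K) = x 46 1 := Units.ext (hr.trans (coe_xG hE6 46 1).symm)
  show (k : GL chevE6.Idx K) * wn w' * x 71 1 * ((k : GL chevE6.Idx K) * wn w')⁻¹ =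
    (k : GL chevE6.Idx K) * (r : GL chevE6.Idx K) * (k : GL chevE6.Idx K)⁻¹
  rw [h3]
  have h4 : wn w' * x 71 (1 : K) * (wn w')⁻¹ = x 46 1 := h2
  rw [← h4]
  group

theorem odd_four (f : ↥(twistedE6 K 2)) (hf : f * f = 1) : ∃ r ∈ rootClass K, f * r = r * f := by
  classical
  set C : Subgroup ↥(twistedE6 K 2) := Subgroup.centralizer {r0 F} with hC
  have hidx : C.index = 3968055 := index_cent F
  have : Fintype (↥(twistedE6 K 2) ⧸ C) := Fintype.ofFinite _
  have hcard : Fintype.card (↥(twistedE6 K 2) ⧸ C) = 3968055 := by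
    rw [← Nat.card_eq_fintype_card]; exact hidx
  obtain ⟨a, ha⟩ := Equiv.Perm.exists_fixed_point_of_prime (p := 2) (n := 1) (hp := ⟨Nat.prime_two⟩)
    (α := ↥(twistedE6 K 2) ⧸ C) (by rw [hcard]; norm_num)
    (σ := MulAction.toPermHom ↥(twistedE6 K 2) (↥(twistedE6 K 2) ⧸ C) f) (by
      rw [← map_pow, pow_one, pow_two, hf, map_one])
  obtain ⟨g, rfl⟩ := QuotientGroup.mk_surjective a
  have h1 : ((f * g : ↥(twistedE6 K 2)) : ↥(twistedE6 K 2) ⧸ C) = (g : ↥(twistedE6 K 2) ⧸ C) := ha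
  have h2 : (f * g)⁻¹ * g ∈ C := QuotientGroup.eq.1 h1
  rw [hC, Subgroup.mem_centralizer_singleton_iff] at h2
  refine ⟨g * r0 F * g⁻¹, conj_T (xe_T F 71 (by decide +kernel)) g, ?_⟩
  have hfi : f⁻¹ = f := inv_eq_of_mul_eq_one_left hf
  rw [mul_inv_rev, hfi] at h2
  calc f * (g * r0 F * g⁻¹) = g * ((g⁻¹ * f * g) * r0 F) * g⁻¹ := by group
    _ = g * (r0 F * (g⁻¹ * f * g)) * g⁻¹ := by rw [h2]
    _ = g * r0 F * g⁻¹ * f := by group

theorem spe_four {a b : ↥(twistedE6 K 2)} (ha : a ∈ rootClass K) (hb : b ∈ rootClass K) (hab : a * b ≠ b * a)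
    (h4 : (a * b) ^ 4 = 1) : (a * b) ^ 2 ∈ rootClass K := by
  have := F.charP
  obtain ⟨g, rfl⟩ := exists_conj F ha
  obtain ⟨h, rfl⟩ := exists_conj F hb
  obtain ⟨k, hk, h1, γ, hγ, h2⟩ := pair_general F g.2 h.2
  generalize hA : g * r0 F * g⁻¹ = A at *
  generalize hB : h * r0 F * h⁻¹ = B at *
  have hA' : (g : GL chevE6.Idx K) * x 71 1 * (g : GL chevE6.Idx K)⁻¹ = (A : GL chevE6.Idx K) := by rw [← hA]; rfl
  have hB' : (h : GL chevE6.Idx K) * x 71 1 * (h : GL chevE6.Idx K)⁻¹ = (B : GL chevE6.Idx K) := by rw [← hB]; rfl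
  rw [hA'] at h1
  rw [hB'] at h2
  have hcomm : ¬ (x 71 (1 : K) * x γ 1 = x γ 1 * x 71 1) := by
    intro h3
    apply hab
    apply Subtype.ext
    show (A : GL chevE6.Idx K) * B = B * A
    rw [← h1, ← h2] at h3
    have e1 : k * A * k⁻¹ * (k * B * k⁻¹) = k * ((A : GL chevE6.Idx K) * B) * k⁻¹ := by group
    have e2 : k * B * k⁻¹ * (k * A * k⁻¹) = k * ((B : GL chevE6.Idx K) * A) * k⁻¹ := by group
    rw [e1, e2] at h3
    exact mul_left_cancel (mul_right_cancel h3)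
  have h5 : (x 71 (1 : K) * x γ 1) ^ 4 = 1 := by
    rw [← h1, ← h2]
    have e1 : k * A * k⁻¹ * (k * B * k⁻¹) = k * ((A : GL chevE6.Idx K) * B) * k⁻¹ := by group
    rw [e1, conj_pow]
    have e2 : ((A : GL chevE6.Idx K) * B) ^ 4 = 1 := congrArg Subtype.val h4
    rw [e2, mul_one, mul_inv_cancel]
  have h71 := x_sq (K := K) 71
  simp only [List.mem_cons, List.not_mem_nil, or_false] at hγ
  rcases hγ with rfl | rfl | rfl | rfl | rfl
  · exact absurd rfl hcomm
  · exact absurd comm70 hcomm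
  · exact absurd comm60 hcomm
  · have e1 : (k⁻¹ : GL chevE6.Idx K) * x 70 1 * k⁻¹⁻¹ =
        ((A : GL chevE6.Idx K) * (B : GL chevE6.Idx K)) ^ 2 := by
      rw [← sq25, ← h1, ← h2]
      have e1 : k * (A : GL chevE6.Idx K) * k⁻¹ * (k * (B : GL chevE6.Idx K) * k⁻¹) =
        k * ((A : GL chevE6.Idx K) * (B : GL chevE6.Idx K)) * k⁻¹ := by group
      rw [e1, conj_pow]
      group
    have e2 : (⟨k, hk⟩ : ↥(twistedE6 K 2))⁻¹ * xe F 70 (by decide +kernel) * (⟨k, hk⟩ : ↥(twistedE6 K 2))⁻¹⁻¹ =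
        (A * B) ^ 2 := Subtype.ext e1
    rw [← e2]
    exact conj_T (xe_T F 70 _) _
  · exfalso
    apply hcomm
    have h6 : (x 71 (1 : K) * x 0 1) = 1 := by
      have h7 := cube0 (K := K)
      rw [pow_succ, h7, one_mul] at h5
      exact h5
    have h7 : x 0 (1 : K) = x 71 1 := by
      rw [← inv_eq_of_mul_eq_one_right h6, inv_eq_of_mul_eq_one_left h71]
    rw [h7]

omit F in
theorem ker_sub {E : Type*} [Group E] {R : Set E} {F' : Type*} [Field F'] [Fintype F']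
    {hF' : Fintype.card F' = 2 ^ 2} {r : E} {ψ : Subgroup.centralizer ({r} : Set E) →* PSU 6 F' 2}
    (C : ChartAt hF' R r ψ) (x' : Subgroup.centralizer ({r} : Set E)) (h1 : ψ x' = 1) :
    ∃ M : Subgroup E, (x' : E) ∈ M ∧ (∀ p ∈ M, p * r = r * p) ∧ IsPGroup 2 ↥M ∧
      ∀ y, y * r = r * y → ∀ p ∈ M, y * p * y⁻¹ ∈ M := by
  refine ⟨ψ.ker.map (Subgroup.centralizer ({r} : Set E)).subtype, ⟨x', h1, rfl⟩, ?_, ?_, ?_⟩
  · rintro _ ⟨p, -, rfl⟩
    exact mem_cent.1 p.2
  · rintro ⟨_, p, hp, rfl⟩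
    obtain ⟨j, hj⟩ := C.ker p hp
    refine ⟨j, Subtype.ext ?_⟩
    show (p : E) ^ 2 ^ j = 1
    have h := congrArg (fun y : Subgroup.centralizer ({r} : Set E) => (y : E)) hj
    simpa using h
  · rintro y hy _ ⟨p, hp, rfl⟩
    refine ⟨⟨y, mem_cent.2 hy⟩ * p * ⟨y, mem_cent.2 hy⟩⁻¹, ?_, rfl⟩
    have hp' : ψ p = 1 := hp
    show ψ _ = 1
    rw [map_mul, map_mul, hp', mul_one, ← map_mul, mul_inv_cancel, map_one]

theorem ker_four {F' : Type*} [Field F'] [Fintype F'] {hF' : Fintype.card F' = 2 ^ 2} {r : ↥(twistedE6 K 2)}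
    (hr : r ∈ rootClass K) {ψ : Subgroup.centralizer ({r} : Set ↥(twistedE6 K 2)) →* PSU 6 F' 2}
    (C : ChartAt hF' (rootClass K) r ψ) (x' : Subgroup.centralizer ({r} : Set ↥(twistedE6 K 2)))
    (h1 : ψ x' = 1) (hne : (x' : ↥(twistedE6 K 2)) ≠ 1) (hnr : (x' : ↥(twistedE6 K 2)) ≠ r) :
    ∃ g : ↥(twistedE6 K 2), g * x' * g⁻¹ = x' * r := by
  obtain ⟨k, hk⟩ := exists_conj F hr
  obtain ⟨M, hxM, hMc, hM2, hMn⟩ := ker_sub C x' h1
  set N : Subgroup ↥(twistedE6 K 2) := M.comap (MulAut.conj k).toMonoidHom with hN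
  have hmemN : ∀ p, p ∈ N ↔ k * p * k⁻¹ ∈ M := fun p => Iff.rfl
  have hkk : ∀ y, y * r0 F = r0 F * y → (k * y * k⁻¹) * r = r * (k * y * k⁻¹) := by
    intro y hy
    rw [← hk]
    calc k * y * k⁻¹ * (k * r0 F * k⁻¹) = k * (y * r0 F) * k⁻¹ := by group
      _ = k * (r0 F * y) * k⁻¹ := by rw [hy]
      _ = _ := by group
  have hNR : N ≤ RE K := by
    refine R_max F N ?_ ?_ ?_
    · intro p hp
      have h2 := hMc _ ((hmemN p).1 hp)
      rw [← hk] at h2
      have h3 : k * (p * r0 F) * k⁻¹ = k * (r0 F * p) * k⁻¹ := by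
        calc _ = k * p * k⁻¹ * (k * r0 F * k⁻¹) := by group
          _ = k * r0 F * k⁻¹ * (k * p * k⁻¹) := h2
          _ = _ := by group
      exact mul_left_cancel (mul_right_cancel h3)
    · exact hM2.comap_of_injective _ (MulAut.conj k).injective
    · intro y hy p hp
      rw [hmemN] at hp ⊢
      have h2 := hMn _ (hkk y hy) _ hp
      have e : k * (y * p * y⁻¹) * k⁻¹ = k * y * k⁻¹ * (k * p * k⁻¹) * (k * y * k⁻¹)⁻¹ := by group
      rw [e]
      exact h2
  set y : ↥(twistedE6 K 2) := k⁻¹ * x' * k with hy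
  have hky : k * y * k⁻¹ = x' := by rw [hy]; group
  have hyN : y ∈ RE K := hNR ((hmemN y).2 (by rw [hky]; exact hxM))
  have hy1 : y ≠ 1 := fun e => hne (by rw [← hky, e]; group)
  have hyr : y ≠ r0 F := fun e => hnr (by rw [← hky, e, hk])
  have hex : ∃ q ∈ RE K, ¬ (y * q = q * y) := by
    by_contra hcon
    push Not at hcon
    rcases center_RE F hyN hcon with h | h
    · exact hy1 h
    · exact hyr h
  obtain ⟨q, hq, hqy⟩ := hex
  rcases comm_RE F hq hyN with h | h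
  · exact absurd h.symm hqy
  · refine ⟨k * q * k⁻¹, ?_⟩
    have h2 : q * y * q⁻¹ = r0 F * y := by rw [← h, commutatorElement_def]; group
    have h3 : y * r0 F = r0 F * y := S_cent F y (R_le F hyN)
    calc k * q * k⁻¹ * x' * (k * q * k⁻¹)⁻¹ = k * (q * y * q⁻¹) * k⁻¹ := by rw [← hky]; group
      _ = k * (y * r0 F) * k⁻¹ := by rw [h2, h3]
      _ = (k * y * k⁻¹) * (k * r0 F * k⁻¹) := by group
      _ = x' * r := by rw [hky, hk]

end Four

/-! ### The statements -/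

variable [Fintype K]

theorem spe (hK : Fintype.card K = 4) : ∀ a ∈ rootClass K, ∀ b ∈ rootClass K, a * b ≠ b * a → (a * b) ^ 4 = 1 →
    (a * b) ^ 2 ∈ rootClass K := by
  obtain ⟨-, φ, F⟩ := LeviA.exists_four K hK
  exact fun a ha b hb h h' => spe_four F ha hb h h'

theorem odd (hK : Fintype.card K = 4) : ∀ f : ↥(twistedE6 K 2), f * f = 1 → ∃ r ∈ rootClass K, f * r = r * f := by
  obtain ⟨-, φ, F⟩ := LeviA.exists_four K hK
  exact odd_four F

theorem ker (hK : Fintype.card K = 4) {F' : Type*} [Field F'] [Fintype F'] {hF' : Fintype.card F' = 2 ^ 2} :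
    ∀ r ∈ rootClass K, ∀ ψ : Subgroup.centralizer ({r} : Set ↥(twistedE6 K 2)) →* PSU 6 F' 2,
    ChartAt hF' (rootClass K) r ψ → ∀ x : Subgroup.centralizer ({r} : Set ↥(twistedE6 K 2)), x * x = 1 → ψ x = 1 →
    (x : ↥(twistedE6 K 2)) ≠ 1 → (x : ↥(twistedE6 K 2)) ≠ r → ∃ g : ↥(twistedE6 K 2), g * x * g⁻¹ = x * r := by
  obtain ⟨-, φ, F⟩ := LeviA.exists_four K hK
  exact fun r hr ψ C x _ h1 h2 h3 => ker_four F hr C x h1 h2 h3

end Cfsg.Agent.TwoESix.KeyExtra
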