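import Cfsg.Agent.TwoESix.LeviD

/-!
# ²E₆(2): the parabolic subgroup `C_E(r0) = P_J ∩ E` is perfect
-/

set_option autoImplicit false

namespace Cfsg.Agent.TwoESix.LeviPerf

open scoped commutatorElement
open Cfsg.Lie
open Cfsg.Agent.ChevalleyStructure
open Cfsg.Agent.ChevalleyStructure.Elts hiding x_add x_zero x_eq_one_iff
open Cfsg.Agent.ChevalleyStructure.TwE6Basic
open Cfsg.Agent.ChevalleyStructure.TwE6BN
open Cfsg.Agent.TwoESix.LeviA
open Cfsg.Agent.TwoESix.LeviB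
open Cfsg.Agent.TwoESix.LeviC
open Cfsg.Agent.TwoESix.LeviD

universe u

variable {K : Type u} [Field K]

/-- The parabolic subgroup in `E`. -/
abbrev PP (K : Type u) [Field K] : Subgroup (GL chevE6.Idx K) := PR K Jn ⊓ twistedE6 K 2

/-- `[x_s, x_r] = x_k` -/
def Single (r s k : Fin 72) : Prop :=
  s.val ≠ r.val ∧ s.val ≠ chevE6.neg r.val ∧
    (chevE6.commTerms r.val s.val = [(k.val, 1, 1, 1)] ∨ chevE6.commTerms r.val s.val = [(k.val, -1, 1, 1)])

instance (r s k : Fin 72) : Decidable (Single r s k) := by unfold Single; infer_instance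

theorem Single.comm [CharP K 2] {r s k : Fin 72} (h : Single r s k) (t u : K) :
    x s.val u * x r.val t = x r.val t * x s.val u * x k.val (t * u) := by
  obtain ⟨h1, h2, h3 | h3⟩ := h
  · exact comm_single r.isLt s.isLt h1 h2 (Or.inl rfl) h3 t u
  · exact comm_single r.isLt s.isLt h1 h2 (Or.inr rfl) h3 t u

/-- the configuration `c = a + b`, `d = c + ρ b` -/
def Tri (a b c d : Fin 72) : Prop :=
  Single a b c ∧ Single a (rho b) (rho c) ∧ Single c (rho b) d ∧
    (d.val ≠ (rho c).val ∧ d.val ≠ chevE6.neg (rho c).val ∧ chevE6.commTerms (rho c).val d.val = [])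

instance (a b c d : Fin 72) : Decidable (Tri a b c d) := by unfold Tri; infer_instance

/-- `[z_b(t), x_a(1)]` -/
theorem Tri.comm [CharP K 2] (φ : K →+* K) {a b c d : Fin 72} (h : Tri a b c d) (t : K) :
    z φ b t * x a.val 1 = x a.val 1 * z φ b t * (z φ c t * x d.val (t * φ t)) := by
  obtain ⟨h1, h2, h3, h4⟩ := h
  show x b.val t * x (rho b).val (φ t) * x a.val 1 = x a.val 1 * (x b.val t * x (rho b).val (φ t)) *
    (x c.val t * x (rho c).val (φ t) * x d.val (t * φ t))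
  have c1 := h2.comm 1 (φ t)
  have c2 := h1.comm 1 t
  have c3 := h3.comm t (φ t)
  have c4 : x d.val (t * φ t) * x (rho c).val (φ t) = x (rho c).val (φ t) * x d.val (t * φ t) :=
    comm_nil' (rho c).isLt d.isLt h4 _ _
  have c5 : x d.val (t * φ t) * x d.val (t * φ t) = (1 : GL chevE6.Idx K) := by
    rw [x_add, CharTwo.add_self_eq_zero, TwE6Basic.x_zero]
  have c6 : x c.val t * x (rho b).val (φ t) = x (rho b).val (φ t) * x c.val t * x d.val (t * φ t) := by
    rw [c3, mul_assoc, c5, mul_one]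
  rw [one_mul] at c1 c2
  calc x b.val t * x (rho b).val (φ t) * x a.val 1 = x b.val t * (x (rho b).val (φ t) * x a.val 1) := by
        rw [mul_assoc]
    _ = (x b.val t * x a.val 1) * x (rho b).val (φ t) * x (rho c).val (φ t) := by rw [c1]; simp only [mul_assoc]
    _ = x a.val 1 * x b.val t * (x c.val t * x (rho b).val (φ t)) * x (rho c).val (φ t) := by
        rw [c2]; simp only [mul_assoc]
    _ = x a.val 1 * x b.val t * (x (rho b).val (φ t) * x c.val t) * (x d.val (t * φ t) * x (rho c).val (φ t)) := by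
        rw [c6]; simp only [mul_assoc]
    _ = _ := by rw [c4]; simp only [mul_assoc]

/-- the roots fixed by the symmetry outside the Levi subgroup -/
def tab1 : List (Fin 72 × Fin 72 × Fin 72) :=
  [(46, 47, 32), (47, 46, 39), (51, 46, 44), (53, 47, 44), (63, 46, 60), (65, 47, 60), (69, 51, 60), (70, 53, 60),
   (71, 70, 46)]

theorem tab1_spec : ∀ p ∈ tab1, Single p.2.1 p.2.2 p.1 ∧
    (36 ≤ p.2.1.val ∧ rho p.2.1 = p.2.1) ∧ ((36 ≤ p.2.2.val ∨ chevE6.InRootSub {j | j ∈ Jn} p.2.2.val) ∧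
    rho p.2.2 = p.2.2) := by
  intro p hp
  simp only [tab1, List.mem_cons, List.not_mem_nil, or_false] at hp
  rcases hp with rfl | rfl | rfl | rfl | rfl | rfl | rfl | rfl | rfl <;> dsimp only <;>
    exact ⟨by decide +kernel, ⟨by decide +kernel, by decide +kernel⟩, ⟨by decide +kernel, by decide +kernel⟩⟩

theorem tab1_all : ∀ k : Fin 72, 36 ≤ k.val → ¬ chevE6.InRootSub {j | j ∈ Jn} k.val → rho k = k →
    ∃ p ∈ tab1, p.1 = k := by decide +kernel

/-- the pairs -/
def tab2 : List (Fin 72 × Fin 72 × Fin 72 × Fin 72) :=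
  [(46, 40, 48, 53), (46, 41, 49, 65), (46, 43, 50, 53), (46, 45, 52, 69), (47, 45, 54, 70), (51, 41, 55, 70),
  (46, 58, 61, 65), (46, 59, 62, 69), (47, 59, 64, 70), (63, 40, 66, 70), (51, 58, 67, 70), (63, 43, 68, 70)]

theorem tab2_spec : ∀ p ∈ tab2, Tri p.1 p.2.1 p.2.2.1 p.2.2.2 ∧
    (36 ≤ p.1.val ∧ rho p.1 = p.1) ∧ (chevE6.InRootSub {j | j ∈ Jn} p.2.1.val ∧ rho p.2.1 ≠ p.2.1) ∧
    (36 ≤ p.2.2.2.val ∧ ¬ chevE6.InRootSub {j | j ∈ Jn} p.2.2.2.val ∧ rho p.2.2.2 = p.2.2.2) := by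
  intro p hp
  simp only [tab2, List.mem_cons, List.not_mem_nil, or_false] at hp
  rcases hp with rfl | rfl | rfl | rfl | rfl | rfl | rfl | rfl | rfl | rfl | rfl | rfl <;> dsimp only <;>
    exact ⟨⟨by decide +kernel, by decide +kernel, by decide +kernel, by decide +kernel⟩,
      ⟨by decide +kernel, by decide +kernel⟩, ⟨by decide +kernel, by decide +kernel⟩,
      ⟨by decide +kernel, by decide +kernel, by decide +kernel⟩⟩

theorem tab2_all : ∀ k : Fin 72, 36 ≤ k.val → ¬ chevE6.InRootSub {j | j ∈ Jn} k.val → rho k ≠ k →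
    ∃ p ∈ tab2, p.2.2.1 = k := by decide +kernel

theorem U_le_PR : chevE6.posUnipotent K ≤ PR K Jn := U_le_B.trans B_le_PR

theorem mem_comm_of {Γ : Type*} [Group Γ] {C : Subgroup Γ} {g h c : Γ} (hg : g ∈ C) (hh : h ∈ C)
    (e : g * h = h * g * c) : c ∈ ⁅C, C⁆ := by
  have h1 : c = ⁅g⁻¹, h⁻¹⁆ := by
    rw [commutatorElement_def, inv_inv, inv_inv]
    have : c = (h * g)⁻¹ * (g * h) := by rw [e]; group
    rw [this]; group
  rw [h1]
  exact Subgroup.commutator_mem_commutator (inv_mem hg) (inv_mem hh)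

section Four

variable [Fintype K] {φ : K →+* K} (F : Four K φ)
include F

omit F [Fintype K] in
theorem LL_le_PP : LL K ≤ PP K := inf_le_inf_right _ LR_le_PR

theorem x_mem_PP {r : Fin 72} (hr : 36 ≤ r.val ∨ chevE6.InRootSub {j | j ∈ Jn} r.val) (hr' : rho r = r) :
    x r.val (1 : K) ∈ PP K := by
  refine Subgroup.mem_inf.2 ⟨?_, x_mem_E F hr'⟩
  rcases hr with hr | hr
  · exact U_le_PR (mem_U hr 1)
  · exact LR_le_PR (x_mem_LR hr 1)

/-- fixed roots of the unipotent radical -/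
theorem x_mem_comm {k : Fin 72} (hk : 36 ≤ k.val) (hk' : ¬ chevE6.InRootSub {j | j ∈ Jn} k.val)
    (hk2 : rho k = k) : x k.val (1 : K) ∈ ⁅PP K, PP K⁆ := by
  have := F.charP
  obtain ⟨p, hp, rfl⟩ := tab1_all k hk hk' hk2
  obtain ⟨h1, ⟨h2, h3⟩, ⟨h4, h5⟩⟩ := tab1_spec p hp
  have h := mem_comm_of (x_mem_PP F h4 h5) (x_mem_PP F (Or.inl h2) h3) (h1.comm (K := K) 1 1)
  rwa [one_mul] at h

/-- pairs of roots of the unipotent radical -/
theorem z_mem_comm {k : Fin 72} (hk : 36 ≤ k.val) (hk' : ¬ chevE6.InRootSub {j | j ∈ Jn} k.val)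
    (hk2 : rho k ≠ k) (t : K) : z φ k t ∈ ⁅PP K, PP K⁆ := by
  have := F.charP
  obtain ⟨p, hp, rfl⟩ := tab2_all k hk hk' hk2
  obtain ⟨h1, ⟨h2, h3⟩, ⟨h4, h5⟩, ⟨h6, h7, h8⟩⟩ := tab2_spec p hp
  have h := mem_comm_of (LL_le_PP (z_mem_LL F h4 h5 t)) (x_mem_PP F (Or.inl h2) h3) (h1.comm φ t)
  have h9 : x p.2.2.2.val (t * φ t) ∈ ⁅PP K, PP K⁆ := by
    rcases zero_or_one F (t := t * φ t) (by rw [map_mul, F.inv, mul_comm]) with h0 | h0
    · rw [h0, TwE6Basic.x_zero]; exact one_mem _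
    · rw [h0]; exact x_mem_comm F h6 h7 h8
  exact (Subgroup.mul_mem_cancel_right _ h9).1 h

/-- **The parabolic subgroup `P_J ∩ E` is perfect.** -/
theorem PP_le_comm : PP K ≤ ⁅PP K, PP K⁆ := by
  have := F.charP
  have hLL : LL K ≤ ⁅PP K, PP K⁆ := (LL_le_comm F).trans (Subgroup.commutator_mono LL_le_PP LL_le_PP)
  intro g hg
  obtain ⟨hg1, hg2⟩ := Subgroup.mem_inf.1 hg
  refine PR_E_le F (M := ⁅PP K, PP K⁆) (fun b hb hbE => ?_) (fun b hb hbE => hLL (M0_le F (torus_mem_M0 F hb hbE)))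
    (fun i => hLL (n_mem_LL F i)) hg1 hg2
  refine U_E_le F (M := ⁅PP K, PP K⁆) (fun o ho => ?_) hb hbE
  refine rel_le F ho (fun r hr hr' => ?_) (fun r hr hr' t => ?_)
  · by_cases hJ : chevE6.InRootSub {j | j ∈ Jn} r.val
    · exact hLL (x_mem_LL F hJ hr')
    · exact x_mem_comm F (L_pos o ho _ hr).2 hJ hr'
  · by_cases hJ : chevE6.InRootSub {j | j ∈ Jn} r.val
    · exact hLL (z_mem_LL F hJ hr' t)
    · exact z_mem_comm F (L_pos o ho _ hr).2 hJ hr' t

theorem PP_comm : ⁅PP K, PP K⁆ = PP K := by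
  refine le_antisymm (Subgroup.commutator_le.2 fun g hg h hh => ?_) (PP_le_comm F)
  rw [commutatorElement_def]
  exact mul_mem (mul_mem (mul_mem hg hh) (inv_mem hg)) (inv_mem hh)

end Four

/-! ### In the twisted group -/

section twisted

variable [Fintype K] {φ : K →+* K} (F : Four K φ)
include F

/-- the centraliser of an element equal to `x_71(1)` -/
theorem centralizer_eq {r : ↥(twistedE6 K 2)} (hr : (r : GL chevE6.Idx K) = x 71 1) :
    (Subgroup.centralizer ({r} : Set ↥(twistedE6 K 2))).map (twistedE6 K 2).subtype = PP K := by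
  ext g
  rw [Subgroup.mem_map]
  constructor
  · rintro ⟨y, hy, rfl⟩
    refine Subgroup.mem_inf.2 ⟨(cent_top F y.2).1 ?_, y.2⟩
    have h := congrArg Subtype.val (Subgroup.mem_centralizer_singleton_iff.1 hy)
    have h' : (y : GL chevE6.Idx K) * r = r * y := h
    rwa [hr] at h'
  · intro hg
    obtain ⟨hg1, hg2⟩ := Subgroup.mem_inf.1 hg
    refine ⟨⟨g, hg2⟩, Subgroup.mem_centralizer_singleton_iff.2 (Subtype.ext ?_), rfl⟩
    show g * (r : GL chevE6.Idx K) = r * g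
    rw [hr]
    exact (cent_top F hg2).2 hg1

theorem perf_top {r : ↥(twistedE6 K 2)} (hr : (r : GL chevE6.Idx K) = x 71 1) :
    ⁅Subgroup.centralizer ({r} : Set ↥(twistedE6 K 2)), Subgroup.centralizer ({r} : Set ↥(twistedE6 K 2))⁆ =
      Subgroup.centralizer ({r} : Set ↥(twistedE6 K 2)) := by
  apply Subgroup.map_injective (twistedE6 K 2).subtype_injective
  rw [Subgroup.map_commutator, centralizer_eq F hr, PP_comm F]

end twisted

end Cfsg.Agent.TwoESix.LeviPerf
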