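import Cfsg.Agent.TwoESix.FlagL
import Cfsg.Agent.TwoESix.LeviPerf
import Cfsg.Agent.TwoESix.KeyExtra
import Cfsg.Agent.KFacts.LargeE
import Cfsg.Agent.KFacts.LargeAut

/-!
# The fact sheet of `²E₆(2)`, first part

`P = C_E(z)`, `z = r0`, `R = U_J ∩ E` is large extraspecial in `E` (`large`), irreducible modulo `⟨z⟩` (`irr`);
an automorphism centralising `P` is trivial or the conjugation by `z` (`aut_triv`).
-/

set_option autoImplicit false
set_option linter.unusedSectionVars false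
set_option linter.unusedVariables false

namespace Cfsg.Agent.TwoESix.SheetA

open Cfsg Cfsg.Lie
open Cfsg.Agent.ChevalleyStructure
open Cfsg.Agent.ChevalleyStructure.Elts hiding x_add x_zero x_eq_one_iff
open Cfsg.Agent.ChevalleyStructure.TwE6Basic
open Cfsg.Agent.ChevalleyStructure.TwE6BN
open Cfsg.Agent.TwoESix.LeviA
open Cfsg.Agent.TwoESix.LeviB
open Cfsg.Agent.TwoESix.LeviC
open Cfsg.Agent.TwoESix.LeviD
open Cfsg.Agent.TwoESix.LongPairs
open Cfsg.Agent.TwoESix.LongCard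
open Cfsg.Agent.TwoESix.FlagH
open Cfsg.Agent.TwoESix.FlagI
open Cfsg.Agent.TwoESix.KeyExtra
open Cfsg.Agent.BabyU (rootClass)
open Cfsg.Agent.Co2Type.Quad (Large)
open Cfsg.Agent.KFacts.LargeO2 (Irr)

open scoped commutatorElement Pointwise

universe u

/-! ### Fixed points modulo `⟨z⟩` -/

/-- A 2-group acting on a normal subgroup `N` of `Q` has fixed points modulo `⟨z⟩` in `N`. -/
theorem exists_fix {G : Type*} [Group G] [Finite G] {Q : Subgroup G} {z : G} (h : Large Q z) {S N : Subgroup G}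
    (hS : IsPGroup 2 S) (hSz : ∀ s ∈ S, s * z = z * s) (hNQ : N ≤ Q) (hinv : ∀ s ∈ S, ∀ y ∈ N, s * y * s⁻¹ ∈ N)
    (hne : ∃ x ∈ N, x ≠ 1 ∧ x ≠ z) :
    ∃ x ∈ N, x ≠ 1 ∧ x ≠ z ∧ ∀ s ∈ S, s * x * s⁻¹ = x ∨ s * x * s⁻¹ = x * z := by
  classical
  let X : AddSubgroup h.V :=
    { carrier := {v | ∃ x : Q, (x : G) ∈ N ∧ h.pr x = v}
      zero_mem' := ⟨1, N.one_mem, h.pr_one⟩
      add_mem' := by
        rintro _ _ ⟨x, hx, rfl⟩ ⟨y, hy, rfl⟩
        exact ⟨x * y, N.mul_mem hx hy, h.pr_mul x y⟩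
      neg_mem' := by
        rintro _ ⟨x, hx, rfl⟩
        exact ⟨x⁻¹, N.inv_mem hx, h.pr_inv x⟩ }
  have hmem : ∀ (s : S) (v : X),
      h.act ⟨s, Subgroup.mem_centralizer_singleton_iff.2 (hSz s s.2)⟩ (v : h.V) ∈ X := by
    rintro s ⟨_, x, hx, rfl⟩
    rw [h.act_pr]
    exact ⟨_, hinv s s.2 x hx, rfl⟩
  let _ : MulAction S X :=
    { smul := fun s v => ⟨h.act ⟨s, Subgroup.mem_centralizer_singleton_iff.2 (hSz s s.2)⟩ (v : h.V), hmem s v⟩
      one_smul := fun v => by
        apply Subtype.ext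
        show h.act ⟨((1 : S) : G), _⟩ (v : h.V) = v
        have : (⟨((1 : S) : G), Subgroup.mem_centralizer_singleton_iff.2 (hSz _ (1 : S).2)⟩ :
          Subgroup.centralizer ({z} : Set G)) = 1 := rfl
        rw [this, map_one]; rfl
      mul_smul := fun a b v => by
        apply Subtype.ext
        show h.act ⟨((a * b : S) : G), _⟩ (v : h.V) = h.act ⟨a, _⟩ (h.act ⟨b, _⟩ v)
        have : (⟨((a * b : S) : G), Subgroup.mem_centralizer_singleton_iff.2 (hSz _ (a * b).2)⟩ :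
          Subgroup.centralizer ({z} : Set G)) =
            ⟨a, Subgroup.mem_centralizer_singleton_iff.2 (hSz a a.2)⟩ *
            ⟨b, Subgroup.mem_centralizer_singleton_iff.2 (hSz b b.2)⟩ := rfl
        rw [this, map_mul]; rfl }
  have hsm : ∀ (s : S) (v : X), ((s • v : X) : h.V) =
      h.act ⟨s, Subgroup.mem_centralizer_singleton_iff.2 (hSz s s.2)⟩ (v : h.V) := fun _ _ => rfl
  obtain ⟨x0, hx0, hx01, hx0z⟩ := hne
  have hne' : (⟨h.pr ⟨x0, hNQ hx0⟩, ⟨x0, hNQ hx0⟩, hx0, rfl⟩ : X) ≠ 0 := by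
    intro h1
    rcases h.pr_eq_zero.1 (congrArg Subtype.val h1) with h2 | h2
    · exact hx01 h2
    · exact hx0z h2
  have h2X : 2 ∣ Nat.card X := by
    have h1 : addOrderOf (⟨h.pr ⟨x0, hNQ hx0⟩, ⟨x0, hNQ hx0⟩, hx0, rfl⟩ : X) = 2 := by
      apply addOrderOf_eq_prime
      · rw [two_nsmul]; exact Subtype.ext (h.add_self _)
      · exact hne'
    rw [← h1]
    exact addOrderOf_dvd_natCard _
  have h0 : (0 : X) ∈ MulAction.fixedPoints S X := fun w => Subtype.ext (by
    rw [hsm]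
    show h.act _ (0 : h.V) = 0
    rw [map_zero])
  obtain ⟨⟨_, x, hxN, rfl⟩, hv, hv0⟩ := hS.exists_fixed_point_of_prime_dvd_card_of_fixed_point X h2X h0
  refine ⟨x, hxN, ?_, ?_, ?_⟩
  · intro h1
    exact hv0 (Subtype.ext (h.pr_eq_zero.2 (Or.inl h1)).symm)
  · intro h1
    exact hv0 (Subtype.ext (h.pr_eq_zero.2 (Or.inr h1)).symm)
  · intro w hw
    have h1 := congrArg Subtype.val (hv ⟨w, hw⟩)
    rw [hsm, h.act_pr, h.pr_eq_pr] at h1
    exact h1

variable {K : Type u} [Field K]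

section Four

variable [Fintype K] {φ : K →+* K} (F : Four K φ)
include F

/-- the root involution `x_70(1)` of `R` -/
abbrev c0 : ↥(twistedE6 K 2) := xe F 70 (by decide +kernel)

/-- the root involution `x_60(1)` of `P`, outside `R` -/
abbrev a0 : ↥(twistedE6 K 2) := xe F 60 (by decide +kernel)

theorem r0_sq' : r0 F * r0 F = 1 := by
  have := F.charP
  exact Subtype.ext (x_sq (K := K) 71)

theorem r0_ne' : r0 F ≠ 1 := by
  have := F.charP
  exact fun h => x_ne_one (K := K) (r := 71) (by norm_num) (congrArg Subtype.val h)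

theorem root_sq {r : ↥(twistedE6 K 2)} (hr : r ∈ rootClass K) : r * r = 1 := by
  obtain ⟨k, rfl⟩ := exists_conj F hr
  calc k * r0 F * k⁻¹ * (k * r0 F * k⁻¹) = k * (r0 F * r0 F) * k⁻¹ := by group
    _ = 1 := by rw [r0_sq' F]; group

theorem r0_mem_RE : r0 F ∈ RE K := Subgroup.mem_subgroupOf.2 (x_mem_UR (r := 71) (by decide) (by decide +kernel) 1)

theorem RE_comm_r0 {x' : ↥(twistedE6 K 2)} (hx : x' ∈ RE K) : x' * r0 F = r0 F * x' := S_cent F x' (R_le F hx)

theorem comm_RE' {p q : ↥(twistedE6 K 2)} (hp : p ∈ RE K) (hq : q ∈ RE K) : p * q = q * p ∨ p * q = q * p * r0 F := by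
  rcases comm_RE F hp hq with h | h
  · exact Or.inl h
  · right
    have h1 : q * p * r0 F = r0 F * (q * p) := RE_comm_r0 F (mul_mem hq hp)
    rw [h1, ← h, commutatorElement_def]
    group

/-- the elements of `R` with square in `⟨z⟩` -/
theorem sq_RE (x' : ↥(twistedE6 K 2)) (hx : x' ∈ RE K) : x' * x' = 1 ∨ x' * x' = r0 F := by
  have hz := r0_sq' F
  have key : ∀ a ∈ RE K, ∀ b ∈ RE K, (a * a = 1 ∨ a * a = r0 F) → (b * b = 1 ∨ b * b = r0 F) →
      (a * b * (a * b) = 1 ∨ a * b * (a * b) = r0 F) := by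
    intro a ha b hb h1 h2
    have hbz := RE_comm_r0 F hb
    have e : a * b * (a * b) = a * a * (b * b) ∨ a * b * (a * b) = a * a * (b * b) * r0 F := by
      rcases comm_RE' F hb ha with h | h
      · left
        calc a * b * (a * b) = a * (b * a) * b := by group
          _ = a * (a * b) * b := by rw [h]
          _ = _ := by group
      · right
        calc a * b * (a * b) = a * (b * a) * b := by group
          _ = a * (a * b * r0 F) * b := by rw [h]
          _ = a * a * b * (r0 F * b) := by group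
          _ = a * a * (b * b) * r0 F := by rw [← hbz]; group
    rcases h1 with h1 | h1 <;> rcases h2 with h2 | h2 <;> rw [h1, h2] at e <;>
      simp only [one_mul, mul_one, hz] at e <;> tauto
  have h1 : RE K ≤ Subgroup.closure ((RE K : Set ↥(twistedE6 K 2)) ∩ rootClass K) := R_gen F
  have h2 : ∀ y ∈ Subgroup.closure ((RE K : Set ↥(twistedE6 K 2)) ∩ rootClass K),
      y ∈ RE K ∧ (y * y = 1 ∨ y * y = r0 F) := by
    intro y hy
    induction hy using Subgroup.closure_induction with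
    | mem y hy => exact ⟨hy.1, Or.inl (root_sq F hy.2)⟩
    | one => exact ⟨one_mem _, Or.inl (one_mul 1)⟩
    | mul a b _ _ ha hb => exact ⟨mul_mem ha.1 hb.1, key a ha.1 b hb.1 ha.2 hb.2⟩
    | inv a _ ha =>
      refine ⟨inv_mem ha.1, ?_⟩
      have e : a⁻¹ * a⁻¹ = (a * a)⁻¹ := by group
      rw [e]
      rcases ha.2 with h | h
      · left; rw [h, inv_one]
      · right; rw [h]; exact inv_eq_of_mul_eq_one_left hz
  exact (h2 x' (h1 hx)).2

/-- A normal subgroup of `P` lies in `R` or covers `P/R`. -/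
theorem normal_cases (N : Subgroup ↥(twistedE6 K 2)) (hN : ∀ p ∈ N, p * r0 F = r0 F * p)
    (hn : ∀ y, y * r0 F = r0 F * y → ∀ p ∈ N, y * p * y⁻¹ ∈ N) :
    N ≤ RE K ∨ ∀ y, y * r0 F = r0 F * y → y ∈ N ⊔ RE K := by
  have hnorm : ∀ l : ↥(LL K), ∀ p ∈ N ⊔ RE K, io K l * p * (io K l)⁻¹ ∈ N ⊔ RE K := by
    intro l p hp
    have hl := LL_r0 F (l := io K l) l.2
    have h1 : (N ⊔ RE K).map (MulAut.conj (io K l)).toMonoidHom ≤ N ⊔ RE K := by
      rw [Subgroup.map_sup]
      refine sup_le_sup ?_ ?_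
      · rintro _ ⟨p, hp, rfl⟩
        exact hn _ hl p hp
      · rintro _ ⟨p, hp, rfl⟩
        exact R_norm F _ hl p hp
    exact h1 ⟨p, hp, rfl⟩
  have hMn : ((N ⊔ RE K).comap (io K)).Normal := ⟨fun p hp l => by
    rw [Subgroup.mem_comap] at hp ⊢
    rw [map_mul, map_mul, map_inv]
    exact hnorm l _ hp⟩
  obtain ⟨hs, -⟩ := simple_LL F
  rcases hs.eq_bot_or_eq_top_of_normal _ hMn with h | h
  · left
    intro p hp
    obtain ⟨q, hq, l, hl, hlE, e⟩ := decompE F (hN p hp)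
    have h1 : (⟨l, hl⟩ : ↥(LL K)) ∈ (N ⊔ RE K).comap (io K) := by
      rw [Subgroup.mem_comap]
      have e1 : io K ⟨l, hl⟩ = q⁻¹ * p := by rw [e, inv_mul_cancel_left]; rfl
      rw [e1]
      exact mul_mem (inv_mem (Subgroup.mem_sup_right hq)) (Subgroup.mem_sup_left hp)
    rw [h, Subgroup.mem_bot] at h1
    have h2 : (⟨l, hlE⟩ : ↥(twistedE6 K 2)) = 1 := 
      Subtype.ext (show l = 1 from congrArg Subtype.val h1)
    rw [e, h2, mul_one]
    exact hq
  · right
    intro y hy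
    obtain ⟨q, hq, l, hl, hlE, e⟩ := decompE F hy
    have h1 : (⟨l, hl⟩ : ↥(LL K)) ∈ (N ⊔ RE K).comap (io K) := by rw [h]; exact Subgroup.mem_top _
    rw [Subgroup.mem_comap] at h1
    rw [e]
    exact mul_mem (Subgroup.mem_sup_right hq) h1

/-- some element of `P` moves `x_70(1)` to `x_46(1)` -/
theorem exists_move : ∃ y : ↥(twistedE6 K 2), y * r0 F = r0 F * y ∧ y * c0 F * y⁻¹ = xe F 46 (by decide +kernel) := by
  have := F.charP
  have hw0 : ∀ i ∈ ([1, 2, 3, 1, 2, 1] : List (Fin 4)), i ≠ 0 := by decide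
  have hw : wpm [1, 2, 3, 1, 2, 1] 70 = 46 := by decide +kernel
  refine ⟨we F [1, 2, 3, 1, 2, 1], Subtype.ext (wn_top F _ hw0), Subtype.ext ?_⟩
  have h2 := wn_conj (K := K) [1, 2, 3, 1, 2, 1] 70 1
  rw [hw] at h2
  exact h2

theorem c0_comm_r0 : c0 F * r0 F = r0 F * c0 F := RE_comm_r0 F (c_R F)

/-- `x_46(1)` does not commute with `x_70(1)`. -/
theorem xe46_not_comm : xe F 46 (by decide +kernel) * c0 F ≠ c0 F * xe F 46 (by decide +kernel) := by
  have := F.charP
  intro h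
  have h1 : x 46 (1 : K) * x 70 1 = x 70 1 * x 46 1 := congrArg Subtype.val h
  rw [comm46_70] at h1
  exact x_ne_one (K := K) (r := 71) (by norm_num) (mul_eq_left.1 h1)

/-- not every element of `P` fixes `x_70(1)` modulo `⟨z⟩` -/
theorem exists_move' : ∃ y : ↥(twistedE6 K 2), y * r0 F = r0 F * y ∧ y * c0 F * y⁻¹ ≠ c0 F ∧
    y * c0 F * y⁻¹ ≠ c0 F * r0 F := by
  obtain ⟨y, hy, hyc⟩ := exists_move F
  have hn := xe46_not_comm F
  refine ⟨y, hy, fun h => hn ?_, fun h => hn ?_⟩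
  · rw [← hyc, h]
  · rw [← hyc, h, mul_assoc, ← c0_comm_r0 F, ← mul_assoc]

/-- `C_P(R) ≤ R` -/
theorem self_RE (g : ↥(twistedE6 K 2)) (hg : ∀ x' ∈ RE K, g * x' = x' * g) : g ∈ RE K := by
  have hmem : ∀ p, p ∈ Subgroup.centralizer (RE K : Set ↥(twistedE6 K 2)) ↔ ∀ x' ∈ RE K, p * x' = x' * p := by
    intro p
    rw [Subgroup.mem_centralizer_iff]
    exact ⟨fun h x' hx => (h x' hx).symm, fun h x' hx => (h x' hx).symm⟩
  rcases normal_cases F (Subgroup.centralizer (RE K : Set ↥(twistedE6 K 2)))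
    (fun p hp => (hmem p).1 hp _ (r0_mem_RE F)) (fun y hy p hp => (hmem _).2 fun x' hx => by
      have hy' : y⁻¹ * r0 F = r0 F * y⁻¹ := by
        rw [inv_mul_eq_iff_eq_mul, ← mul_assoc, hy, mul_assoc, mul_inv_cancel, mul_one]
      have h1 := R_norm F y⁻¹ hy' x' hx
      rw [inv_inv] at h1
      have h2 := (hmem p).1 hp _ h1
      calc y * p * y⁻¹ * x' = y * (p * (y⁻¹ * x' * y)) * y⁻¹ := by group
        _ = y * ((y⁻¹ * x' * y) * p) * y⁻¹ := by rw [h2]
        _ = x' * (y * p * y⁻¹) := by group) with h | h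
  · exact h ((hmem g).2 hg)
  · exfalso
    obtain ⟨y, hy, h1, h2⟩ := exists_move' F
    have key : ∀ m ∈ Subgroup.centralizer (RE K : Set ↥(twistedE6 K 2)) ⊔ RE K,
        m * c0 F * m⁻¹ = c0 F ∨ m * c0 F * m⁻¹ = c0 F * r0 F := by
      intro m hm
      have hle : Subgroup.centralizer (RE K : Set ↥(twistedE6 K 2)) ≤ Subgroup.normalizer (RE K : Set ↥(twistedE6 K 2)) :=
        Subgroup.centralizer_le_normalizer _
      have hm' : m ∈ (Subgroup.centralizer (RE K : Set ↥(twistedE6 K 2)) : Set ↥(twistedE6 K 2)) *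
          (RE K : Set ↥(twistedE6 K 2)) := by
        rw [← Subgroup.coe_mul_of_left_le_normalizer_right _ _ hle]
        exact hm
      obtain ⟨p, hp, q, hq, rfl⟩ := hm'
      have hcm : c0 F ∈ RE K := c_R F
      have hp1 : ∀ v ∈ RE K, p * v * p⁻¹ = v := fun v hv => by rw [(hmem p).1 hp v hv, mul_inv_cancel_right]
      have hqc : q * c0 F * q⁻¹ ∈ RE K := mul_mem (mul_mem hq hcm) (inv_mem hq)
      have e : p * q * c0 F * (p * q)⁻¹ = q * c0 F * q⁻¹ := by
        rw [← hp1 _ hqc]; group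
      show p * q * c0 F * (p * q)⁻¹ = c0 F ∨ p * q * c0 F * (p * q)⁻¹ = c0 F * r0 F
      rw [e]
      rcases comm_RE' F hq hcm with h3 | h3
      · left; rw [h3, mul_inv_cancel_right]
      · right
        have hqz : q⁻¹ * r0 F = r0 F * q⁻¹ := RE_comm_r0 F (inv_mem hq)
        calc q * c0 F * q⁻¹ = c0 F * q * (r0 F * q⁻¹) := by rw [h3]; group
          _ = c0 F * r0 F := by rw [← hqz]; group
    rcases key y (h y hy) with h3 | h3
    · exact h1 h3
    · exact h2 h3

/-- **`R` is a large extraspecial subgroup.** -/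
theorem large : Large (RE K) (r0 F) where
  z_mem := r0_mem_RE F
  z_ne := r0_ne' F
  z_sq := r0_sq' F
  comm_z := fun x' hx => RE_comm_r0 F hx
  conj_mem := fun g hg x' hx => R_norm F g hg x' hx
  sq := sq_RE F
  comm := fun x' hx y hy => comm_RE' F hx hy
  cent := fun x' hx h => center_RE F hx h
  self := fun g _ hg => self_RE F g hg

/-- the root involutions of `R` other than `z` are conjugate under `P` -/
theorem root_RE {x' : ↥(twistedE6 K 2)} (hx : x' ∈ RE K) (hT : x' ∈ rootClass K) :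
    x' = r0 F ∨ ∃ y : ↥(twistedE6 K 2), y * r0 F = r0 F * y ∧ y * x' * y⁻¹ = c0 F := by
  have := F.charP
  obtain ⟨h, rfl⟩ := exists_conj F hT
  obtain ⟨k, hk, h1, γ, hγ, h2⟩ := pair_general F (one_mem (twistedE6 K 2)) h.2
  generalize hX : h * r0 F * h⁻¹ = X at *
  have hX' : (h : GL chevE6.Idx K) * x 71 1 * (h : GL chevE6.Idx K)⁻¹ = (X : GL chevE6.Idx K) := by rw [← hX]; rfl
  rw [hX'] at h2
  have hk0 : (⟨k, hk⟩ : ↥(twistedE6 K 2)) * r0 F = r0 F * ⟨k, hk⟩ := by
    apply Subtype.ext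
    show k * x 71 1 = x 71 1 * k
    rw [inv_one, one_mul, mul_one] at h1
    exact mul_inv_eq_iff_eq_mul.1 h1
  have hkx := R_norm F _ hk0 X hx
  have hc : x γ (1 : K) * x 71 1 = x 71 1 * x γ 1 := by
    have h3 := congrArg Subtype.val (RE_comm_r0 F hkx)
    rw [← h2]
    exact h3
  have e : (((⟨k, hk⟩ : ↥(twistedE6 K 2)) * X * (⟨k, hk⟩ : ↥(twistedE6 K 2))⁻¹ : ↥(twistedE6 K 2)) : GL chevE6.Idx K) =
      x γ 1 := h2
  simp only [List.mem_cons, List.not_mem_nil, or_false] at hγ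
  rcases hγ with rfl | rfl | rfl | rfl | rfl
  · left
    have h3 : (⟨k, hk⟩ : ↥(twistedE6 K 2)) * X * (⟨k, hk⟩ : ↥(twistedE6 K 2))⁻¹ = r0 F := Subtype.ext e
    calc X = (⟨k, hk⟩ : ↥(twistedE6 K 2))⁻¹ * ((⟨k, hk⟩ : ↥(twistedE6 K 2)) * X *
            (⟨k, hk⟩ : ↥(twistedE6 K 2))⁻¹) * ⟨k, hk⟩ := by group
      _ = (⟨k, hk⟩ : ↥(twistedE6 K 2))⁻¹ * (r0 F * ⟨k, hk⟩) := by rw [h3]; group
      _ = r0 F := by rw [← hk0]; group
  · right
    exact ⟨_, hk0, Subtype.ext e⟩
  · exfalso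
    have h3 : (⟨k, hk⟩ : ↥(twistedE6 K 2)) * X * (⟨k, hk⟩ : ↥(twistedE6 K 2))⁻¹ = a0 F := Subtype.ext e
    rw [h3] at hkx
    exact a_R F hkx
  · exfalso
    have h3 : (x 71 (1 : K) * x 25 1) ^ 2 = 1 := by
      rw [pow_two]
      calc x 71 (1 : K) * x 25 1 * (x 71 1 * x 25 1) = x 71 1 * (x 25 1 * x 71 1) * x 25 1 := by group
        _ = (x 71 1 * x 71 1) * (x 25 1 * x 25 1) := by rw [hc]; group
        _ = 1 := by rw [x_sq, x_sq, one_mul]
    rw [sq25] at h3
    exact x_ne_one (K := K) (r := 70) (by norm_num) h3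
  · exfalso
    have h3 : (x 71 (1 : K) * x 0 1) ^ 2 = 1 := by
      rw [pow_two]
      calc x 71 (1 : K) * x 0 1 * (x 71 1 * x 0 1) = x 71 1 * (x 0 1 * x 71 1) * x 0 1 := by group
        _ = (x 71 1 * x 71 1) * (x 0 1 * x 0 1) := by rw [hc]; group
        _ = 1 := by rw [x_sq, x_sq, one_mul]
    have h4 := cube0 (K := K)
    rw [pow_succ, h3, one_mul] at h4
    have h5 : x 71 (1 : K) = x 0 1 := by
      rw [eq_inv_of_mul_eq_one_left h4, inv_eq_of_mul_eq_one_left (x_sq 0)]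
    exact x_ne (K := K) (r := 71) (s := 0) (by norm_num) (by norm_num) (by norm_num) h5

/-- **`R/⟨z⟩` is irreducible.** -/
theorem irr : Irr (RE K) (r0 F) := by
  have := finite_E (K := K)
  intro N hN hinv
  by_cases hne : ∃ x' ∈ N, x' ≠ 1 ∧ x' ≠ r0 F
  · right
    obtain ⟨x1, hx1, hx11, hx1z⟩ := hne
    -- `z ∈ N`
    have hzN : r0 F ∈ N := by
      by_contra hz
      have h1 : ∀ q ∈ RE K, x1 * q = q * x1 := by
        intro q hq
        rcases comm_RE F hq (hN hx1) with h | h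
        · exact h.symm
        · exfalso
          apply hz
          rw [← h, commutatorElement_def]
          exact mul_mem (hinv q (RE_comm_r0 F hq) x1 hx1) (inv_mem hx1)
      rcases center_RE F (hN hx1) h1 with h | h
      · exact hx11 h
      · exact hx1z h
    -- `c0 ∈ N`
    obtain ⟨y, hyN, hy1, hyz, hy⟩ := exists_fix (large F) (S_two F) (fun s hs => S_cent F s hs) hN
      (fun s hs y hy => hinv s (S_cent F s hs) y hy) ⟨x1, hx1, hx11, hx1z⟩
    have hyz' : y * r0 F = r0 F * y := RE_comm_r0 F (hN hyN)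
    have hcN : c0 F ∈ N := by
      rcases FlagL.c_uni F y (hN hyN) (fun s hs => by rw [← hyz']; exact hy s hs) with h | h | h | h
      · exact absurd h hy1
      · exact absurd h hyz
      · have h' : y = c0 F := h
        rw [← h']; exact hyN
      · have h' : y = r0 F * c0 F := h
        have : c0 F = r0 F * y := by rw [h', ← mul_assoc, r0_sq' F, one_mul]
        rw [this]
        exact mul_mem hzN hyN
    refine le_antisymm hN fun p hp => ?_
    have h1 := R_gen F hp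
    refine (Subgroup.closure_le N).2 ?_ h1
    rintro q ⟨hq, hqT⟩
    rcases root_RE F hq hqT with rfl | ⟨y, hy, e⟩
    · exact hzN
    · have hy' : y⁻¹ * r0 F = r0 F * y⁻¹ := by
        rw [inv_mul_eq_iff_eq_mul, ← mul_assoc, hy, mul_assoc, mul_inv_cancel, mul_one]
      have h2 := hinv y⁻¹ hy' _ hcN
      rw [← e] at h2
      have e2 : y⁻¹ * (y * q * y⁻¹) * y⁻¹⁻¹ = q := by group
      rwa [e2] at h2
  · left
    intro y hy
    by_contra hcon
    exact hne ⟨y, hy, fun h => hcon (Or.inl h), fun h => hcon (Or.inr h)⟩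

/-! ### Generation and (T1') -/

theorem we_zero : we F [0] * r0 F * (we F [0])⁻¹ = c0 F := by
  have := F.charP
  have h2 := wn_conj (K := K) [0] 71 1
  have hw : wpm [0] 71 = 70 := by decide +kernel
  rw [hw] at h2
  exact Subtype.ext h2

theorem gen_top : Subgroup.closure ({c : ↥(twistedE6 K 2) | c * r0 F = r0 F * c} ∪ {we F [0]}) = ⊤ := by
  rw [eq_top_iff]
  intro g _
  set H := Subgroup.closure ({c : ↥(twistedE6 K 2) | c * r0 F = r0 F * c} ∪ {we F [0]}) with hH
  have hC : ∀ c, c * r0 F = r0 F * c → c ∈ H := fun c hc => Subgroup.subset_closure (Or.inl hc)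
  have h0 : we F [0] ∈ H := Subgroup.subset_closure (Or.inr rfl)
  have hw : ∀ l : List (Fin 4), we F l ∈ H := by
    intro l
    induction l with
    | nil =>
      have : we F [] = 1 := rfl
      rw [this]; exact one_mem _
    | cons i l ih =>
      have e : we F (i :: l) = we F [i] * we F l := by
        apply Subtype.ext
        show wn (i :: l) = wn [i] * wn l
        rw [wn_cons, wn_cons, wn_nil, mul_one]
      rw [e]
      refine mul_mem ?_ ih
      by_cases hi : i = 0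
      · subst hi; exact h0
      · exact hC _ (Subtype.ext (wn_top F [i] (by simpa using hi)))
  obtain ⟨l, hl⟩ := exists_D F g
  obtain ⟨b, hb, hbE, b', hb', hbE', e⟩ := (mem_D F).1 hl
  have e' : g = ⟨b, hbE⟩ * we F l * ⟨b', hbE'⟩ := Subtype.ext e
  rw [e']
  exact mul_mem (mul_mem (hC _ (Subtype.ext (B_comm F hb hbE))) (hw l)) (hC _ (Subtype.ext (B_comm F hb' hbE')))

/-- **(T1')** -/
theorem aut_triv (β : MulAut ↥(twistedE6 K 2)) (hβ : ∀ c, c * r0 F = r0 F * c → β c = c) :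
    β = 1 ∨ β = MulAut.conj (r0 F) := by
  have := finite_E (K := K)
  have h1 : we F [0] * r0 F * (we F [0])⁻¹ ∈ RE K := by rw [we_zero]; exact c_R F
  have h2 : we F [0] * r0 F * (we F [0])⁻¹ ≠ r0 F := by
    rw [we_zero]
    intro h
    have := F.charP
    exact x_ne (K := K) (r := 70) (s := 71) (by norm_num) (by norm_num) (by norm_num) (congrArg Subtype.val h)
  exact KFacts.LargeE.eq_one_or_conj (large F) h1 h2 (gen_top F) β hβ

/-- `P` is perfect -/
theorem perf : ⁅Subgroup.centralizer ({r0 F} : Set ↥(twistedE6 K 2)), Subgroup.centralizer ({r0 F} : Set _)⁆ =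
    Subgroup.centralizer ({r0 F} : Set ↥(twistedE6 K 2)) := by
  have h0 : ((r0 F : ↥(twistedE6 K 2)) : GL chevE6.Idx K) = x 71 1 := rfl
  apply Subgroup.map_injective (twistedE6 K 2).subtype_injective
  rw [Subgroup.map_commutator, LeviPerf.centralizer_eq F h0, LeviPerf.PP_comm F]

end Four

end Cfsg.Agent.TwoESix.SheetA
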