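import Cfsg.Agent.TwoESix.FlagI

/-!
# ²E₆(2): the flag `b, c, a` (`a_bor`)
-/

set_option autoImplicit false
set_option linter.unusedSectionVars false

namespace Cfsg.Agent.TwoESix.FlagJ

open Cfsg.Lie
open Cfsg.Agent.ChevalleyStructure
open Cfsg.Agent.ChevalleyStructure.Elts hiding x_add x_zero x_eq_one_iff
open Cfsg.Agent.ChevalleyStructure.TwE6Basic
open Cfsg.Agent.ChevalleyStructure.TwE6BN
open Cfsg.Agent.TwoESix.LeviA
open Cfsg.Agent.TwoESix.LeviB
open Cfsg.Agent.TwoESix.LeviC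
open Cfsg.Agent.TwoESix.LeviD
open Cfsg.Agent.TwoESix.LongPairs
open Cfsg.Agent.TwoESix.LongCard
open Cfsg.Agent.TwoESix.FlagH
open Cfsg.Agent.TwoESix.FlagI
open Cfsg.Agent.BabyU (rootClass)

open scoped commutatorElement Pointwise

universe u

variable {K : Type u} [Field K]

section Four

variable [Fintype K] {φ : K →+* K} (F : Four K φ)
include F

theorem conj_B_U {b u : GL chevE6.Idx K} (hb : b ∈ chevE6.borelSubgroup K) (hE : b ∈ twistedE6 K 2)
    (hu : u ∈ chevE6.posUnipotent K) : b * u * b⁻¹ ∈ chevE6.posUnipotent K := by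
  obtain ⟨v, hv, hvE, h, hh, hhE, rfl⟩ := ((T φ 2 F.sq F.sqq).mem_B_iff b hE).1 hb
  have h1 : h * u * h⁻¹ ∈ chevE6.posUnipotent K := (T φ 2 F.sq F.sqq).conj_H_U h hh u hu
  have hv' : v ∈ chevE6.posUnipotent K := hv
  have e : v * h * u * (v * h)⁻¹ = v * (h * u * h⁻¹) * v⁻¹ := by group
  rw [e]
  exact mul_mem (mul_mem hv' h1) (inv_mem hv')

/-- a simple reflection does not normalise `U ∩ E` -/
theorem not_norm (i : Fin 4) : ∃ u ∈ chevE6.posUnipotent K, u ∈ twistedE6 K 2 ∧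
    n (K := K) i * u * (n (K := K) i)⁻¹ ∉ chevE6.posUnipotent K := by
  have := F.charP
  have key : ∀ r : Fin 72, 36 ≤ r.val → (wP i r).val < 36 → rho r = r → ∃ u ∈ chevE6.posUnipotent K,
      u ∈ twistedE6 K 2 ∧ n (K := K) i * u * (n (K := K) i)⁻¹ ∉ chevE6.posUnipotent K := by
    intro r h36 hw hr
    refine ⟨x r.val 1, mem_U h36 1, x_mem_E F hr, fun h => ?_⟩
    rw [n_conj2] at h
    have h1 := V_inf_B (mem_V hw 1) (U_le_B h)
    exact x_ne_one (wP i r).2 h1
  have key2 : ∀ r : Fin 72, 36 ≤ r.val → 36 ≤ (rho r).val → (wP i r).val < 36 → (wP i (rho r)).val < 36 →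
      rho r ≠ r → chevE6.commTerms r.val (rho r).val = [] → (rho r).val ≠ chevE6.neg r.val → ∃ u ∈ chevE6.posUnipotent K,
      u ∈ twistedE6 K 2 ∧ n (K := K) i * u * (n (K := K) i)⁻¹ ∉ chevE6.posUnipotent K := by
    intro r h36 h36' hw hw' hr hc hn
    refine ⟨z φ r 1, mul_mem (mem_U h36 _) (mem_U h36' _), y_mem_E_pos F h36 hr hc hn 1, fun h => ?_⟩
    rw [n_conj_z] at h
    have e : rho (wP i r) = wP i (rho r) := rho_wP i r
    have h1 := V_inf_B (mul_mem (mem_V hw 1) (mem_V (by rw [e]; exact hw') (φ 1))) (U_le_B h)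
    have h2 : x (wP i r).val (1 : K) = x (rho (wP i r)).val 1 := by
      rw [map_one] at h1
      rw [mul_eq_one_iff_eq_inv] at h1
      rw [h1, inv_eq_iff_mul_eq_one, x_sq]
    refine x_ne (wP i r).2 (rho (wP i r)).2 (fun h3 => hr ?_) h2
    have h4 : wP i r = wP i (rho r) := by rw [← e]; exact Fin.ext h3
    have h5 : ∀ s t : Fin 72, wP i s = wP i t → s = t := by
      fin_cases i <;> decide +kernel
    exact (h5 _ _ h4).symm
  have : i = 0 ∨ i = 1 ∨ i = 2 ∨ i = 3 := by fin_cases i <;> simp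
  rcases this with rfl | rfl | rfl | rfl
  · exact key 46 (by decide) (by decide +kernel) (by decide +kernel)
  · exact key 39 (by decide) (by decide +kernel) (by decide +kernel)
  · exact key2 42 (by decide) (by decide +kernel) (by decide +kernel) (by decide +kernel) (by decide +kernel)
      (by decide +kernel) (by decide +kernel)
  · exact key2 56 (by decide) (by decide +kernel) (by decide +kernel) (by decide +kernel) (by decide +kernel)
      (by decide +kernel) (by decide +kernel)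

/-- The normaliser of `S` in `E` is `B`. -/
theorem norm_S {y : ↥(twistedE6 K 2)} (hy : ∀ p ∈ SE K, y * p * y⁻¹ ∈ SE K) :
    (y : GL chevE6.Idx K) ∈ chevE6.borelSubgroup K := by
  have : Finite ↥(twistedE6 K 2) := finite_E
  obtain ⟨P, hB, -, hS, -⟩ := exists_bnPair (K := K) (q := 2) (by norm_num [Nat.prime_two.isPrimePow])
    (by rw [F.card]; norm_num)
  have hmem : ∀ y : ↥(twistedE6 K 2), (∀ p ∈ SE K, y * p * y⁻¹ ∈ SE K) →
      y ∈ Subgroup.normalizer (SE K : Set ↥(twistedE6 K 2)) := by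
    intro y hy
    have h1 : (SE K).map (MulAut.conj y).toMonoidHom ≤ SE K := by
      rintro _ ⟨p, hp, rfl⟩
      exact hy p hp
    have h2 : (SE K).map (MulAut.conj y).toMonoidHom = SE K := by
      refine Subgroup.eq_of_le_of_card_ge h1 ?_
      rw [Subgroup.card_map_of_injective (MulAut.conj y).injective]
    rw [Subgroup.mem_normalizer_iff]
    intro p
    refine ⟨fun hp => hy p hp, fun hp => ?_⟩
    rw [← h2] at hp
    obtain ⟨q, hq, e⟩ := hp
    have e1 : y * q * y⁻¹ = y * p * y⁻¹ := e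
    have : q = p := mul_left_cancel (mul_right_cancel e1)
    rwa [← this]
  have hBC : P.B ≤ Subgroup.normalizer (SE K : Set ↥(twistedE6 K 2)) := by
    rw [hB]
    intro b hb
    refine hmem b fun p hp => ?_
    rw [Subgroup.mem_subgroupOf] at hb hp ⊢
    exact conj_B_U F (Subgroup.mem_inf.1 hb).1 b.2 hp
  have hC := Cfsg.Agent.LieExceptional.BNPairCore.eq_parabolic hBC
  have hle : P.parabolic (P.S ∩ Subgroup.normalizer (SE K : Set ↥(twistedE6 K 2))) ≤ P.B := by
    refine sup_le le_rfl ((Subgroup.closure_le _).2 ?_)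
    rintro m ⟨hm, hm'⟩
    exfalso
    rw [hS] at hm
    obtain ⟨i, hi⟩ := hm
    obtain ⟨u, hu, huE, hn⟩ := not_norm F i
    apply hn
    have h1 := (Subgroup.mem_normalizer_iff.1 hm' ⟨u, huE⟩).1 (Subgroup.mem_subgroupOf.2 hu)
    rw [Subgroup.mem_subgroupOf] at h1
    rw [← hi]
    exact h1
  have h1 := hmem y hy
  rw [hC] at h1
  have h2 := hle h1
  rw [hB] at h2
  exact (Subgroup.mem_inf.1 (Subgroup.mem_subgroupOf.1 h2)).1

/-- elements of `B ∩ E`: a product of an element of `R` and of an element of `B ∩ L` -/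
theorem decompB {y : ↥(twistedE6 K 2)} (hy : (y : GL chevE6.Idx K) ∈ chevE6.borelSubgroup K) :
    ∃ q ∈ RE K, ∃ l ∈ LL K, ∃ hl : l ∈ twistedE6 K 2, l ∈ chevE6.borelSubgroup K ∧ y = q * ⟨l, hl⟩ := by
  obtain ⟨q, hq, l, hl, hlE, e⟩ := decompE F ((comm_r0 F).2 (B_le_PR hy))
  refine ⟨q, hq, l, hl, hlE, ?_, e⟩
  have h1 : l = (q : GL chevE6.Idx K)⁻¹ * (y : GL chevE6.Idx K) := by
    rw [e]
    show l = (q : GL chevE6.Idx K)⁻¹ * ((q : GL chevE6.Idx K) * l)
    rw [inv_mul_cancel_left]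
  rw [h1]
  exact mul_mem (inv_mem (U_le_B (UR_le_U (Subgroup.mem_subgroupOf.1 hq)))) hy

theorem a_bor (y : ↥(twistedE6 K 2)) (hy : ∀ p ∈ SE K, y * p * y⁻¹ ∈ SE K) :
    ∃ q ∈ RE K, y * xe F 60 (by decide +kernel) * y⁻¹ = q * xe F 60 (by decide +kernel) * q⁻¹ := by
  obtain ⟨q, hq, l, hl, hlE, hlB, rfl⟩ := decompB F (norm_S F hy)
  refine ⟨q, hq, ?_⟩
  have h1 : (⟨l, hlE⟩ : ↥(twistedE6 K 2)) * xe F 60 (by decide +kernel) =
      xe F 60 (by decide +kernel) * ⟨l, hlE⟩ := Subtype.ext (LeviE.B_comm60 F hlB hl)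
  calc q * ⟨l, hlE⟩ * xe F 60 (by decide +kernel) * (q * ⟨l, hlE⟩)⁻¹ =
        q * (⟨l, hlE⟩ * xe F 60 (by decide +kernel)) * (q * ⟨l, hlE⟩)⁻¹ := by group
    _ = _ := by rw [h1]; group

end Four

end Cfsg.Agent.TwoESix.FlagJ
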