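import Cfsg.Agent.TwoESix.FlagL
import Cfsg.Agent.TwoESix.FlagJ

/-!
# ²E₆(2): the flag `b, c, a` (`a_uni`): the centre of `S / R` is generated by `a = x_60(1)`

Let `p ∈ S` act trivially on `S / R`, `m = x_46(1)`.  The commutator `[p, m]` is fixed modulo `b` by the elements of the
Levi part of `S` commuting with `m`; so it is in `⟨x_63(1), x_69(1), x_70(1), b⟩`, and then in `⟨x_63(1), b⟩`.  Multiplying by
`a` we get `[p, m] ∈ ⟨b⟩`, and then `p` acts trivially on `R / b` (`acts_trivially`: the image of `p - 1` would contain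
the fixed vector `c`, which is not perpendicular to `m`); this implies `p ∈ R` since the Levi subgroup is simple.
-/

set_option autoImplicit false
set_option linter.unusedSectionVars false

namespace Cfsg.Agent.TwoESix.FlagAU

open Cfsg.Lie
open Cfsg.Agent.ChevalleyStructure
open Cfsg.Agent.ChevalleyStructure.Elts hiding x_add x_zero x_eq_one_iff
open Cfsg.Agent.ChevalleyStructure.TwE6Basic
open Cfsg.Agent.ChevalleyStructure.TwE6BN
open Cfsg.Agent.TwoESix.LeviA
open Cfsg.Agent.TwoESix.LeviB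
open Cfsg.Agent.TwoESix.LeviC
open Cfsg.Agent.TwoESix.LeviD
open Cfsg.Agent.TwoESix.LongPairs
open Cfsg.Agent.TwoESix.LongCard
open Cfsg.Agent.TwoESix.FlagH
open Cfsg.Agent.TwoESix.FlagI
open Cfsg.Agent.TwoESix.FlagK
open Cfsg.Agent.TwoESix.FlagL
open Cfsg.Agent.BabyU (rootClass)

open scoped commutatorElement Pointwise

section Gen

variable {G : Type*} [Group G]

/-- In a finite `2`-group `S` an element of a normal subgroup outside a set can be chosen fixed modulo this set. -/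
theorem exists_fix {S D : Subgroup G} {B : Set G} [Finite ↥S] (h2 : IsPGroup 2 ↥S) (hDS : D ≤ S)
    (hn : ∀ y ∈ S, ∀ x ∈ D, y * x * y⁻¹ ∈ D) (h1 : (1 : G) ∈ B) {x₀ : G} (hx₀ : x₀ ∈ D) (hx₀' : x₀ ∉ B) :
    ∃ x ∈ D, x ∉ B ∧ ∀ y ∈ S, y * x * y⁻¹ * x⁻¹ ∈ B := by
  have hnil : Group.IsNilpotent ↥S := h2.isNilpotent
  obtain ⟨n, hn0⟩ := (Subgroup.nilpotent_iff_lowerCentralSeries (G := ↥S)).1 hnil
  let P : ℕ → Prop := fun n => ∃ x : ↥S, x ∈ (⊤ : Subgroup ↥S).lowerCentralSeries n ∧ (x : G) ∈ D ∧ (x : G) ∉ B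
  have hP0 : P 0 := ⟨⟨x₀, hDS hx₀⟩, Subgroup.mem_top _, hx₀, hx₀'⟩
  have hPn : ¬ P n := by
    rintro ⟨x, hx, -, hxB⟩
    rw [hn0, Subgroup.mem_bot] at hx
    exact hxB (by rw [hx]; exact h1)
  obtain ⟨m, hm, hm'⟩ : ∃ m, P m ∧ ¬ P (m + 1) := by
    by_contra hc
    push Not at hc
    exact hPn (Nat.rec (motive := P) hP0 hc n)
  obtain ⟨x, hx, hxD, hxB⟩ := hm
  refine ⟨x, hxD, hxB, fun y hy => ?_⟩
  by_contra hc
  refine hm' ⟨⁅(⟨y, hy⟩ : ↥S), x⁆, ?_, ?_, ?_⟩
  · rw [← commutatorElement_inv]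
    exact inv_mem (Subgroup.commutator_mem_commutator hx (Subgroup.mem_top _))
  · have h3 := mul_mem (hn y hy x hxD) (inv_mem hxD)
    exact h3
  · exact hc

/-- The commutator `[p, m]` or `[a p, m]` is in `{1, b}`. -/
theorem final_step {T : Set G} {p m f g c a b u₁ u₂ u₃ u₄ : G} (hT : ∀ x ∈ T, ∀ y, y * x * y⁻¹ ∈ T)
    (mT : m ∈ T) (T1 : g * m ∉ T) (T2 : b * (g * m) ∉ T) (b1 : b ≠ 1)
    (m2 : m * m = 1) (f2 : f * f = 1) (g2 : g * g = 1) (b2 : b * b = 1)
    (fm : Commute f m) (gm : Commute g m) (fg : Commute f g) (fc : Commute f c) (gc : Commute g c)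
    (af : Commute a f) (ag : Commute a g) (bf : Commute b f) (bg : Commute b g) (bc : Commute b c)
    (bm : Commute b m) (ba : Commute b a) (c2 : c * c = 1)
    (am : a * m = m * a * f) (cm : m * c * m⁻¹ = b * c)
    (h₁ : u₁ = 1 ∨ u₁ = f) (h₂ : u₂ = 1 ∨ u₂ = g) (h₃ : u₃ = 1 ∨ u₃ = c) (h₄ : u₄ = 1 ∨ u₄ = b)
    (e : ⁅p, m⁆ = u₁ * u₂ * u₃ * u₄) :
    (⁅p, m⁆ = 1 ∨ ⁅p, m⁆ = b) ∨ (⁅a * p, m⁆ = 1 ∨ ⁅a * p, m⁆ = b) := by
  have hpmp : p * m * p⁻¹ = u₁ * u₂ * u₃ * u₄ * m := by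
    rw [← e, commutatorElement_def]; group
  have k1m : Commute u₁ m := by rcases h₁ with rfl | rfl; exacts [Commute.one_left _, fm]
  have k2m : Commute u₂ m := by rcases h₂ with rfl | rfl; exacts [Commute.one_left _, gm]
  have k4m : Commute u₄ m := by rcases h₄ with rfl | rfl; exacts [Commute.one_left _, bm]
  have k41 : Commute u₄ u₁ := by
    rcases h₄ with rfl | rfl
    · exact Commute.one_left _
    · rcases h₁ with rfl | rfl
      · exact Commute.one_right _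
      · exact bf
  have k42 : Commute u₄ u₂ := by
    rcases h₄ with rfl | rfl
    · exact Commute.one_left _
    · rcases h₂ with rfl | rfl
      · exact Commute.one_right _
      · exact bg
  have s1 : u₁ * u₁ = 1 := by rcases h₁ with rfl | rfl; exacts [one_mul _, f2]
  have s2 : u₂ * u₂ = 1 := by rcases h₂ with rfl | rfl; exacts [one_mul _, g2]
  have s4 : u₄ * u₄ = 1 := by rcases h₄ with rfl | rfl; exacts [one_mul _, b2]
  -- `u₃ = 1`
  have hu₃ : u₃ = 1 := by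
    rcases h₃ with h₃ | h₃
    · exact h₃
    · exfalso
      have X : (u₁ * u₂ * u₃ * u₄ * m) * (u₁ * u₂ * u₃ * u₄ * m) = 1 := by
        rw [← hpmp]
        calc p * m * p⁻¹ * (p * m * p⁻¹) = p * (m * m) * p⁻¹ := by group
          _ = 1 := by rw [m2]; group
      have k1c : Commute u₁ c := by rcases h₁ with rfl | rfl; exacts [Commute.one_left _, fc]
      have k2c : Commute u₂ c := by rcases h₂ with rfl | rfl; exacts [Commute.one_left _, gc]
      have k4c : Commute u₄ c := by rcases h₄ with rfl | rfl; exacts [Commute.one_left _, bc]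
      have k12 : Commute u₁ u₂ := by
        rcases h₁ with rfl | rfl
        · exact Commute.one_left _
        · rcases h₂ with rfl | rfl
          · exact Commute.one_right _
          · exact fg
      rw [h₃] at X
      have w2 : (u₁ * u₂ * u₄) * (u₁ * u₂ * u₄) = 1 := by
        have k : Commute u₄ (u₁ * u₂) := k41.mul_right k42
        calc (u₁ * u₂ * u₄) * (u₁ * u₂ * u₄) = (u₁ * u₂) * (u₄ * (u₁ * u₂)) * u₄ := by group
          _ = (u₁ * (u₂ * u₁) * u₂) * (u₄ * u₄) := by rw [k.eq]; group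
          _ = (u₁ * u₁) * (u₂ * u₂) := by rw [← k12.eq, s4]; group
          _ = 1 := by rw [s1, s2, one_mul]
      have kw : Commute (u₁ * u₂ * u₄) (c * m) :=
        ((k1c.mul_left k2c).mul_left k4c).mul_right ((k1m.mul_left k2m).mul_left k4m)
      have X' : (c * m) * (c * m) = 1 := by
        have e1 : u₁ * u₂ * c * u₄ * m = (u₁ * u₂ * u₄) * (c * m) := by
          calc u₁ * u₂ * c * u₄ * m = u₁ * u₂ * (c * u₄) * m := by group
            _ = _ := by rw [← k4c.eq]; group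
        rw [e1] at X
        generalize u₁ * u₂ * u₄ = w at X w2 kw
        generalize c * m = d at X kw ⊢
        calc d * d = (w * w) * (d * d) := by rw [w2, one_mul]
          _ = w * (w * d) * d := by group
          _ = w * (d * w) * d := by rw [kw.eq]
          _ = w * d * (w * d) := by group
          _ = 1 := X
      have e2 : c * m * (c * m) = c * (m * c * m⁻¹) * (m * m) := by group
      rw [e2, cm, m2, mul_one, ← mul_assoc, ← bc.eq, mul_assoc, c2, mul_one] at X'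
      exact b1 X'
  rw [hu₃, mul_one] at hpmp e
  -- `u₂ = 1`
  have hpT := hT m mT p
  rw [hpmp] at hpT
  have key : g * u₄ * m ∉ T := by
    rcases h₄ with rfl | rfl
    · rw [mul_one]; exact T1
    · rw [← bg.eq, mul_assoc]; exact T2
  have hu₂ : u₂ = 1 := by
    rcases h₂ with h₂ | h₂
    · exact h₂
    · exfalso
      rw [h₂] at hpT
      rcases h₁ with h₁ | h₁
      · rw [h₁, one_mul] at hpT
        exact key hpT
      · rw [h₁] at hpT
        have h5 := hT _ hpT a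
        have k4a : Commute u₄ a := by rcases h₄ with rfl | rfl; exacts [Commute.one_left _, ba]
        have e3 : a * m * a⁻¹ = m * f := by rw [am, mul_assoc m a f, af.eq]; group
        have e4 : a * (f * g * u₄ * m) * a⁻¹ = g * u₄ * m := by
          have ka : Commute a (f * g * u₄) := (af.mul_right ag).mul_right k4a.symm
          have kf : Commute f (g * u₄ * m) := (fg.mul_right (by rw [← h₁]; exact k41.symm)).mul_right fm
          calc a * (f * g * u₄ * m) * a⁻¹ = (a * (f * g * u₄)) * m * a⁻¹ := by group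
            _ = (f * g * u₄) * (a * m * a⁻¹) := by rw [ka.eq]; group
            _ = f * ((g * u₄ * m) * f) := by rw [e3]; group
            _ = (f * f) * (g * u₄ * m) := by rw [← kf.eq]; group
            _ = _ := by rw [f2, one_mul]
        rw [e4] at h5
        exact key h5
  rw [hu₂, mul_one] at e
  rcases h₁ with h₁ | h₁
  · left
    rw [e, h₁, one_mul]
    exact h₄
  · right
    have e3 : ⁅a, m⁆ = f := by
      rw [commutatorElement_def, am, mul_assoc m a f, af.eq]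
      calc m * (f * a) * a⁻¹ * m⁻¹ = m * f * m⁻¹ := by group
        _ = f := by rw [← fm.eq, mul_inv_cancel_right]
    have k4a : Commute u₄ a := by rcases h₄ with rfl | rfl; exacts [Commute.one_left _, ba]
    have e4 : ⁅a * p, m⁆ = u₄ := by
      have e5 : ⁅a * p, m⁆ = a * ⁅p, m⁆ * a⁻¹ * ⁅a, m⁆ := by simp only [commutatorElement_def]; group
      have ka : Commute a (u₁ * u₄) := by rw [h₁]; exact af.mul_right k4a.symm
      rw [e5, e, ka.eq, mul_inv_cancel_right, e3, h₁]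
      rw [mul_assoc]
      have kf : Commute u₄ f := by rw [← h₁]; exact k41
      rw [kf.eq, ← mul_assoc, f2, one_mul]
    rw [e4]
    exact h₄

/-- `R` is normal in the `2`-group `S`, with commutators in the central subgroup `{1, b}`. -/
structure Ctx (S R : Subgroup G) (b : G) : Prop where
  bb : b * b = 1
  b_mem : b ∈ R
  cen : ∀ y ∈ S, y * b = b * y
  le : R ≤ S
  norm : ∀ y ∈ S, ∀ x ∈ R, y * x * y⁻¹ ∈ R
  comm : ∀ x ∈ R, ∀ y ∈ R, ⁅x, y⁆ = 1 ∨ ⁅x, y⁆ = b

variable {S R : Subgroup G} {b : G} (H : Ctx S R b)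
include H

/-- a fixed vector -/
theorem conj_comm {p m y : G} (hpS : p ∈ S) (hm : m ∈ R) (hy : y * p * y⁻¹ * p⁻¹ ∈ R)
    (hym : y * m = m * y) : y * ⁅p, m⁆ * y⁻¹ = ⁅p, m⁆ ∨ y * ⁅p, m⁆ * y⁻¹ = b * ⁅p, m⁆ := by
  have e : y * ⁅p, m⁆ * y⁻¹ = ⁅y * p * y⁻¹ * p⁻¹, p * m * p⁻¹⁆ * ⁅p, m⁆ := by
    have h1 : y * ⁅p, m⁆ * y⁻¹ = (y * p * y⁻¹) * (y * m * y⁻¹) * (y * p * y⁻¹)⁻¹ * (y * m * y⁻¹)⁻¹ := by
      rw [commutatorElement_def]; group
    have h2 : y * m * y⁻¹ = m := by rw [hym]; group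
    rw [h1, h2]
    simp only [commutatorElement_def]
    group
  rcases H.comm _ hy _ (H.norm p hpS m hm) with h | h
  · left; rw [e, h, one_mul]
  · right; rw [e, h]

theorem cen_of {e : G} (he : e = 1 ∨ e = b) {y : G} (hy : y ∈ S) : y * e = e * y := by
  rcases he with rfl | rfl
  · rw [mul_one, one_mul]
  · exact H.cen y hy

/-- the pairing is invariant -/
theorem pair_fix {p h d : G} (hpS : p ∈ S) (hh : h ∈ R) (hd : d ∈ R) (hpd : p⁻¹ * d * p = d ∨ p⁻¹ * d * p = b * d) :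
    d * ⁅p, h⁆ * d⁻¹ = ⁅p, h⁆ := by
  have hdS := H.le hd
  have hhS := H.le hh
  obtain ⟨e, he⟩ : ∃ e, e = ⁅d, h⁆ := ⟨_, rfl⟩
  have he1 : e = 1 ∨ e = b := by rw [he]; exact H.comm d hd h hh
  have h1 : d * h * d⁻¹ = e * h := by rw [he, commutatorElement_def]; group
  have h2 : (p⁻¹ * d * p) * h * (p⁻¹ * d * p)⁻¹ = e * h := by
    rcases hpd with h3 | h3
    · rw [h3, h1]
    · rw [h3, ← h1]
      have h4 : b * (d * h * d⁻¹) = (d * h * d⁻¹) * b :=
        (H.cen _ (mul_mem (mul_mem hdS hhS) (inv_mem hdS))).symm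
      calc b * d * h * (b * d)⁻¹ = b * (d * h * d⁻¹) * b⁻¹ := by group
        _ = _ := by rw [h4, mul_inv_cancel_right]
  have h5 : d * (p * h * p⁻¹) * d⁻¹ = e * (p * h * p⁻¹) := by
    calc d * (p * h * p⁻¹) * d⁻¹ = p * ((p⁻¹ * d * p) * h * (p⁻¹ * d * p)⁻¹) * p⁻¹ := by group
      _ = (p * e) * h * p⁻¹ := by rw [h2]; group
      _ = _ := by rw [cen_of H he1 hpS]; group
  have h6 : d * h⁻¹ * d⁻¹ = h⁻¹ * e⁻¹ := by
    calc d * h⁻¹ * d⁻¹ = (d * h * d⁻¹)⁻¹ := by group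
      _ = _ := by rw [h1, mul_inv_rev]
  have h7 : p * h * p⁻¹ * h⁻¹ ∈ S := mul_mem (mul_mem (mul_mem hpS hhS) (inv_mem hpS)) (inv_mem hhS)
  calc d * ⁅p, h⁆ * d⁻¹ = (d * (p * h * p⁻¹) * d⁻¹) * (d * h⁻¹ * d⁻¹) := by
        rw [commutatorElement_def]; group
    _ = e * (p * h * p⁻¹ * h⁻¹) * e⁻¹ := by rw [h5, h6]; group
    _ = (p * h * p⁻¹ * h⁻¹) * e * e⁻¹ := by rw [← cen_of H he1 h7]
    _ = _ := by rw [mul_inv_cancel_right, commutatorElement_def]

/-- `x ≡ y` modulo `b` is a congruence -/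
theorem mul_congr' {e u : G} (he : e = 1 ∨ e = b) : e * u = u ∨ e * u = b * u := by
  rcases he with rfl | rfl
  · left; rw [one_mul]
  · right; rfl

theorem mul_b {e e' : G} (he : e = 1 ∨ e = b) (he' : e' = 1 ∨ e' = b) : e * e' = 1 ∨ e * e' = b := by
  rcases he with rfl | rfl
  · rw [one_mul]; exact he'
  · rcases he' with rfl | rfl
    · right; rw [mul_one]
    · left; exact H.bb

/-- **The trick.**  If `p` acts trivially on `S / R` and fixes `m` modulo `b`, it acts trivially on `R / b`. -/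
theorem acts_trivially [Finite ↥S] (h2 : IsPGroup 2 ↥S) {p m c : G} (hpS : p ∈ S)
    (hp : ∀ y ∈ S, y * p * y⁻¹ * p⁻¹ ∈ R) (hm : m ∈ R) (hpm : p⁻¹ * m * p = m ∨ p⁻¹ * m * p = b * m)
    (hc : m * c * m⁻¹ ≠ c)
    (huni : ∀ x ∈ R, (∀ y ∈ S, y * x * y⁻¹ = x ∨ y * x * y⁻¹ = b * x) → x = 1 ∨ x = b ∨ x = c ∨ x = b * c) :
    ∀ h ∈ R, ⁅p, h⁆ = 1 ∨ ⁅p, h⁆ = b := by
  intro h hh
  by_contra hcon
  obtain ⟨x, hx, hxB, hxf⟩ := exists_fix (S := S) (D := R) (B := {h | ⁅p, h⁆ = 1 ∨ ⁅p, h⁆ = b}) h2 H.le H.norm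
    (Or.inl (commutatorElement_one_right p)) hh hcon
  have hxR : ⁅p, x⁆ ∈ R := by
    rw [commutatorElement_def]
    exact mul_mem (H.norm p hpS x hx) (inv_mem hx)
  have hbc : ∀ u ∈ R, ∀ v ∈ R, ∃ e, (e = 1 ∨ e = b) ∧ u * v * u⁻¹ = e * v := by
    intro u hu v hv
    exact ⟨⁅u, v⁆, H.comm u hu v hv, by rw [commutatorElement_def]; group⟩
  have key : ∀ y ∈ S, y * ⁅p, x⁆ * y⁻¹ = ⁅p, x⁆ ∨ y * ⁅p, x⁆ * y⁻¹ = b * ⁅p, x⁆ := by
    intro y hy
    obtain ⟨r, hr⟩ : ∃ r, r = y * p * y⁻¹ * p⁻¹ := ⟨_, rfl⟩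
    obtain ⟨k, hk⟩ : ∃ k, k = y * x * y⁻¹ * x⁻¹ := ⟨_, rfl⟩
    have hrR : r ∈ R := by rw [hr]; exact hp y hy
    have hkR : k ∈ R := by rw [hk]; exact mul_mem (H.norm y hy x hx) (inv_mem hx)
    have hpk : ⁅p, k⁆ = 1 ∨ ⁅p, k⁆ = b := by rw [hk]; exact hxf y hy
    have hkxR : k * x ∈ R := mul_mem hkR hx
    have e1 : y * ⁅p, x⁆ * y⁻¹ = (r * ⁅p, k * x⁆ * r⁻¹) * ⁅r, k * x⁆ := by
      rw [hr, hk]; simp only [commutatorElement_def]; group
    have e2 : ⁅p, k * x⁆ = ⁅p, k⁆ * (k * ⁅p, x⁆ * k⁻¹) := by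
      simp only [commutatorElement_def]; group
    obtain ⟨ε₁, h₁, e3⟩ := hbc k hkR _ hxR
    obtain ⟨ε₂, h₂, e4⟩ := hbc r hrR _ hxR
    have hε : ⁅p, k⁆ * ε₁ = 1 ∨ ⁅p, k⁆ * ε₁ = b := mul_b H hpk h₁
    have e5 : r * ⁅p, k * x⁆ * r⁻¹ = (⁅p, k⁆ * ε₁) * ε₂ * ⁅p, x⁆ := by
      rw [e2, e3]
      generalize hε' : ⁅p, k⁆ * ε₁ = ε at hε
      have c1 : r * ε = ε * r := cen_of H hε (H.le hrR)
      calc r * (⁅p, k⁆ * (ε₁ * ⁅p, x⁆)) * r⁻¹ = r * (⁅p, k⁆ * ε₁) * ⁅p, x⁆ * r⁻¹ := by group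
        _ = ε * (r * ⁅p, x⁆ * r⁻¹) := by rw [hε', c1]; group
        _ = _ := by rw [e4]; group
    have h₃ := H.comm r hrR _ hkxR
    rw [e1, e5, mul_assoc, cen_of H h₃ (H.le hxR), ← mul_assoc]
    exact mul_congr' H (mul_b H (mul_b H hε h₂) h₃)
  have hcomm := pair_fix H hpS hx hm hpm
  rcases huni _ hxR key with h | h | h | h
  · exact hxB (Or.inl h)
  · exact hxB (Or.inr h)
  · rw [h] at hcomm
    exact hc hcomm
  · rw [h] at hcomm
    apply hc
    have h1 : m * b = b * m := H.cen m (H.le hm)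
    have h3 : m * (b * c) * m⁻¹ = b * (m * c * m⁻¹) := by
      rw [← mul_assoc, h1]; group
    rw [h3] at hcomm
    exact mul_left_cancel hcomm

end Gen

universe u

variable {K : Type u} [Field K]

/-! ### The tables -/

theorem co46 : Co 46 42 ∧ Co 46 (rho 42) ∧ Co 46 56 ∧ Co 46 (rho 56) := by decide +kernel

theorem pt_vals : pt 46 = 70 ∧ pt 47 = 69 ∧ pt 53 = 63 ∧ pt 70 = 46 ∧ pt 69 = 47 ∧ pt 63 = 53 := by decide +kernel

theorem t60 : Si 46 60 63 ∧ Co 63 60 ∧ Co 69 60 := by decide +kernel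

section Four

variable [Fintype K] {φ : K →+* K} (F : Four K φ)
include F

theorem ctx : Ctx (SE K) (RE K) (r0 F) where
  bb := by
    have := F.charP
    exact Subtype.ext (x_sq (K := K) 71)
  b_mem := Subgroup.mem_subgroupOf.2 (x_mem_UR (r := 71) (by decide) (by decide +kernel) 1)
  cen := S_cent F
  le := R_le F
  norm := fun y hy q hq => R_norm F y (S_cent F y hy) q hq
  comm := fun p hp q hq => by
    rcases comm_RE F hp hq with h | h
    · exact Or.inl (commutatorElement_eq_one_iff_mul_comm.2 h)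
    · exact Or.inr h

/-- The commutators with the elements commuting with `x_46(1)`. -/
theorem der_part {C : Subgroup (GL chevE6.Idx K)}
    (hC : ∀ y ∈ LL K, y ∈ chevE6.posUnipotent K → y * x 46 1 = x 46 1 * y → ∀ h ∈ UR K Jn, h ∈ twistedE6 K 2 →
      ⁅y, h⁆ ∈ C) :
    (∀ r ∈ l20, rho r = r → r ∉ ([46, 47, 53, 70] : List (Fin 72)) → x r.val (1 : K) ∈ C) ∧
      (∀ r ∈ l20, rho r ≠ r → ∀ t : K, z φ r t ∈ C) := by
  have := F.charP
  obtain ⟨w, hw⟩ := exists_omega F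
  have hcomm : ∀ {g h c : GL chevE6.Idx K}, g ∈ LL K → g ∈ chevE6.posUnipotent K → g * x 46 1 = x 46 1 * g →
      h ∈ UR K Jn → h ∈ twistedE6 K 2 → g * h = h * g * c → c ∈ C := by
    intro g h c hg hg' hg'' hh hh' e
    rw [comm_eq e]
    exact hC _ (inv_mem hg) (inv_mem hg') (show Commute g⁻¹ (x 46 1) from (show Commute g (x 46 1) from hg'').inv_left)
      _ (inv_mem hh) (inv_mem hh')
  have u42 : ∀ t, z φ 42 t ∈ LL K := fun t => z_mem_LL F (by decide +kernel) (by decide +kernel) t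
  have v42 : ∀ t, z φ 42 t ∈ chevE6.posUnipotent K := fun t =>
    mul_mem (mem_U (by decide) t) (mem_U (by decide +kernel) _)
  have u56 : ∀ t, z φ 56 t ∈ LL K := fun t => z_mem_LL F (by decide +kernel) (by decide +kernel) t
  have v56 : ∀ t, z φ 56 t ∈ chevE6.posUnipotent K := fun t =>
    mul_mem (mem_U (by decide) t) (mem_U (by decide +kernel) _)
  have w42 : ∀ t : K, z φ 42 t * x 46 1 = x 46 1 * z φ 42 t := fun t =>
    (show Commute (x 42 t) (x 46 (1 : K)) from co46.1.eq 1 t).mul_left (co46.2.1.eq 1 (φ t))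
  have w56 : ∀ t : K, z φ 56 t * x 46 1 = x 46 1 * z φ 56 t := fun t =>
    (show Commute (x 56 t) (x 46 (1 : K)) from co46.2.2.1.eq 1 t).mul_left (co46.2.2.2.eq 1 (φ t))
  have X : ∀ r ∈ l20, rho r = r → x r.val (1 : K) ∈ UR K Jn ∧ x r.val (1 : K) ∈ twistedE6 K 2 :=
    fun r hr hrr => x_mem_UE F hr hrr
  have Z : ∀ r ∈ l20, rho r ≠ r → ∀ t : K, z φ r t ∈ UR K Jn ∧ z φ r t ∈ twistedE6 K 2 :=
    fun r hr hrr t => z_mem_UE F hr hrr t
  have tr1 : φ w * 1 + w * φ 1 = 1 := by rw [map_one, mul_one, mul_one, add_comm, hw]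
  have dzz : ∀ k m : Fin 72, k ∈ l20 → rho k ≠ k → (ZZ 42 k m ∨ ZZ 56 k m) → x m.val (1 : K) ∈ C := by
    rintro k m hk hkk (h | h)
    · have := hcomm (u42 1) (v42 1) (w42 1) (Z k hk hkk w).1 (Z k hk hkk w).2 (comm_zz h φ 1 w)
      rwa [tr1] at this
    · have := hcomm (u56 1) (v56 1) (w56 1) (Z k hk hkk w).1 (Z k hk hkk w).2 (comm_zz h φ 1 w)
      rwa [tr1] at this
  have hN : ∀ a : K, φ (a * φ a) = a * φ a := fun a => by rw [map_mul, F.inv, mul_comm]
  have dzx : ∀ r k m : Fin 72, r ∈ l20 → rho r = r → (ZX 42 r k m ∨ ZX 56 r k m) → x m.val (1 : K) ∈ C →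
      ∀ t : K, z φ k t ∈ C := by
    rintro r k m hr hrr h hm t
    have h1 : z φ k t * x m.val (t * φ t) ∈ C := by
      rcases h with h | h
      · exact hcomm (u42 t) (v42 t) (w42 t) (X r hr hrr).1 (X r hr hrr).2 (comm_zx h φ t)
      · exact hcomm (u56 t) (v56 t) (w56 t) (X r hr hrr).1 (X r hr hrr).2 (comm_zx h φ t)
    exact (Subgroup.mul_mem_cancel_right _ (x_norm_mem F hm (hN t))).1 h1
  have dzs : ∀ k m : Fin 72, k ∈ l20 → rho k ≠ k → (ZS 42 k m ∨ ZS 56 k m) → ∀ t : K, z φ m t ∈ C := by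
    rintro k m hk hkk h t
    rcases h with h | h
    · have := hcomm (u42 t) (v42 t) (w42 t) (Z k hk hkk 1).1 (Z k hk hkk 1).2 (comm_zs h φ t 1)
      rwa [one_mul] at this
    · have := hcomm (u56 t) (v56 t) (w56 t) (Z k hk hkk 1).1 (Z k hk hkk 1).2 (comm_zs h φ t 1)
      rwa [one_mul] at this
  have x51 := dzz 50 51 (by decide) (by decide +kernel) (Or.inl t3.1)
  have x63 := dzz 62 63 (by decide) (by decide +kernel) (Or.inr t3.2.1)
  have x65 := dzz 64 65 (by decide) (by decide +kernel) (Or.inr t3.2.2.1)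
  have x69 := dzz 68 69 (by decide) (by decide +kernel) (Or.inl t3.2.2.2)
  have z50 := dzx 47 50 51 (by decide) (by decide +kernel) (Or.inl t2.1) x51
  have z62 := dzx 51 62 63 (by decide) (by decide +kernel) (Or.inr t2.2.1) x63
  have z68 := dzx 65 68 69 (by decide) (by decide +kernel) (Or.inl t2.2.2.2) x69
  have z61 := dzs 50 61 (by decide) (by decide +kernel) (Or.inr t4.1)
  have z64 := dzx 53 64 65 (by decide) (by decide +kernel) (Or.inr t2.2.2.1) x65
  have z67 := dzs 64 67 (by decide) (by decide +kernel) (Or.inl t4.2.1)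
  refine ⟨fun r hr hrr hne => ?_, fun r hr hrr t => ?_⟩
  · have key : ∀ r ∈ l20, rho r = r → r ∉ ([46, 47, 53, 70] : List (Fin 72)) → r = 51 ∨ r = 63 ∨ r = 65 ∨ r = 69 := by
      decide +kernel
    rcases key r hr hrr hne with rfl | rfl | rfl | rfl
    · exact x51
    · exact x63
    · exact x65
    · exact x69
  · have key : ∀ s : Fin 72, (s = 50 ∨ s = 61 ∨ s = 62 ∨ s = 64 ∨ s = 67 ∨ s = 68) → ∀ t : K, z φ s t ∈ C := by
      rintro s (rfl | rfl | rfl | rfl | rfl | rfl) t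
      · exact z50 t
      · exact z61 t
      · exact z62 t
      · exact z64 t
      · exact z67 t
      · exact z68 t
    have key2 : ∀ r ∈ l20, rho r ≠ r → (r = 50 ∨ r = 61 ∨ r = 62 ∨ r = 64 ∨ r = 67 ∨ r = 68) ∨
        (rho r = 50 ∨ rho r = 61 ∨ rho r = 62 ∨ rho r = 64 ∨ rho r = 67 ∨ rho r = 68) := by decide +kernel
    rcases key2 r hr hrr with h | h
    · exact key r h t
    · have h1 := key (rho r) h (φ t)
      rwa [z_rho F hr, F.inv] at h1

/-- the coordinates of the commutator -/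
theorem zero_of_part {t : Fin 72 → K} {v : K}
    (h1 : ∀ r ∈ l20, rho r = r → r ∉ ([46, 47, 53, 70] : List (Fin 72)) →
      x r.val (1 : K) ∈ Subgroup.centralizer {lp t l20 * x 71 v})
    (h2 : ∀ r ∈ l20, rho r ≠ r → ∀ u : K, z φ r u ∈ Subgroup.centralizer {lp t l20 * x 71 v})
    (h3 : lp t l20 * x 71 v * x (70 : Fin 72).val 1 = x (70 : Fin 72).val 1 * (lp t l20 * x 71 v)) :
    ∀ r ∈ l20, r ≠ 63 → r ≠ 69 → r ≠ 70 → t r = 0 := by
  have := F.charP
  intro r hr r63 r69 r70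
  obtain ⟨p1, p2, p3, p4⟩ := pt_mem r hr
  obtain ⟨e46, e47, e53, e70, -, -⟩ := pt_vals
  by_cases hrr : rho (pt r) = pt r
  · by_cases hm : pt r ∈ ([46, 47, 53, 70] : List (Fin 72))
    · simp only [List.mem_cons, List.not_mem_nil, or_false] at hm
      rcases hm with h | h | h | h
      · exact absurd (by rw [← p2, h, e46]) r70
      · exact absurd (by rw [← p2, h, e47]) r69
      · exact absurd (by rw [← p2, h, e53]) r63
      · have h8 := zero_of_comm (K := K) (q := 70) (by decide) h3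
        have h9 : r = pt 70 := by rw [← h, p2]
        rwa [h9]
    · have h7 := h1 (pt r) p1 hrr hm
      have h8 := zero_of_comm (K := K) p1 (Subgroup.mem_centralizer_singleton_iff.1 h7).symm
      rwa [p2] at h8
  · have h8 := (zero_of_comm_z F (t := t) (v := v) p1
      fun u => (Subgroup.mem_centralizer_singleton_iff.1 (h2 (pt r) p1 hrr u)).symm).1
    rwa [p2] at h8

theorem only3 {t : Fin 72 → K} (h : ∀ r ∈ l20, r ≠ 63 → r ≠ 69 → r ≠ 70 → t r = 0) :
    lp t l20 = x 63 (t 63) * x 69 (t 69) * x 70 (t 70) := by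
  have := F.charP
  have h' : ∀ r : Fin 72, r ∈ l20 → r ≠ 63 → r ≠ 69 → r ≠ 70 → x r.val (t r) = (1 : GL chevE6.Idx K) := by
    intro r h1 h2 h3 h4
    rw [h r h1 h2 h3 h4, TwE6Basic.x_zero]
  have e : lp t l20 = ((l20.filter fun r => r = 63 ∨ r = 69 ∨ r = 70).map fun r => x r.val (t r)).prod := by
    have key : ∀ L : List (Fin 72), (∀ r ∈ L, r ∈ l20) →
        lp t L = ((L.filter fun r => r = 63 ∨ r = 69 ∨ r = 70).map fun r => x r.val (t r)).prod := by
      intro L hL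
      induction L with
      | nil => rfl
      | cons r L ih =>
        have ih' := ih fun s hs => hL s (List.mem_cons_of_mem _ hs)
        rw [lp_cons, ih']
        by_cases hr : r = 63 ∨ r = 69 ∨ r = 70
        · rw [List.filter_cons_of_pos (by simpa using hr), List.map_cons, List.prod_cons]
        · rw [List.filter_cons_of_neg (by simpa using hr)]
          push Not at hr
          rw [h' r (hL r List.mem_cons_self) hr.1 hr.2.1 hr.2.2, one_mul]
    exact key l20 fun _ h => h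
  rw [e]
  have e2 : (l20.filter fun r => r = 63 ∨ r = 69 ∨ r = 70) = [63, 69, 70] := by decide +kernel
  rw [e2, List.map_cons, List.map_cons, List.map_cons, List.map_nil, List.prod_cons, List.prod_cons, List.prod_cons,
    List.prod_nil, mul_one, ← mul_assoc]
  rfl

/-- `x_r(t)` in `E` -/
theorem x_cases {r : Fin 72} (hr : rho r = r) {t : K} {u : GL chevE6.Idx K} (h : t ≠ 0 → t = 1)
    (hu : u = x r.val t) : u = 1 ∨ u = (xe F r hr : GL chevE6.Idx K) := by
  by_cases h0 : t = 0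
  · left; rw [hu, h0, TwE6Basic.x_zero]
  · right; rw [hu, h h0]; rfl

/-- **The commutator `[p, x_46(1)]`.** -/
theorem v0_form {p : ↥(twistedE6 K 2)} (hp : p ∈ SE K) (h : ∀ y ∈ SE K, y * p * y⁻¹ * p⁻¹ ∈ RE K) :
    ∃ u₁ u₂ u₃ u₄ : ↥(twistedE6 K 2), (u₁ = 1 ∨ u₁ = xe F 63 (by decide +kernel)) ∧
      (u₂ = 1 ∨ u₂ = xe F 69 (by decide +kernel)) ∧ (u₃ = 1 ∨ u₃ = xe F 70 (by decide +kernel)) ∧
      (u₄ = 1 ∨ u₄ = r0 F) ∧ ⁅p, xe F 46 (by decide +kernel)⁆ = u₁ * u₂ * u₃ * u₄ := by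
  have := F.charP
  have H := ctx F
  have h46 : xe F 46 (by decide +kernel) ∈ RE K :=
    Subgroup.mem_subgroupOf.2 (x_mem_UR (r := 46) (by decide) (by decide +kernel) 1)
  have hvR : ⁅p, xe F 46 (by decide +kernel)⁆ ∈ RE K := by
    rw [commutatorElement_def]
    exact mul_mem (H.norm p hp _ h46) (inv_mem h46)
  obtain ⟨v₀, hv₀⟩ : ∃ v₀, v₀ = ⁅p, xe F 46 (by decide +kernel)⁆ := ⟨_, rfl⟩
  rw [← hv₀] at hvR ⊢
  obtain ⟨t, v, e⟩ := coords (Subgroup.mem_subgroupOf.1 hvR)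
  -- elements commuting with `x_46(1)` and elements of `R` fix `v₀` modulo `b`
  have hC : ∀ y ∈ LL K, y ∈ chevE6.posUnipotent K → y * x 46 1 = x 46 1 * y → ∀ h ∈ UR K Jn, h ∈ twistedE6 K 2 →
      ⁅y, h⁆ ∈ Subgroup.centralizer {(v₀ : GL chevE6.Idx K)} := by
    intro y hy hyU hy46 q hq hqE
    have hyE := (Subgroup.mem_inf.1 hy).2
    have hyS : (⟨y, hyE⟩ : ↥(twistedE6 K 2)) ∈ SE K := Subgroup.mem_subgroupOf.2 hyU
    have hqR : (⟨q, hqE⟩ : ↥(twistedE6 K 2)) ∈ RE K := Subgroup.mem_subgroupOf.2 hq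
    have k1 : (⟨y, hyE⟩ : ↥(twistedE6 K 2)) * v₀ * (⟨y, hyE⟩ : ↥(twistedE6 K 2))⁻¹ = v₀ ∨
        (⟨y, hyE⟩ : ↥(twistedE6 K 2)) * v₀ * (⟨y, hyE⟩ : ↥(twistedE6 K 2))⁻¹ = r0 F * v₀ := by
      rw [hv₀]
      exact conj_comm H hp h46 (h _ hyS) (Subtype.ext hy46)
    have k2 : (⟨q, hqE⟩ : ↥(twistedE6 K 2)) * v₀ * (⟨q, hqE⟩ : ↥(twistedE6 K 2))⁻¹ = v₀ ∨
        (⟨q, hqE⟩ : ↥(twistedE6 K 2)) * v₀ * (⟨q, hqE⟩ : ↥(twistedE6 K 2))⁻¹ = r0 F * v₀ := by
      have e1 : (⟨q, hqE⟩ : ↥(twistedE6 K 2)) * v₀ * (⟨q, hqE⟩ : ↥(twistedE6 K 2))⁻¹ =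
          ⁅(⟨q, hqE⟩ : ↥(twistedE6 K 2)), v₀⁆ * v₀ := by rw [commutatorElement_def]; group
      rw [e1]
      exact mul_congr' H (H.comm _ hqR _ hvR)
    have h1 := comm_aux (b := r0 F) (X := v₀) H.bb (H.cen _ hyS).symm (H.cen _ (H.le hqR)).symm k1 k2
    rw [Subgroup.mem_centralizer_singleton_iff]
    exact congrArg Subtype.val h1
  obtain ⟨h1, h2⟩ := der_part F hC
  rw [e] at h1 h2
  -- `v₀` commutes with `c`
  have hc := pair_fix H (h := xe F 46 (by decide +kernel)) (d := xe F 70 (by decide +kernel)) hp h46 (c_R F) (by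
    have := c_fix F p⁻¹ (inv_mem hp)
    rwa [inv_inv] at this)
  rw [← hv₀] at hc
  have hc' : (v₀ : GL chevE6.Idx K) * x (70 : Fin 72).val 1 = x (70 : Fin 72).val 1 * (v₀ : GL chevE6.Idx K) := by
    have := mul_inv_eq_iff_eq_mul.1 hc
    exact (congrArg Subtype.val this).symm
  rw [e] at hc'
  have h3 := zero_of_part F h1 h2 hc'
  have hE : ∀ q ∈ l20, rho q = q → t (pt q) ≠ 0 → t (pt q) = 1 := by
    intro q hq hqq h0
    have h4 : x (71 : Fin 72).val (t (pt q)) ∈ twistedE6 K 2 := by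
      have h5 := comm_coords (K := K) t v hq 1
      rw [mul_one, ← e] at h5
      show x 71 (t (pt q)) ∈ _
      rw [← h5]
      exact (⁅v₀, xe F q hqq⁆ : ↥(twistedE6 K 2)).2
    exact eq_one_of_mem F (r := 71) (by decide +kernel) h0 h4
  obtain ⟨e46, e47, e53, e70, e69, e63⟩ := pt_vals
  have t63 := hE 53 (by decide) (by decide +kernel)
  have t69 := hE 47 (by decide) (by decide +kernel)
  have t70 := hE 46 (by decide) (by decide +kernel)
  rw [e53] at t63
  rw [e47] at t69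
  rw [e46] at t70
  rw [only3 F h3] at e
  have a₁ := x_cases F (r := 63) (by decide +kernel) t63 rfl
  have a₂ := x_cases F (r := 69) (by decide +kernel) t69 rfl
  have a₃ := x_cases F (r := 70) (by decide +kernel) t70 rfl
  have lift : ∀ {r : Fin 72} (hr : rho r = r) {u : GL chevE6.Idx K}, (u = 1 ∨ u = (xe F r hr : GL chevE6.Idx K)) →
      ∃ u' : ↥(twistedE6 K 2), (u' = 1 ∨ u' = xe F r hr) ∧ (u' : GL chevE6.Idx K) = u := by
    rintro r hr u (rfl | rfl)
    · exact ⟨1, Or.inl rfl, rfl⟩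
    · exact ⟨xe F r hr, Or.inr rfl, rfl⟩
  obtain ⟨u₁, b₁, c₁⟩ := lift _ a₁
  obtain ⟨u₂, b₂, c₂⟩ := lift _ a₂
  obtain ⟨u₃, b₃, c₃⟩ := lift _ a₃
  refine ⟨u₁, u₂, u₃, (u₁ * u₂ * u₃)⁻¹ * v₀, b₁, b₂, b₃, X71_E F ?_, by rw [mul_inv_cancel_left]⟩
  show ((u₁ : GL chevE6.Idx K) * u₂ * u₃)⁻¹ * (v₀ : GL chevE6.Idx K) ∈ _
  rw [e, c₁, c₂, c₃]
  show (x 63 (t 63) * x 69 (t 69) * x 70 (t 70))⁻¹ * (x 63 (t 63) * x 69 (t 69) * x 70 (t 70) * x 71 v) ∈ _
  rw [inv_mul_cancel_left]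
  exact mem_X.2 ⟨v, rfl⟩

/-- An element of `S` acting trivially on `R / b` is in `R`. -/
theorem mem_R_of {p : ↥(twistedE6 K 2)} (hp : p ∈ SE K) (h : ∀ q ∈ RE K, ⁅p, q⁆ = 1 ∨ ⁅p, q⁆ = r0 F) :
    p ∈ RE K := by
  have := F.charP
  have H := ctx F
  obtain ⟨q, hq, l, hl, hlE, e⟩ := decompE F (S_cent F p hp)
  have hcong : ∀ {u v : ↥(twistedE6 K 2)}, u * r0 F = r0 F * u → (∀ q ∈ RE K, ⁅u, q⁆ = 1 ∨ ⁅u, q⁆ = r0 F) →
      (∀ q ∈ RE K, ⁅v, q⁆ = 1 ∨ ⁅v, q⁆ = r0 F) → ∀ q ∈ RE K, ⁅u * v, q⁆ = 1 ∨ ⁅u * v, q⁆ = r0 F := by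
    intro u v hub hu hv q hq
    have e1 : ⁅u * v, q⁆ = (u * ⁅v, q⁆ * u⁻¹) * ⁅u, q⁆ := by simp only [commutatorElement_def]; group
    have e2 : u * ⁅v, q⁆ * u⁻¹ = ⁅v, q⁆ := by
      rcases hv q hq with h | h
      · rw [h]; group
      · rw [h, hub]; group
    rw [e1, e2]
    exact mul_b H (hv q hq) (hu q hq)
  let N : Subgroup ↥(LL K) :=
    { carrier := {y | ∀ q ∈ RE K, ⁅io K y, q⁆ = 1 ∨ ⁅io K y, q⁆ = r0 F}
      one_mem' := fun q _ => Or.inl (by rw [map_one, commutatorElement_one_left])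
      mul_mem' := by
        intro u v hu hv
        have := hcong (LL_r0 F (l := io K u) u.2) hu hv
        intro q hq
        rw [map_mul]
        exact this q hq
      inv_mem' := by
        intro u hu q hq
        have hub : io K u * r0 F = r0 F * io K u := LL_r0 F (l := io K u) u.2
        have e1 : ⁅io K u⁻¹, q⁆ = (io K u)⁻¹ * ⁅io K u, q⁆⁻¹ * io K u := by
          rw [map_inv]; simp only [commutatorElement_def]; group
        have h2 : r0 F * io K u = io K u * r0 F := hub.symm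
        rcases hu q hq with h | h
        · left; rw [e1, h]; group
        · right
          have h3 : (r0 F)⁻¹ = r0 F := inv_eq_of_mul_eq_one_left H.bb
          rw [e1, h, h3, mul_assoc, h2, inv_mul_cancel_left] }
  have hN : N.Normal := ⟨fun y hy g q hq => by
    have hgb : io K g * r0 F = r0 F * io K g := LL_r0 F (l := io K g) g.2
    have hgb' : (io K g)⁻¹ * r0 F = r0 F * (io K g)⁻¹ := (Commute.inv_left (show Commute (io K g) (r0 F) from hgb))
    have h1 := R_norm F (io K g)⁻¹ hgb' q hq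
    have e1 : ⁅io K (g * y * g⁻¹), q⁆ = io K g * ⁅io K y, (io K g)⁻¹ * q * (io K g)⁻¹⁻¹⁆ * (io K g)⁻¹ := by
      rw [map_mul, map_mul, map_inv]; simp only [commutatorElement_def]; group
    rcases hy _ h1 with h | h
    · left; rw [e1, h]; group
    · right; rw [e1, h, hgb, mul_inv_cancel_right]⟩
  have hlN : (⟨l, hl⟩ : ↥(LL K)) ∈ N := by
    intro s hs
    have e1 : io K ⟨l, hl⟩ = q⁻¹ * p := by rw [e, inv_mul_cancel_left]; rfl
    rw [e1]
    exact hcong (S_cent F _ (inv_mem (R_le F hq))) (fun s hs => H.comm _ (inv_mem hq) s hs) h s hs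
  obtain ⟨hs, -⟩ := simple_LL F
  rcases hs.eq_bot_or_eq_top_of_normal _ hN with hb | ht
  · rw [hb, Subgroup.mem_bot] at hlN
    have h2 : (⟨l, hlE⟩ : ↥(twistedE6 K 2)) = 1 := Subtype.ext (show l = 1 from congrArg Subtype.val hlN)
    rw [e, h2, mul_one]
    exact hq
  · exfalso
    have u39 : x (39 : Fin 72).val (1 : K) ∈ LL K := x_mem_LL F (by decide +kernel) (by decide +kernel)
    have h39 : (⟨x (39 : Fin 72).val (1 : K), u39⟩ : ↥(LL K)) ∈ N := by rw [ht]; exact Subgroup.mem_top _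
    have h46 : xe F 46 (by decide +kernel) ∈ RE K :=
      Subgroup.mem_subgroupOf.2 (x_mem_UR (r := 46) (by decide) (by decide +kernel) 1)
    have e1 : x 39 (1 : K) * x 46 1 = x 46 1 * x 39 1 * x 47 1 := comm_xx t1.1
    rcases h39 _ h46 with h | h
    · have h2 : x 39 (1 : K) * x 46 1 = x 46 1 * x 39 1 :=
        congrArg Subtype.val (commutatorElement_eq_one_iff_mul_comm.1 h)
      rw [h2] at e1
      exact x_ne_one (K := K) (r := 47) (by norm_num) (left_eq_mul.1 e1)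
    · have h2 : x 39 (1 : K) * x 46 1 = x 71 1 * (x 46 1 * x 39 1) := by
        have h3 : (⁅x 39 (1 : K), x 46 1⁆ : GL chevE6.Idx K) = x 71 1 := congrArg Subtype.val h
        rw [← h3, commutatorElement_def]; group
      have h4 : x 71 (1 : K) * (x 46 1 * x 39 1) = x 46 1 * x 39 1 * x 71 1 := by
        have k1 : x 71 (1 : K) * x 46 1 = x 46 1 * x 71 1 := comm_top (r := (46 : Fin 72)) (by decide) 1 1
        have k2 : x 71 (1 : K) * x 39 1 = x 39 1 * x 71 1 := comm_top (r := (39 : Fin 72)) (by decide) 1 1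
        rw [← mul_assoc, k1, mul_assoc, k2, mul_assoc]
      rw [h2, h4] at e1
      exact x_ne (K := K) (r := 71) (s := 47) (by norm_num) (by norm_num) (by norm_num) (mul_left_cancel e1)

/-! ### Root involutions -/

/-- `x_69(1) x_46(1)` is not a root involution. -/
theorem not_T1 : xe F 69 (by decide +kernel) * xe F 46 (by decide +kernel) ∉ rootClass K := by
  have := F.charP
  intro hT
  have h1 := conj_T hT (we F [1, 2, 3, 0])⁻¹
  have k1 : wn (K := K) [1, 2, 3, 0] * x 60 1 * (wn (K := K) [1, 2, 3, 0])⁻¹ = x 46 1 := by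
    have h := wn_conj (K := K) [1, 2, 3, 0] 60 1
    rwa [show wpm [1, 2, 3, 0] 60 = 46 by decide +kernel] at h
  have k2 : wn (K := K) [1, 2, 3, 0] * x 71 1 * (wn (K := K) [1, 2, 3, 0])⁻¹ = x 69 1 := by
    have h := wn_conj (K := K) [1, 2, 3, 0] 71 1
    rwa [show wpm [1, 2, 3, 0] 71 = 69 by decide +kernel] at h
  have e : (we F [1, 2, 3, 0])⁻¹ * (xe F 69 (by decide +kernel) * xe F 46 (by decide +kernel)) *
      (we F [1, 2, 3, 0])⁻¹⁻¹ = xe F 60 (by decide +kernel) * r0 F := by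
    rw [ab F]
    refine Subtype.ext ?_
    show (wn (K := K) [1, 2, 3, 0])⁻¹ * (x 69 1 * x 46 1) * (wn (K := K) [1, 2, 3, 0])⁻¹⁻¹ = x 71 1 * x 60 1
    rw [← k1, ← k2]; group
  rw [e] at h1
  exact ab_not F h1

theorem comm47_69 : ⁅xe F 47 (by decide +kernel), xe F 69 (by decide +kernel)⁆ = r0 F := by
  have := F.charP
  refine Subtype.ext ?_
  have h := comm_x (K := K) (r := 47) (q := 69) (by decide) (by decide) 1 1
  rw [if_pos (by decide +kernel), mul_one] at h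
  exact h

theorem comm_one {r q : Fin 72} (hr : r ∈ l20) (hq : q ∈ l20) (h : r ≠ pt q) (hrr : rho r = r) (hqq : rho q = q) :
    xe F r hrr * xe F q hqq = xe F q hqq * xe F r hrr := by
  have := F.charP
  refine Subtype.ext ?_
  have h1 := comm_x (K := K) hr hq 1 1
  rw [if_neg h, TwE6Basic.x_zero] at h1
  exact commutatorElement_eq_one_iff_mul_comm.1 h1

/-- `x_71(1) x_69(1) x_46(1)` is not a root involution. -/
theorem not_T2 : r0 F * (xe F 69 (by decide +kernel) * xe F 46 (by decide +kernel)) ∉ rootClass K := by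
  intro hT
  have h1 := conj_T hT (xe F 47 (by decide +kernel))⁻¹
  have k1 := comm47_69 F
  have k2 := comm_one F (r := 47) (q := 46) (by decide) (by decide) (by decide +kernel) (by decide +kernel)
    (by decide +kernel)
  apply not_T1 F
  generalize xe F 47 (by decide +kernel) = n at h1 k1 k2
  generalize xe F 69 (by decide +kernel) = g at h1 k1 ⊢
  generalize xe F 46 (by decide +kernel) = m at h1 k2 ⊢
  have e : n⁻¹ * (r0 F * (g * m)) * n⁻¹⁻¹ = g * m := by
    rw [← k1, commutatorElement_def]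
    calc n⁻¹ * (n * g * n⁻¹ * g⁻¹ * (g * m)) * n⁻¹⁻¹ = g * n⁻¹ * (m * n) := by group
      _ = _ := by rw [← k2]; group
  rwa [e] at h1

/-- `[p, x_46(1)] ∈ ⟨b⟩` implies `p ∈ R`. -/
theorem core {p : ↥(twistedE6 K 2)} (hp : p ∈ SE K) (h : ∀ y ∈ SE K, y * p * y⁻¹ * p⁻¹ ∈ RE K)
    (hpm : ⁅p, xe F 46 (by decide +kernel)⁆ = 1 ∨ ⁅p, xe F 46 (by decide +kernel)⁆ = r0 F) : p ∈ RE K := by
  have := F.charP
  have : Finite ↥(twistedE6 K 2) := finite_E
  have H := ctx F
  have h46 : xe F 46 (by decide +kernel) ∈ RE K :=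
    Subgroup.mem_subgroupOf.2 (x_mem_UR (r := 46) (by decide) (by decide +kernel) 1)
  refine mem_R_of F hp (acts_trivially H (S_two F) hp h h46 ?_ (c := xe F 70 (by decide +kernel)) ?_ (c_uni F))
  · generalize xe F 46 (by decide +kernel) = m at hpm
    rcases hpm with h1 | h1
    · left
      rw [commutatorElement_eq_one_iff_mul_comm] at h1
      rw [mul_assoc, ← h1, inv_mul_cancel_left]
    · right
      have h2 : p * m = r0 F * (m * p) := by rw [← h1, commutatorElement_def]; group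
      have h3 : m * p = r0 F * (p * m) := by rw [h2, ← mul_assoc, H.bb, one_mul]
      have h4 : p⁻¹ * r0 F = r0 F * p⁻¹ := H.cen _ (inv_mem hp)
      rw [mul_assoc, h3, ← mul_assoc, h4, mul_assoc, inv_mul_cancel_left]
  · intro h1
    have h2 : x 46 (1 : K) * x 70 1 * (x 46 1)⁻¹ = x 70 1 := congrArg Subtype.val h1
    rw [conj46_70] at h2
    exact x_ne_one (K := K) (r := 71) (by norm_num) (mul_eq_right.1 h2)

/-- **The centre of `S / R` is generated by `a`.** -/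
theorem a_uni (p : ↥(twistedE6 K 2)) (hp : p ∈ SE K) (h : ∀ y ∈ SE K, y * p * y⁻¹ * p⁻¹ ∈ RE K) :
    p ∈ RE K ∨ p * (xe F 60 (by decide +kernel))⁻¹ ∈ RE K := by
  have := F.charP
  have H := ctx F
  obtain ⟨u₁, u₂, u₃, u₄, h₁, h₂, h₃, h₄, e⟩ := v0_form F hp h
  have hcore := core F hp h
  have hcore' := fun hq => core F (p := xe F 60 (by decide +kernel) * p) (mul_mem (a_S F) hp) hq
  have haS := a_S F
  have hafix := a_fix F
  have mT : xe F 46 (by decide +kernel) ∈ rootClass K := xe_T F 46 (by decide +kernel)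
  have T1 := not_T1 F
  have T2 := not_T2 F
  -- squares
  have sq : ∀ (r : Fin 72) (hr : rho r = r), xe F r hr * xe F r hr = 1 := fun r hr => Subtype.ext (x_sq (K := K) r.val)
  have m2 := sq 46 (by decide +kernel)
  have f2 := sq 63 (by decide +kernel)
  have g2 := sq 69 (by decide +kernel)
  have a2 := sq 60 (by decide +kernel)
  have c2 := sq 70 (by decide +kernel)
  -- commutations
  have fm : Commute (xe F 63 (by decide +kernel)) (xe F 46 (by decide +kernel)) :=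
    comm_one F (by decide) (by decide) (by decide +kernel) _ _
  have gm : Commute (xe F 69 (by decide +kernel)) (xe F 46 (by decide +kernel)) :=
    comm_one F (by decide) (by decide) (by decide +kernel) _ _
  have fg : Commute (xe F 63 (by decide +kernel)) (xe F 69 (by decide +kernel)) :=
    comm_one F (by decide) (by decide) (by decide +kernel) _ _
  have fc : Commute (xe F 63 (by decide +kernel)) (xe F 70 (by decide +kernel)) :=
    comm_one F (by decide) (by decide) (by decide +kernel) _ _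
  have gc : Commute (xe F 69 (by decide +kernel)) (xe F 70 (by decide +kernel)) :=
    comm_one F (by decide) (by decide) (by decide +kernel) _ _
  have af : Commute (xe F 60 (by decide +kernel)) (xe F 63 (by decide +kernel)) :=
    Subtype.ext (t60.2.1.eq (K := K) 1 1)
  have ag : Commute (xe F 60 (by decide +kernel)) (xe F 69 (by decide +kernel)) :=
    Subtype.ext (t60.2.2.eq (K := K) 1 1)
  have am : xe F 60 (by decide +kernel) * xe F 46 (by decide +kernel) =
      xe F 46 (by decide +kernel) * xe F 60 (by decide +kernel) * xe F 63 (by decide +kernel) :=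
    Subtype.ext (comm_xx (K := K) t60.1)
  have cm : xe F 46 (by decide +kernel) * xe F 70 (by decide +kernel) * (xe F 46 (by decide +kernel))⁻¹ =
      r0 F * xe F 70 (by decide +kernel) := Subtype.ext conj46_70
  have hb1 : r0 F ≠ 1 := fun h => x_ne_one (K := K) (r := 71) (by norm_num) (congrArg Subtype.val h)
  have hR : ∀ r : Fin 72, ∀ hr : rho r = r, r ∈ l20 → xe F r hr ∈ RE K := fun r hr h =>
    Subgroup.mem_subgroupOf.2 (x_mem_UR (l20_mem r h).1 (l20_mem r h).2.1 1)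
  have bf : Commute (r0 F) (xe F 63 (by decide +kernel)) := (H.cen _ (H.le (hR 63 (by decide +kernel) (by decide)))).symm
  have bg : Commute (r0 F) (xe F 69 (by decide +kernel)) := (H.cen _ (H.le (hR 69 (by decide +kernel) (by decide)))).symm
  have bc : Commute (r0 F) (xe F 70 (by decide +kernel)) := (H.cen _ (H.le (hR 70 (by decide +kernel) (by decide)))).symm
  have bm : Commute (r0 F) (xe F 46 (by decide +kernel)) := (H.cen _ (H.le (hR 46 (by decide +kernel) (by decide)))).symm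
  have ba : Commute (r0 F) (xe F 60 (by decide +kernel)) := (H.cen _ haS).symm
  have b2 := H.bb
  have hu := final_step (T := rootClass K) (fun x hx y => conj_T hx y) mT T1 T2 hb1 m2 f2 g2 b2 fm gm fg fc gc af ag
    bf bg bc bm ba c2 am cm h₁ h₂ h₃ h₄ e
  rcases hu with hu | hu
  · exact Or.inl (hcore hu)
  · right
    have h5 : ∀ y ∈ SE K, y * (xe F 60 (by decide +kernel) * p) * y⁻¹ * (xe F 60 (by decide +kernel) * p)⁻¹ ∈ RE K := by
      intro y hy
      have h6 := hafix y hy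
      have h7 := H.norm _ haS _ (h y hy)
      generalize xe F 60 (by decide +kernel) = a at h6 h7 ⊢
      have e1 : y * (a * p) * y⁻¹ * (a * p)⁻¹ = (y * a * y⁻¹ * a⁻¹) * (a * (y * p * y⁻¹ * p⁻¹) * a⁻¹) := by group
      rw [e1]
      exact mul_mem h6 h7
    have h8 := H.norm _ (inv_mem haS) _ (hcore' h5 hu)
    have a3 : (xe F 60 (by decide +kernel))⁻¹ = xe F 60 (by decide +kernel) := inv_eq_of_mul_eq_one_left a2
    generalize xe F 60 (by decide +kernel) = a at h8 a3 ⊢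
    have e2 : a⁻¹ * (a * p) * a⁻¹⁻¹ = p * a⁻¹ := by
      rw [inv_mul_cancel_left, inv_inv, a3]
    rwa [e2] at h8

end Four

end Cfsg.Agent.TwoESix.FlagAU
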