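import Cfsg.Agent.TwoESix.FlagO
import Cfsg.Agent.TwoESix.FlagAU
import Cfsg.Agent.BabyU.FusGood

/-!
# ²E₆(2): the flag `b, c, a` (assembly)
-/

set_option autoImplicit false
set_option linter.unusedSectionVars false

namespace Cfsg.Agent.TwoESix.FlagInst

open Cfsg.Lie
open Cfsg.Agent.ChevalleyStructure
open Cfsg.Agent.ChevalleyStructure.TwE6BN
open Cfsg.Agent.TwoESix.LeviA
open Cfsg.Agent.TwoESix.LongCard
open Cfsg.Agent.TwoESix.FlagH
open Cfsg.Agent.BabyU (rootClass)

open scoped commutatorElement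

universe u

variable {K : Type u} [Field K] [Fintype K] {φ : K →+* K} (F : Four K φ)

/-- the flag, modulo `a_uni` -/
theorem flag_of (a_uni : ∀ p ∈ SE K, (∀ y ∈ SE K, y * p * y⁻¹ * p⁻¹ ∈ RE K) →
      p ∈ RE K ∨ p * (xe F 60 (by decide +kernel))⁻¹ ∈ RE K) :
    Cfsg.Agent.BabyU.FusGood.Flag (rootClass K) (RE K) (SE K) (r0 F) (xe F 60 (by decide +kernel))
      (xe F 70 (by decide +kernel)) where
  b_mem := xe_T F 71 (by decide +kernel)
  a_mem := xe_T F 60 _
  c_mem := xe_T F 70 _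
  bc := bc_mem F
  ab := ab F
  ab_not := FlagI.ab_not F
  a_ne := a_ne F
  R_le := R_le F
  S_le := S_cent F
  S_two := S_two F
  S_odd := S_odd F
  R_norm := R_norm F
  R_gen := R_gen F
  R_comm := fun x hx _ y hy _ => comm_RE F hx hy
  R_non := R_non F
  R_max := R_max F
  S_cen := FlagM.S_cen F
  c_R := c_R F
  c_fix := FlagI.c_fix F
  c_uni := FlagL.c_uni F
  a_S := a_S F
  a_R := a_R F
  a_fix := FlagI.a_fix F
  a_uni := a_uni
  a_bor := fun y _ hy => FlagJ.a_bor F y hy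
  a_van := FlagO.a_van F

include F in
/-- **The flag.** -/
theorem flag : Cfsg.Agent.BabyU.FusGood.Flag (rootClass K) (RE K) (SE K) (r0 F) (xe F 60 (by decide +kernel))
    (xe F 70 (by decide +kernel)) :=
  flag_of F fun p hp h => FlagAU.a_uni F p hp h

end Cfsg.Agent.TwoESix.FlagInst

namespace Cfsg.Agent.TwoESix.FlagInst

open Cfsg.Lie
open Cfsg.Agent.TwoESix.LeviA
open Cfsg.Agent.BabyU (rootClass)

universe u

/-- The literal input of the fusion theorem. -/
theorem exists_flag (K : Type u) [Field K] [Fintype K] (hK : Fintype.card K = 4) :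
    ∃ (R S : Subgroup ↥(twistedE6 K 2)) (b a c : ↥(twistedE6 K 2)),
      Cfsg.Agent.BabyU.FusGood.Flag (rootClass K) R S b a c := by
  obtain ⟨-, φ, F⟩ := exists_four K hK
  exact ⟨_, _, _, _, _, flag F⟩

end Cfsg.Agent.TwoESix.FlagInst
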