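import Cfsg.Agent.TwoESix.FlagI

/-!
# ²E₆(2): `x_69 x_46` and `x_71 x_69 x_46` are not root involutions
-/

set_option autoImplicit false
set_option linter.unusedSectionVars false

namespace Cfsg.Agent.TwoESix.FlagT

open Cfsg.Lie
open Cfsg.Agent.ChevalleyStructure
open Cfsg.Agent.ChevalleyStructure.Elts hiding x_add x_zero x_eq_one_iff
open Cfsg.Agent.ChevalleyStructure.TwE6Basic
open Cfsg.Agent.ChevalleyStructure.TwE6BN
open Cfsg.Agent.TwoESix.LeviA
open Cfsg.Agent.TwoESix.LeviB
open Cfsg.Agent.TwoESix.LeviC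
open Cfsg.Agent.TwoESix.LeviD
open Cfsg.Agent.TwoESix.LongPairs
open Cfsg.Agent.TwoESix.LongCard
open Cfsg.Agent.TwoESix.FlagH
open Cfsg.Agent.TwoESix.FlagI
open Cfsg.Agent.BabyU (rootClass)

universe u

variable {K : Type u} [Field K]

section Four

variable [Fintype K] {φ : K →+* K} (F : Four K φ)
include F

theorem T_of_conj {p g : ↥(twistedE6 K 2)} (h : g * p * g⁻¹ ∈ rootClass K) : p ∈ rootClass K := by
  have h1 := conj_T h g⁻¹
  have e : g⁻¹ * (g * p * g⁻¹) * g⁻¹⁻¹ = p := by group
  rwa [e] at h1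

theorem we_conj (w : List (Fin 4)) {r s : Fin 72} (hr : rho r = r) (hs : rho s = s) (e : wpm w r = s) :
    we F w * xe F r hr * (we F w)⁻¹ = xe F s hs := by
  have := F.charP
  subst e
  exact Subtype.ext (wn_conj (K := K) w r 1)

/-- the product of the symplectic pair `x_69, x_46` is not a root involution -/
theorem t6946 : xe F 69 (by decide +kernel) * xe F 46 (by decide +kernel) ∉ rootClass K := by
  have := F.charP
  intro h
  have h1 := we_conj F [1, 2, 3, 0] (r := 60) (s := 46) (by decide +kernel) (by decide +kernel) (by decide +kernel)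
  have h2 := we_conj F [1, 2, 3, 0] (r := 71) (s := 69) (by decide +kernel) (by decide +kernel) (by decide +kernel)
  rw [← h1, ← h2] at h
  have e : we F [1, 2, 3, 0] * xe F 71 (by decide +kernel) * (we F [1, 2, 3, 0])⁻¹ *
      (we F [1, 2, 3, 0] * xe F 60 (by decide +kernel) * (we F [1, 2, 3, 0])⁻¹) =
      we F [1, 2, 3, 0] * (xe F 60 (by decide +kernel) * r0 F) * (we F [1, 2, 3, 0])⁻¹ := by
    rw [ab F]
    have : xe F 71 (by decide +kernel) = r0 F := rfl
    rw [this]
    group
  rw [e] at h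
  exact ab_not F (T_of_conj F h)

theorem bt6946 : r0 F * (xe F 69 (by decide +kernel) * xe F 46 (by decide +kernel)) ∉ rootClass K := by
  have := F.charP
  intro h
  apply t6946 F
  refine T_of_conj F (g := xe F 47 (by decide +kernel)) ?_
  have c1 : x 47 (1 : K) * x 46 1 = x 46 1 * x 47 1 :=
    comm_of_commTerms (K := K) (r := 46) (s := 47) (by norm_num) (by norm_num) (by norm_num) (by decide +kernel)
      (by decide +kernel) 1 1
  have c2 : x 47 (1 : K) * x 69 1 = x 69 1 * x 47 1 * x 71 (1 * 1) :=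
    comm_single (K := K) (r := 69) (s := 47) (k := 71) (c := (chevE6.commTerms 69 47).head!.2.1) (by norm_num)
      (by norm_num) (by norm_num) (by decide +kernel) (by decide +kernel) (by decide +kernel) 1 1
  have c3 : x 71 (1 : K) * x 47 1 = x 47 1 * x 71 1 := comm_top (r := (47 : Fin 72)) (by decide) 1 1
  have c4 : x 71 (1 : K) * x 69 1 = x 69 1 * x 71 1 := comm_top (r := (69 : Fin 72)) (by decide) 1 1
  rw [mul_one] at c2
  have e : xe F 47 (by decide +kernel) * (xe F 69 (by decide +kernel) * xe F 46 (by decide +kernel)) *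
      (xe F 47 (by decide +kernel))⁻¹ = r0 F * (xe F 69 (by decide +kernel) * xe F 46 (by decide +kernel)) := by
    apply Subtype.ext
    show x 47 (1 : K) * (x 69 1 * x 46 1) * (x 47 1)⁻¹ = x 71 1 * (x 69 1 * x 46 1)
    rw [mul_inv_eq_iff_eq_mul]
    calc x 47 (1 : K) * (x 69 1 * x 46 1) = x 47 1 * x 69 1 * x 46 1 := by group
      _ = x 69 1 * (x 71 1 * x 47 1) * x 46 1 := by rw [c2, c3]; group
      _ = (x 71 1 * x 69 1) * (x 47 1 * x 46 1) := by rw [c4]; group
      _ = _ := by rw [c1]; group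
  rw [e]
  exact h

end Four

end Cfsg.Agent.TwoESix.FlagT
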