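import Cfsg.Agent.TwoESix.FlagO
import Cfsg.Agent.TwoESix.FlagT
import Cfsg.Agent.TwoESix.FlagInst

/-!
# ²E₆(2): the centraliser in `R = O_2(C(b))` of the product of a symplectic pair of roots of `R`

`e = x_69(1) x_46(1)`, `Y` the set of the root involutions `y ∈ R` commuting with `e` such that `y e` is not a root
involution.  Then `C_R(e)` is generated by `Y` (`gen`).
-/

set_option autoImplicit false
set_option linter.unusedSectionVars false

namespace Cfsg.Agent.TwoESix.GenSym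

open Cfsg.Lie
open Cfsg.Agent.ChevalleyStructure
open Cfsg.Agent.ChevalleyStructure.Elts hiding x_add x_zero x_eq_one_iff
open Cfsg.Agent.ChevalleyStructure.TwE6Basic
open Cfsg.Agent.ChevalleyStructure.TwE6BN
open Cfsg.Agent.TwoESix.LeviA
open Cfsg.Agent.TwoESix.LeviB
open Cfsg.Agent.TwoESix.LeviC
open Cfsg.Agent.TwoESix.LeviD
open Cfsg.Agent.TwoESix.LongPairs
open Cfsg.Agent.TwoESix.LongCard
open Cfsg.Agent.TwoESix.FlagH
open Cfsg.Agent.TwoESix.FlagI
open Cfsg.Agent.TwoESix.FlagK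
open Cfsg.Agent.TwoESix.FlagL
open Cfsg.Agent.TwoESix.FlagM
open Cfsg.Agent.TwoESix.FlagN
open Cfsg.Agent.TwoESix.FlagO
open Cfsg.Agent.TwoESix.FlagT
open Cfsg.Agent.BabyU (rootClass)

open scoped commutatorElement Pointwise

universe u

section Gen

variable {G : Type*} [Group G]

/-- commuting elements of orders two and three -/
theorem order_kill {a c : G} (ha : a * a = 1) (ha1 : a ≠ 1) (hc : c ^ 3 = 1) (hc1 : c ≠ 1) (h : a * c = c * a) :
    ¬ ((a * c) ^ 4 = 1 ∨ (a * c) ^ 3 = 1) := by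
  have hC : Commute a c := h
  rintro (h1 | h1)
  · rw [hC.mul_pow] at h1
    have e1 : a ^ 4 = 1 := by
      rw [show 4 = 2 * 2 from rfl, pow_mul, pow_two a, ha, one_pow]
    have e2 : c ^ 4 = c := by rw [pow_succ, hc, one_mul]
    rw [e1, e2, one_mul] at h1
    exact hc1 h1
  · rw [hC.mul_pow] at h1
    have e1 : a ^ 3 = a := by rw [pow_succ, pow_two, ha, one_mul]
    rw [e1, hc, mul_one] at h1
    exact ha1 h1

end Gen

variable {K : Type u} [Field K]

/-- `x_s` and `x_{rho s}` commute with `x_69` and `x_46` -/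
def CC (s : Fin 72) : Prop := Co 69 s ∧ Co 69 (rho s) ∧ Co 46 s ∧ Co 46 (rho s)

instance (s : Fin 72) : Decidable (CC s) := by unfold CC; infer_instance

section Two

variable [CharP K 2]

theorem z_CC {s : Fin 72} (h : CC s) (φ : K →+* K) (t : K) :
    z φ s t * (x 69 (1 : K) * x 46 1) = x 69 1 * x 46 1 * z φ s t := by
  obtain ⟨h1, h2, h3, h4⟩ := h
  have c1 : x s.val t * x 69 (1 : K) = x 69 1 * x s.val t := h1.eq 1 t
  have c2 : x (rho s).val (φ t) * x 69 (1 : K) = x 69 1 * x (rho s).val (φ t) := h2.eq 1 _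
  have c3 : x s.val t * x 46 (1 : K) = x 46 1 * x s.val t := h3.eq 1 t
  have c4 : x (rho s).val (φ t) * x 46 (1 : K) = x 46 1 * x (rho s).val (φ t) := h4.eq 1 _
  show x s.val t * x (rho s).val (φ t) * (x 69 (1 : K) * x 46 1) = x 69 1 * x 46 1 * (x s.val t * x (rho s).val (φ t))
  calc x s.val t * x (rho s).val (φ t) * (x 69 (1 : K) * x 46 1)
      = x s.val t * (x (rho s).val (φ t) * x 69 (1 : K)) * x 46 1 := by simp only [mul_assoc]
    _ = (x s.val t * x 69 1) * (x (rho s).val (φ t) * x 46 1) := by rw [c2]; simp only [mul_assoc]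
    _ = x 69 1 * (x s.val t * x 46 1) * x (rho s).val (φ t) := by rw [c1, c4]; simp only [mul_assoc]
    _ = _ := by rw [c3]; simp only [mul_assoc]

theorem cube69 : (x 69 (1 : K) * x 2 1) ^ 3 = 1 := by
  have h1 : wn (K := K) [1, 2, 3, 0] * x 71 1 * (wn [1, 2, 3, 0])⁻¹ = x 69 1 := by
    have h2 := wn_conj (K := K) [1, 2, 3, 0] 71 1
    rwa [show wpm [1, 2, 3, 0] 71 = 69 by decide +kernel] at h2
  have h3 : wn (K := K) [1, 2, 3, 0] * x 0 1 * (wn [1, 2, 3, 0])⁻¹ = x 2 1 := by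
    have h4 := wn_conj (K := K) [1, 2, 3, 0] 0 1
    rwa [show wpm [1, 2, 3, 0] 0 = 2 by decide +kernel] at h4
  rw [← h1, ← h3]
  generalize wn (K := K) [1, 2, 3, 0] = g
  have e : g * x 71 (1 : K) * g⁻¹ * (g * x 0 1 * g⁻¹) = g * (x 71 1 * x 0 1) * g⁻¹ := by group
  rw [e, conj_pow, cube0, mul_one, mul_inv_cancel]

end Two

section Four

variable [Fintype K] {φ : K →+* K} (F : Four K φ)
include F

/-- the product of the symplectic pair `x_69, x_46` -/
def eb : ↥(twistedE6 K 2) := xe F 69 (by decide +kernel) * xe F 46 (by decide +kernel)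

theorem eb_coe : ((eb F : ↥(twistedE6 K 2)) : GL chevE6.Idx K) = x 69 1 * x 46 1 := rfl

/-- the roots of `R` commuting with `e` whose product with `e` is not a root -/
def Y : Set ↥(twistedE6 K 2) :=
  {y | y ∈ rootClass K ∧ y ∈ RE K ∧ y * eb F = eb F * y ∧ y * eb F ∉ rootClass K}

theorem Y_conj {y g : ↥(twistedE6 K 2)} (hy : y ∈ Y F) (hg : g * eb F = eb F * g) (hg' : g * r0 F = r0 F * g) :
    g * y * g⁻¹ ∈ Y F := by
  obtain ⟨h1, h2, h3, h4⟩ := hy
  have hgi : g⁻¹ * eb F = eb F * g⁻¹ := by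
    rw [inv_mul_eq_iff_eq_mul, ← mul_assoc, hg, mul_inv_cancel_right]
  have e : g * y * g⁻¹ * eb F = g * (y * eb F) * g⁻¹ := by
    rw [mul_assoc, hgi]; group
  refine ⟨conj_T h1 g, R_norm F g hg' _ h2, ?_, fun h => h4 ?_⟩
  · rw [e, h3]
    calc g * (eb F * y) * g⁻¹ = (g * eb F) * y * g⁻¹ := by group
      _ = _ := by rw [hg]; group
  · rw [e] at h
    exact T_of_conj F h

/-- the subgroup generated by `Y`, in the general linear group -/
def W : Subgroup (GL chevE6.Idx K) := (Subgroup.closure (Y F)).map (twistedE6 K 2).subtype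

theorem mem_W {y : ↥(twistedE6 K 2)} : (y : GL chevE6.Idx K) ∈ W F ↔ y ∈ Subgroup.closure (Y F) := by
  constructor
  · rintro ⟨y', hy', e⟩
    have : y' = y := Subtype.ext e
    rwa [← this]
  · intro h
    exact ⟨y, h, rfl⟩

/-- commutators of elements of `Y` -/
theorem comm_W {r : Fin 72} (hr : rho r = r) (hY : xe F r hr ∈ Y F) {g c : GL chevE6.Idx K}
    (hg : g ∈ twistedE6 K 2) (he : g * (x 69 1 * x 46 1) = x 69 1 * x 46 1 * g) (hb : g * x 71 1 = x 71 1 * g)
    (h : g * x r.val 1 = x r.val 1 * g * c) : c ∈ W F := by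
  have hcE : c ∈ twistedE6 K 2 := by
    have e : c = (x r.val 1 * g)⁻¹ * (g * x r.val 1) := by rw [h]; group
    rw [e]
    exact mul_mem (inv_mem (mul_mem (xe F r hr).2 hg)) (mul_mem hg (xe F r hr).2)
  -- the inverse of `g`
  have e1 : (⟨g, hg⟩ : ↥(twistedE6 K 2)) * eb F = eb F * ⟨g, hg⟩ := Subtype.ext he
  have e2 : (⟨g, hg⟩ : ↥(twistedE6 K 2)) * r0 F = r0 F * ⟨g, hg⟩ := Subtype.ext hb
  have e1' : (⟨g, hg⟩ : ↥(twistedE6 K 2))⁻¹ * eb F = eb F * (⟨g, hg⟩ : ↥(twistedE6 K 2))⁻¹ := by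
    rw [inv_mul_eq_iff_eq_mul, ← mul_assoc, e1, mul_inv_cancel_right]
  have e2' : (⟨g, hg⟩ : ↥(twistedE6 K 2))⁻¹ * r0 F = r0 F * (⟨g, hg⟩ : ↥(twistedE6 K 2))⁻¹ := by
    rw [inv_mul_eq_iff_eq_mul, ← mul_assoc, e2, mul_inv_cancel_right]
  have h1 := Y_conj F hY e1' e2'
  have h2 : (⟨c, hcE⟩ : ↥(twistedE6 K 2)) ∈ Subgroup.closure (Y F) := by
    have e3 : (⟨c, hcE⟩ : ↥(twistedE6 K 2)) =
        ((⟨g, hg⟩ : ↥(twistedE6 K 2))⁻¹ * xe F r hr * (⟨g, hg⟩ : ↥(twistedE6 K 2))⁻¹⁻¹)⁻¹ * xe F r hr := by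
      apply Subtype.ext
      show c = (g⁻¹ * x r.val 1 * g⁻¹⁻¹)⁻¹ * x r.val 1
      have e4 : c = (x r.val 1 * g)⁻¹ * (g * x r.val 1) := by rw [h]; group
      rw [e4]; group
    rw [e3]
    exact mul_mem (inv_mem (Subgroup.subset_closure h1)) (Subgroup.subset_closure hY)
  exact (mem_W F).2 h2

/-- a commutator with a short root element -/
theorem zx_W {s r k m : Fin 72} (hr : rho r = r) (hY : xe F r hr ∈ Y F)
    (hs : chevE6.InRootSub {j | j ∈ Jn} s.val) (hs' : rho s ≠ s) (hC : CC s) (h : ZX s r k m) (t : K) :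
    z φ k t * x m.val (t * φ t) ∈ W F := by
  have := F.charP
  have hg : z φ s t ∈ LL K := z_mem_LL F hs hs' t
  refine comm_W F hr hY (Subgroup.mem_inf.1 hg).2 (z_CC hC φ t) ?_ (comm_zx h φ t)
  exact congrArg Subtype.val (LL_r0 F (l := ⟨z φ s t, (Subgroup.mem_inf.1 hg).2⟩) hg)

/-- from the products to the factors -/
theorem split_W {k m : Fin 72} (hk : k ∈ l20) (hk' : rho k ≠ k) (hkm : Co k m) (hkm' : Co (rho k) m)
    (h : ∀ t, z φ k t * x m.val (t * φ t) ∈ W F) : x m.val (1 : K) ∈ W F ∧ ∀ t, z φ k t ∈ W F := by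
  have := F.charP
  obtain ⟨w, hw⟩ := exists_omega F
  have hN : ∀ a : K, φ (a * φ a) = a * φ a := fun a => by rw [map_mul, F.inv, mul_comm]
  have hc : ∀ t u : K, x m.val u * z φ k t = z φ k t * x m.val u := by
    intro t u
    have c1 : x m.val u * x k.val t = x k.val t * x m.val u := hkm.eq t u
    have c2 : x m.val u * x (rho k).val (φ t) = x (rho k).val (φ t) * x m.val u := hkm'.eq _ u
    show x m.val u * (x k.val t * x (rho k).val (φ t)) = x k.val t * x (rho k).val (φ t) * x m.val u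
    rw [← mul_assoc, c1, mul_assoc, c2, ← mul_assoc]
  have h1 := mul_mem (h 1) (h w)
  have h2 := mul_mem (inv_mem (h (1 + w))) h1
  have e : (z φ k (1 + w) * x m.val ((1 + w) * φ (1 + w)))⁻¹ *
      (z φ k 1 * x m.val (1 * φ 1) * (z φ k w * x m.val (w * φ w))) = x m.val (1 : K) := by
    have e1 : z φ k 1 * x m.val (1 * φ 1) * (z φ k w * x m.val (w * φ w)) =
        z φ k (1 + w) * x m.val (1 * φ 1 + w * φ w) := by
      calc z φ k 1 * x m.val (1 * φ 1) * (z φ k w * x m.val (w * φ w))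
          = z φ k 1 * (x m.val (1 * φ 1) * z φ k w) * x m.val (w * φ w) := by simp only [mul_assoc]
        _ = (z φ k 1 * z φ k w) * (x m.val (1 * φ 1) * x m.val (w * φ w)) := by rw [hc]; simp only [mul_assoc]
        _ = _ := by rw [z_add F hk hk', x_add]
    have e2 : x m.val ((1 + w) * φ (1 + w)) * x m.val ((1 + w) * φ (1 + w)) = (1 : GL chevE6.Idx K) := by
      rw [x_add, CharTwo.add_self_eq_zero, TwE6Basic.x_zero]
    have e3 : (x m.val ((1 + w) * φ (1 + w)))⁻¹ = (x m.val ((1 + w) * φ (1 + w)) : GL chevE6.Idx K) :=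
      inv_eq_of_mul_eq_one_left e2
    have e4 : (z φ k (1 + w) * x m.val ((1 + w) * φ (1 + w)))⁻¹ * (z φ k (1 + w) * x m.val (1 * φ 1 + w * φ w)) =
        (x m.val ((1 + w) * φ (1 + w)))⁻¹ * x m.val (1 * φ 1 + w * φ w) := by group
    rw [e1, e4, e3, x_add]
    congr 1
    rw [map_add, map_one]
    have e5 : (1 + w) * (1 + φ w) + (1 * 1 + w * φ w) = (w + φ w) + (1 + 1) + (w * φ w + w * φ w) := by ring
    rw [e5, hw, CharTwo.add_self_eq_zero, CharTwo.add_self_eq_zero, add_zero, add_zero]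
  rw [e] at h2
  refine ⟨h2, fun t => (Subgroup.mul_mem_cancel_right _ (x_norm_mem F h2 (hN t))).1 (h t)⟩

/-! ### The elements `x_71, x_51, x_63, x_53, x_65` -/

/-- `x_k = [x_69, x_s]`-/
theorem base1 {k s : Fin 72} (hk : rho k = k) (hs : rho s = s) (hk20 : k ∈ l20) (h1 : Si 69 s k) (h2 : Co 46 s)
    (h3 : Co 46 k) (h4 : Co k s) (h5 : Co k 69) : xe F k hk ∈ Y F := by
  have := F.charP
  have c1 : x s.val 1 * x 69 (1 : K) = x 69 1 * x s.val 1 * x k.val 1 := comm_xx h1
  have c2 : x s.val 1 * x 46 (1 : K) = x 46 1 * x s.val 1 := h2.eq 1 1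
  have c3 : x k.val 1 * x 46 (1 : K) = x 46 1 * x k.val 1 := h3.eq 1 1
  have c4 : x s.val 1 * x k.val (1 : K) = x k.val 1 * x s.val 1 := h4.eq 1 1
  have c5 : x 69 1 * x k.val (1 : K) = x k.val 1 * x 69 1 := h5.eq 1 1
  refine ⟨xe_T F k hk, xe_RE F hk20 hk, Subtype.ext ?_, fun h => t6946 F ?_⟩
  · show x k.val 1 * (x 69 (1 : K) * x 46 1) = x 69 1 * x 46 1 * x k.val 1
    rw [← mul_assoc, ← c5, mul_assoc, c3, mul_assoc]
  · refine T_of_conj F (g := xe F s hs) ?_
    have e : xe F s hs * (xe F 69 (by decide +kernel) * xe F 46 (by decide +kernel)) * (xe F s hs)⁻¹ =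
        xe F k hk * eb F := by
      apply Subtype.ext
      show x s.val 1 * (x 69 (1 : K) * x 46 1) * (x s.val 1)⁻¹ = x k.val 1 * (x 69 1 * x 46 1)
      rw [mul_inv_eq_iff_eq_mul]
      calc x s.val 1 * (x 69 (1 : K) * x 46 1) = (x s.val 1 * x 69 1) * x 46 1 := by simp only [mul_assoc]
        _ = x 69 1 * x s.val 1 * (x k.val 1 * x 46 1) := by rw [c1]; simp only [mul_assoc]
        _ = x 69 1 * (x s.val 1 * x 46 1) * x k.val 1 := by rw [c3]; simp only [mul_assoc]
        _ = x 69 1 * (x 46 1 * (x s.val 1 * x k.val 1)) := by rw [c2]; simp only [mul_assoc]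
        _ = x 69 1 * (x 46 1 * x k.val 1) * x s.val 1 := by rw [c4]; simp only [mul_assoc]
        _ = (x 69 1 * x k.val 1) * (x 46 1 * x s.val 1) := by rw [← c3]; simp only [mul_assoc]
        _ = _ := by rw [c5]; simp only [mul_assoc]
    rw [e]
    exact h

theorem base2 {k : Fin 72} (hk : rho k = k) (hk20 : k ∈ l20) (hne : k ≠ 46) (h1 : Co 69 k) (h2 : Co 46 k)
    (h3 : Co 2 k) : xe F k hk ∈ Y F := by
  have := F.charP
  have c1 : x k.val 1 * x 69 (1 : K) = x 69 1 * x k.val 1 := h1.eq 1 1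
  have c2 : x k.val 1 * x 46 (1 : K) = x 46 1 * x k.val 1 := h2.eq 1 1
  have c3 : x k.val 1 * x 2 (1 : K) = x 2 1 * x k.val 1 := h3.eq 1 1
  have c4 : x 46 1 * x 2 (1 : K) = x 2 1 * x 46 1 := (show Co 2 46 by decide +kernel).eq 1 1
  have c5 : x 46 1 * x 69 (1 : K) = x 69 1 * x 46 1 := (show Co 69 46 by decide +kernel).eq 1 1
  refine ⟨xe_T F k hk, xe_RE F hk20 hk, Subtype.ext ?_, fun h => ?_⟩
  · show x k.val 1 * (x 69 (1 : K) * x 46 1) = x 69 1 * x 46 1 * x k.val 1
    rw [← mul_assoc, c1, mul_assoc, c2, mul_assoc]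
  · have h0 : xe F 2 (by decide +kernel) ∈ rootClass K := xe_T F 2 _
    refine order_kill (a := x k.val (1 : K) * x 46 1) (c := x 69 (1 : K) * x 2 1) ?_ ?_ cube69 ?_ ?_ ?_
    · calc x k.val (1 : K) * x 46 1 * (x k.val 1 * x 46 1) = x k.val 1 * (x 46 1 * x k.val 1) * x 46 1 := by
            simp only [mul_assoc]
        _ = (x k.val 1 * x k.val 1) * (x 46 1 * x 46 1) := by rw [← c2]; simp only [mul_assoc]
        _ = 1 := by rw [x_sq, x_sq, one_mul]
    · intro e
      have e1 : x k.val (1 : K) = x 46 1 := by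
        rw [mul_eq_one_iff_eq_inv] at e
        rw [e, inv_eq_iff_mul_eq_one, x_sq]
      exact x_ne (K := K) k.2 (by norm_num) (fun h => hne (Fin.ext h)) e1
    · intro e
      have e1 : x 69 (1 : K) = x 2 1 := by
        rw [mul_eq_one_iff_eq_inv] at e
        rw [e, inv_eq_iff_mul_eq_one, x_sq]
      exact x_ne (K := K) (by norm_num) (by norm_num) (by norm_num) e1
    · calc x k.val (1 : K) * x 46 1 * (x 69 1 * x 2 1) = x k.val 1 * (x 46 1 * x 69 1) * x 2 1 := by
            simp only [mul_assoc]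
        _ = (x k.val 1 * x 69 1) * (x 46 1 * x 2 1) := by rw [c5]; simp only [mul_assoc]
        _ = x 69 1 * (x k.val 1 * x 2 1) * x 46 1 := by rw [c1, c4]; simp only [mul_assoc]
        _ = _ := by rw [c3]; simp only [mul_assoc]
    · have e0 : ∀ n : ℕ, (xe F k hk * eb F * xe F 2 (by decide +kernel)) ^ n = 1 →
          (x k.val (1 : K) * x 46 1 * (x 69 1 * x 2 1)) ^ n = 1 := by
        intro n hn
        have h' : (x k.val (1 : K) * (x 69 1 * x 46 1) * x 2 1) ^ n = 1 := congrArg Subtype.val hn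
        have e2 : x k.val (1 : K) * x 46 1 * (x 69 1 * x 2 1) = x k.val (1 : K) * (x 69 1 * x 46 1) * x 2 1 := by
          rw [← c5]; simp only [mul_assoc]
        rwa [e2]
      rcases order_T F h h0 with h4 | h4
      · exact Or.inl (e0 4 h4)
      · exact Or.inr (e0 3 h4)

theorem y71 : r0 F ∈ Y F := by
  have := F.charP
  refine ⟨xe_T F 71 (by decide +kernel), r0_RE F, ?_, bt6946 F⟩
  exact (S_cent F _ (R_le F (mul_mem (xe_RE F (r := 69) (by decide) (by decide +kernel))
    (xe_RE F (r := 46) (by decide) (by decide +kernel))))).symm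

theorem y51 : xe F 51 (by decide +kernel) ∈ Y F :=
  base1 F (k := 51) (s := 11) (by decide +kernel) (by decide +kernel) (by decide) (by decide +kernel)
    (by decide +kernel) (by decide +kernel) (by decide +kernel) (by decide +kernel)

theorem y63 : xe F 63 (by decide +kernel) ∈ Y F :=
  base1 F (k := 63) (s := 27) (by decide +kernel) (by decide +kernel) (by decide) (by decide +kernel)
    (by decide +kernel) (by decide +kernel) (by decide +kernel) (by decide +kernel)

theorem y53 : xe F 53 (by decide +kernel) ∈ Y F :=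
  base2 F (k := 53) (by decide +kernel) (by decide) (by decide) (by decide +kernel) (by decide +kernel)
    (by decide +kernel)

theorem y65 : xe F 65 (by decide +kernel) ∈ Y F :=
  base2 F (k := 65) (by decide +kernel) (by decide) (by decide) (by decide +kernel) (by decide +kernel)
    (by decide +kernel)

/-- the element `x_47 x_53 x_65 x_70` -/
theorem y4770 : x 65 (1 : K) * x 70 1 * (x 47 1 * x 53 1) ∈ W F := by
  have := F.charP
  -- `x_11` and `x_44` act in the same way on `e`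
  have c11 : x 11 (1 : K) * (x 69 1 * x 46 1) = x 51 1 * (x 69 1 * x 46 1) * x 11 1 := by
    have a1 : x 11 1 * x 69 (1 : K) = x 69 1 * x 11 1 * x 51 1 := comm_xx (show Si 69 11 51 by decide +kernel)
    have a2 : x 11 1 * x 46 (1 : K) = x 46 1 * x 11 1 := (show Co 46 11 by decide +kernel).eq 1 1
    have a3 : x 51 1 * x 46 (1 : K) = x 46 1 * x 51 1 := (show Co 46 51 by decide +kernel).eq 1 1
    have a4 : x 11 1 * x 51 (1 : K) = x 51 1 * x 11 1 := (show Co 51 11 by decide +kernel).eq 1 1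
    have a5 : x 69 1 * x 51 (1 : K) = x 51 1 * x 69 1 := (show Co 51 69 by decide +kernel).eq 1 1
    calc x 11 1 * (x 69 (1 : K) * x 46 1) = (x 11 1 * x 69 1) * x 46 1 := by simp only [mul_assoc]
      _ = x 69 1 * x 11 1 * (x 51 1 * x 46 1) := by rw [a1]; simp only [mul_assoc]
      _ = x 69 1 * (x 11 1 * x 46 1) * x 51 1 := by rw [a3]; simp only [mul_assoc]
      _ = x 69 1 * (x 46 1 * (x 11 1 * x 51 1)) := by rw [a2]; simp only [mul_assoc]
      _ = x 69 1 * (x 46 1 * x 51 1) * x 11 1 := by rw [a4]; simp only [mul_assoc]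
      _ = (x 69 1 * x 51 1) * (x 46 1 * x 11 1) := by rw [← a3]; simp only [mul_assoc]
      _ = _ := by rw [a5]; simp only [mul_assoc]
  have c44 : x 44 (1 : K) * (x 69 1 * x 46 1) = x 51 1 * (x 69 1 * x 46 1) * x 44 1 := by
    have a1 : x 44 1 * x 46 (1 : K) = x 46 1 * x 44 1 * x 51 1 := comm_xx (show Si 46 44 51 by decide +kernel)
    have a2 : x 44 1 * x 69 (1 : K) = x 69 1 * x 44 1 := (show Co 69 44 by decide +kernel).eq 1 1
    have a3 : x 51 1 * x 46 (1 : K) = x 46 1 * x 51 1 := (show Co 46 51 by decide +kernel).eq 1 1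
    have a4 : x 44 1 * x 51 (1 : K) = x 51 1 * x 44 1 := (show Co 51 44 by decide +kernel).eq 1 1
    have a5 : x 69 1 * x 51 (1 : K) = x 51 1 * x 69 1 := (show Co 51 69 by decide +kernel).eq 1 1
    calc x 44 1 * (x 69 (1 : K) * x 46 1) = (x 44 1 * x 69 1) * x 46 1 := by simp only [mul_assoc]
      _ = x 69 1 * (x 44 1 * x 46 1) := by rw [a2]; simp only [mul_assoc]
      _ = x 69 1 * x 46 1 * (x 44 1 * x 51 1) := by rw [a1]; simp only [mul_assoc]
      _ = x 69 1 * (x 46 1 * x 51 1) * x 44 1 := by rw [a4]; simp only [mul_assoc]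
      _ = (x 69 1 * x 51 1) * x 46 1 * x 44 1 := by rw [← a3]; simp only [mul_assoc]
      _ = _ := by rw [a5]; simp only [mul_assoc]
  have h11 : x 11 (1 : K) ∈ LL K := x_mem_LL F (r := 11) (by decide +kernel) (by decide +kernel)
  have h44 : x 44 (1 : K) ∈ LL K := x_mem_LL F (r := 44) (by decide +kernel) (by decide +kernel)
  have hg : (x 44 (1 : K))⁻¹ * x 11 1 ∈ LL K := mul_mem (inv_mem h44) h11
  have hgE := (Subgroup.mem_inf.1 hg).2
  have hge : (x 44 (1 : K))⁻¹ * x 11 1 * (x 69 1 * x 46 1) = x 69 1 * x 46 1 * ((x 44 (1 : K))⁻¹ * x 11 1) := by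
    have e1 : x 51 1 * (x 69 (1 : K) * x 46 1) = x 44 1 * (x 69 1 * x 46 1) * (x 44 1)⁻¹ := by
      rw [c44, mul_inv_cancel_right]
    rw [mul_assoc, c11, e1]
    group
  have h1 := Y_conj F (y65 F) (g := ⟨_, hgE⟩) (Subtype.ext hge) (LL_r0 F hg)
  have h2 := (mem_W F).2 (Subgroup.subset_closure h1)
  have e : (((⟨(x 44 (1 : K))⁻¹ * x 11 1, hgE⟩ : ↥(twistedE6 K 2)) * xe F 65 (by decide +kernel) *
      (⟨(x 44 (1 : K))⁻¹ * x 11 1, hgE⟩ : ↥(twistedE6 K 2))⁻¹ : ↥(twistedE6 K 2)) : GL chevE6.Idx K) =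
      x 65 (1 : K) * x 70 1 * (x 47 1 * x 53 1) := by
    show (x 44 (1 : K))⁻¹ * x 11 1 * x 65 1 * ((x 44 (1 : K))⁻¹ * x 11 1)⁻¹ = _
    have b1 : x 11 1 * x 65 (1 : K) = x 65 1 * x 11 1 * x 47 1 := comm_xx (show Si 65 11 47 by decide +kernel)
    have b2 : x 11 1 * x 47 (1 : K) = x 47 1 * x 11 1 := (show Co 47 11 by decide +kernel).eq 1 1
    have b3 : x 44 1 * x 65 (1 : K) = x 65 1 * x 44 1 * x 70 1 := comm_xx (show Si 65 44 70 by decide +kernel)
    have b4 : x 44 1 * x 70 (1 : K) = x 70 1 * x 44 1 := (show Co 70 44 by decide +kernel).eq 1 1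
    have b5 : x 44 1 * x 47 (1 : K) = x 47 1 * x 44 1 * x 53 1 := comm_xx (show Si 47 44 53 by decide +kernel)
    have b6 : x 44 1 * x 53 (1 : K) = x 53 1 * x 44 1 := (show Co 53 44 by decide +kernel).eq 1 1
    have b7 : (x 44 (1 : K))⁻¹ = x 44 1 := inv_eq_of_mul_eq_one_left (x_sq (K := K) 44)
    have b8 : x 11 1 * x 65 (1 : K) * (x 11 1)⁻¹ = x 65 1 * x 47 1 := by
      rw [b1, mul_assoc (x 65 (1 : K)), b2, ← mul_assoc, mul_inv_cancel_right]
    have b9 : (x 44 (1 : K))⁻¹ * x 11 1 * x 65 1 * ((x 44 (1 : K))⁻¹ * x 11 1)⁻¹ =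
        x 44 1 * (x 11 1 * x 65 (1 : K) * (x 11 1)⁻¹) * (x 44 1)⁻¹ := by
      rw [mul_inv_rev, inv_inv, b7]; simp only [mul_assoc]
    rw [b9, b8, mul_inv_eq_iff_eq_mul]
    calc x 44 1 * (x 65 (1 : K) * x 47 1) = (x 44 1 * x 65 1) * x 47 1 := by simp only [mul_assoc]
      _ = x 65 1 * (x 44 1 * x 70 1) * x 47 1 := by rw [b3]; simp only [mul_assoc]
      _ = x 65 1 * x 70 1 * (x 44 1 * x 47 1) := by rw [b4]; simp only [mul_assoc]
      _ = x 65 1 * x 70 1 * (x 47 1 * (x 44 1 * x 53 1)) := by rw [b5]; simp only [mul_assoc]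
      _ = _ := by rw [b6]; simp only [mul_assoc]
  rw [e] at h2
  exact h2

/-- The root elements in `W`. -/
theorem roots_W : (x 71 (1 : K) ∈ W F ∧ x 46 (1 : K) ∈ W F ∧ x 51 (1 : K) ∈ W F ∧ x 53 (1 : K) ∈ W F ∧
    x 63 (1 : K) ∈ W F ∧ x 65 (1 : K) ∈ W F ∧ x 69 (1 : K) ∈ W F ∧ x 47 (1 : K) * x 70 1 ∈ W F) ∧
    (∀ t, z φ 48 t ∈ W F) ∧ (∀ t, z φ 49 t ∈ W F) ∧ (∀ t, z φ 52 t ∈ W F) ∧ (∀ t, z φ 54 t ∈ W F) ∧
    (∀ t, z φ 55 t ∈ W F) ∧ (∀ t, z φ 66 t ∈ W F) := by
  have := F.charP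
  have x71 : x 71 (1 : K) ∈ W F := (mem_W F).2 (Subgroup.subset_closure (y71 F))
  have x51 : x 51 (1 : K) ∈ W F := (mem_W F).2 (Subgroup.subset_closure (y51 F))
  have x53 : x 53 (1 : K) ∈ W F := (mem_W F).2 (Subgroup.subset_closure (y53 F))
  have x63 : x 63 (1 : K) ∈ W F := (mem_W F).2 (Subgroup.subset_closure (y63 F))
  have x65 : x 65 (1 : K) ∈ W F := (mem_W F).2 (Subgroup.subset_closure (y65 F))
  obtain ⟨x46, z48⟩ := split_W F (k := 48) (m := 46) (by decide) (by decide +kernel) (by decide +kernel)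
    (by decide +kernel) (zx_W F (s := 28) (r := 53) (k := 48) (m := 46) (by decide +kernel) (y53 F)
      (by decide +kernel) (by decide +kernel) (by decide +kernel) (by decide +kernel))
  obtain ⟨-, z49⟩ := split_W F (k := 49) (m := 46) (by decide) (by decide +kernel) (by decide +kernel)
    (by decide +kernel) (zx_W F (s := 13) (r := 65) (k := 49) (m := 46) (by decide +kernel) (y65 F)
      (by decide +kernel) (by decide +kernel) (by decide +kernel) (by decide +kernel))
  obtain ⟨-, z52⟩ := split_W F (k := 52) (m := 63) (by decide) (by decide +kernel) (by decide +kernel)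
    (by decide +kernel) (zx_W F (s := 36) (r := 51) (k := 52) (m := 63) (by decide +kernel) (y51 F)
      (by decide +kernel) (by decide +kernel) (by decide +kernel) (by decide +kernel))
  obtain ⟨-, z54⟩ := split_W F (k := 54) (m := 65) (by decide) (by decide +kernel) (by decide +kernel)
    (by decide +kernel) (zx_W F (s := 36) (r := 53) (k := 54) (m := 65) (by decide +kernel) (y53 F)
      (by decide +kernel) (by decide +kernel) (by decide +kernel) (by decide +kernel))
  obtain ⟨x69, z55⟩ := split_W F (k := 55) (m := 69) (by decide) (by decide +kernel) (by decide +kernel)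
    (by decide +kernel) (zx_W F (s := 38) (r := 53) (k := 55) (m := 69) (by decide +kernel) (y53 F)
      (by decide +kernel) (by decide +kernel) (by decide +kernel) (by decide +kernel))
  obtain ⟨-, z66⟩ := split_W F (k := 66) (m := 69) (by decide) (by decide +kernel) (by decide +kernel)
    (by decide +kernel) (zx_W F (s := 37) (r := 65) (k := 66) (m := 69) (by decide +kernel) (y65 F)
      (by decide +kernel) (by decide +kernel) (by decide +kernel) (by decide +kernel))
  have h1 := y4770 F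
  have h2 : x 70 1 * x 47 (1 : K) ∈ W F := by
    have h3 := mul_mem (mul_mem (inv_mem x65) h1) (inv_mem x53)
    have e : (x 65 (1 : K))⁻¹ * (x 65 (1 : K) * x 70 1 * (x 47 1 * x 53 1)) * (x 53 1)⁻¹ = x 70 1 * x 47 1 := by
      group
    rwa [e] at h3
  have h4 : x 70 1 * x 47 (1 : K) = x 47 1 * x 70 1 := (show Co 47 70 by decide +kernel).eq 1 1
  rw [h4] at h2
  exact ⟨⟨x71, x46, x51, x53, x63, x65, x69, h2⟩, z48, z49, z52, z54, z55, z66⟩

end Four

section Two

variable [CharP K 2]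

theorem lp_perm (t : Fin 72 → K) {L L' : List (Fin 72)} (h : L.Perm L') (hL : ∀ r ∈ L, r ∈ l20) :
    ∃ v, FlagK.lp t L = FlagK.lp t L' * x 71 v := by
  induction h with
  | nil => exact ⟨0, by rw [TwE6Basic.x_zero, mul_one]⟩
  | cons r _ ih =>
    obtain ⟨v, hv⟩ := ih fun s hs => hL s (List.mem_cons_of_mem _ hs)
    exact ⟨v, by rw [lp_cons, lp_cons, hv, mul_assoc]⟩
  | swap r s L =>
    have hr : r ∈ l20 := hL r (List.mem_cons_of_mem _ List.mem_cons_self)
    have hs : s ∈ l20 := hL s List.mem_cons_self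
    have hA : FlagK.lp t L ∈ UR K Jn :=
      lp_mem_U _ L fun s hs => hL s (List.mem_cons_of_mem _ (List.mem_cons_of_mem _ hs))
    obtain ⟨v, hv⟩ := swap_X (x_mem_UR (K := K) (l20_mem s hs).1 (l20_mem s hs).2.1 (t s))
      (x_mem_UR (K := K) (l20_mem r hr).1 (l20_mem r hr).2.1 (t r))
    refine ⟨v, ?_⟩
    have k1 : FlagK.lp t L * x 71 v = x 71 v * FlagK.lp t L := U_comm_top (UR_le_U hA) v
    rw [lp_cons, lp_cons, lp_cons, lp_cons, ← mul_assoc, hv, mul_assoc (x r.val (t r) * x s.val (t s)), ← k1]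
    simp only [mul_assoc]
  | trans h1 h2 ih1 ih2 =>
    obtain ⟨v, hv⟩ := ih1 hL
    obtain ⟨v', hv'⟩ := ih2 fun s hs => hL s (h1.mem_iff.2 hs)
    exact ⟨v' + v, by rw [hv, hv', mul_assoc, x_add]⟩

end Two

/-- the roots of the radical, pairs together -/
def lq : List (Fin 72) := [46, 47, 70, 48, 50, 49, 61, 51, 52, 62, 53, 54, 64, 55, 67, 63, 65, 66, 68, 69]

theorem lq_perm : l20.Perm lq := by decide

section Four

variable [Fintype K] {φ : K →+* K} (F : Four K φ)
include F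

/-- **Generation**: the centraliser of `e` in `R` is generated by the roots `y` commuting with `e`, `y e` not a root. -/
theorem gen {p : ↥(twistedE6 K 2)} (hp : p ∈ RE K) (hpe : p * eb F = eb F * p) : p ∈ Subgroup.closure (Y F) := by
  have := F.charP
  obtain ⟨⟨x71, x46, x51, x53, x63, x65, x69, x4770⟩, z48, z49, z52, z54, z55, z66⟩ := roots_W F
  obtain ⟨t, v, e⟩ := coords (Subgroup.mem_subgroupOf.1 hp)
  have hE : FlagK.lp t l20 * x 71 v ∈ twistedE6 K 2 := by rw [← e]; exact p.2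
  have f46 := coord_fix F hE (r := 46) (by decide) (by decide +kernel)
  have f47 := coord_fix F hE (r := 47) (by decide) (by decide +kernel)
  have f51 := coord_fix F hE (r := 51) (by decide) (by decide +kernel)
  have f53 := coord_fix F hE (r := 53) (by decide) (by decide +kernel)
  have f63 := coord_fix F hE (r := 63) (by decide) (by decide +kernel)
  have f65 := coord_fix F hE (r := 65) (by decide) (by decide +kernel)
  have f69 := coord_fix F hE (r := 69) (by decide) (by decide +kernel)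
  have f70 := coord_fix F hE (r := 70) (by decide) (by decide +kernel)
  have f48 := coord_pair F hE (r := 48) (by decide) (by decide +kernel)
  have f49 := coord_pair F hE (r := 49) (by decide) (by decide +kernel)
  have f52 := coord_pair F hE (r := 52) (by decide) (by decide +kernel)
  have f54 := coord_pair F hE (r := 54) (by decide) (by decide +kernel)
  have f55 := coord_pair F hE (r := 55) (by decide) (by decide +kernel)
  have f66 := coord_pair F hE (r := 66) (by decide) (by decide +kernel)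
  rw [show rho 48 = 50 by decide +kernel] at f48
  rw [show rho 49 = 61 by decide +kernel] at f49
  rw [show rho 52 = 62 by decide +kernel] at f52
  rw [show rho 54 = 64 by decide +kernel] at f54
  rw [show rho 55 = 67 by decide +kernel] at f55
  rw [show rho 66 = 68 by decide +kernel] at f66
  -- the commutator with `e`
  have h4770 : t 47 = t 70 := by
    have h1 := comm_coords t v (q := 69) (by decide) 1
    have h2 := comm_coords t v (q := 46) (by decide) 1
    rw [show pt 69 = 47 by decide +kernel, mul_one, ← e] at h1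
    rw [show pt 46 = 70 by decide +kernel, mul_one, ← e] at h2
    have h3 : (p : GL chevE6.Idx K) * (x 69 1 * x 46 1) = x 69 1 * x 46 1 * (p : GL chevE6.Idx K) :=
      congrArg Subtype.val hpe
    have e1 : (p : GL chevE6.Idx K) * x 69 1 = x 71 (t 47) * (x 69 1 * (p : GL chevE6.Idx K)) := by
      have h1' : ⁅(p : GL chevE6.Idx K), x 69 1⁆ = x 71 (t 47) := h1
      rw [← h1', commutatorElement_def]
      group
    have e2 : (p : GL chevE6.Idx K) * x 46 1 = x 71 (t 70) * (x 46 1 * (p : GL chevE6.Idx K)) := by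
      have h2' : ⁅(p : GL chevE6.Idx K), x 46 1⁆ = x 71 (t 70) := h2
      rw [← h2', commutatorElement_def]
      group
    have c4 : x 71 (t 70) * x 69 (1 : K) = x 69 1 * x 71 (t 70) := comm_top (r := (69 : Fin 72)) (by decide) _ _
    have e3 : x 71 (t 47 + t 70) * (x 69 1 * x 46 1 * (p : GL chevE6.Idx K)) =
        x 69 1 * x 46 1 * (p : GL chevE6.Idx K) := by
      rw [← h3, ← x_add]
      calc x 71 (t 47) * x 71 (t 70) * ((p : GL chevE6.Idx K) * (x 69 1 * x 46 1))
          = x 71 (t 47) * x 71 (t 70) * (x 69 1 * x 46 1 * (p : GL chevE6.Idx K)) := by rw [h3]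
        _ = x 71 (t 47) * (x 71 (t 70) * x 69 1) * (x 46 1 * (p : GL chevE6.Idx K)) := by simp only [mul_assoc]
        _ = x 71 (t 47) * x 69 1 * (x 71 (t 70) * (x 46 1 * (p : GL chevE6.Idx K))) := by
            rw [c4]; simp only [mul_assoc]
        _ = (x 71 (t 47) * (x 69 1 * (p : GL chevE6.Idx K))) * x 46 1 := by rw [← e2]; simp only [mul_assoc]
        _ = _ := by rw [← e1]; simp only [mul_assoc]
    have e4 : x 71 (t 47 + t 70) = (1 : GL chevE6.Idx K) := mul_eq_right.1 e3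
    have e5 := (x_eq_one_iff (by norm_num) _).1 e4
    rw [eq_neg_of_add_eq_zero_left e5, LeviA.neg_eq_self]
  obtain ⟨v', hv'⟩ := lp_perm t lq_perm (fun _ h => h)
  have hW : FlagK.lp t lq ∈ W F := by
    have g4770 : x 47 (t 47) * x 70 (t 70) ∈ W F := by
      rw [h4770] at f47 ⊢
      rcases zero_or_one F f70 with h0 | h0
      · rw [h0, TwE6Basic.x_zero, TwE6Basic.x_zero, mul_one]; exact one_mem _
      · rwa [h0]
    have hz : ∀ (r s : Fin 72), rho r = s → t s = φ (t r) → (∀ u, z φ r u ∈ W F) →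
        ∀ A, A ∈ W F → x r.val (t r) * (x s.val (t s) * A) ∈ W F := by
      intro r s hrs hts hr A hA
      subst hrs
      rw [hts, ← mul_assoc]
      exact mul_mem (hr (t r)) hA
    show FlagK.lp t [46, 47, 70, 48, 50, 49, 61, 51, 52, 62, 53, 54, 64, 55, 67, 63, 65, 66, 68, 69] ∈ W F
    simp only [lp_cons, lp_nil]
    refine mul_mem (x_norm_mem F (r := 46) x46 f46) ?_
    rw [← mul_assoc]
    refine mul_mem g4770 ?_
    refine hz 48 50 (by decide +kernel) f48 z48 _ ?_
    refine hz 49 61 (by decide +kernel) f49 z49 _ ?_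
    refine mul_mem (x_norm_mem F (r := 51) x51 f51) ?_
    refine hz 52 62 (by decide +kernel) f52 z52 _ ?_
    refine mul_mem (x_norm_mem F (r := 53) x53 f53) ?_
    refine hz 54 64 (by decide +kernel) f54 z54 _ ?_
    refine hz 55 67 (by decide +kernel) f55 z55 _ ?_
    refine mul_mem (x_norm_mem F (r := 63) x63 f63) ?_
    refine mul_mem (x_norm_mem F (r := 65) x65 f65) ?_
    refine hz 66 68 (by decide +kernel) f66 z66 _ ?_
    exact mul_mem (x_norm_mem F (r := 69) x69 f69) (one_mem _)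
  rw [← mem_W F]
  have hWE : ∀ g, g ∈ W F → g ∈ twistedE6 K 2 := by
    rintro _ ⟨y, -, rfl⟩
    exact y.2
  have e1 : (p : GL chevE6.Idx K) = FlagK.lp t lq * x 71 (v' + v) := by
    rw [e, hv', mul_assoc, x_add]
  have h71E : x 71 (v' + v) ∈ twistedE6 K 2 := by
    have e2 : x 71 (v' + v) = (FlagK.lp t lq)⁻¹ * (p : GL chevE6.Idx K) := by rw [e1]; group
    rw [e2]
    exact mul_mem (inv_mem (hWE _ hW)) p.2
  rw [e1]
  exact mul_mem hW (x_norm_mem F (r := 71) x71 (x71_E F h71E))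

/-- the members of the pair -/
theorem pair_facts : xe F 69 (by decide +kernel) ∈ rootClass K ∧ xe F 69 (by decide +kernel) ∈ RE K ∧
    xe F 46 (by decide +kernel) ∈ rootClass K ∧ xe F 46 (by decide +kernel) ∈ RE K ∧
    xe F 69 (by decide +kernel) ≠ xe F 46 (by decide +kernel) ∧
    xe F 69 (by decide +kernel) * xe F 46 (by decide +kernel) =
      xe F 46 (by decide +kernel) * xe F 69 (by decide +kernel) := by
  refine ⟨xe_T F 69 _, xe_RE F (by decide) _, xe_T F 46 _, xe_RE F (by decide) _, fun h => ?_, Subtype.ext ?_⟩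
  · exact x_ne (K := K) (r := 69) (s := 46) (by norm_num) (by norm_num) (by norm_num) (congrArg Subtype.val h)
  · exact (show Co 46 69 by decide +kernel).eq 1 1

theorem eb_RE : eb F ∈ RE K := mul_mem (pair_facts F).2.1 (pair_facts F).2.2.2.1

/-- **(G1)** in the form of `KEqE.GoodR`: `Key.Sym (rootClass K) p q` and the three clauses `bR`, `bw`, `gen`. -/
theorem good_sym : ∃ p q : ↥(twistedE6 K 2),
    (p ∈ rootClass K ∧ q ∈ rootClass K ∧ p ≠ q ∧ p * q = q * p ∧ p * q ∉ rootClass K) ∧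
    p * q ∈ RE K ∧ p * q * r0 F ∉ rootClass K ∧
    ∀ x ∈ RE K, x * (p * q) = p * q * x → x ∈ Subgroup.closure
      ({y | y ∈ rootClass K ∧ y ∈ RE K ∧ y * (p * q) = p * q * y ∧ y * (p * q) ∉ rootClass K} ∪ {p * q, r0 F}) := by
  obtain ⟨h1, h2, h3, h4, h5, h6⟩ := pair_facts F
  refine ⟨_, _, ⟨h1, h3, h5, h6, t6946 F⟩, mul_mem h2 h4, ?_, fun x hx hxe =>
    Subgroup.closure_mono Set.subset_union_left (gen F hx hxe)⟩
  have h7 := S_cent F _ (R_le F (eb_RE F))
  have h8 : xe F 69 (by decide +kernel) * xe F 46 (by decide +kernel) * r0 F =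
      r0 F * (xe F 69 (by decide +kernel) * xe F 46 (by decide +kernel)) := h7
  rw [h8]
  exact bt6946 F

end Four

/-- **(G1)**: a flag `R, S, b, a, c` and a symplectic pair `p, p'` of roots of `R = O_2(C(b))` such that `C_R(p p')` is
generated by the roots `y ∈ R` commuting with `p p'` for which `y (p p')` is not a root. -/
theorem gen_sym (K : Type u) [Field K] [Fintype K] (hK : Fintype.card K = 4) :
    ∃ (R S : Subgroup ↥(twistedE6 K 2)) (b a c p p' : ↥(twistedE6 K 2)),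
      Cfsg.Agent.BabyU.FusGood.Flag (rootClass K) R S b a c ∧
      p ∈ rootClass K ∧ p ∈ R ∧ p' ∈ rootClass K ∧ p' ∈ R ∧ p ≠ p' ∧ p * p' = p' * p ∧ p * p' ∉ rootClass K ∧
      b * (p * p') ∉ rootClass K ∧
      ∀ x ∈ R, x * (p * p') = p * p' * x → x ∈ Subgroup.closure
        {y | y ∈ rootClass K ∧ y ∈ R ∧ y * (p * p') = p * p' * y ∧ y * (p * p') ∉ rootClass K} := by
  obtain ⟨-, φ, F⟩ := exists_four K hK
  obtain ⟨h1, h2, h3, h4, h5, h6⟩ := pair_facts F
  exact ⟨RE K, SE K, r0 F, _, _, xe F 69 (by decide +kernel), xe F 46 (by decide +kernel), FlagInst.flag F, h1, h2,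
    h3, h4, h5, h6, t6946 F, bt6946 F, fun x hx hxe => gen F hx hxe⟩

end Cfsg.Agent.TwoESix.GenSym
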