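import Cfsg.Agent.TwoESix.ClassIso
import Cfsg.Agent.BabyU.Key

/-!
# An independent quadruple of root involutions of `²E₆(2)` whose product is the product of a triangle

In the 78-dimensional model: `T 9 * T 1 * T 3 * T 5 = x 0 * x 1 * x 2`.
-/

set_option autoImplicit false

namespace Cfsg.Agent.TwoESix.KeyQuad

open Cfsg.Lie Cfsg.Agent.BabyU
open Cfsg.Agent.TwoESix.Data Cfsg.Agent.TwoESix.Words Cfsg.Agent.TwoESix.Iso Cfsg.Agent.TwoESix.Gens
open Cfsg.Agent.TwoESix.Rels Cfsg.Agent.TwoESix.Main Cfsg.Agent.TwoESix.RootsCfg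
open Cfsg.Agent.Lib Cfsg.Agent.Lib.F2MatGroup
open Cfsg.Agent.BabyU.RootCfg (Opp)
open Cfsg.Agent.BabyU.Key (Quad Tri)

/-! ### Words in the `T i` -/

/-- letters below ten -/
def tl (w : List ℕ) : Bool := w.all fun j => Nat.blt j 10

theorem tl_spec {w : List ℕ} (h : tl w = true) : ∀ j ∈ w, j < 10 := by
  intro j hj
  have h1 := List.all_eq_true.1 h j hj
  rwa [Nat.blt_eq] at h1

theorem evG_rev {w : List ℕ} (h : ∀ j ∈ w, j < 10) : evG LG w.reverse = (evG LG w)⁻¹ := by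
  induction w with
  | nil => rw [List.reverse_nil, evG_nil, inv_one]
  | cons i w ih =>
    have hi : i < 10 := h i List.mem_cons_self
    have e : getG LG i = T ⟨i, hi⟩ := getG_T ⟨i, hi⟩
    rw [List.reverse_cons, evG_append, ih fun j hj => h j (List.mem_cons_of_mem _ hj), evG_cons, evG_nil, mul_one,
      evG_cons, mul_inv_rev, e, T_inv]

/-- the conjugate of `T 9` by a word -/
def ct (w : List ℕ) : List ℕ := w ++ 9 :: w.reverse

theorem evG_ct {w : List ℕ} (h : tl w = true) : evG LG (ct w) = evG LG w * T 9 * (evG LG w)⁻¹ := by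
  unfold ct
  rw [evG_append, evG_cons, evG_rev (tl_spec h), mul_assoc]
  rfl

theorem ct_mem {w : List ℕ} (h : tl w = true) : evG LG (ct w) ∈ TG := by
  rw [evG_ct h]
  exact TG_conj (TG_T 9) (H_eq ▸ evG_T_mem w h)

/-- shift of the letters -/
def sh (k : ℕ) (w : List ℕ) : List ℕ := w.map (· + k)

theorem evG_sh {G : Type*} [Group G] (L : List G) (x : G) (w : List ℕ) : evG (x :: L) (sh 1 w) = evG L w := by
  induction w with
  | nil => rfl
  | cons i w ih =>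
    show getG (x :: L) (i + 1) * evG (x :: L) (sh 1 w) = _
    rw [ih, evG_cons]
    rfl

theorem getG_four {G : Type*} [Group G] (L : List G) (a b c d : G) (i : ℕ) :
    getG (a :: b :: c :: d :: L) (i + 4) = getG L i := rfl

theorem sh_sh (k : ℕ) (w : List ℕ) : sh (k + 1) w = sh 1 (sh k w) := by
  simp [sh, Function.comp_def, add_assoc]

theorem sh_zero (w : List ℕ) : sh 0 w = w := by simp [sh]

/-! ### The data -/

/-- word -/
def w0 : List ℕ := [7, 8, 3, 7, 4, 5, 2, 3, 4, 1, 2, 3, 7, 8]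
/-- word -/
def w1 : List ℕ := [7, 8, 9, 3, 4, 5, 2, 3, 4, 1, 2, 3, 7, 8]
/-- word -/
def w2 : List ℕ := [2, 3, 7, 8, 1, 2, 3, 7, 4, 5, 2, 3, 4, 1, 2, 3, 7, 8]
/-- word -/
def wA : List ℕ := [7, 3, 4, 2, 3, 7, 8]

/-- the four roots, in the order `A, S2, S1, R0` at the end -/
def ws : List (List ℕ) := [ct w0, sh 1 (ct w1), sh 2 (ct w2), sh 3 (ct wA)]

/-- the identities: `0 = A`, `1 = S2`, `2 = S1`, `3 = R0`, `4 + i = T i` -/
def es : List (List ℕ × List ℕ) := [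
  ([13, 5, 7, 9], [3, 2, 1]),
  ([3, 2], [2, 3]),
  ([3, 1], [1, 3]),
  ([2, 1], [1, 2]),
  ([0, 2], [2, 0]),
  ([0, 1], [1, 0]),
  ([0, 3, 0], [3, 0, 3])]

/-- the inequalities -/
def ns : List (List ℕ × List ℕ) := [([2], [1]), ([0], [3]), ([5], [7]), ([12], [13]), ([10, 9], [9, 10])]

theorem chk : check 78 (Ts ++ Ms) ws es ns = true := by decide +kernel

theorem lets_ok : tl w0 = true ∧ tl w1 = true ∧ tl w2 = true ∧ tl wA = true := by decide +kernel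

theorem data : ∃ x0 ∈ TG, ∃ x1 ∈ TG, ∃ x2 ∈ TG, ∃ a ∈ TG,
    T 9 * T 1 * T 3 * T 5 = x0 * x1 * x2 ∧ x0 * x1 = x1 * x0 ∧ x0 * x2 = x2 * x0 ∧ x1 * x2 = x2 * x1 ∧
    a * x1 = x1 * a ∧ a * x2 = x2 * a ∧ a * x0 * a = x0 * a * x0 ∧ x1 ≠ x2 ∧ a ≠ x0 ∧ T 1 ≠ T 3 ∧ T 8 ≠ T 9 ∧
    T 6 * T 5 ≠ T 5 * T 6 := by
  obtain ⟨h0, h1, h2, hA⟩ := lets_ok
  obtain ⟨he, hn⟩ := check_sound (by norm_num) codes_LG chk
  set x0 := evG LG (ct w0) with e0
  have e1 : evG (x0 :: LG) (sh 1 (ct w1)) = evG LG (ct w1) := evG_sh _ _ _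
  set x1 := evG LG (ct w1) with e1'
  have e2 : evG (x1 :: x0 :: LG) (sh 2 (ct w2)) = evG LG (ct w2) := by
    rw [sh_sh, evG_sh, evG_sh]
  set x2 := evG LG (ct w2) with e2'
  have e3 : evG (x2 :: x1 :: x0 :: LG) (sh 3 (ct wA)) = evG LG (ct wA) := by
    rw [sh_sh, evG_sh, sh_sh, evG_sh, evG_sh]
  set a := evG LG (ct wA) with e3'
  have hL : runG ws LG = a :: x2 :: x1 :: x0 :: LG := by
    unfold ws
    rw [runG_cons, runG_cons, runG_cons, runG_cons, runG_nil, ← e0, e1, e2, e3]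
  rw [hL] at he hn
  have g0 : getG (a :: x2 :: x1 :: x0 :: LG) 0 = a := rfl
  have g1 : getG (a :: x2 :: x1 :: x0 :: LG) 1 = x2 := rfl
  have g2 : getG (a :: x2 :: x1 :: x0 :: LG) 2 = x1 := rfl
  have g3 : getG (a :: x2 :: x1 :: x0 :: LG) 3 = x0 := rfl
  have g5 : getG (a :: x2 :: x1 :: x0 :: LG) 5 = T 1 := (getG_four LG a x2 x1 x0 1).trans (getG_T 1)
  have g7 : getG (a :: x2 :: x1 :: x0 :: LG) 7 = T 3 := (getG_four LG a x2 x1 x0 3).trans (getG_T 3)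
  have g9 : getG (a :: x2 :: x1 :: x0 :: LG) 9 = T 5 := (getG_four LG a x2 x1 x0 5).trans (getG_T 5)
  have g10 : getG (a :: x2 :: x1 :: x0 :: LG) 10 = T 6 := (getG_four LG a x2 x1 x0 6).trans (getG_T 6)
  have g12 : getG (a :: x2 :: x1 :: x0 :: LG) 12 = T 8 := (getG_four LG a x2 x1 x0 8).trans (getG_T 8)
  have g13 : getG (a :: x2 :: x1 :: x0 :: LG) 13 = T 9 := (getG_four LG a x2 x1 x0 9).trans (getG_T 9)
  have k0 := he ([13, 5, 7, 9], [3, 2, 1]) (by simp [es])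
  have k1 := he ([3, 2], [2, 3]) (by simp [es])
  have k2 := he ([3, 1], [1, 3]) (by simp [es])
  have k3 := he ([2, 1], [1, 2]) (by simp [es])
  have k4 := he ([0, 2], [2, 0]) (by simp [es])
  have k5 := he ([0, 1], [1, 0]) (by simp [es])
  have k6 := he ([0, 3, 0], [3, 0, 3]) (by simp [es])
  have n0 := hn ([2], [1]) (by simp [ns])
  have n1 := hn ([0], [3]) (by simp [ns])
  have n2 := hn ([5], [7]) (by simp [ns])
  have n3 := hn ([12], [13]) (by simp [ns])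
  have n4 := hn ([10, 9], [9, 10]) (by simp [ns])
  simp only [evG_cons, evG_nil, mul_one, g0, g1, g2, g3, g5, g7, g9, g10, g12, g13, ← mul_assoc] at k0 k1 k2 k3 k4 k5 k6 n0 n1 n2 n3 n4
  exact ⟨x0, ct_mem h0, x1, ct_mem h1, x2, ct_mem h2, a, ct_mem hA, k0, k1, k2, k3, k4, k5, k6, n0, n1, n2, n3, n4⟩

/-! ### Transport -/

theorem opp_of_braid {G : Type*} [Group G] {a b : G} (ha : a * a = 1) (hb : b * b = 1) (hne : a ≠ b)
    (h : a * b * a = b * a * b) : Opp a b := by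
  refine ⟨hne, ?_⟩
  have h2 : (a * b) ^ 3 = (a * b * a) * (b * a * b) := by
    rw [pow_succ, pow_two]; simp only [mul_assoc]
  rw [h2, ← h]
  have h3 : a * b * a * (a * b * a) = a * (b * ((a * a) * b)) * a := by
    simp only [mul_assoc]
  rw [h3, ha, one_mul, hb, mul_one, ha]

/-- **The field `quad`.** -/
theorem quad (K : Type*) [Field K] [Fintype K] (hK : Fintype.card K = 4) :
    ∃ p q r s p' q' r' : twistedE6 K 2, Quad (rootClass K) p q r s ∧ Tri (rootClass K) p' q' r' ∧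
      p * q * r * s = p' * q' * r' := by
  obtain ⟨θ, hθ⟩ := ClassIso.exists_equiv K hK
  obtain ⟨x0, h0, x1, h1, x2, h2, a, ha, k0, k1, k2, k3, k4, k5, k6, n0, n1, n2, n3, n4⟩ := data
  -- the elements of `twistedE6 K 2`
  have lift : ∀ x ∈ TG, ∃ y ∈ rootClass K, ((θ y : Gam) : GL (Fin 78) (ZMod 2)) = x := by
    intro x hx
    refine ⟨θ.symm ⟨x, TG_mem hx⟩, ?_, ?_⟩
    · rw [hθ, θ.apply_symm_apply]
      exact hx
    · rw [θ.apply_symm_apply]
  have inj : ∀ x y : twistedE6 K 2, ((θ x : Gam) : GL (Fin 78) (ZMod 2)) = θ y → x = y := fun x y h =>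
    θ.injective (Subtype.ext h)
  have hm : ∀ x y : twistedE6 K 2, ((θ (x * y) : Gam) : GL (Fin 78) (ZMod 2)) = θ x * θ y := fun x y => by
    rw [map_mul]; rfl
  obtain ⟨p', hp', rfl⟩ := lift _ h0
  obtain ⟨q', hq', rfl⟩ := lift _ h1
  obtain ⟨r', hr', rfl⟩ := lift _ h2
  obtain ⟨a', ha', rfl⟩ := lift _ ha
  obtain ⟨p, hp, ep⟩ := lift _ (TG_T 9)
  obtain ⟨q, hq, eq⟩ := lift _ (TG_T 1)
  obtain ⟨r, hr, er⟩ := lift _ (TG_T 3)
  obtain ⟨s, hs, es⟩ := lift _ (TG_T 5)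
  obtain ⟨b, hb, eb⟩ := lift _ (TG_T 8)
  obtain ⟨c, hc, ec⟩ := lift _ (TG_T 6)
  have sq : ∀ x ∈ rootClass K, x * x = 1 := by
    intro x hx
    apply inj
    rw [hm, TG_sq ((hθ x).1 hx), map_one]
    rfl
  have cm : ∀ (x y : twistedE6 K 2) (i j : Fin 10), ((θ x : Gam) : GL (Fin 78) (ZMod 2)) = T i →
      ((θ y : Gam) : GL (Fin 78) (ZMod 2)) = T j → adj i j = false → x * y = y * x := by
    intro x y i j hx hy h
    apply inj
    rw [hm, hm, hx, hy]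
    exact T_comm i j h
  refine ⟨p, q, r, s, p', q', r', ⟨hp, hq, hr, hs, cm _ _ 9 1 ep eq (by decide), cm _ _ 9 3 ep er (by decide),
    cm _ _ 9 5 ep es (by decide), cm _ _ 1 3 eq er (by decide), cm _ _ 1 5 eq es (by decide),
    cm _ _ 3 5 er es (by decide), ?_, b, hb, ?_, cm _ _ 8 1 eb eq (by decide), cm _ _ 8 3 eb er (by decide),
    cm _ _ 8 5 eb es (by decide), c, hc, cm _ _ 6 8 ec eb (by decide), cm _ _ 6 9 ec ep (by decide),
    cm _ _ 6 1 ec eq (by decide), cm _ _ 6 3 ec er (by decide), ?_⟩,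
    ⟨hp', hq', hr', inj _ _ (by rw [hm, hm, k1]), inj _ _ (by rw [hm, hm, k2]), inj _ _ (by rw [hm, hm, k3]),
      fun h => n0 (by rw [h]), a', ha', ?_, inj _ _ (by rw [hm, hm, k4]), inj _ _ (by rw [hm, hm, k5])⟩, ?_⟩
  · rintro rfl
    exact n2 (eq.symm.trans er)
  · refine opp_of_braid (sq b hb) (sq p hp) ?_ ?_
    · rintro rfl
      exact n3 (eb.symm.trans ep)
    · apply inj
      rw [hm, hm, hm, hm, eb, ep]
      exact T_braid 8 9 (by decide)
  · intro h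
    apply n4
    rw [← ec, ← es, ← hm, ← hm, h]
  · refine opp_of_braid (sq a' ha') (sq p' hp') (fun h => n1 (by rw [h])) ?_
    apply inj
    rw [hm, hm, hm, hm, k6]
  · apply inj
    rw [hm, hm, hm, hm, hm, ep, eq, er, es, k0]

end Cfsg.Agent.TwoESix.KeyQuad
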