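import Cfsg.Agent.TwoESix.LeviD

/-!
# ²E₆(2): the `2`-part of the order of the Levi subgroup `L = C_E(r0, s0)` is `2¹⁵`
-/

set_option autoImplicit false

namespace Cfsg.Agent.TwoESix.LeviCard

open Cfsg.Lie
open Cfsg.Agent.ChevalleyStructure
open Cfsg.Agent.ChevalleyStructure.Elts hiding x_add x_zero x_eq_one_iff
open Cfsg.Agent.ChevalleyStructure.TwE6Basic
open Cfsg.Agent.ChevalleyStructure.TwE6BN
open Cfsg.Agent.ChevalleyStructure.TwistedU
open Cfsg.Agent.ChevalleyStructure.TwistedFix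
open Cfsg.Agent.ChevalleyStructure.TwistedFixOrbit
open Cfsg.Agent.TwoESix.LeviA
open Cfsg.Agent.TwoESix.LeviB
open Cfsg.Agent.TwoESix.LeviC
open Cfsg.Agent.TwoESix.LeviD

universe u

variable {K : Type u} [Field K]

/-- The `ρ`-orbits of positive roots of `L`. -/
def LJ : List (List ℕ) := [[39], [56, 36], [42, 37], [38, 57], [40, 43], [41, 58], [44], [45, 59], [60]]

theorem LJ_sub : ∀ o ∈ LJ, o ∈ TwistedE6U.L := by decide

theorem LJ_flat : ∀ r ∈ LJ.flatten, r ∈ TwistedE6U.L.flatten := by decide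

theorem LJ_filter : (TwistedE6U.L.flatten.filter fun r => decide (r ∈ LJ.flatten)) = LJ.flatten := by decide

theorem LJ_levi : ∀ r : Fin 72, 36 ≤ r.val → (chevE6.InRootSub {j | j ∈ Jn} r.val ↔ r.val ∈ LJ.flatten) := by
  decide +kernel

theorem LJ_pos : ∀ r ∈ LJ.flatten, r < 72 ∧ 36 ≤ r := by decide

theorem LJ_rho : ∀ r ∈ LJ.flatten, TwistedE6Sigma.rho r ∈ LJ.flatten := by decide

/-- The setup for the positive roots of `L`. -/
theorem setupJ [Fintype K] (φ : K →+* K) :
    Setup (TwistedE6U.X (K := K)) LJ (TwistedE6Sigma.sig GraphSymm.symmE6 φ) TwistedE6Sigma.rho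
      TwistedE6Sigma.rho (fun r t => ((TwistedE6Sigma.eps r : ℤ) : K) * φ t) where
  hadd := TwistedE6U.X_add
  nodup := by decide
  good := TwistedE6U.good_of_check (fun r hr => (LJ_pos r hr).1) (by decide +kernel)
  inj := fun t t' h r hr => by
    have h1 := TwistedE6U.lprod_inj (K := K) (fun r => if r ∈ LJ.flatten then t r else 0)
      (fun r => if r ∈ LJ.flatten then t' r else 0) (by
        rw [lprod_filter TwistedE6U.X_add (fun r => r ∈ LJ.flatten),
          lprod_filter TwistedE6U.X_add (fun r => r ∈ LJ.flatten), LJ_filter]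
        exact h) r (LJ_flat r hr)
    rwa [if_pos hr, if_pos hr] at h1
  hσ r hr t := (TwistedE6U.setup φ).hσ r (LJ_flat r hr) t
  perm := by decide
  comm o ho := (TwistedE6U.setup φ).comm o (LJ_sub o ho)
  left_inv r hr := (TwistedE6U.setup φ).left_inv r (LJ_flat r hr)

section Four

variable [Fintype K] {φ : K →+* K} (F : Four K φ)
include F

/-- `U ∩ L` -/
theorem U_LL_eq : chevE6.posUnipotent K ⊓ LL K =
    rspan (TwistedE6U.X (K := K)) {k | k ∈ LJ.flatten} ⊓ fixS (TwistedE6Sigma.sig GraphSymm.symmE6 φ) := by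
  apply le_antisymm
  · intro g hg
    obtain ⟨h1, h2⟩ := Subgroup.mem_inf.1 hg
    obtain ⟨h3, h4⟩ := Subgroup.mem_inf.1 h2
    refine Subgroup.mem_inf.2 ⟨U_LR_le (fun r hr hr' t => ?_) h1 h3, F.le_fix h4⟩
    exact mem_rspan _ (S := {k | k ∈ LJ.flatten}) ((LJ_levi r hr).1 hr') t
  · intro g hg
    obtain ⟨h1, h2⟩ := Subgroup.mem_inf.1 hg
    have h3 : g ∈ chevE6.posUnipotent K :=
      (rspan_le _ fun r hr t => mem_U (r := ⟨r, (LJ_pos r hr).1⟩) (LJ_pos r hr).2 t :
        rspan (TwistedE6U.X (K := K)) {k | k ∈ LJ.flatten} ≤ chevE6.posUnipotent K) h1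
    have h4 : g ∈ LR K Jn :=
      (rspan_le _ fun r hr t => x_mem_LR ((LJ_levi ⟨r, (LJ_pos r hr).1⟩ (LJ_pos r hr).2).2 hr) t :
        rspan (TwistedE6U.X (K := K)) {k | k ∈ LJ.flatten} ≤ LR K Jn) h1
    exact Subgroup.mem_inf.2 ⟨h3, Subgroup.mem_inf.2 ⟨h4, F.mem_E h3 h2⟩⟩

/-- The fixed field has two elements. -/
theorem card_fixed : Nat.card {t : K // φ t = t} = 2 := by
  classical
  have e : {t : K // φ t = t} ≃ Fin 2 :=
    { toFun := fun t => if t.1 = 0 then 0 else 1
      invFun := fun i => if i = 0 then ⟨0, map_zero φ⟩ else ⟨1, map_one φ⟩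
      left_inv := by
        rintro ⟨t, ht⟩
        rcases zero_or_one F ht with rfl | rfl
        · simp
        · simp
      right_inv := by
        intro i
        fin_cases i <;> simp }
  rw [Nat.card_congr e, Nat.card_eq_fintype_card, Fintype.card_fin]

/-- The compatible families of coordinates. -/
theorem card_families :
    Nat.card {t : ℕ → K // (∀ r, r ∉ LJ.flatten → t r = 0) ∧
        ∀ r ∈ LJ.flatten, t (TwistedE6Sigma.rho r) = ((TwistedE6Sigma.eps r : ℤ) : K) * φ (t r)} = 2 ^ 15 := by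
  classical
  have := F.charP
  have heps : ∀ r : ℕ, r < 72 → ((TwistedE6Sigma.eps r : ℤ) : K) = 1 := by
    intro r hr
    rcases eps_or ⟨r, hr⟩ with h | h
    · have h' : TwistedE6Sigma.eps r = 1 := h
      rw [h', Int.cast_one]
    · have h' : TwistedE6Sigma.eps r = -1 := h
      rw [h', Int.cast_neg, Int.cast_one, LeviA.neg_eq_self]
  let α := ({t : K // φ t = t} × {t : K // φ t = t} × {t : K // φ t = t}) × (K × K × K × K × K × K)
  let g : α → ℕ → K := fun a r =>
    if r = 39 then a.1.1.1 else if r = 44 then a.1.2.1.1 else if r = 60 then a.1.2.2.1 else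
    if r = 56 then a.2.1 else if r = 36 then φ a.2.1 else
    if r = 42 then a.2.2.1 else if r = 37 then φ a.2.2.1 else
    if r = 38 then a.2.2.2.1 else if r = 57 then φ a.2.2.2.1 else
    if r = 40 then a.2.2.2.2.1 else if r = 43 then φ a.2.2.2.2.1 else
    if r = 41 then a.2.2.2.2.2.1 else if r = 58 then φ a.2.2.2.2.2.1 else
    if r = 45 then a.2.2.2.2.2.2 else if r = 59 then φ a.2.2.2.2.2.2 else 0
  have hflat : LJ.flatten = [39, 56, 36, 42, 37, 38, 57, 40, 43, 41, 58, 44, 45, 59, 60] := by decide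
  have hg1 : ∀ a r, r ∉ LJ.flatten → g a r = 0 := by
    intro a r hr
    rw [hflat] at hr
    simp only [List.mem_cons, List.not_mem_nil, or_false, not_or] at hr
    obtain ⟨h1, h2, h3, h4, h5, h6, h7, h8, h9, h10, h11, h12, h13, h14, h15⟩ := hr
    show (if r = 39 then _ else _) = _
    rw [if_neg h1, if_neg h12, if_neg h15, if_neg h2, if_neg h3, if_neg h4, if_neg h5, if_neg h6, if_neg h7,
      if_neg h8, if_neg h9, if_neg h10, if_neg h11, if_neg h13, if_neg h14]
  have hg2 : ∀ a, ∀ r ∈ LJ.flatten, g a (TwistedE6Sigma.rho r) = ((TwistedE6Sigma.eps r : ℤ) : K) * φ (g a r) := by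
    intro a r hr
    rw [heps r (LJ_pos r hr).1, one_mul]
    have c39 := a.1.1.2
    have c44 := a.1.2.1.2
    have c60 := a.1.2.2.2
    rw [hflat] at hr
    simp only [List.mem_cons, List.not_mem_nil, or_false] at hr
    rcases hr with rfl | rfl | rfl | rfl | rfl | rfl | rfl | rfl | rfl | rfl | rfl | rfl | rfl | rfl | rfl
    · rw [show TwistedE6Sigma.rho 39 = 39 by decide +kernel]; exact c39.symm
    · rw [show TwistedE6Sigma.rho 56 = 36 by decide +kernel]; rfl
    · rw [show TwistedE6Sigma.rho 36 = 56 by decide +kernel]; exact (F.inv _).symm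
    · rw [show TwistedE6Sigma.rho 42 = 37 by decide +kernel]; rfl
    · rw [show TwistedE6Sigma.rho 37 = 42 by decide +kernel]; exact (F.inv _).symm
    · rw [show TwistedE6Sigma.rho 38 = 57 by decide +kernel]; rfl
    · rw [show TwistedE6Sigma.rho 57 = 38 by decide +kernel]; exact (F.inv _).symm
    · rw [show TwistedE6Sigma.rho 40 = 43 by decide +kernel]; rfl
    · rw [show TwistedE6Sigma.rho 43 = 40 by decide +kernel]; exact (F.inv _).symm
    · rw [show TwistedE6Sigma.rho 41 = 58 by decide +kernel]; rfl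
    · rw [show TwistedE6Sigma.rho 58 = 41 by decide +kernel]; exact (F.inv _).symm
    · rw [show TwistedE6Sigma.rho 44 = 44 by decide +kernel]; exact c44.symm
    · rw [show TwistedE6Sigma.rho 45 = 59 by decide +kernel]; rfl
    · rw [show TwistedE6Sigma.rho 59 = 45 by decide +kernel]; exact (F.inv _).symm
    · rw [show TwistedE6Sigma.rho 60 = 60 by decide +kernel]; exact c60.symm
  have key : Function.Bijective (fun a : α => (⟨g a, hg1 a, hg2 a⟩ :
      {t : ℕ → K // (∀ r, r ∉ LJ.flatten → t r = 0) ∧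
        ∀ r ∈ LJ.flatten, t (TwistedE6Sigma.rho r) = ((TwistedE6Sigma.eps r : ℤ) : K) * φ (t r)})) := by
    constructor
    · intro a b hab
      have h : g a = g b := congrArg Subtype.val hab
      obtain ⟨⟨a1, a2, a3⟩, a4, a5, a6, a7, a8, a9⟩ := a
      obtain ⟨⟨b1, b2, b3⟩, b4, b5, b6, b7, b8, b9⟩ := b
      have e1 : a1 = b1 := Subtype.ext (congrFun h 39)
      have e2 : a2 = b2 := Subtype.ext (congrFun h 44)
      have e3 : a3 = b3 := Subtype.ext (congrFun h 60)
      have e4 : a4 = b4 := congrFun h 56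
      have e5 : a5 = b5 := congrFun h 42
      have e6 : a6 = b6 := congrFun h 38
      have e7 : a7 = b7 := congrFun h 40
      have e8 : a8 = b8 := congrFun h 41
      have e9 : a9 = b9 := congrFun h 45
      rw [e1, e2, e3, e4, e5, e6, e7, e8, e9]
    · rintro ⟨t, ht0, ht⟩
      have hc : ∀ r ∈ LJ.flatten, t (TwistedE6Sigma.rho r) = φ (t r) := by
        intro r hr
        rw [ht r hr, heps r (LJ_pos r hr).1, one_mul]
      have c39 : φ (t 39) = t 39 := by
        rw [← hc 39 (by decide), show TwistedE6Sigma.rho 39 = 39 by decide +kernel]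
      have c44 : φ (t 44) = t 44 := by
        rw [← hc 44 (by decide), show TwistedE6Sigma.rho 44 = 44 by decide +kernel]
      have c60 : φ (t 60) = t 60 := by
        rw [← hc 60 (by decide), show TwistedE6Sigma.rho 60 = 60 by decide +kernel]
      refine ⟨((⟨t 39, c39⟩, ⟨t 44, c44⟩, ⟨t 60, c60⟩), (t 56, t 42, t 38, t 40, t 41, t 45)), ?_⟩
      apply Subtype.ext
      funext r
      show g _ r = t r
      by_cases hr : r ∈ LJ.flatten
      · have hr' := hr
        rw [hflat] at hr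
        simp only [List.mem_cons, List.not_mem_nil, or_false] at hr
        rcases hr with rfl | rfl | rfl | rfl | rfl | rfl | rfl | rfl | rfl | rfl | rfl | rfl | rfl | rfl | rfl
        · rfl
        · rfl
        · have := hc 56 (by decide); rw [show TwistedE6Sigma.rho 56 = 36 by decide +kernel] at this; exact this.symm
        · rfl
        · have := hc 42 (by decide); rw [show TwistedE6Sigma.rho 42 = 37 by decide +kernel] at this; exact this.symm
        · rfl
        · have := hc 38 (by decide); rw [show TwistedE6Sigma.rho 38 = 57 by decide +kernel] at this; exact this.symm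
        · rfl
        · have := hc 40 (by decide); rw [show TwistedE6Sigma.rho 40 = 43 by decide +kernel] at this; exact this.symm
        · rfl
        · have := hc 41 (by decide); rw [show TwistedE6Sigma.rho 41 = 58 by decide +kernel] at this; exact this.symm
        · rfl
        · rfl
        · have := hc 45 (by decide); rw [show TwistedE6Sigma.rho 45 = 59 by decide +kernel] at this; exact this.symm
        · rfl
      · rw [hg1 _ r hr, ht0 r hr]
  rw [← Nat.card_congr (Equiv.ofBijective _ key)]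
  show Nat.card (({t : K // φ t = t} × {t : K // φ t = t} × {t : K // φ t = t}) × (K × K × K × K × K × K)) = _
  simp only [Nat.card_prod, card_fixed F, Nat.card_eq_fintype_card (α := K), F.card]
  norm_num

theorem card_U : Nat.card ↥(chevE6.posUnipotent K ⊓ LL K) = 2 ^ 15 := by
  rw [U_LL_eq F, (setupJ φ).card_fix, card_families F]

/-- `H ∩ E` has exponent three. -/
theorem H_cube {h : GL chevE6.Idx K} (hh : h ∈ chevE6.diagonalSubgroup K) (hE : h ∈ twistedE6 K 2) : h ^ 3 = 1 := by
  have h1 := E6H1.H1_eq (K := K) (q := 2) (φ := φ) (by rw [F.card]; norm_num) F.sq simpleDiag diag_eq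
  have h2 : h ∈ (E6H1.fA φ).range := h1 ▸ Subgroup.mem_inf.2 ⟨hh, hE⟩
  obtain ⟨c, rfl⟩ := h2
  rw [← map_pow]
  have h3 : c ^ 3 = 1 := by
    apply Subtype.ext
    funext i
    exact cube_units F (c.1 i)
  rw [h3, map_one]

/-- `U ∩ L` as a subgroup of `L` -/
theorem card_U' : Nat.card ↥((chevE6.posUnipotent K).subgroupOf (LL K)) = 2 ^ 15 := by
  rw [← card_U F, ← Subgroup.inf_subgroupOf_right]
  exact Nat.card_congr (Subgroup.subgroupOfEquivOfLe inf_le_right).toEquiv

/-- **The `2`-part of `|L|` is `2¹⁵`.** -/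
theorem factorization_LL : (Nat.card ↥(LL K)).factorization 2 = 15 := by
  classical
  have hfin : Finite ↥(LL K) := inferInstance
  have hp : Fact (Nat.Prime 2) := ⟨Nat.prime_two⟩
  set S : Subgroup ↥(LL K) := (chevE6.posUnipotent K).subgroupOf (LL K) with hS
  have hcard : Nat.card S = 2 ^ 15 := card_U' F
  obtain ⟨P, hB, hPS, -⟩ := exists_bnL F
  -- the normaliser of `S`
  have hBN : P.B ≤ Subgroup.normalizer (S : Set ↥(LL K)) := by
    rw [hB]
    intro b hb
    obtain ⟨u, hu, huL, h, hh, hhL, e⟩ := ((TL F).mem_B_iff _ b.2).1 (Subgroup.mem_subgroupOf.1 hb)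
    have huN : (⟨u, huL⟩ : ↥(LL K)) ∈ Subgroup.normalizer (S : Set ↥(LL K)) :=
      Subgroup.le_normalizer (Subgroup.mem_subgroupOf.2 hu)
    have hhN : (⟨h, hhL⟩ : ↥(LL K)) ∈ Subgroup.normalizer (S : Set ↥(LL K)) := by
      rw [Subgroup.mem_normalizer_iff]
      intro y
      constructor
      · intro hy
        exact Subgroup.mem_subgroupOf.2 ((TL F).conj_H_U h hh _ (Subgroup.mem_subgroupOf.1 hy))
      · intro hy
        have h1 := (TL F).conj_H_U h⁻¹ (inv_mem hh) _ (Subgroup.mem_subgroupOf.1 hy)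
        apply Subgroup.mem_subgroupOf.2
        have e2 : (y : GL chevE6.Idx K) =
            h⁻¹ * (((⟨h, hhL⟩ : ↥(LL K)) * y * (⟨h, hhL⟩ : ↥(LL K))⁻¹ : ↥(LL K)) : GL chevE6.Idx K) * h⁻¹⁻¹ := by
          show (y : GL chevE6.Idx K) = h⁻¹ * (h * y * h⁻¹) * h⁻¹⁻¹
          group
        rw [e2]
        exact h1
    have e2 : b = (⟨u, huL⟩ : ↥(LL K)) * ⟨h, hhL⟩ := Subtype.ext e
    rw [e2]
    exact mul_mem huN hhN
  have hN := Cfsg.Agent.LieExceptional.BNPairCore.eq_parabolic hBN
  have hNB : Subgroup.normalizer (S : Set ↥(LL K)) ≤ P.B := by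
    rw [hN]
    refine sup_le le_rfl ((Subgroup.closure_le _).2 ?_)
    rintro m ⟨hm, hm'⟩
    exfalso
    rw [hPS] at hm
    obtain ⟨i, rfl⟩ := hm
    obtain ⟨y, hy, hyL, hyn⟩ := (TL F).not_le i
    apply hyn
    have h1 := (Subgroup.mem_normalizer_iff.1 hm' ⟨y, hyL⟩).1 (Subgroup.mem_subgroupOf.2 hy)
    exact U_le_B (Subgroup.mem_subgroupOf.1 h1)
  -- a Sylow `2`-subgroup containing `S`
  have hpS : IsPGroup 2 S := IsPGroup.of_card hcard
  obtain ⟨Q, hQ⟩ := hpS.exists_le_sylow
  have hSQ : (Q : Subgroup ↥(LL K)) = S := by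
    by_contra hne
    have hlt : S < (Q : Subgroup ↥(LL K)) := lt_of_le_of_ne hQ (Ne.symm hne)
    -- normaliser condition
    have hnil : Group.IsNilpotent (Q : Subgroup ↥(LL K)) := Q.isPGroup'.isNilpotent
    have hnc := Group.normalizerCondition_of_isNilpotent (G := (Q : Subgroup ↥(LL K)))
    have hlt' : S.subgroupOf (Q : Subgroup ↥(LL K)) < ⊤ := by
      rw [lt_top_iff_ne_top]
      intro h
      exact hne (le_antisymm (Subgroup.subgroupOf_eq_top.1 h) hQ)
    have h1 := hnc _ hlt'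
    obtain ⟨g, hg, hgS⟩ := SetLike.exists_of_lt h1
    have hgN : (g : ↥(LL K)) ∈ Subgroup.normalizer (S : Set ↥(LL K)) := by
      rw [Subgroup.mem_normalizer_iff] at hg ⊢
      intro y
      constructor
      · intro hy
        exact (hg ⟨y, hQ hy⟩).1 hy
      · intro hy
        have hyQ : y ∈ (Q : Subgroup ↥(LL K)) := by
          have h2 : (g : ↥(LL K))⁻¹ * ((g : ↥(LL K)) * y * (g : ↥(LL K))⁻¹) * (g : ↥(LL K)) ∈
              (Q : Subgroup ↥(LL K)) := mul_mem (mul_mem (inv_mem g.2) (hQ hy)) g.2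
          have e : (g : ↥(LL K))⁻¹ * ((g : ↥(LL K)) * y * (g : ↥(LL K))⁻¹) * (g : ↥(LL K)) = y := by group
          rwa [e] at h2
        exact (hg ⟨y, hyQ⟩).2 hy
    apply hgS
    show (g : ↥(LL K)) ∈ S
    have hgB := hNB hgN
    rw [hB] at hgB
    obtain ⟨u, hu, huL, h, hh, hhL, e⟩ := ((TL F).mem_B_iff _ (g : ↥(LL K)).2).1 (Subgroup.mem_subgroupOf.1 hgB)
    -- `g ^ 3 ∈ S`
    have h3 : (g : ↥(LL K)) ^ 3 ∈ S := by
      apply Subgroup.mem_subgroupOf.2
      have e3 : (((g : ↥(LL K)) ^ 3 : ↥(LL K)) : GL chevE6.Idx K) =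
          u * (h * u * h⁻¹) * (h ^ 2 * u * (h ^ 2)⁻¹) * h ^ 3 := by
        have e4 : ((g : ↥(LL K)) : GL chevE6.Idx K) = u * h := e
        rw [Subgroup.coe_pow, e4, pow_three]
        group
      rw [e3, H_cube F hh (Subgroup.mem_inf.1 hhL).2, mul_one]
      exact mul_mem (mul_mem hu ((TL F).conj_H_U h hh _ hu)) ((TL F).conj_H_U _ (pow_mem hh 2) _ hu)
    obtain ⟨k, hk⟩ := Q.isPGroup' g
    have hk' : (g : ↥(LL K)) ^ 2 ^ k = 1 := by
      have h7 := congrArg (fun x : ↥(Q : Subgroup ↥(LL K)) => (x : ↥(LL K))) hk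
      simpa using h7
    have hcop : Nat.Coprime (2 ^ k) 3 := Nat.Coprime.pow_left k (by norm_num)
    have h5 : (g : ↥(LL K)) ∈ Subgroup.zpowers ((g : ↥(LL K)) ^ 3) := by
      rw [mem_zpowers_pow_iff]
      exact Nat.Coprime.coprime_dvd_right (orderOf_dvd_of_pow_eq_one hk') hcop.symm
    exact (Subgroup.zpowers_le.2 h3) h5
  have h6 : Nat.card (Q : Subgroup ↥(LL K)) = 2 ^ (Nat.card ↥(LL K)).factorization 2 := Q.card_eq_multiplicity
  rw [hSQ, hcard] at h6
  exact (Nat.pow_right_injective le_rfl h6).symm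

end Four

end Cfsg.Agent.TwoESix.LeviCard
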