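import Cfsg.Agent.TwoESix.LeviF
import Cfsg.Agent.TwoESix.LeviCard
import Cfsg.Agent.BabyU.Setup
import Cfsg.Agent.BabyU.RootCfg

/-!
# ²E₆(2): `RootFacts` for the class of root involutions
-/

set_option autoImplicit false
set_option linter.unusedSectionVars false

namespace Cfsg.Agent.TwoESix.LeviG

open Cfsg Cfsg.Agent.R01.PSUSix Cfsg.Agent.BabyU Cfsg.Agent.BabyU.RootCfg

section Abstract

variable {E : Type*} [Group E] {F : Type*} [Field F] [Fintype F]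

/-- The facts at one root involution `r0` and one opposite root involution `s0`. -/
structure Base (hF : Fintype.card F = 2 ^ 2) (r0 s0 p70 p60 p25 : E)
    (ψ : ↥(Subgroup.centralizer ({r0} : Set E)) →* PSU 6 F 2) : Prop where
  sq : r0 * r0 = 1
  ne : r0 ≠ 1
  pair : ∀ g : E, ∃ b : E, b * r0 = r0 * b ∧ (b * (g * r0 * g⁻¹) * b⁻¹ = r0 ∨ b * (g * r0 * g⁻¹) * b⁻¹ = p70 ∨
    b * (g * r0 * g⁻¹) * b⁻¹ = p60 ∨ b * (g * r0 * g⁻¹) * b⁻¹ = p25 ∨ b * (g * r0 * g⁻¹) * b⁻¹ = s0)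
  c70 : p70 * r0 = r0 * p70
  c60 : p60 * r0 = r0 * p60
  s0c : ∃ g, s0 = g * r0 * g⁻¹
  n25 : (r0 * p25) ^ 2 ≠ 1
  q25 : (r0 * p25) ^ 4 = 1
  nes : r0 ≠ s0
  cub : (r0 * s0) ^ 3 = 1
  ψ0 : ∀ h, ψ ⟨r0, h⟩ = 1
  ψ70 : ∀ h, ψ ⟨p70, h⟩ = 1
  ψ60 : ∀ h, ψ ⟨p60, h⟩ ∈ TT hF 6
  ker : ∀ x, ψ x = 1 → ∃ k : ℕ, x ^ 2 ^ k = 1
  surj0 : ∀ u, ∃ x : ↥(Subgroup.centralizer ({r0} : Set E)), (x : E) * s0 = s0 * x ∧ ψ x = u
  inj0 : ∀ x : ↥(Subgroup.centralizer ({r0} : Set E)), (x : E) * s0 = s0 * x → ψ x = 1 → x = 1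
  back0 : ∀ x : ↥(Subgroup.centralizer ({r0} : Set E)), (x : E) * s0 = s0 * x → ψ x ∈ TT hF 6 →
    ∃ g, (x : E) = g * r0 * g⁻¹

theorem TT_conj {hF : Fintype.card F = 2 ^ 2} {x : PSU 6 F 2} (hx : x ∈ TT hF 6) (u : PSU 6 F 2) :
    u * x * u⁻¹ ∈ TT hF 6 := by
  obtain ⟨-, ⟨d, hd, hDd⟩, -⟩ := isThreeTranspositionClass_TT (F := F) hF (n := 6) (by norm_num)
  rw [hDd] at hx ⊢
  have hx' : IsConj d x := hx
  exact hx'.trans (isConj_iff.2 ⟨u, rfl⟩)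

/-- conjugation between centralisers -/
def cc (g r0 : E) : ↥(Subgroup.centralizer ({g * r0 * g⁻¹} : Set E)) →* ↥(Subgroup.centralizer ({r0} : Set E)) where
  toFun x := ⟨g⁻¹ * x * g, by
    have h := Subgroup.mem_centralizer_singleton_iff.1 x.2
    rw [Subgroup.mem_centralizer_singleton_iff]
    calc g⁻¹ * (x : E) * g * r0 = g⁻¹ * ((x : E) * (g * r0 * g⁻¹)) * g := by group
      _ = g⁻¹ * ((g * r0 * g⁻¹) * (x : E)) * g := by rw [h]
      _ = _ := by group⟩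
  map_one' := Subtype.ext (by show g⁻¹ * (1 : E) * g = 1; group)
  map_mul' a b := Subtype.ext (by
    show g⁻¹ * ((a : E) * (b : E)) * g = g⁻¹ * (a : E) * g * (g⁻¹ * (b : E) * g)
    group)

theorem coe_cc (g r0 : E) (x : ↥(Subgroup.centralizer ({g * r0 * g⁻¹} : Set E))) :
    (cc g r0 x : E) = g⁻¹ * x * g := rfl

variable {hF : Fintype.card F = 2 ^ 2} {r0 s0 p70 p60 p25 : E}
  {ψ : ↥(Subgroup.centralizer ({r0} : Set E)) →* PSU 6 F 2}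

namespace Base

variable (B : Base hF r0 s0 p70 p60 p25 ψ)
include B

theorem sq_conj (g : E) : (g * r0 * g⁻¹) * (g * r0 * g⁻¹) = 1 := by
  have e : (g * r0 * g⁻¹) * (g * r0 * g⁻¹) = g * (r0 * r0) * g⁻¹ := by group
  rw [e, B.sq, mul_one, mul_inv_cancel]

/-- the product with `r0`, transported -/
theorem prod_eq {b h : E} (hb : b * r0 = r0 * b) : b * (r0 * (h * r0 * h⁻¹)) * b⁻¹ = r0 * (b * (h * r0 * h⁻¹) * b⁻¹) := by
  calc b * (r0 * (h * r0 * h⁻¹)) * b⁻¹ = (b * r0) * (h * r0 * h⁻¹) * b⁻¹ := by group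
    _ = _ := by rw [hb]; group

theorem pow_iff {b h p : E} (hb : b * r0 = r0 * b) (hp : b * (h * r0 * h⁻¹) * b⁻¹ = p) (n : ℕ) :
    (r0 * (h * r0 * h⁻¹)) ^ n = 1 ↔ (r0 * p) ^ n = 1 := by
  rw [← hp, ← B.prod_eq hb, conj_pow, mul_inv_eq_one]
  constructor
  · intro h1; rw [h1, mul_one]
  · intro h1; exact mul_eq_left.1 h1

theorem sq_of_comm {b h p : E} (hp : b * (h * r0 * h⁻¹) * b⁻¹ = p) (hc : p * r0 = r0 * p) : (r0 * p) ^ 2 = 1 := by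
  have h1 : p * p = 1 := by
    rw [← hp]
    have e : b * (h * r0 * h⁻¹) * b⁻¹ * (b * (h * r0 * h⁻¹) * b⁻¹) = (b * h) * (r0 * r0) * (b * h)⁻¹ := by group
    rw [e, B.sq, mul_one, mul_inv_cancel]
  calc (r0 * p) ^ 2 = r0 * (p * r0) * p := by rw [pow_two]; group
    _ = (r0 * r0) * (p * p) := by rw [hc]; group
    _ = 1 := by rw [B.sq, h1, one_mul]

/-- an opposite conjugate is conjugate to `s0` under the centraliser of `r0` -/
theorem opp_of {h : E} (hne : r0 ≠ h * r0 * h⁻¹) (h3 : (r0 * (h * r0 * h⁻¹)) ^ 3 = 1) :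
    ∃ b : E, b * r0 = r0 * b ∧ b * (h * r0 * h⁻¹) * b⁻¹ = s0 := by
  obtain ⟨b, hb, hp⟩ := B.pair h
  refine ⟨b, hb, ?_⟩
  have hne' : ∀ p, b * (h * r0 * h⁻¹) * b⁻¹ = p → (r0 * p) ^ 2 = 1 → False := by
    intro p hp h2
    have h3' : (r0 * p) ^ 3 = 1 := (B.pow_iff hb hp 3).1 h3
    rw [pow_succ, h2, one_mul] at h3'
    have h4 : (r0 * (h * r0 * h⁻¹)) ^ 1 = 1 := (B.pow_iff hb hp 1).2 (by rw [pow_one]; exact h3')
    rw [pow_one] at h4
    apply hne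
    have h5 : r0⁻¹ = r0 := inv_eq_of_mul_eq_one_left B.sq
    rw [← inv_eq_of_mul_eq_one_right h4, h5]
  rcases hp with hp | hp | hp | hp | hp
  · exact (hne' _ hp (B.sq_of_comm hp rfl)).elim
  · exact (hne' _ hp (B.sq_of_comm hp B.c70)).elim
  · exact (hne' _ hp (B.sq_of_comm hp B.c60)).elim
  · exfalso
    have h3' : (r0 * p25) ^ 3 = 1 := (B.pow_iff hb hp 3).1 h3
    have h4 := B.q25
    rw [pow_succ, h3', one_mul] at h4
    apply B.n25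
    rw [h4, one_pow]
  · exact hp

theorem root_of {h : E} (hm : h * r0 * h⁻¹ ∈ Subgroup.centralizer ({r0} : Set E)) :
    ψ ⟨h * r0 * h⁻¹, hm⟩ = 1 ∨ ψ ⟨h * r0 * h⁻¹, hm⟩ ∈ TT hF 6 := by
  obtain ⟨b, hb, hp⟩ := B.pair h
  have hbm : b ∈ Subgroup.centralizer ({r0} : Set E) := Subgroup.mem_centralizer_singleton_iff.2 hb
  have hpm : b * (h * r0 * h⁻¹) * b⁻¹ ∈ Subgroup.centralizer ({r0} : Set E) :=
    mul_mem (mul_mem hbm hm) (inv_mem hbm)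
  have hψ : ψ ⟨b * (h * r0 * h⁻¹) * b⁻¹, hpm⟩ = ψ ⟨b, hbm⟩ * ψ ⟨h * r0 * h⁻¹, hm⟩ * (ψ ⟨b, hbm⟩)⁻¹ := by
    rw [← map_inv, ← map_mul, ← map_mul]
    rfl
  have hψ' : ψ ⟨h * r0 * h⁻¹, hm⟩ = (ψ ⟨b, hbm⟩)⁻¹ * ψ ⟨b * (h * r0 * h⁻¹) * b⁻¹, hpm⟩ * ((ψ ⟨b, hbm⟩)⁻¹)⁻¹ := by
    rw [hψ]; group
  have hcomm := Subgroup.mem_centralizer_singleton_iff.1 hpm
  have one_case : ψ ⟨b * (h * r0 * h⁻¹) * b⁻¹, hpm⟩ = 1 → ψ ⟨h * r0 * h⁻¹, hm⟩ = 1 := by
    intro h1; rw [hψ', h1]; group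
  rcases hp with hp | hp | hp | hp | hp
  · left
    apply one_case
    have := B.ψ0 (Subgroup.mem_centralizer_singleton_iff.2 rfl)
    rw [← this]; congr 1; exact Subtype.ext hp
  · left
    apply one_case
    have := B.ψ70 (hp ▸ hpm)
    rw [← this]; congr 1; exact Subtype.ext hp
  · right
    have h1 : ψ ⟨b * (h * r0 * h⁻¹) * b⁻¹, hpm⟩ ∈ TT hF 6 := by
      have := B.ψ60 (hp ▸ hpm)
      have e : (⟨b * (h * r0 * h⁻¹) * b⁻¹, hpm⟩ : ↥(Subgroup.centralizer ({r0} : Set E))) = ⟨p60, hp ▸ hpm⟩ :=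
        Subtype.ext hp
      rw [e]; exact this
    rw [hψ']
    exact TT_conj h1 _
  · exfalso
    rw [hp] at hcomm
    exact B.n25 (B.sq_of_comm hp hcomm)
  · exfalso
    rw [hp] at hcomm
    have h2 := B.sq_of_comm hp hcomm
    have h3 := B.cub
    rw [pow_succ, h2, one_mul] at h3
    apply B.nes
    have h5 : r0⁻¹ = r0 := inv_eq_of_mul_eq_one_left B.sq
    rw [← inv_eq_of_mul_eq_one_right h3, h5]

theorem pow_pair (g h : E) (n : ℕ) :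
    ((g * r0 * g⁻¹) * (h * r0 * h⁻¹)) ^ n = 1 ↔ (r0 * ((g⁻¹ * h) * r0 * (g⁻¹ * h)⁻¹)) ^ n = 1 := by
  have e : (g * r0 * g⁻¹) * (h * r0 * h⁻¹) = g * (r0 * ((g⁻¹ * h) * r0 * (g⁻¹ * h)⁻¹)) * g⁻¹ := by group
  rw [e, conj_pow, mul_inv_eq_one]
  constructor
  · intro h1; exact mul_eq_left.1 h1
  · intro h1; rw [h1, mul_one]

theorem chartAt (g : E) : ChartAt hF {x | ∃ g, x = g * r0 * g⁻¹} (g * r0 * g⁻¹) (ψ.comp (cc g r0)) := by
  have hopp : ∀ s, (∃ h, s = h * r0 * h⁻¹) → RootCfg.Opp (g * r0 * g⁻¹) s →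
      ∃ b : E, b * r0 = r0 * b ∧ b * (g⁻¹ * s * g) * b⁻¹ = s0 := by
    rintro s ⟨h, rfl⟩ ⟨hne, h3⟩
    have hne' : r0 ≠ g⁻¹ * h * r0 * (g⁻¹ * h)⁻¹ := by
      intro e
      apply hne
      have e1 : g * r0 * g⁻¹ = g * (g⁻¹ * h * r0 * (g⁻¹ * h)⁻¹) * g⁻¹ := congrArg (fun y => g * y * g⁻¹) e
      rw [e1]; group
    obtain ⟨b, hb, e⟩ := B.opp_of hne' ((B.pow_pair g h 3).1 h3)
    refine ⟨b, hb, ?_⟩
    rw [← e]; group
  -- transport of elements commuting with `s`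
  have tr : ∀ (s b : E), b * r0 = r0 * b → b * (g⁻¹ * s * g) * b⁻¹ = s0 →
      ∀ x : ↥(Subgroup.centralizer ({g * r0 * g⁻¹} : Set E)), (x : E) * s = s * x →
      ∀ hb : b ∈ Subgroup.centralizer ({r0} : Set E),
      (((⟨b, hb⟩ : ↥(Subgroup.centralizer ({r0} : Set E))) * cc g r0 x * (⟨b, hb⟩)⁻¹ :
        ↥(Subgroup.centralizer ({r0} : Set E))) : E) * s0 =
        s0 * (((⟨b, hb⟩ : ↥(Subgroup.centralizer ({r0} : Set E))) * cc g r0 x * (⟨b, hb⟩)⁻¹ :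
        ↥(Subgroup.centralizer ({r0} : Set E))) : E) := by
    intro s b hb e x hx hbm
    show b * (g⁻¹ * (x : E) * g) * b⁻¹ * s0 = s0 * (b * (g⁻¹ * (x : E) * g) * b⁻¹)
    rw [← e]
    calc b * (g⁻¹ * (x : E) * g) * b⁻¹ * (b * (g⁻¹ * s * g) * b⁻¹) = b * g⁻¹ * ((x : E) * s) * g * b⁻¹ := by group
      _ = b * g⁻¹ * (s * (x : E)) * g * b⁻¹ := by rw [hx]
      _ = _ := by group
  refine ⟨?_, ?_, ?_, ?_, ?_⟩
  · intro x hx
    obtain ⟨k, hk⟩ := B.ker _ hx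
    refine ⟨k, Subtype.ext ?_⟩
    have h1 : (g⁻¹ * (x : E) * g) ^ 2 ^ k = 1 := congrArg Subtype.val hk
    have h2 : (x : E) ^ 2 ^ k = g * (g⁻¹ * (x : E) * g) ^ 2 ^ k * g⁻¹ := by
      have e : g⁻¹ * (x : E) * g = g⁻¹ * (x : E) * g⁻¹⁻¹ := by rw [inv_inv]
      rw [e, conj_pow]; group
    show (x : E) ^ 2 ^ k = 1
    rw [h2, h1, mul_one, mul_inv_cancel]
  · rintro x ⟨h, hx⟩
    have e : (cc g r0 x : E) = (g⁻¹ * h) * r0 * (g⁻¹ * h)⁻¹ := by rw [coe_cc, hx]; group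
    have hm : (g⁻¹ * h) * r0 * (g⁻¹ * h)⁻¹ ∈ Subgroup.centralizer ({r0} : Set E) := e ▸ (cc g r0 x).2
    have e2 : cc g r0 x = ⟨(g⁻¹ * h) * r0 * (g⁻¹ * h)⁻¹, hm⟩ := Subtype.ext e
    show ψ (cc g r0 x) = 1 ∨ ψ (cc g r0 x) ∈ TT hF 6
    rw [e2]
    exact B.root_of hm
  · intro s hs ho u
    obtain ⟨b, hb, e⟩ := hopp s hs ho
    have hbm : b ∈ Subgroup.centralizer ({r0} : Set E) := Subgroup.mem_centralizer_singleton_iff.2 hb
    obtain ⟨y, hy, e1⟩ := B.surj0 (ψ ⟨b, hbm⟩ * u * (ψ ⟨b, hbm⟩)⁻¹)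
    have hy0 := Subgroup.mem_centralizer_singleton_iff.1 y.2
    have hb' : b⁻¹ * r0 = r0 * b⁻¹ := (show Commute b r0 from hb).inv_left.eq
    have hxm : g * (b⁻¹ * (y : E) * b) * g⁻¹ ∈ Subgroup.centralizer ({g * r0 * g⁻¹} : Set E) := by
      rw [Subgroup.mem_centralizer_singleton_iff]
      have hc : (b⁻¹ * (y : E) * b) * r0 = r0 * (b⁻¹ * (y : E) * b) :=
        (((show Commute b⁻¹ r0 from hb').mul_left (show Commute (y : E) r0 from hy0)).mul_left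
          (show Commute b r0 from hb)).eq
      calc g * (b⁻¹ * (y : E) * b) * g⁻¹ * (g * r0 * g⁻¹) = g * ((b⁻¹ * (y : E) * b) * r0) * g⁻¹ := by group
        _ = g * (r0 * (b⁻¹ * (y : E) * b)) * g⁻¹ := by rw [hc]
        _ = _ := by group
    refine ⟨⟨_, hxm⟩, ?_, ?_⟩
    · show g * (b⁻¹ * (y : E) * b) * g⁻¹ * s = s * (g * (b⁻¹ * (y : E) * b) * g⁻¹)
      have es : s = g * (b⁻¹ * s0 * b) * g⁻¹ := by rw [← e]; group
      rw [es]
      calc g * (b⁻¹ * (y : E) * b) * g⁻¹ * (g * (b⁻¹ * s0 * b) * g⁻¹) = g * b⁻¹ * ((y : E) * s0) * b * g⁻¹ := by group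
        _ = g * b⁻¹ * (s0 * (y : E)) * b * g⁻¹ := by rw [hy]
        _ = _ := by group
    · show ψ (cc g r0 ⟨_, hxm⟩) = u
      have e2 : cc g r0 ⟨_, hxm⟩ = (⟨b, hbm⟩ : ↥(Subgroup.centralizer ({r0} : Set E)))⁻¹ * y * ⟨b, hbm⟩ := by
        apply Subtype.ext
        show g⁻¹ * (g * (b⁻¹ * (y : E) * b) * g⁻¹) * g = b⁻¹ * (y : E) * b
        group
      rw [e2, map_mul, map_mul, map_inv, e1]
      group
  · intro s hs ho x hx h1
    obtain ⟨b, hb, e⟩ := hopp s hs ho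
    have hbm : b ∈ Subgroup.centralizer ({r0} : Set E) := Subgroup.mem_centralizer_singleton_iff.2 hb
    have h2 := B.inj0 _ (tr s b hb e x hx hbm) (by
      rw [map_mul, map_mul, map_inv]
      have h3 : ψ (cc g r0 x) = 1 := h1
      rw [h3, mul_one, mul_inv_cancel])
    have h3 : b * (g⁻¹ * (x : E) * g) * b⁻¹ = 1 := congrArg Subtype.val h2
    apply Subtype.ext
    show (x : E) = 1
    have h4 : (x : E) = g * b⁻¹ * (b * (g⁻¹ * (x : E) * g) * b⁻¹) * b * g⁻¹ := by group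
    rw [h4, h3]; group
  · intro s hs ho x hx h1
    obtain ⟨b, hb, e⟩ := hopp s hs ho
    have hbm : b ∈ Subgroup.centralizer ({r0} : Set E) := Subgroup.mem_centralizer_singleton_iff.2 hb
    obtain ⟨c, hc⟩ := B.back0 _ (tr s b hb e x hx hbm) (by
      rw [map_mul, map_mul, map_inv]
      exact TT_conj h1 _)
    have h3 : b * (g⁻¹ * (x : E) * g) * b⁻¹ = c * r0 * c⁻¹ := hc
    refine ⟨g * b⁻¹ * c, ?_⟩
    have h4 : (x : E) = g * b⁻¹ * (b * (g⁻¹ * (x : E) * g) * b⁻¹) * b * g⁻¹ := by group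
    rw [h4, h3]; group

/-- **`RootFacts` from the facts at one pair.** -/
theorem rootFacts : RootFacts hF {x | ∃ g, x = g * r0 * g⁻¹} where
  sq := by rintro _ ⟨g, rfl⟩; exact B.sq_conj g
  ne := by
    rintro _ ⟨g, rfl⟩ h
    apply B.ne
    rw [mul_inv_eq_one] at h
    exact mul_eq_left.1 h
  conj := by
    rintro _ ⟨g, rfl⟩ h
    exact ⟨h * g, by group⟩
  one := by
    rintro _ ⟨g, rfl⟩ _ ⟨h, rfl⟩
    exact ⟨h * g⁻¹, by group⟩
  ord := by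
    rintro _ ⟨g, rfl⟩ _ ⟨h, rfl⟩
    rw [B.pow_pair, B.pow_pair]
    obtain ⟨b, hb, hp⟩ := B.pair (g⁻¹ * h)
    have key : ∀ p, b * ((g⁻¹ * h) * r0 * (g⁻¹ * h)⁻¹) * b⁻¹ = p → p * r0 = r0 * p →
        (r0 * ((g⁻¹ * h) * r0 * (g⁻¹ * h)⁻¹)) ^ 4 = 1 := by
      intro p hp hc
      rw [B.pow_iff hb hp 4, show (4 : ℕ) = 2 * 2 from rfl, pow_mul, B.sq_of_comm hp hc, one_pow]
    rcases hp with hp | hp | hp | hp | hp
    · exact Or.inl (key _ hp rfl)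
    · exact Or.inl (key _ hp B.c70)
    · exact Or.inl (key _ hp B.c60)
    · left; rw [B.pow_iff hb hp 4]; exact B.q25
    · right; rw [B.pow_iff hb hp 3]; exact B.cub
  opp := ⟨r0, ⟨1, by group⟩, s0, B.s0c, B.nes, B.cub⟩
  chart := by
    rintro _ ⟨g, rfl⟩
    exact ⟨_, B.chartAt g⟩

end Base

end Abstract

/-! ### The twisted group -/

section Concrete

open Cfsg.Lie
open Cfsg.Agent.ChevalleyStructure
open Cfsg.Agent.ChevalleyStructure.Elts hiding x_add x_zero x_eq_one_iff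
open Cfsg.Agent.ChevalleyStructure.TwE6Basic
open Cfsg.Agent.ChevalleyStructure.TwE6BN
open Cfsg.Agent.TwoESix.LeviA
open Cfsg.Agent.TwoESix.LeviB
open Cfsg.Agent.TwoESix.LeviC
open Cfsg.Agent.TwoESix.LeviE
open Cfsg.Agent.TwoESix.LeviF

universe u

variable {K : Type u} [Field K] [Fintype K] {φ : K →+* K} (F : Four K φ)
include F

/-- The class of root involutions is the class of `r0`. -/
theorem rootClass_eq : rootClass K = {x | ∃ g, x = g * r0 F * g⁻¹} := by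
  have h46 : ∃ g, xE F 46 (by decide +kernel) = g * r0 F * g⁻¹ := xE_conj F 46 _
  obtain ⟨a, ha⟩ := h46
  ext y
  constructor
  · rintro ⟨g, r, hr, rfl⟩
    have e : r = xE F 46 (by decide +kernel) := by
      apply Subtype.ext
      apply Units.ext
      exact hr
    refine ⟨g * a, ?_⟩
    rw [e, ha]; group
  · rintro ⟨g, rfl⟩
    refine ⟨g * a⁻¹, xE F 46 (by decide +kernel), rfl, ?_⟩
    rw [ha]; group

/-- **`RootFacts` for the root involutions of `²E₆(2)`.** -/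
theorem rootFacts_four {F' : Type*} [Field F'] [Fintype F'] (hF' : Fintype.card F' = 2 ^ 2) :
    RootFacts hF' (rootClass K) := by
  obtain ⟨e, he⟩ := exists_e F hF' (LeviCard.factorization_LL F)
  have B : Base hF' (r0 F) (s0 F) (p70 F) (p60 F) (p25 F) (e.toMonoidHom.comp (lvHom F)) := by
    refine ⟨r0_sq F, r0_ne F, pair F, p70_comm F, p60_comm F, s0_conj F, sq_r0_p25 F, four_r0_p25 F, r0_ne_s0 F,
      cube_r0_s0 F, ?_, ?_, ?_, ?_, ?_, ?_, ?_⟩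
    · intro h
      have h1 : lvHom F ⟨r0 F, h⟩ = 1 := Subtype.ext (lv_of_UR (x_mem_UR (r := 71) (by decide) (by decide +kernel) 1))
      show e (lvHom F ⟨r0 F, h⟩) = 1
      rw [h1, map_one]
    · intro h
      show e (lvHom F ⟨p70 F, h⟩) = 1
      rw [lvHom_p70, map_one]
    · intro h
      show e (lvHom F ⟨p60 F, h⟩) ∈ TT hF' 6
      rw [lvHom_p60, ← he]
      exact d0_mem F
    · intro x hx
      exact lvHom_ker F ((map_eq_one_iff e e.injective).1 hx)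
    · intro u
      obtain ⟨g, hg, h1⟩ := exists_of_LL F (e.symm u)
      refine ⟨g, hg, ?_⟩
      show e (lvHom F g) = u
      rw [h1, e.apply_symm_apply]
    · intro x hx h1
      have h2 : lvHom F x = 1 := (map_eq_one_iff e e.injective).1 h1
      have h3 := lvHom_of_comm F hx
      rw [h2] at h3
      exact Subtype.ext (Subtype.ext h3.symm)
    · intro x hx h1
      exact DD_root F ((he _).2 h1) (lvHom_of_comm F hx)
  rw [rootClass_eq F]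
  exact B.rootFacts

end Concrete

/-- **`RootFacts` for the root involutions of `²E₆(2)`.** -/
theorem rootFacts {K : Type*} [Field K] [Fintype K] (hK : Fintype.card K = 4) {F' : Type*} [Field F']
    [Fintype F'] (hF' : Fintype.card F' = 2 ^ 2) : RootFacts hF' (rootClass K) := by
  obtain ⟨-, φ, F⟩ := LeviA.exists_four K hK
  exact rootFacts_four F hF'

end Cfsg.Agent.TwoESix.LeviG
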