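import Cfsg.Agent.TwoESix.OutRoot
import Cfsg.Agent.TwoESix.LeviG
import Cfsg.Agent.TwoESix.LeviHyp
import Cfsg.Agent.TwoESix.GoodInst

/-!
# ²E₆(2): non-inner involutory automorphisms

`exists_conj`: every non-inner involutory automorphism is conjugate in the automorphism group to `conj s * sig`, `s` in
the Sylow 2-subgroup `SE K`.
`exists_abelian`: hence it normalises (up to conjugation) the elementary abelian group `NE K ≤ RE K`, generated by its
root involutions, with two different nontrivial commutators.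
-/

set_option autoImplicit false
set_option linter.unusedSectionVars false

namespace Cfsg.Agent.TwoESix.OutMain

open Cfsg.Lie
open Cfsg.Agent.ChevalleyStructure
open Cfsg.Agent.ChevalleyStructure.TwE6BN
open Cfsg.Agent.TwoESix.Cox10 Cfsg.Agent.TwoESix.Lift Cfsg.Agent.TwoESix.Cover
open Cfsg.Agent.TwoESix.LeviA
open Cfsg.Agent.TwoESix.LongCard
open Cfsg.Agent.TwoESix.FlagH
open Cfsg.Agent.TwoESix.OutSig
open Cfsg.Agent.TwoESix.OutNorm
open Cfsg.Agent.BabyU (rootClass)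

open scoped commutatorElement

universe u

variable {K : Type u} [Field K] [Fintype K] {φ : K →+* K} (F : Four K φ)
include F

theorem sig_mul_sig : sig F * sig F = 1 := MulEquiv.ext fun y => sig_sig F y

theorem nonabelian : ∃ a b : ↥(twistedE6 K 2), ¬ Commute a b := by
  obtain ⟨p, -, -, q, -, -, h⟩ := R_non F
  refine ⟨p, q, fun hc => ?_⟩
  have h1 : r0 F = 1 := by rw [← h]; exact commutatorElement_eq_one_iff_mul_comm.2 hc
  exact (ExtTwisted.basic K F.card).ne _ (xe_T F 71 (by decide +kernel)) h1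

theorem auto_root (α : MulAut ↥(twistedE6 K 2)) : ∀ r ∈ rootClass K, α r ∈ rootClass K := fun r hr =>
  (ExtTwisted.auto K K F.card F.card α r).1 hr

/-- **Every non-inner involutory automorphism of `²E₆(2)` is conjugate to `conj s * sig`, `s` in the Sylow
2-subgroup.** -/
theorem exists_conj [Finite HB] (hcard : Nat.card HB ≤ Nat.card ↥(twistedE6 K 2)) {M : Type*} [Group M]
    (hcov : Cfsg.IsNonsplitDoubleCover M ↥(twistedE6 K 2))
    {α : MulAut ↥(twistedE6 K 2)} (hα : α * α = 1) (hn : ∀ g, α ≠ MulAut.conj g) :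
    ∃ (B : MulAut ↥(twistedE6 K 2)), ∃ s ∈ SE K, B⁻¹ * α * B = MulAut.conj s * sig F := by
  have hF : Fintype.card K = 2 ^ 2 := F.card
  obtain ⟨e, r, h1, h2, h3, -, h5⟩ := GoodInst.exists_good K hF
  have heR : ∀ i, e i ∈ rootClass K := fun i => by
    obtain ⟨g, hg⟩ := h5 i
    exact ⟨g, r, h3, hg⟩
  have H := LeviHyp.outHyp (LeviG.rootFacts (K := K) hF hF) (ExtTwisted.basic K hF).opp_trans
  obtain ⟨A, g, hA⟩ := BabyU.OutInv.conj_inv hcov hcard (nonabelian F) H ⟨h1, h2⟩ heR (auto_root F α) hα hn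
    (auto_root F (sig F)) (sig_mul_sig F) (sig_not_inner F)
  have hsq : (MulAut.conj g * sig F) * (MulAut.conj g * sig F) = 1 := by
    rw [← hA]
    calc A * α * A⁻¹ * (A * α * A⁻¹) = A * (α * α) * A⁻¹ := by group
      _ = 1 := by rw [hα, mul_one, mul_inv_cancel]
  obtain ⟨y, s, hs, h6⟩ := BabyU.OutInv.exists_fix (S_odd F) (center_eq F) (sig_mul_sig F)
    (fun s hs => sig_SE F hs) hsq
  refine ⟨(MulAut.conj y * A)⁻¹, s, hs, ?_⟩
  rw [← h6, ← hA]
  group

/-- **The abelian subgroup of a non-inner involutory automorphism.** -/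
theorem exists_abelian [Finite HB] (hcard : Nat.card HB ≤ Nat.card ↥(twistedE6 K 2)) {M : Type*} [Group M]
    (hcov : Cfsg.IsNonsplitDoubleCover M ↥(twistedE6 K 2))
    {α : MulAut ↥(twistedE6 K 2)} (hα : α * α = 1) (hn : ∀ g, α ≠ MulAut.conj g) :
    ∃ (B : MulAut ↥(twistedE6 K 2)) (N : Subgroup ↥(twistedE6 K 2)), N ≤ (RE K).map B.toMonoidHom ∧
      (∀ x ∈ N, x * x = 1) ∧ (∀ x ∈ N, ∀ y ∈ N, x * y = y * x) ∧ (∀ x ∈ N, α x ∈ N) ∧ B (r0 F) ∈ N ∧
      N ≤ Subgroup.closure {x | x ∈ rootClass K ∧ x ∈ N} ∧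
      ∃ x ∈ N, ∃ y ∈ N, x * α x ≠ 1 ∧ y * α y ≠ 1 ∧ x * α x ≠ y * α y := by
  obtain ⟨B, s, hs, hB⟩ := exists_conj F hcard hcov hα hn
  have hBα : ∀ x, α (B x) = B ((MulAut.conj s * sig F) x) := by
    intro x
    rw [← hB]
    show α (B x) = B (B⁻¹ (α (B x)))
    exact (MulEquiv.apply_symm_apply B _).symm
  obtain ⟨n₁, h1, n₂, h2, h3, h4, h5⟩ := exists_comm F hs
  refine ⟨B, (OutRoot.NE K).map B.toMonoidHom, Subgroup.map_mono (OutRoot.NE_le F), ?_, ?_, ?_,
    ⟨_, OutRoot.r0_NE F, rfl⟩, ?_, B n₁, ⟨n₁, OutRoot.le_NE F h1, rfl⟩, B n₂, ⟨n₂, OutRoot.le_NE F h2, rfl⟩, ?_, ?_, ?_⟩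
  · rintro _ ⟨x, hx, rfl⟩
    show B x * B x = 1
    rw [← map_mul, OutRoot.NE_sq F hx, map_one]
  · rintro _ ⟨x, hx, rfl⟩ _ ⟨y, hy, rfl⟩
    show B x * B y = B y * B x
    rw [← map_mul, OutRoot.NE_comm F hx hy, map_mul]
  · rintro _ ⟨x, hx, rfl⟩
    exact ⟨_, OutRoot.act_NE F hs hx, (hBα x).symm⟩
  · have h6 : OutRoot.NE K ≤ (Subgroup.closure {x | x ∈ rootClass K ∧
        x ∈ (OutRoot.NE K).map B.toMonoidHom}).comap B.toMonoidHom := by
      refine (OutRoot.NE_gen F).trans ((Subgroup.closure_le _).2 ?_)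
      rintro x ⟨hx, hx'⟩
      exact Subgroup.subset_closure ⟨auto_root F B x hx, ⟨x, hx', rfl⟩⟩
    rw [Subgroup.map_le_iff_le_comap]
    exact h6
  · rw [hBα, ← map_mul, ne_eq, MulEquiv.map_eq_one_iff]
    exact h3
  · rw [hBα, ← map_mul, ne_eq, MulEquiv.map_eq_one_iff]
    exact h4
  · rw [hBα, hBα, ← map_mul, ← map_mul]
    exact fun h => h5 (B.injective h)

end Cfsg.Agent.TwoESix.OutMain
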