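import Cfsg.Agent.TwoESix.LeviB
import Cfsg.Agent.ChevalleyStructure.NPerm

/-!
# ²E₆(2): pairs of root involutions

`r0 = x 71 1` (highest root).  Every pair `(r0, g r0 g⁻¹)`, `g ∈ E`, is conjugate under the centraliser of `r0`
in `E` to `(r0, x γ 1)` with `γ` one of `71` (equal), `70` (collinear), `60` (polar), `25` (special), `0`
(opposite).
-/

set_option autoImplicit false
set_option linter.unusedSectionVars false

namespace Cfsg.Agent.TwoESix.LongPairs

open Cfsg.Lie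
open Cfsg.Agent.ChevalleyStructure
open Cfsg.Agent.ChevalleyStructure.Elts hiding x_add x_zero x_eq_one_iff
open Cfsg.Agent.ChevalleyStructure.TwE6Basic
open Cfsg.Agent.ChevalleyStructure.TwE6BN
open Cfsg.Agent.TwoESix.LeviA
open Cfsg.Agent.TwoESix.LeviB
open Cfsg.Agent.LieExceptional.BNPairCore

universe u

variable {K : Type u} [Field K]

/-! ### Root elements of different roots are different -/

theorem x_ne {r s : ℕ} (hr : r < 72) (hs : s < 72) (hrs : r ≠ s) : x r (1 : K) ≠ x s 1 := by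
  intro h
  have h2 := congrArg (fun g : GL chevE6.Idx K => (g : Matrix chevE6.Idx chevE6.Idx K) (Sum.inr ⟨r, hr⟩)
    (Sum.inr ⟨chevE6.neg r, NPerm.neg_lt hE6 hr⟩)) h
  simp only [coe_xG] at h2
  rw [NPerm.x_entry_self hE6 hr, NPerm.x_entry_ne hE6 hr hs (fun h => hrs h.symm)] at h2
  simp at h2

theorem x_ne_one {r : ℕ} (hr : r < 72) : x r (1 : K) ≠ 1 := fun h =>
  one_ne_zero ((x_eq_one_iff hr (1 : K)).1 h)

/-! ### Words -/

theorem rho_wpm (w : List (Fin 4)) (r : Fin 72) : rho (wpm w r) = wpm w (rho r) := by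
  induction w with
  | nil => rfl
  | cons i w ih => rw [wpm_cons, wpm_cons, rho_wP, ih]

theorem wP_top : ∀ i : Fin 4, i ≠ 0 → wP i 71 = 71 := by decide +kernel

theorem wpm_top (w : List (Fin 4)) (hw : ∀ i ∈ w, i ≠ 0) : wpm w 71 = 71 := by
  induction w with
  | nil => rfl
  | cons i w ih =>
    rw [wpm_cons, ih fun j hj => hw j (List.mem_cons_of_mem _ hj), wP_top i (hw i List.mem_cons_self)]

/-- words in the letters `1, 2, 3` sending the fixed roots to the five representatives -/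
def tabJ : List (List (Fin 4)) :=
  [[], [1, 2, 1, 3, 2, 1], [1, 2, 1, 3, 2], [1, 2, 1, 3], [1, 2, 3], [3, 2, 1, 2, 3], [1, 2, 1], [1, 2], [1],
    [3, 2, 1, 2], [3, 2, 1], [3, 2], [3]]

theorem exists_tabJ : ∀ r : Fin 72, rho r = r →
    ∃ w ∈ tabJ, (∀ i ∈ w, i ≠ 0) ∧ (wpm w r).val ∈ [71, 70, 60, 25, 0] := by decide +kernel

/-! ### Products -/

section CharTwo

variable [CharP K 2]

theorem x_sq (r : ℕ) : x r (1 : K) * x r 1 = 1 := by
  rw [x_add, CharTwo.add_self_eq_zero, x_zero]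

theorem comm70 : x 71 (1 : K) * x 70 1 = x 70 1 * x 71 1 := comm_top (r := (70 : Fin 72)) (by decide) 1 1

theorem comm60 : x 71 (1 : K) * x 60 1 = x 60 1 * x 71 1 := comm_top (r := (60 : Fin 72)) (by decide) 1 1

theorem comm_70_25 : x 70 (1 : K) * x 25 1 = x 25 1 * x 70 1 :=
  comm_of_commTerms (r := 25) (s := 70) (by norm_num) (by norm_num) (by norm_num) (by decide +kernel)
    (by decide +kernel) 1 1

theorem mul_25 : x 25 (1 : K) * x 71 1 = x 71 1 * x 25 1 * x 70 1 := by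
  have h := comm_single (K := K) (r := 71) (s := 25) (k := 70) (c := (chevE6.commTerms 71 25).head!.2.1)
    (by norm_num) (by norm_num) (by norm_num) (by decide +kernel) (by decide +kernel) (by decide +kernel) 1 1
  rwa [mul_one] at h

/-- The special pair: the square of the product is the root element `x_70(1)`. -/
theorem sq25 : (x 71 (1 : K) * x 25 1) ^ 2 = x 70 1 := by
  have h1 := x_sq (K := K) 71
  have h2 := x_sq (K := K) 25
  calc (x 71 (1 : K) * x 25 1) ^ 2 = x 71 (1 : K) * (x 25 1 * x 71 1) * x 25 1 := by rw [pow_two]; group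
    _ = (x 71 (1 : K) * x 71 1) * x 25 1 * (x 70 1 * x 25 1) := by rw [mul_25]; group
    _ = (x 71 (1 : K) * x 71 1) * (x 25 1 * x 25 1) * x 70 1 := by rw [comm_70_25]; group
    _ = x 70 1 := by rw [h1, h2, one_mul, one_mul]

/-- The opposite pair: the product has order three. -/
theorem cube0 : (x 71 (1 : K) * x 0 1) ^ 3 = 1 := by
  have h1 := x_sq (K := K) 71
  have h2 := x_sq (K := K) 0
  have hm : m71 (K := K) * x 71 1 * (m71 (K := K))⁻¹ = x 0 1 := by
    have e1 : wpm w46 71 = 46 := by decide +kernel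
    have e2 : wP 0 46 = 25 := by decide +kernel
    have e3 : wpm w46 0 = 25 := by decide +kernel
    have a1 := wn_conj (K := K) w46 71 1
    have a2 := n_conj2 (K := K) 0 46 1
    have a3 := wn_conj_inv (K := K) w46 0 1
    rw [e1] at a1
    rw [e2] at a2
    rw [e3, ← a2, ← a1] at a3
    have e4 : ((71 : Fin 72) : ℕ) = 71 := rfl
    have e5 : ((0 : Fin 72) : ℕ) = 0 := rfl
    rw [e4, e5] at a3
    rw [← a3, m71]
    group
  rw [m71_eq, mul_inv_eq_iff_eq_mul] at hm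
  generalize x 71 (1 : K) = a at *
  generalize x 0 (1 : K) = b at *
  -- `a b a a = b a b a`
  have h3 : a * b = b * a * (b * a) := by
    calc a * b = a * (b * a) * a := by rw [mul_assoc, mul_assoc b, h1, mul_one]
      _ = b * (a * (b * a)) := hm
      _ = _ := by group
  have h4 : b * a * (a * b) = 1 := by
    calc b * a * (a * b) = b * (a * a) * b := by group
      _ = 1 := by rw [h1, mul_one, h2]
  have h5 : a * b * (b * a) = 1 := by
    calc a * b * (b * a) = a * (b * b) * a := by group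
      _ = 1 := by rw [h2, mul_one, h1]
  calc (a * b) ^ 3 = (a * b) * (a * b) * (a * b) := by rw [pow_succ, pow_two]
    _ = (a * b) * (b * a * (b * a)) * (a * b) := by rw [← h3]
    _ = (a * b * (b * a)) * (b * a * (a * b)) := by group
    _ = 1 := by rw [h4, h5, one_mul]

end CharTwo

/-! ### The classification of pairs -/

section Four

variable [Fintype K] {φ : K →+* K} (F : Four K φ)
include F

/-- Bruhat decomposition with words. -/
theorem bruhat_wn {g : GL chevE6.Idx K} (hg : g ∈ twistedE6 K 2) :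
    ∃ b ∈ chevE6.borelSubgroup K, b ∈ twistedE6 K 2 ∧ ∃ w : List (Fin 4), ∃ b' ∈ chevE6.borelSubgroup K,
      b' ∈ twistedE6 K 2 ∧ g = b * wn w * b' := by
  obtain ⟨P, hB, -, hS, -⟩ := exists_bnPair (K := K) (q := 2) (by norm_num [Nat.prime_two.isPrimePow])
    (by rw [F.card]; norm_num)
  obtain ⟨m, hm, h1⟩ := bruhat (P := P) (⟨g, hg⟩ : ↥(twistedE6 K 2))
  obtain ⟨l, hl, hrel⟩ := exists_word (P := P) hm
  rw [← C_eq_of_rel hrel] at h1
  obtain ⟨b, hb, b', hb', e⟩ := mem_C.1 h1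
  have hw : ∀ l : List ↥(twistedE6 K 2), (∀ s ∈ l, s ∈ P.S) →
      ∃ w : List (Fin 4), ((l.prod : ↥(twistedE6 K 2)) : GL chevE6.Idx K) = wn w := by
    intro l
    induction l with
    | nil => exact fun _ => ⟨[], by rw [List.prod_nil, wn_nil]; rfl⟩
    | cons s l ih =>
      intro hl
      obtain ⟨w, hw⟩ := ih fun t ht => hl t (List.mem_cons_of_mem _ ht)
      have hs := hl s List.mem_cons_self
      rw [hS] at hs
      obtain ⟨i, hi⟩ := hs
      refine ⟨i :: w, ?_⟩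
      rw [List.prod_cons, wn_cons, ← hw, ← hi]
      rfl
  obtain ⟨w, hw⟩ := hw l hl
  rw [hB] at hb hb'
  refine ⟨b, (Subgroup.mem_inf.1 (Subgroup.mem_subgroupOf.1 hb)).1, b.2, w, b',
    (Subgroup.mem_inf.1 (Subgroup.mem_subgroupOf.1 hb')).1, b'.2, ?_⟩
  rw [← hw]
  exact congrArg Subtype.val e

theorem B_comm {b : GL chevE6.Idx K} (hb : b ∈ chevE6.borelSubgroup K) (hE : b ∈ twistedE6 K 2) :
    b * x 71 (1 : K) = x 71 1 * b := (cent_top F hE).2 (B_le_PR hb)

theorem wn_top (w : List (Fin 4)) (hw : ∀ i ∈ w, i ≠ 0) : wn (K := K) w * x 71 1 = x 71 1 * wn w := by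
  have := F.charP
  have h := wn_conj (K := K) w 71 1
  rw [wpm_top w hw, mul_inv_eq_iff_eq_mul] at h
  exact h

/-- Every conjugate of `r0` is `b x_γ(1) b⁻¹` with `b` centralising `r0`. -/
theorem exists_pair {g : GL chevE6.Idx K} (hg : g ∈ twistedE6 K 2) :
    ∃ b ∈ twistedE6 K 2, b * x 71 (1 : K) = x 71 1 * b ∧ ∃ γ : Fin 72, rho γ = γ ∧
      g * x 71 (1 : K) * g⁻¹ = b * x γ.val 1 * b⁻¹ := by
  have := F.charP
  obtain ⟨b, hb, hbE, w, b', hb', hbE', rfl⟩ := bruhat_wn F hg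
  refine ⟨b, hbE, B_comm F hb hbE, wpm w 71, ?_, ?_⟩
  · rw [rho_wpm]
    congr 1
  · have h1 : b' * x 71 (1 : K) * b'⁻¹ = x 71 1 := by rw [B_comm F hb' hbE', mul_inv_cancel_right]
    have h2 := wn_conj (K := K) w 71 1
    rw [← h2]
    calc b * wn w * b' * x 71 (1 : K) * (b * wn w * b')⁻¹
        = b * (wn w * (b' * x 71 (1 : K) * b'⁻¹) * (wn w)⁻¹) * b⁻¹ := by group
      _ = _ := by rw [h1]; rfl

/-- **The five types of pairs.** -/
theorem pair5 {g : GL chevE6.Idx K} (hg : g ∈ twistedE6 K 2) :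
    ∃ b ∈ twistedE6 K 2, b * x 71 (1 : K) * b⁻¹ = x 71 1 ∧ ∃ γ ∈ [71, 70, 60, 25, 0],
      b * (g * x 71 (1 : K) * g⁻¹) * b⁻¹ = x γ 1 := by
  have := F.charP
  obtain ⟨b, hbE, hb, γ, hγ, e⟩ := exists_pair F hg
  obtain ⟨w, -, hw, h5⟩ := exists_tabJ γ hγ
  refine ⟨wn w * b⁻¹, mul_mem (wn_mem F w) (inv_mem hbE), ?_, (wpm w γ).val, h5, ?_⟩
  · have h1 : b⁻¹ * x 71 (1 : K) * b = x 71 1 := by rw [mul_assoc, ← hb, inv_mul_cancel_left]
    have h2 := wn_top F w hw
    calc wn w * b⁻¹ * x 71 (1 : K) * (wn w * b⁻¹)⁻¹ = wn w * (b⁻¹ * x 71 (1 : K) * b) * (wn w)⁻¹ := by group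
      _ = x 71 1 := by rw [h1, h2, mul_inv_cancel_right]
  · rw [e, ← wn_conj]
    group

/-- Conjugates of `r0`. -/
theorem pair_general {g h : GL chevE6.Idx K} (hg : g ∈ twistedE6 K 2) (hh : h ∈ twistedE6 K 2) :
    ∃ b ∈ twistedE6 K 2, b * (g * x 71 (1 : K) * g⁻¹) * b⁻¹ = x 71 1 ∧ ∃ γ ∈ [71, 70, 60, 25, 0],
      b * (h * x 71 (1 : K) * h⁻¹) * b⁻¹ = x γ 1 := by
  obtain ⟨b, hb, h1, γ, hγ, h2⟩ := pair5 F (mul_mem (inv_mem hg) hh)
  refine ⟨b * g⁻¹, mul_mem hb (inv_mem hg), ?_, γ, hγ, ?_⟩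
  · have e : b * g⁻¹ * (g * x 71 (1 : K) * g⁻¹) * (b * g⁻¹)⁻¹ = b * x 71 1 * b⁻¹ := by group
    rw [e, h1]
  · have e : b * g⁻¹ * (h * x 71 (1 : K) * h⁻¹) * (b * g⁻¹)⁻¹ =
        b * (g⁻¹ * h * x 71 1 * (g⁻¹ * h)⁻¹) * b⁻¹ := by group
    rw [e, h2]

end Four

end Cfsg.Agent.TwoESix.LongPairs
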