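/-
The structure `Lab.Roots` for the class of root involutions of `twistedE6 K 2`, `|K| = 4`: the orbits of `E` on pairs are
those of `LongPairs`, the explicit configurations those of `RootsCfg`; the centralisers of root involutions are perfect
(`Perf1.perf_root`).
-/
import Cfsg.Agent.TwoESix.LongPairs
import Cfsg.Agent.TwoESix.ClassIso
import Cfsg.Agent.BabyU.Perf1
set_option autoImplicit false

namespace Cfsg.Agent.TwoESix.RootsInst

open Cfsg.Lie Cfsg.Agent.BabyU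
open Cfsg.Agent.ChevalleyStructure
open Cfsg.Agent.ChevalleyStructure.Elts hiding x_add x_zero x_eq_one_iff
open Cfsg.Agent.ChevalleyStructure.TwE6Basic
open Cfsg.Agent.TwoESix.LeviA Cfsg.Agent.TwoESix.LeviB Cfsg.Agent.TwoESix.LongPairs
open Cfsg.Agent.TwoESix.Iso Cfsg.Agent.TwoESix.RootsCfg

universe u

section abstractly

variable {E : Type*} [Group E] {T : Set E}

/-- The orbits on pairs: `ty a b` is the type of the pair, a pair with the same type is conjugate. -/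
theorem roots_of_types (ne_one : ∀ r ∈ T, r ≠ 1) (sq : ∀ r ∈ T, r * r = 1) (conj : ∀ r ∈ T, ∀ g : E, g * r * g⁻¹ ∈ T)
    (one : ∀ r ∈ T, ∀ s ∈ T, ∃ g : E, g * r * g⁻¹ = s) (ty : E → E → ℕ → Prop)
    (tr : ∀ a b a' b' n, ty a b n → ty a' b' n → ∃ g : E, g * a * g⁻¹ = a' ∧ g * b * g⁻¹ = b')
    (ex : ∀ a ∈ T, ∀ b ∈ T, ∃ n ∈ [71, 70, 60, 25, 0], ty a b n)
    (t71 : ∀ a b, ty a b 71 → a = b) (t70 : ∀ a b, ty a b 70 → a * b = b * a)
    (t60 : ∀ a b, ty a b 60 → a * b = b * a) (t25 : ∀ a b, ty a b 25 → (a * b) ^ 2 ≠ 1)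
    (t0 : ∀ a b, ty a b 0 → (a * b) ^ 3 = 1)
    (spe_ex : ∃ a ∈ T, ∃ b ∈ T, (a * b) ^ 2 ∈ T)
    (perf : ∀ r ∈ T, ∀ H : Subgroup E, H.relIndex (Subgroup.centralizer ({r} : Set E)) ≠ 2)
    (cfg_line : ∃ a ∈ T, ∃ b ∈ T, ∃ x ∈ T, a * b ∈ T ∧ (x * a) ^ 2 ∈ T ∧ (x * b) ^ 2 ∈ T ∧
      (x * (a * b)) ^ 2 ∈ T ∧ a * (x * b) ^ 2 = (x * b) ^ 2 * a)
    (cfg_sym : ∃ a ∈ T, ∃ b ∈ T, ∃ x ∈ T, a ≠ b ∧ a * b = b * a ∧ a * b ∉ T ∧ (a * x) ^ 3 = 1 ∧ (x * b) ^ 3 = 1) :
    Lab.Roots E T := by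
  have cm : ∀ a b : E, a ∈ T → b ∈ T → a * b = b * a → (a * b) ^ 2 = 1 := by
    intro a b ha hb h
    calc (a * b) ^ 2 = (a * b) * (b * a) := by rw [pow_two]; nth_rw 2 [h]
      _ = a * (b * b) * a := by group
      _ = 1 := by rw [sq b hb, mul_one, sq a ha]
  -- special pairs have type 25
  have hs : ∀ a ∈ T, ∀ b ∈ T, (a * b) ^ 2 ∈ T → ty a b 25 := by
    intro a ha b hb h
    obtain ⟨n, hn, hty⟩ := ex a ha b hb
    simp only [List.mem_cons, List.not_mem_nil, or_false] at hn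
    rcases hn with rfl | rfl | rfl | rfl | rfl
    · exfalso
      have := t71 a b hty
      subst this
      rw [sq a ha, one_pow] at h
      exact ne_one _ h rfl
    · exfalso
      rw [cm a b ha hb (t70 a b hty)] at h
      exact ne_one _ h rfl
    · exfalso
      rw [cm a b ha hb (t60 a b hty)] at h
      exact ne_one _ h rfl
    · exact hty
    · exfalso
      have h1 := t0 a b hty
      have h2 := sq _ h
      have h3 : a * b = 1 := by
        calc a * b = (a * b) ^ 2 * (a * b) ^ 2 * ((a * b) ^ 3)⁻¹ := by group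
          _ = 1 := by rw [h1, h2, inv_one, mul_one]
      rw [h3, one_pow] at h
      exact ne_one _ h rfl
  -- commuting pairs have type 70 or 60
  have hcm : ∀ a ∈ T, ∀ b ∈ T, a ≠ b → (a * b) ^ 2 = 1 → ty a b 70 ∨ ty a b 60 := by
    intro a ha b hb hne h
    obtain ⟨n, hn, hty⟩ := ex a ha b hb
    simp only [List.mem_cons, List.not_mem_nil, or_false] at hn
    rcases hn with rfl | rfl | rfl | rfl | rfl
    · exact absurd (t71 a b hty) hne
    · exact Or.inl hty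
    · exact Or.inr hty
    · exact absurd h (t25 a b hty)
    · exfalso
      have h1 := t0 a b hty
      have h3 : a * b = 1 := by
        calc a * b = (a * b) ^ 3 * ((a * b) ^ 2)⁻¹ := by group
          _ = 1 := by rw [h1, h, inv_one, mul_one]
      apply hne
      calc a = a * (b * b) := by rw [sq b hb, mul_one]
        _ = (a * b) * b := by group
        _ = b := by rw [h3, one_mul]
  have inv : ∀ a b a' b' n, ty a b n → ty a' b' n → a * b ∈ T → a' * b' ∈ T := by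
    intro a b a' b' n h h' hab
    obtain ⟨g, h1, h2⟩ := tr a b a' b' n h h'
    have h3 := conj _ hab g
    have h4 : g * (a * b) * g⁻¹ = (g * a * g⁻¹) * (g * b * g⁻¹) := by group
    rwa [h4, h1, h2] at h3
  obtain ⟨c, hc, d, hd, x, hx, hcd, hx1, hx2, hx3, hx4⟩ := cfg_line
  obtain ⟨e, he, f, hf, y, hy, hef, hef1, hef2, hy1, hy2⟩ := cfg_sym
  have hcd' : ty c d 70 ∨ ty c d 60 := by
    refine hcm c hc d hd ?_ ?_
    · rintro rfl
      rw [sq c hc] at hcd
      exact ne_one _ hcd rfl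
    · rw [pow_two, sq _ hcd]
  have hef' := hcm e he f hf hef (cm e f he hf hef1)
  -- the type of the collinear pairs and the type of the symplectic pairs
  obtain ⟨m, n, hm, hn, hmn, h70, h60⟩ : ∃ m n : ℕ, ty c d m ∧ ty e f n ∧ m ≠ n ∧ (m = 70 ∨ m = 60) ∧
      ∀ k, (k = 70 ∨ k = 60) → k = m ∨ k = n := by
    rcases hcd' with h | h <;> rcases hef' with h' | h'
    · exact absurd (inv _ _ _ _ _ h h' hcd) hef2
    · exact ⟨70, 60, h, h', by norm_num, Or.inl rfl, fun k hk => hk⟩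
    · exact ⟨60, 70, h, h', by norm_num, Or.inr rfl, fun k hk => hk.symm⟩
    · exact absurd (inv _ _ _ _ _ h h' hcd) hef2
  have col : ∀ a ∈ T, ∀ b ∈ T, a * b ∈ T → ty a b m := by
    intro a ha b hb hab
    have h1 : ty a b 70 ∨ ty a b 60 := by
      refine hcm a ha b hb ?_ ?_
      · rintro rfl
        rw [sq a ha] at hab
        exact ne_one _ hab rfl
      · rw [pow_two, sq _ hab]
    obtain ⟨k, hk, hk'⟩ : ∃ k, (k = 70 ∨ k = 60) ∧ ty a b k := by
      rcases h1 with h | h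
      · exact ⟨70, Or.inl rfl, h⟩
      · exact ⟨60, Or.inr rfl, h⟩
    rcases h60 k hk with rfl | rfl
    · exact hk'
    · exact absurd (inv _ _ _ _ _ hk' hn hab) hef2
  have sym : ∀ a ∈ T, ∀ b ∈ T, a ≠ b → a * b = b * a → a * b ∉ T → ty a b n := by
    intro a ha b hb hne hab hab2
    obtain ⟨k, hk, hk'⟩ : ∃ k, (k = 70 ∨ k = 60) ∧ ty a b k := by
      rcases hcm a ha b hb hne (cm a b ha hb hab) with h | h
      · exact ⟨70, Or.inl rfl, h⟩
      · exact ⟨60, Or.inr rfl, h⟩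
    rcases h60 k hk with rfl | rfl
    · exact absurd (inv _ _ _ _ _ hm hk' hcd) hab2
    · exact hk'
  exact
    { ne_one := ne_one
      sq := sq
      conj := conj
      one := one
      spe_ex := spe_ex
      spe := fun a ha b hb a' ha' b' hb' h h' => tr _ _ _ _ _ (hs a ha b hb h) (hs a' ha' b' hb' h')
      col := fun a ha b hb a' ha' b' hb' h h' => tr _ _ _ _ _ (col a ha b hb h) (col a' ha' b' hb' h')
      sym := fun a ha b hb a' ha' b' hb' h1 h2 h3 h1' h2' h3' =>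
        tr _ _ _ _ _ (sym a ha b hb h1 h2 h3) (sym a' ha' b' hb' h1' h2' h3')
      perf := perf
      cfg_line := ⟨c, hc, d, hd, x, hx, hcd, hx1, hx2, hx3, hx4⟩
      cfg_sym := ⟨e, he, f, hf, y, hy, hef, hef1, hef2, hy1, hy2⟩ }

end abstractly

variable {K : Type u} [Field K] [Fintype K]

/-- root involutions are the conjugates of `x_71(1)` -/
theorem mem_rootClass_iff {φ : K →+* K} (F : Four K φ) {y : twistedE6 K 2} :
    y ∈ rootClass K ↔ ∃ g : twistedE6 K 2,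
      (y : GL chevE6.Idx K) = (g : GL chevE6.Idx K) * x 71 (1 : K) * (g : GL chevE6.Idx K)⁻¹ := by
  have := F.charP
  have hw : wn (K := K) w46 * x 71 1 * (wn (K := K) w46)⁻¹ = x 46 1 := by
    have h := wn_conj (K := K) w46 71 1
    rwa [show (wpm w46 71).val = 46 by decide +kernel] at h
  have hwE := wn_mem F w46
  have hcoe : ((x 46 (1 : K) : GL chevE6.Idx K) : Matrix chevE6.Idx chevE6.Idx K) = chevE6.x K e6p2 1 := coe_xG _ _ _
  have h46 : x 46 (1 : K) ∈ twistedE6 K 2 := by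
    rw [← hw]
    have h71 : x 71 (1 : K) ∈ twistedE6 K 2 := x_mem_E F (r := 71) (by decide)
    exact mul_mem (mul_mem hwE h71) (inv_mem hwE)
  constructor
  · rintro ⟨g, r, hr, rfl⟩
    have hr' : (r : GL chevE6.Idx K) = x 46 1 := Units.ext (by rw [hr, hcoe])
    refine ⟨g * ⟨_, hwE⟩, ?_⟩
    show (g : GL chevE6.Idx K) * (r : GL chevE6.Idx K) * (g : GL chevE6.Idx K)⁻¹ =
      ((g : GL chevE6.Idx K) * wn w46) * x 71 (1 : K) * ((g : GL chevE6.Idx K) * wn w46)⁻¹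
    rw [hr', ← hw]
    group
  · rintro ⟨g, hg⟩
    refine ⟨g * ⟨_, hwE⟩⁻¹, ⟨_, h46⟩, hcoe, Subtype.ext ?_⟩
    show (y : GL chevE6.Idx K) =
      ((g : GL chevE6.Idx K) * (wn w46)⁻¹) * x 46 (1 : K) * ((g : GL chevE6.Idx K) * (wn w46)⁻¹)⁻¹
    rw [hg, ← hw]
    group

theorem comm_of_conj {G : Type*} [Group G] {a b c : G} (h : c * a * c⁻¹ * (c * b * c⁻¹) = c * b * c⁻¹ * (c * a * c⁻¹)) :
    a * b = b * a := by
  have h1 : c * (a * b) * c⁻¹ = c * (b * a) * c⁻¹ := by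
    calc c * (a * b) * c⁻¹ = c * a * c⁻¹ * (c * b * c⁻¹) := by group
      _ = c * b * c⁻¹ * (c * a * c⁻¹) := h
      _ = c * (b * a) * c⁻¹ := by group
  exact mul_left_cancel (mul_right_cancel h1)

theorem eq_of_conj {G : Type*} [Group G] {a b c : G} (h : c * a * c⁻¹ = c * b * c⁻¹) : a = b :=
  mul_left_cancel (mul_right_cancel h)

/-- the type of a pair -/
def ty (K : Type u) [Field K] [Fintype K] (a b : twistedE6 K 2) (n : ℕ) : Prop :=
  ∃ c : twistedE6 K 2, (c : GL chevE6.Idx K) * (a : GL chevE6.Idx K) * (c : GL chevE6.Idx K)⁻¹ = x 71 (1 : K) ∧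
    (c : GL chevE6.Idx K) * (b : GL chevE6.Idx K) * (c : GL chevE6.Idx K)⁻¹ = x n (1 : K)

theorem relIndex_ne_two {G : Type*} [Group G] {C H : Subgroup G} (hC : ⁅C, C⁆ = C) : H.relIndex C ≠ 2 := by
  intro h
  have h1 : (H.subgroupOf C).index = 2 := h
  have hle : C ≤ H := by
    conv_lhs => rw [← hC]
    rw [Subgroup.commutator_le]
    intro a ha b hb
    have h2 : (⟨a, ha⟩ * ⟨b, hb⟩ * (⟨a, ha⟩ : C)⁻¹ * (⟨b, hb⟩ : C)⁻¹ : C) ∈ H.subgroupOf C := by
      rw [Subgroup.mul_mem_iff_of_index_two h1, Subgroup.mul_mem_iff_of_index_two h1,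
        Subgroup.mul_mem_iff_of_index_two h1, inv_mem_iff, inv_mem_iff]
      tauto
    exact Subgroup.mem_subgroupOf.1 h2
  rw [Subgroup.relIndex_eq_one.2 hle] at h
  exact absurd h (by norm_num)

/-- **The root involutions of ²E₆(2).** -/
theorem roots (K : Type u) [Field K] [Fintype K] (hK : Fintype.card K = 4) :
    Lab.Roots (twistedE6 K 2) (rootClass K) := by
  have perf : ∀ r ∈ rootClass K, ∀ H : Subgroup (twistedE6 K 2),
      H.relIndex (Subgroup.centralizer ({r} : Set (twistedE6 K 2))) ≠ 2 :=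
    fun r hr H => relIndex_ne_two (Perf1.perf_root hK hr)
  obtain ⟨h2, φ, F⟩ := exists_four K hK
  obtain ⟨θ, hθ⟩ := ClassIso.exists_equiv K hK
  have hne : ∀ r ∈ rootClass K, r ≠ 1 := by
    rintro r hr rfl
    exact TG_ne_one ((hθ _).1 hr) (by rw [map_one]; rfl)
  have hsq : ∀ r ∈ rootClass K, r * r = 1 := by
    intro r hr
    apply θ.injective
    rw [map_mul, map_one]
    exact Subtype.ext (TG_sq ((hθ _).1 hr))
  have hconj : ∀ r ∈ rootClass K, ∀ g : twistedE6 K 2, g * r * g⁻¹ ∈ rootClass K := by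
    rintro _ ⟨h, r, hr, rfl⟩ g
    exact ⟨g * h, r, hr, by group⟩
  -- explicit configurations
  have back : ∀ y ∈ TG, ∃ x ∈ rootClass K, ((θ x : Gam) : GL (Fin 78) (ZMod 2)) = y := fun y hy =>
    ⟨θ.symm ⟨y, TG_mem hy⟩, (hθ _).2 (by rw [θ.apply_symm_apply]; exact hy), by rw [θ.apply_symm_apply]⟩
  have val : ∀ {a b : twistedE6 K 2}, ((θ a : Gam) : GL (Fin 78) (ZMod 2)) = (θ b : Gam) → a = b :=
    fun h => θ.injective (Subtype.ext h)
  refine roots_of_types hne hsq hconj ?_ (ty K) ?_ ?_ ?_ ?_ ?_ ?_ ?_ ?_ perf ?_ ?_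
  · intro r hr s hs
    obtain ⟨g, hg⟩ := (mem_rootClass_iff F).1 hr
    obtain ⟨h, hh⟩ := (mem_rootClass_iff F).1 hs
    refine ⟨h * g⁻¹, Subtype.ext ?_⟩
    show ((h : GL chevE6.Idx K) * (g : GL chevE6.Idx K)⁻¹) * (r : GL chevE6.Idx K) *
      ((h : GL chevE6.Idx K) * (g : GL chevE6.Idx K)⁻¹)⁻¹ = (s : GL chevE6.Idx K)
    rw [hg, hh]
    group
  · rintro a b a' b' n ⟨c, h1, h3⟩ ⟨c', h1', h3'⟩
    refine ⟨c'⁻¹ * c, Subtype.ext ?_, Subtype.ext ?_⟩
    · show ((c' : GL chevE6.Idx K)⁻¹ * (c : GL chevE6.Idx K)) * (a : GL chevE6.Idx K) *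
        ((c' : GL chevE6.Idx K)⁻¹ * (c : GL chevE6.Idx K))⁻¹ = (a' : GL chevE6.Idx K)
      calc ((c' : GL chevE6.Idx K)⁻¹ * (c : GL chevE6.Idx K)) * (a : GL chevE6.Idx K) *
            ((c' : GL chevE6.Idx K)⁻¹ * (c : GL chevE6.Idx K))⁻¹
          = (c' : GL chevE6.Idx K)⁻¹ * ((c : GL chevE6.Idx K) * (a : GL chevE6.Idx K) * (c : GL chevE6.Idx K)⁻¹) *
              (c' : GL chevE6.Idx K) := by group
        _ = (a' : GL chevE6.Idx K) := by rw [h1, ← h1']; group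
    · show ((c' : GL chevE6.Idx K)⁻¹ * (c : GL chevE6.Idx K)) * (b : GL chevE6.Idx K) *
        ((c' : GL chevE6.Idx K)⁻¹ * (c : GL chevE6.Idx K))⁻¹ = (b' : GL chevE6.Idx K)
      calc ((c' : GL chevE6.Idx K)⁻¹ * (c : GL chevE6.Idx K)) * (b : GL chevE6.Idx K) *
            ((c' : GL chevE6.Idx K)⁻¹ * (c : GL chevE6.Idx K))⁻¹
          = (c' : GL chevE6.Idx K)⁻¹ * ((c : GL chevE6.Idx K) * (b : GL chevE6.Idx K) * (c : GL chevE6.Idx K)⁻¹) *
              (c' : GL chevE6.Idx K) := by group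
        _ = (b' : GL chevE6.Idx K) := by rw [h3, ← h3']; group
  · intro a ha b hb
    obtain ⟨g, hg⟩ := (mem_rootClass_iff F).1 ha
    obtain ⟨h, hh⟩ := (mem_rootClass_iff F).1 hb
    obtain ⟨c, hc, h1, γ, hγ, h3⟩ := pair_general F g.2 h.2
    exact ⟨γ, hγ, ⟨c, hc⟩, by rw [hg]; exact h1, by rw [hh]; exact h3⟩
  · rintro a b ⟨c, h1, h3⟩
    apply Subtype.ext
    exact eq_of_conj (h1.trans h3.symm)
  · rintro a b ⟨c, h1, h3⟩
    apply Subtype.ext
    have h4 := comm70 (K := K)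
    rw [← h1, ← h3] at h4
    exact comm_of_conj h4
  · rintro a b ⟨c, h1, h3⟩
    apply Subtype.ext
    have h4 := comm60 (K := K)
    rw [← h1, ← h3] at h4
    exact comm_of_conj h4
  · rintro a b ⟨c, h1, h3⟩ h
    have h4 := sq25 (K := K)
    have h5 : (c : GL chevE6.Idx K) * ((a : GL chevE6.Idx K) * (b : GL chevE6.Idx K)) ^ 2 * (c : GL chevE6.Idx K)⁻¹ =
        x 70 (1 : K) := by
      rw [← h4, ← h1, ← h3, pow_two, pow_two]
      group
    have h6 : ((a : GL chevE6.Idx K) * (b : GL chevE6.Idx K)) ^ 2 = 1 := congrArg Subtype.val h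
    rw [h6, mul_one, mul_inv_cancel] at h5
    exact x_ne_one (K := K) (r := 70) (by norm_num) h5.symm
  · rintro a b ⟨c, h1, h3⟩
    have h4 := cube0 (K := K)
    have h5 : (c : GL chevE6.Idx K) * ((a : GL chevE6.Idx K) * (b : GL chevE6.Idx K)) ^ 3 * (c : GL chevE6.Idx K)⁻¹ = 1 := by
      rw [← h4, ← h1, ← h3, pow_succ, pow_two, pow_succ, pow_two]
      group
    apply Subtype.ext
    show ((a : GL chevE6.Idx K) * (b : GL chevE6.Idx K)) ^ 3 = 1
    rw [mul_inv_eq_one] at h5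
    exact mul_eq_left.1 h5
  · obtain ⟨a, ha, b, hb, hab⟩ := RootsCfg.spe_ex
    obtain ⟨a, ha', rfl⟩ := back a ha
    obtain ⟨b, hb', rfl⟩ := back b hb
    refine ⟨a, ha', b, hb', (hθ _).2 ?_⟩
    rw [map_pow, map_mul]
    exact hab
  · obtain ⟨a, ha, b, hb, x, hx, h1, h3, h4, h5, h6⟩ := RootsCfg.cfg_line
    obtain ⟨a, ha', rfl⟩ := back a ha
    obtain ⟨b, hb', rfl⟩ := back b hb
    obtain ⟨x, hx', rfl⟩ := back x hx
    refine ⟨a, ha', b, hb', x, hx', (hθ _).2 ?_, (hθ _).2 ?_, (hθ _).2 ?_, (hθ _).2 ?_, val ?_⟩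
    · rw [map_mul]; exact h1
    · rw [map_pow, map_mul]; exact h3
    · rw [map_pow, map_mul]; exact h4
    · rw [map_pow, map_mul, map_mul]; exact h5
    · rw [map_mul, map_pow, map_mul, map_mul, map_pow, map_mul]; exact h6
  · obtain ⟨a, ha, b, hb, x, hx, h1, h3, h4, h5, h6⟩ := RootsCfg.cfg_sym
    obtain ⟨a, ha', rfl⟩ := back a ha
    obtain ⟨b, hb', rfl⟩ := back b hb
    obtain ⟨x, hx', rfl⟩ := back x hx
    refine ⟨a, ha', b, hb', x, hx', fun e => h1 (by rw [e]), val ?_, fun e => h4 ?_, val ?_, val ?_⟩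
    · rw [map_mul, map_mul]; exact h3
    · have h7 := (hθ _).1 e
      rwa [map_mul] at h7
    · rw [map_pow, map_mul, map_one]; exact h5
    · rw [map_pow, map_mul, map_one]; exact h6

end Cfsg.Agent.TwoESix.RootsInst
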