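import Cfsg.Agent.TwoESix.KeyQuad
import Cfsg.Agent.TwoESix.KeyExtra
import Cfsg.Agent.TwoESix.ExtTwisted
import Cfsg.Agent.TwoESix.LeviG

/-!
# KEY for `²E₆(2)`

`extra`: the facts `BabyU.Key.Extra` for `rootClass K`, `|K| = 4`.
`key`: every involution of `twistedE6 K 2` is a root involution, the product of a symplectic pair or the product of a
triangle of root involutions.
`tri_conj`: the triangles form one orbit.
-/

set_option autoImplicit false

namespace Cfsg.Agent.TwoESix.KeyAll

open Cfsg Cfsg.Lie Cfsg.Agent.BabyU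
open Cfsg.Agent.BabyU.RootCfg (Opp RootFacts)
open Cfsg.Agent.BabyU.Key (Quad Tri Sym Extra Types)

section

variable {K : Type*} [Field K] [Fintype K] (hK : Fintype.card K = 4)
  {F : Type*} [Field F] [Fintype F] (hF : Fintype.card F = 2 ^ 2)

include hK

theorem extra : Extra hF (rootClass K) where
  opp_trans := by
    intro r hr s hs r' hr' s' hs' h h'
    exact (ExtTwisted.basic K hK).opp_trans r hr s hs r' hr' s' hs' h.1 h.2 h'.1 h'.2
  spe := KeyExtra.spe hK
  odd := KeyExtra.odd hK
  ker := KeyExtra.ker hK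
  quad := KeyQuad.quad K hK

end

/-- **KEY.** -/
theorem key {K : Type*} [Field K] [Fintype K] (hK : Fintype.card K = 4) (f : twistedE6 K 2) (ff : f * f = 1)
    (hf : f ≠ 1) : Types (rootClass K) f := by
  have hF : Fintype.card K = 2 ^ 2 := by rw [hK]; rfl
  exact Key.key (LeviG.rootFacts hK hF) (extra hK hF) f ff hf

/-- The triangles form one orbit. -/
theorem tri_conj {K : Type*} [Field K] [Fintype K] (hK : Fintype.card K = 4) {p q r p' q' r' : twistedE6 K 2}
    (h : Tri (rootClass K) p q r) (h' : Tri (rootClass K) p' q' r') :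
    ∃ g : twistedE6 K 2, g * p * g⁻¹ = p' ∧ g * q * g⁻¹ = q' ∧ g * r * g⁻¹ = r' := by
  have hF : Fintype.card K = 2 ^ 2 := by rw [hK]; rfl
  exact Key.tri_conj (LeviG.rootFacts hK hF) (extra hK hF) h h'

end Cfsg.Agent.TwoESix.KeyAll
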