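import Cfsg.Agent.KFacts.LargeE
import Cfsg.Agent.KFacts.LargeAut

/-!
# Large extraspecial subgroups and automorphisms of `C(z)`

`mem_conj_of`: cosets `aQ`; `Theta`: automorphisms of the quotient; `comap_inner`, `conj_all`: the `y`-trick from the
order of the outer automorphism group of the quotient.
-/

set_option autoImplicit false

namespace Cfsg.Agent.TwoESix.SheetB

open Cfsg.Agent.Co2Type.Quad Cfsg.Agent.KFacts.LargeO2

/-! ### Cosets of `Q` -/

section Coset

variable {G : Type*} [Group G] {Q : Subgroup G} {z : G}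

/-- An element `u` of `a Q` is conjugate under `Q` to `a` or to `a z`, if `a`, `u` are not conjugate under `Q` to `a z`,
`u z`. -/
theorem mem_conj_of [Finite G] (h : Large Q z) {a u : G} (ha : a * z = z * a)
    (haz : ∀ x ∈ Q, x * a * x⁻¹ ≠ a * z) (huz : ∀ x ∈ Q, x * u * x⁻¹ ≠ u * z) (hu : u * a⁻¹ ∈ Q) :
    ∃ x ∈ Q, u = x * a * x⁻¹ ∨ u = x * a * x⁻¹ * z := by
  classical
  set g : Subgroup.centralizer ({z} : Set G) := ⟨a, Subgroup.mem_centralizer_singleton_iff.2 ha⟩ with hg
  let T : h.V →ₗ[ZMod 2] h.V := LinearMap.id + (h.act g : h.V ≃ₗ[ZMod 2] h.V).toLinearMap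
  have hT : ∀ v, T v = v + h.act g v := fun v => rfl
  have haz' : a * z * a⁻¹ = z := by rw [ha, mul_inv_cancel_right]
  by_cases hq : h.pr ⟨u * a⁻¹, hu⟩ ∈ LinearMap.range T
  · obtain ⟨v, hv⟩ := hq
    obtain ⟨x, rfl⟩ := h.pr_surjective v
    rw [hT, h.act_pr] at hv
    have e1 : h.pr (x * (h.conjQ g x)⁻¹) = h.pr ⟨u * a⁻¹, hu⟩ := by
      rw [h.pr_mul, h.pr_inv, h.neg_eq]; exact hv
    refine ⟨x, x.2, ?_⟩
    rcases h.pr_eq_pr.1 e1 with h1 | h1
    · left
      have h2 : (x : G) * (a * x * a⁻¹)⁻¹ = u * a⁻¹ := h1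
      calc u = u * a⁻¹ * a := by group
        _ = (x : G) * (a * x * a⁻¹)⁻¹ * a := by rw [h2]
        _ = x * a * (x : G)⁻¹ := by group
    · right
      have h2 : (x : G) * (a * x * a⁻¹)⁻¹ = u * a⁻¹ * z := h1
      have h3 : u * a⁻¹ = (x : G) * (a * x * a⁻¹)⁻¹ * z := by
        rw [h2, mul_assoc _ z z, h.z_sq, mul_one]
      calc u = u * a⁻¹ * a := by group
        _ = (x : G) * (a * x * a⁻¹)⁻¹ * z * a := by rw [h3]
        _ = (x : G) * (a * x * a⁻¹)⁻¹ * (z * a) := by group
        _ = (x : G) * (a * x * a⁻¹)⁻¹ * (a * z) := by rw [ha]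
        _ = x * a * (x : G)⁻¹ * z := by group
  · exfalso
    obtain ⟨f, hf1, hf2⟩ := Submodule.exists_le_ker_of_notMem hq
    obtain ⟨v, hv⟩ := h.exists_b_eq f
    have h1 : ∀ w, h.b v w = h.b v (h.act g w) := by
      intro w
      have h2 : f (T w) = 0 := hf2 ⟨w, rfl⟩
      rw [← hv, hT, map_add] at h2
      generalize h.b v w = c at h2 ⊢
      generalize h.b v (h.act g w) = d at h2 ⊢
      revert c d
      decide
    have h2 : h.act g v + v = 0 := by
      apply h.b_nondeg
      intro w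
      obtain ⟨w', rfl⟩ := (h.act g).surjective w
      rw [map_add, LinearMap.add_apply, h.b_act, ← h1]
      generalize h.b v w' = c
      revert c
      decide
    have h3 : h.act g v = v := by
      have := congrArg (· + v) h2
      simp only [add_assoc, h.add_self, add_zero, zero_add] at this
      exact this
    obtain ⟨x, rfl⟩ := h.pr_surjective v
    have h4 : a * (x : G) = x * a := by
      rw [h.act_pr] at h3
      rcases h.pr_eq_pr.1 h3 with h5 | h5
      · have h6 : a * x * a⁻¹ = (x : G) := h5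
        exact mul_inv_eq_iff_eq_mul.1 h6
      · exfalso
        have h6 : a * x * a⁻¹ = (x : G) * z := h5
        apply haz (x : G)⁻¹ (Q.inv_mem x.2)
        rw [inv_inv]
        calc (x : G)⁻¹ * a * x = (x : G)⁻¹ * (a * x * a⁻¹) * a := by group
          _ = (x : G)⁻¹ * (x * z) * a := by rw [h6]
          _ = z * a := by group
          _ = a * z := ha.symm
    have h5 : h.b (h.pr x) (h.pr ⟨u * a⁻¹, hu⟩) = 1 := by
      rw [hv]
      revert hf1
      generalize f (h.pr ⟨u * a⁻¹, hu⟩) = c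
      revert c
      decide
    have h6 : (x : G) * (u * a⁻¹) = u * a⁻¹ * x * z := (h.b_pr_one x ⟨u * a⁻¹, hu⟩).1 h5
    apply huz x x.2
    have hxz : (x : G) * z = z * x := h.comm_z x x.2
    calc (x : G) * u * (x : G)⁻¹ = x * (u * a⁻¹) * a * (x : G)⁻¹ := by group
      _ = u * a⁻¹ * x * z * a * (x : G)⁻¹ := by rw [h6]
      _ = u * a⁻¹ * x * (z * a) * (x : G)⁻¹ := by group
      _ = u * a⁻¹ * x * (a * z) * (x : G)⁻¹ := by rw [ha]
      _ = u * a⁻¹ * (x * a) * z * (x : G)⁻¹ := by group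
      _ = u * a⁻¹ * (a * x) * z * (x : G)⁻¹ := by rw [h4]
      _ = u * (x * z) * (x : G)⁻¹ := by group
      _ = u * (z * x) * (x : G)⁻¹ := by rw [hxz]
      _ = u * z := by group

end Coset

/-! ### Automorphisms of a quotient -/

section Theta

variable {P L : Type*} [Group P] [Group L]

/-- The automorphism of `L` induced by an automorphism of `P`. -/
theorem exists_theta (ψ : P →* L) (hψ : Function.Surjective ψ)
    (hch : ∀ (β : MulAut P) (x : P), ψ x = 1 → ψ (β x) = 1) :
    ∃ Θ : MulAut P →* MulAut L, ∀ β x, Θ β (ψ x) = ψ (β x) := by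
  have key : ∀ (β : MulAut P) (x y : P), ψ x = ψ y → ψ (β x) = ψ (β y) := by
    intro β x y hxy
    have h1 := hch β (x * y⁻¹) (by rw [map_mul, map_inv, hxy, mul_inv_cancel])
    rw [map_mul, map_mul, map_inv, map_inv] at h1
    exact mul_inv_eq_one.1 h1
  let f : MulAut P → (L →* L) := fun β =>
    { toFun := fun l => ψ (β (Function.surjInv hψ l))
      map_one' := hch β _ (Function.surjInv_eq hψ 1)
      map_mul' := fun a b => by
        rw [← map_mul, ← map_mul]
        apply key
        rw [map_mul, Function.surjInv_eq hψ, Function.surjInv_eq hψ, Function.surjInv_eq hψ] }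
  have hf : ∀ β x, f β (ψ x) = ψ (β x) := fun β x => key β _ _ (Function.surjInv_eq hψ _)
  have hinv : ∀ β γ : MulAut P, (∀ x, β (γ x) = x) → ∀ l, f β (f γ l) = l := by
    intro β γ hβγ l
    obtain ⟨x, rfl⟩ := hψ l
    rw [hf, hf, hβγ]
  let g : MulAut P → MulAut L := fun β =>
    { toFun := f β
      invFun := f β⁻¹
      left_inv := hinv β⁻¹ β (fun x => MulAut.inv_apply_self P β x)
      right_inv := hinv β β⁻¹ (fun x => MulAut.apply_inv_self P β x)
      map_mul' := (f β).map_mul }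
  have hg : ∀ β x, g β (ψ x) = ψ (β x) := hf
  refine ⟨MonoidHom.mk' g ?_, hg⟩
  intro β γ
  ext l
  obtain ⟨x, rfl⟩ := hψ l
  rw [MulAut.mul_apply, hg, hg, hg, MulAut.mul_apply]

/-- Induced automorphisms and conjugations. -/
theorem theta_conj {ψ : P →* L} (hψ : Function.Surjective ψ) {Θ : MulAut P →* MulAut L}
    (hΘ : ∀ β x, Θ β (ψ x) = ψ (β x)) (p : P) : Θ (MulAut.conj p) = MulAut.conj (ψ p) := by
  ext l
  obtain ⟨x, rfl⟩ := hψ l
  rw [hΘ, MulAut.conj_apply, MulAut.conj_apply, map_mul, map_mul, map_inv]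

/-- `Inn(L)` has index `n`, its preimage in `Aut(P)` has index dividing `n`. -/
theorem index_comap_dvd {A B : Type*} [Group A] [Group B] (f : A →* B) (I : Subgroup B) [I.Normal] :
    (I.comap f).index ∣ I.index := by
  rw [Subgroup.index_comap]
  exact Subgroup.relIndex_dvd_index_of_normal I f.range

variable {Q : Subgroup P} {z : P}

/-- **Automorphisms of `P` inducing inner automorphisms of `P / Q` are inner.** -/
theorem comap_inner [Finite P] (h : Large Q z) (hirr : Irr Q z) (hzc : ∀ x : P, x * z = z * x)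
    (hf : ∀ f : P →* ℤˣ, ∀ u, f u = 1) {v : P} (hv : v ∈ Q) (hv1 : v ≠ 1) (hvz : v ≠ z) {D : Set P}
    (hfix : ∀ x ∈ Q, (∀ d ∈ D, d * x * d⁻¹ = x ∨ d * x * d⁻¹ = x * z) →
      x = 1 ∨ x = z ∨ x = v ∨ x = v * z)
    (hvD : ∀ d ∈ D, d * v * d⁻¹ = v ∨ d * v * d⁻¹ = v * z)
    {ψ : P →* L} (hψ : Function.Surjective ψ) (hker : ∀ x, ψ x = 1 ↔ x ∈ Q) {Θ : MulAut P →* MulAut L}
    (hΘ : ∀ β x, Θ β (ψ x) = ψ (β x)) :
    (MulAut.conj : L →* MulAut L).range.comap Θ = (MulAut.conj : P →* MulAut P).range := by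
  apply le_antisymm
  · rintro β ⟨l, hl⟩
    obtain ⟨p, rfl⟩ := hψ l
    set α : MulAut P := (MulAut.conj p)⁻¹ * β with hα
    have hβ : β = MulAut.conj p * α := by rw [hα, mul_inv_cancel_left]
    have h1 : ∀ x, ψ (α x) = ψ x := by
      intro x
      rw [← hΘ, hα, map_mul, map_inv, theta_conj hψ hΘ, hl, inv_mul_cancel, MulAut.one_apply]
    have hz : α z = z := by
      have h2 : ∀ x, α z * x = x * α z := by
        intro x
        obtain ⟨y, rfl⟩ := α.surjective x
        rw [← map_mul, ← map_mul, hzc]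
      rcases KFacts.LargeE.cent_eq h (h2 z) (fun x _ => h2 x) with h3 | h3
      · exfalso
        exact h.z_ne (α.injective (h3.trans (map_one α).symm))
      · exact h3
    obtain ⟨y, -, hy⟩ := KFacts.LargeAut.exists_conj h hirr
      (fun f u => by
        let f' : P →* ℤˣ := f.comp
          { toFun := fun x => ⟨x, Subgroup.mem_centralizer_singleton_iff.2 (hzc x)⟩
            map_one' := rfl
            map_mul' := fun _ _ => rfl }
        exact hf f' u)
      (fun γ hγ => Or.inl (MulEquiv.ext fun x => hγ x (hzc x))) hv hv1 hvz (D := D) (fun d _ => hzc d) hfix hvD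
      (α := α) hz (fun u _ => by
        rw [← hker, map_mul, map_inv, h1, mul_inv_cancel])
    exact ⟨p * y, by rw [map_mul, ← hy, hβ]⟩
  · rintro _ ⟨p, rfl⟩
    exact ⟨ψ p, (theta_conj hψ hΘ p).symm⟩

theorem conj_normal (A : Type*) [Group A] : ((MulAut.conj : A →* MulAut A).range).Normal where
  conj_mem := by
    rintro _ ⟨p, rfl⟩ γ
    refine ⟨γ p, ?_⟩
    ext x
    rw [MulAut.mul_apply, MulAut.mul_apply, MulAut.conj_apply, MulAut.conj_apply, map_mul, map_mul, map_inv,
      MulAut.apply_inv_self]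

/-- A subgroup of index dividing six, and a subgroup of index at most two containing it. -/
theorem eq_top_of_index {A : Type*} [Group A] [Finite A] (I H : Subgroup A) [I.Normal] (hI : I.index ∣ 6) (hIH : I ≤ H)
    (hH : ∀ a b, a ∉ H → b ∉ H → a * b ∈ H) {f : A} (hf : f ∈ H) (hfI : f ∉ I) (hf2 : f * f ∈ I) : H = ⊤ := by
  by_contra hne
  obtain ⟨a, ha⟩ : ∃ a, a ∉ H := by
    by_contra hcon
    push Not at hcon
    exact hne (eq_top_iff.2 fun x _ => hcon x)
  have h2 : H.index = 2 := by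
    rw [Subgroup.index_eq_two_iff]
    refine ⟨a, fun b => ?_⟩
    by_cases hb : b ∈ H
    · refine Or.inr ⟨hb, fun h => ha ?_⟩
      have := H.mul_mem (H.inv_mem hb) h
      rwa [inv_mul_cancel_left] at this
    · exact Or.inl ⟨hH b a hb ha, hb⟩
  have h3 : 2 ∣ I.relIndex H := by
    have hn : (I.subgroupOf H).Normal := inferInstance
    set f' : H ⧸ I.subgroupOf H := QuotientGroup.mk ⟨f, hf⟩ with hf'
    have h4 : orderOf f' = 2 := by
      apply orderOf_eq_prime
      · rw [pow_two, hf', ← QuotientGroup.mk_mul, QuotientGroup.eq_one_iff]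
        exact hf2
      · rw [hf', Ne, QuotientGroup.eq_one_iff]
        exact hfI
    have h5 := orderOf_dvd_natCard f'
    rw [h4] at h5
    exact h5
  have h4 := Subgroup.relIndex_mul_index hIH
  rw [h2] at h4
  have h5 : 4 ∣ I.index := by
    rw [← h4]
    obtain ⟨c, hc⟩ := h3
    exact ⟨c, by rw [hc]; ring⟩
  have h6 := h5.trans hI
  omega

/-- **The `y`-trick**: all automorphisms of `P` map `a` to a conjugate. -/
theorem conj_all [Finite P] (h : Large Q z) (hzc : ∀ x : P, x * z = z * x)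
    {ψ : P →* L} (hker : ∀ x, ψ x = 1 ↔ x ∈ Q) {Θ : MulAut P →* MulAut L} (hψ : Function.Surjective ψ)
    (hΘ : ∀ β x, Θ β (ψ x) = ψ (β x)) (hI : (MulAut.conj : P →* MulAut P).range.index ∣ 6)
    {a : P} (hTT : ∀ γ : MulAut L, ∃ l, γ (ψ a) = l * ψ a * l⁻¹) (haz : ∀ x, x * a * x⁻¹ ≠ a * z)
    {φ : MulAut P} (hφ : φ a = a) (hφ2 : φ * φ = 1) (hφn : ∀ p, φ ≠ MulAut.conj p) (β : MulAut P) :
    ∃ p, β a = p * a * p⁻¹ := by
  have hz : ∀ β : MulAut P, β z = z := by
    intro β
    have h2 : ∀ x, β z * x = x * β z := by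
      intro x
      obtain ⟨y, rfl⟩ := β.surjective x
      rw [← map_mul, ← map_mul, hzc]
    rcases KFacts.LargeE.cent_eq h (h2 z) (fun x _ => h2 x) with h3 | h3
    · exfalso
      exact h.z_ne (β.injective (h3.trans (map_one β).symm))
    · exact h3
  have hQ : ∀ β : MulAut P, ∀ x, x ∈ Q → β x ∈ Q := by
    intro β x hx
    rw [← hker, ← hΘ, (hker x).2 hx, map_one]
  -- every automorphism maps `a` to a conjugate of `a` or `a z`
  have key : ∀ β : MulAut P, ∃ p, β a = p * a * p⁻¹ ∨ β a = p * a * p⁻¹ * z := by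
    intro β
    obtain ⟨l, hl⟩ := hTT (Θ β)
    obtain ⟨p, rfl⟩ := hψ l
    set α : MulAut P := (MulAut.conj p)⁻¹ * β with hα
    have hβ : ∀ x, β x = p * α x * p⁻¹ := by
      intro x
      rw [hα, MulAut.mul_apply, ← map_inv, MulAut.conj_apply]; group
    have h1 : ψ (α a) = ψ a := by
      have h2 : ψ (β a) = ψ p * ψ a * (ψ p)⁻¹ := by rw [← hΘ, hl]
      rw [hβ, map_mul, map_mul, map_inv] at h2
      exact mul_left_cancel (mul_right_cancel h2)
    obtain ⟨x, hx, h2⟩ := mem_conj_of h (a := a) (u := α a) (hzc a) (fun x _ => haz x)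
      (by
        intro x hx he
        obtain ⟨y, rfl⟩ := α.surjective x
        have h3 : α (y * a * y⁻¹) = α (a * z) := by
          rw [map_mul, map_mul, map_mul, map_inv, hz]; exact he
        exact haz y (α.injective h3))
      ((hker _).1 (by rw [map_mul, map_inv, h1, mul_inv_cancel]))
    refine ⟨p * x, ?_⟩
    rcases h2 with h2 | h2
    · left; rw [hβ, h2]; group
    · right
      rw [hβ, h2]
      calc p * (x * a * x⁻¹ * z) * p⁻¹ = p * (x * a * x⁻¹) * (z * p⁻¹) := by group
        _ = p * (x * a * x⁻¹) * (p⁻¹ * z) := by rw [hzc]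
        _ = p * x * a * (p * x)⁻¹ * z := by group
  let H : Subgroup (MulAut P) :=
    { carrier := {β | ∃ p, β a = p * a * p⁻¹}
      one_mem' := ⟨1, by simp⟩
      mul_mem' := by
        rintro β γ ⟨p, hp⟩ ⟨r, hr⟩
        refine ⟨β r * p, ?_⟩
        rw [MulAut.mul_apply, hr, map_mul, map_mul, map_inv, hp]; group
      inv_mem' := by
        rintro β ⟨p, hp⟩
        refine ⟨β⁻¹ p⁻¹, ?_⟩
        apply β.injective
        have e1 : β ((β⁻¹ p)⁻¹) = p⁻¹ := by rw [map_inv]; exact congrArg _ (MulAut.apply_inv_self P β _)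
        have e2 : β (β⁻¹ a) = a := MulAut.apply_inv_self P β a
        have e3 : β⁻¹ p⁻¹ = (β⁻¹ p)⁻¹ := map_inv _ _
        rw [e3, map_mul, map_mul, map_inv _ (β⁻¹ p)⁻¹, e1, e2, hp]; group }
  have hmem : ∀ β, β ∈ H ↔ ∃ p, β a = p * a * p⁻¹ := fun β => Iff.rfl
  have hnot : ∀ β, β ∉ H → ∃ p, β a = p * a * p⁻¹ * z := by
    intro β hβ
    obtain ⟨p, hp | hp⟩ := key β
    · exact absurd ⟨p, hp⟩ hβ
    · exact ⟨p, hp⟩
  have htop : H = ⊤ := by
    have := conj_normal P
    refine eq_top_of_index (MulAut.conj : P →* MulAut P).range H hI ?_ ?_ (f := φ) ⟨1, by rw [hφ]; group⟩ ?_ ?_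
    · rintro _ ⟨p, rfl⟩
      exact ⟨p, by rw [MulAut.conj_apply]⟩
    · intro β γ hβ hγ
      obtain ⟨p, hp⟩ := hnot β hβ
      obtain ⟨r, hr⟩ := hnot γ hγ
      refine ⟨β r * p, ?_⟩
      rw [MulAut.mul_apply, hr, map_mul, map_mul, map_mul, map_inv, hp, hz]
      have hzz : z * (β r)⁻¹ * z = (β r)⁻¹ := by rw [mul_assoc, hzc, ← mul_assoc, h.z_sq, one_mul]
      calc β r * (p * a * p⁻¹ * z) * (β r)⁻¹ * z = β r * (p * a * p⁻¹) * (z * (β r)⁻¹ * z) := by group
        _ = β r * p * a * (β r * p)⁻¹ := by rw [hzz]; group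
    · rintro ⟨p, hp⟩
      exact hφn p hp.symm
    · rw [hφ2]; exact Subgroup.one_mem _
  have : β ∈ H := by rw [htop]; trivial
  exact this

end Theta

/-! ### The outer automorphism group of `K` -/

section Out

variable {K L : Type*} [Group K] [Group L] {Q : Subgroup K} {z : K}

/-- The stabiliser of `z` in the automorphism group. -/
def stab (z : K) : Subgroup (MulAut K) where
  carrier := {α | α z = z}
  one_mem' := rfl
  mul_mem' := by
    intro α β (hα : α z = z) (hβ : β z = z)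
    show (α * β) z = z
    rw [MulAut.mul_apply, hβ, hα]
  inv_mem' := by
    intro α (hα : α z = z)
    show α⁻¹ z = z
    have h1 := MulAut.inv_apply_self K α z
    rwa [hα] at h1

theorem mem_stab {α : MulAut K} : α ∈ stab z ↔ α z = z := Iff.rfl

theorem stab_cent {α : MulAut K} (hα : α z = z) {x : K} (hx : x ∈ Subgroup.centralizer ({z} : Set K)) :
    α x ∈ Subgroup.centralizer ({z} : Set K) := by
  rw [Subgroup.mem_centralizer_singleton_iff] at hx ⊢
  have h1 : α (x * z) = α (z * x) := by rw [hx]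
  rw [map_mul, map_mul, hα] at h1
  exact h1

/-- The restriction to the centraliser of `z`. -/
def resC (z : K) : stab z →* MulAut (Subgroup.centralizer ({z} : Set K)) where
  toFun α :=
    { toFun := fun x => ⟨(α : MulAut K) x, stab_cent α.2 x.2⟩
      invFun := fun x => ⟨(α : MulAut K)⁻¹ x, stab_cent (inv_mem α.2) x.2⟩
      left_inv := fun x => Subtype.ext (MulAut.inv_apply_self K α x)
      right_inv := fun x => Subtype.ext (MulAut.apply_inv_self K α x)
      map_mul' := fun x y => Subtype.ext (map_mul (α : MulAut K) (x : K) (y : K)) }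
  map_one' := rfl
  map_mul' := fun _ _ => rfl

theorem coe_resC (α : stab z) (x : Subgroup.centralizer ({z} : Set K)) : (resC z α x : K) = (α : MulAut K) x := rfl

/-- **`|Out(K)|` divides `|Out(C_K(z)/Q)|`**, if `z^K` is characteristic. -/
theorem index_dvd [Finite K] (h : Large Q z) (hirr : Irr Q z)
    (hf : ∀ f : Subgroup.centralizer ({z} : Set K) →* ℤˣ, ∀ u, f u = 1)
    (hT : ∀ β : MulAut K, (∀ c : K, c * z = z * c → β c = c) → β = 1 ∨ β = MulAut.conj z)
    {v : K} (hv : v ∈ Q) (hv1 : v ≠ 1) (hvz : v ≠ z) {D : Set K} (hD : ∀ d ∈ D, d * z = z * d)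
    (hfix : ∀ x ∈ Q, (∀ d ∈ D, d * x * d⁻¹ = x ∨ d * x * d⁻¹ = x * z) →
      x = 1 ∨ x = z ∨ x = v ∨ x = v * z)
    (hvD : ∀ d ∈ D, d * v * d⁻¹ = v ∨ d * v * d⁻¹ = v * z)
    (hcls : ∀ α : MulAut K, ∃ g : K, α z = g * z * g⁻¹)
    {ψ : Subgroup.centralizer ({z} : Set K) →* L} (hψ : Function.Surjective ψ) (hker : ∀ x, ψ x = 1 ↔ (x : K) ∈ Q)
    (hch : ∀ (β : MulAut (Subgroup.centralizer ({z} : Set K))) x, ψ x = 1 → ψ (β x) = 1) :
    (MulAut.conj : K →* MulAut K).range.index ∣ (MulAut.conj : L →* MulAut L).range.index := by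
  obtain ⟨Θ, hΘ⟩ := exists_theta ψ hψ hch
  have hn := conj_normal K
  have hn' := conj_normal L
  have htop : stab z ⊔ (MulAut.conj : K →* MulAut K).range = ⊤ := by
    rw [eq_top_iff]
    intro α _
    obtain ⟨g, hg⟩ := hcls α
    have h1 : α = (MulAut.conj g) * ((MulAut.conj g)⁻¹ * α) := by rw [mul_inv_cancel_left]
    rw [h1]
    apply Subgroup.mul_mem
    · exact Subgroup.mem_sup_right ⟨g, rfl⟩
    · apply Subgroup.mem_sup_left
      show ((MulAut.conj g)⁻¹ * α) z = z
      rw [MulAut.mul_apply, hg, ← map_inv, MulAut.conj_apply]; group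
  have h1 : (MulAut.conj : K →* MulAut K).range.index = ((MulAut.conj : K →* MulAut K).range.subgroupOf (stab z)).index := by
    rw [← Subgroup.relIndex_top_right, ← htop, Subgroup.relIndex_sup_right]
    rfl
  have h2 : (MulAut.conj : K →* MulAut K).range.subgroupOf (stab z) =
      (MulAut.conj : L →* MulAut L).range.comap (Θ.comp (resC z)) := by
    ext α
    rw [Subgroup.mem_subgroupOf, Subgroup.mem_comap]
    have hval : ∀ x, (Θ.comp (resC z)) α (ψ x) = ψ (resC z α x) := fun x => hΘ _ _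
    constructor
    · rintro ⟨g, hg⟩
      have hgz : g * z = z * g := by
        have h3 : (α : MulAut K) z = z := α.2
        rw [← hg, MulAut.conj_apply] at h3
        exact mul_inv_eq_iff_eq_mul.1 h3
      refine ⟨ψ ⟨g, Subgroup.mem_centralizer_singleton_iff.2 hgz⟩, ?_⟩
      ext l
      obtain ⟨x, rfl⟩ := hψ l
      rw [hval, MulAut.conj_apply, ← map_inv, ← map_mul, ← map_mul]
      congr 1
      apply Subtype.ext
      rw [coe_resC, ← hg, MulAut.conj_apply]
      rfl
    · rintro ⟨l, hl⟩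
      obtain ⟨p, rfl⟩ := hψ l
      set α' : MulAut K := (MulAut.conj (p : K))⁻¹ * α with hα'
      have hpz : (p : K) * z = z * p := Subgroup.mem_centralizer_singleton_iff.1 p.2
      have e : (α : MulAut K) = MulAut.conj (p : K) * α' := by rw [hα', mul_inv_cancel_left]
      have e' : ∀ x, α' x = (p : K)⁻¹ * (α : MulAut K) x * p := by
        intro x
        rw [hα', MulAut.mul_apply, ← map_inv, MulAut.conj_apply, inv_inv]
      have hz' : α' z = z := by
        have h3 : (α : MulAut K) z = z := α.2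
        rw [e', h3, mul_assoc, ← hpz, inv_mul_cancel_left]
      obtain ⟨y, -, hy⟩ := KFacts.LargeAut.exists_conj h hirr hf hT hv hv1 hvz hD hfix hvD (α := α') hz'
        (by
          intro u hu
          have huC : u ∈ Subgroup.centralizer ({z} : Set K) := Subgroup.mem_centralizer_singleton_iff.2 hu
          have h3 : ψ (p⁻¹ * resC z α ⟨u, huC⟩ * p * (⟨u, huC⟩ : Subgroup.centralizer ({z} : Set K))⁻¹) = 1 := by
            rw [map_mul, map_mul, map_mul, map_inv, map_inv, ← hval, ← hl, MulAut.conj_apply]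
            group
          have h4 := (hker _).1 h3
          rw [e']
          exact h4)
      exact ⟨p * y, by rw [map_mul, ← hy, e]⟩
  rw [h1, h2]
  exact index_comap_dvd _ _

end Out

end Cfsg.Agent.TwoESix.SheetB
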