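import Cfsg.Agent.BabyU.ChartAsm
import Cfsg.Agent.S0815
import Cfsg.Agent.ClassicalGeometry.PSUAutSylow

/-!
# The outer automorphism group of `PSU₆(2)`

`index_PSU`: `|Out(PSU₆(2))| = 6`; `exists_conj_TT`: automorphisms preserve the class of transvections.
-/

set_option autoImplicit false
set_option linter.unusedSectionVars false

namespace Cfsg.Agent.TwoESix.SheetPSU

open Cfsg Cfsg.Agent.LieClassical.HermBasic Cfsg.Agent.LieClassical.HermSiegel
  Cfsg.Agent.LieClassical.HermGen Cfsg.Agent.R01.PSUSix Cfsg.Agent.ClassicalGeometry.PSUAutBasic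
  Cfsg.Agent.ClassicalGeometry.PSUAutSylow
open Cfsg.Agent.ClassicalGeometry.UnitAutBasic (tau tau_def c0 c0_ne_zero c0_tr isSiegel_c0)

variable {F : Type*} [Field F] [Fintype F] (hF : Fintype.card F = 2 ^ 2)
include hF

/-- `|Out(PSU₆(2))| = 6`. -/
theorem index_PSU : (MulAut.conj : PSU 6 F 2 →* MulAut (PSU 6 F 2)).range.index = 6 := by
  have : Fact (Nat.Prime 2) := ⟨Nat.prime_two⟩
  have h1 := Cfsg.Agent.S0815.result (F := F) 2 1 le_rfl (q := 2) (by norm_num) hF 6 (by norm_num) (by norm_num)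
  have hinj : Function.Injective (MulAut.conj : PSU 6 F 2 →* MulAut (PSU 6 F 2)) := by
    rw [injective_iff_map_eq_one]
    intro x hx
    have h2 : x ∈ Subgroup.center (PSU 6 F 2) := by
      rw [Subgroup.mem_center_iff]
      intro y
      have h3 := DFunLike.congr_fun hx y
      rw [MulAut.conj_apply, MulAut.one_apply] at h3
      exact (mul_inv_eq_iff_eq_mul.1 h3).symm
    rwa [BabyU.ChartAsm.center_eq_bot hF, Subgroup.mem_bot] at h2
  have h2 : Nat.card (MulAut.conj : PSU 6 F 2 →* MulAut (PSU 6 F 2)).range = Nat.card (PSU 6 F 2) :=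
    (Nat.card_congr (MonoidHom.ofInjective hinj).toEquiv).symm
  have h3 := (MulAut.conj : PSU 6 F 2 →* MulAut (PSU 6 F 2)).range.card_mul_index
  rw [h2, h1] at h3
  have h4 : 0 < Nat.card (PSU 6 F 2) := Nat.card_pos
  have h5 : Nat.gcd 6 (2 + 1) * (2 * 1) = 6 := by norm_num
  rw [h5, mul_comm] at h3
  exact Nat.eq_of_mul_eq_mul_right h4 h3

theorem trace_zero {μ : F} (h0 : μ ≠ 0) (h : μ + μ ^ 2 = 0) : μ = -1 := by
  have h1 : μ * (1 + μ) = 0 := by linear_combination h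
  rcases mul_eq_zero.1 h1 with h2 | h2
  · exact absurd h2 h0
  · linear_combination h2

/-- Automorphisms preserve the transvections. -/
theorem map_TT (γ : MulAut (PSU 6 F 2)) {t : PSU 6 F 2} (ht : t ∈ TT hF 6) : γ t ∈ TT hF 6 := by
  obtain ⟨v, v0, vv, rfl⟩ := ht
  obtain ⟨u, u0, uu, hu⟩ := exists_map_RR (n := 6) hF (by norm_num) γ v0 vv
  have h1 : tau hF v ∈ RR hF v vv :=
    mem_RR.2 ⟨c0 hF, c0_tr hF, by rw [tau_def, Cfsg.Agent.ClassicalGeometry.UnitAutBasic.T_eq hF vv]; rfl⟩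
  have h2 : γ (tau hF v) ∈ RR hF u uu := by
    rw [← hu]; exact ⟨_, h1, rfl⟩
  obtain ⟨μ, hμ, h3⟩ := mem_RR.1 h2
  refine ⟨u, u0, uu, ?_⟩
  rw [h3]
  by_cases h0 : μ = 0
  · exfalso
    subst h0
    have h4 : transv hF u uu 0 hμ = 1 := by
      apply ext_act
      intro w
      rw [act_transv, zero_mul, zero_smul, add_zero, act_one]
    rw [h4, map_one] at h3
    have h5 : tau hF v = 1 := γ.injective (h3.trans (map_one γ).symm)
    exact v0 ((Cfsg.Agent.ClassicalGeometry.UnitAutBasic.tau_eq_one_iff hF (by norm_num) vv).1 h5)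
  · have h4 : μ = c0 hF := (trace_zero hF h0 hμ).trans (trace_zero hF (c0_ne_zero hF) (c0_tr hF)).symm
    subst h4
    rw [tau_def, Cfsg.Agent.ClassicalGeometry.UnitAutBasic.T_eq hF uu]; rfl

/-- Automorphisms map a transvection to a conjugate. -/
theorem exists_conj_TT (γ : MulAut (PSU 6 F 2)) {t : PSU 6 F 2} (ht : t ∈ TT hF 6) : ∃ l, γ t = l * t * l⁻¹ := by
  obtain ⟨d, hd, h1⟩ := (isThreeTranspositionClass_TT (F := F) hF (n := 6) (by norm_num)).2.1
  have h2 := map_TT hF γ ht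
  rw [h1] at ht h2
  have h3 : IsConj t (γ t) := IsConj.trans (IsConj.symm ht) h2
  obtain ⟨l, hl⟩ := isConj_iff.1 h3
  exact ⟨l, hl.symm⟩

end Cfsg.Agent.TwoESix.SheetPSU
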