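import Cfsg.Agent.TwoESix.SheetA
import Cfsg.Agent.TwoESix.SheetB
import Cfsg.Agent.TwoESix.SheetPSU
import Cfsg.Agent.TwoESix.LeviG
import Cfsg.Agent.TwoESix.ExtTwisted
import Cfsg.Agent.KFacts.SheetOf
import Cfsg.Agent.LieClassical.Order72

/-!
# The fact sheet of `²E₆(2)`: automorphisms of `P = C_E(z)` and of `E`

`exists_chart`: `P → PSU₆(2)` with kernel `R`; `index_out`: `|Out(E)|` divides six; `hw`: the `y`-trick, given an
outer automorphism of order two of `P` fixing the root involution `a0`.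
-/

set_option autoImplicit false
set_option linter.unusedSectionVars false
set_option linter.unusedVariables false

namespace Cfsg.Agent.TwoESix.SheetD

open Cfsg Cfsg.Lie
open Cfsg.Agent.ChevalleyStructure
open Cfsg.Agent.ChevalleyStructure.TwE6Basic
open Cfsg.Agent.ChevalleyStructure.TwE6BN
open Cfsg.Agent.TwoESix.LeviA
open Cfsg.Agent.TwoESix.LongPairs
open Cfsg.Agent.TwoESix.LongCard
open Cfsg.Agent.TwoESix.FlagH
open Cfsg.Agent.TwoESix.FlagI
open Cfsg.Agent.TwoESix.KeyExtra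
open Cfsg.Agent.TwoESix.SheetA
open Cfsg.Agent.R01.PSUSix (TT)
open Cfsg.Agent.BabyU (rootClass)
open Cfsg.Agent.Co2Type.Quad (Large)
open Cfsg.Agent.KFacts.LargeO2 (Irr)

open scoped commutatorElement Pointwise

universe u

/-! ### Restriction to the centraliser -/

section Sub

variable {G : Type*} [Group G] {Q : Subgroup G} {z : G}

theorem large_sub (h : Large Q z) : Large (Q.subgroupOf (Subgroup.centralizer ({z} : Set G)))
    (⟨z, Subgroup.mem_centralizer_singleton_iff.2 rfl⟩ : Subgroup.centralizer ({z} : Set G)) where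
  z_mem := h.z_mem
  z_ne := fun h' => h.z_ne (congrArg Subtype.val h')
  z_sq := Subtype.ext h.z_sq
  comm_z := fun x hx => Subtype.ext (h.comm_z x hx)
  conj_mem := fun g hg x hx => h.conj_mem g (congrArg Subtype.val hg) x hx
  sq := fun x hx => (h.sq x hx).imp (fun e => Subtype.ext e) (fun e => Subtype.ext e)
  comm := fun x hx y hy => (h.comm x hx y hy).imp (fun e => Subtype.ext e) (fun e => Subtype.ext e)
  cent := fun x hx hc => (h.cent x hx (fun y hy => congrArg Subtype.val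
    (hc ⟨y, Subgroup.mem_centralizer_singleton_iff.2 (h.comm_z y hy)⟩ hy))).imp
      (fun e => Subtype.ext e) (fun e => Subtype.ext e)
  self := fun g hg hc => h.self g (congrArg Subtype.val hg) (fun y hy => congrArg Subtype.val
    (hc ⟨y, Subgroup.mem_centralizer_singleton_iff.2 (h.comm_z y hy)⟩ hy))

theorem irr_sub (h : Large Q z) (hirr : Irr Q z) : Irr (Q.subgroupOf (Subgroup.centralizer ({z} : Set G)))
    (⟨z, Subgroup.mem_centralizer_singleton_iff.2 rfl⟩ : Subgroup.centralizer ({z} : Set G)) := by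
  intro N hN hinv
  rcases hirr (N.map (Subgroup.centralizer ({z} : Set G)).subtype)
    (by rintro _ ⟨x, hx, rfl⟩; exact hN hx)
    (by
      rintro u hu _ ⟨x, hx, rfl⟩
      exact ⟨_, hinv ⟨u, Subgroup.mem_centralizer_singleton_iff.2 hu⟩ (Subtype.ext hu) x hx, rfl⟩) with h1 | h1
  · left
    intro y hy
    exact (h1 y ⟨y, hy, rfl⟩).imp (fun e => Subtype.ext e) (fun e => Subtype.ext e)
  · right
    apply le_antisymm hN
    intro y hy
    have h2 : (y : G) ∈ N.map (Subgroup.centralizer ({z} : Set G)).subtype := by rw [h1]; exact hy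
    obtain ⟨x, hx, e⟩ := h2
    have : x = y := Subtype.ext e
    rwa [this] at hx

end Sub

variable {K : Type u} [Field K]

section Four

variable [Fintype K] {φ : K →+* K} (F : Four K φ)
include F

theorem hF4 : Fintype.card K = 2 ^ 2 := by rw [F.card]; norm_num

/-- The pairs of type `60`. -/
theorem pair60 {X : ↥(twistedE6 K 2)} (hT : X ∈ rootClass K) (hc : X * r0 F = r0 F * X) (hne : X ≠ r0 F)
    (hn : X * r0 F ∉ rootClass K) :
    ∃ y : ↥(twistedE6 K 2), y * r0 F = r0 F * y ∧ X = y * a0 F * y⁻¹ := by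
  have := F.charP
  obtain ⟨h, rfl⟩ := exists_conj F hT
  obtain ⟨k, hk, h1, γ, hγ, h2⟩ := pair_general F (one_mem (twistedE6 K 2)) h.2
  generalize hX : h * r0 F * h⁻¹ = X at *
  have hX' : (h : GL chevE6.Idx K) * x 71 1 * (h : GL chevE6.Idx K)⁻¹ = (X : GL chevE6.Idx K) := by rw [← hX]; rfl
  rw [hX'] at h2
  have hk0 : (⟨k, hk⟩ : ↥(twistedE6 K 2)) * r0 F = r0 F * ⟨k, hk⟩ := by
    apply Subtype.ext
    show k * x 71 1 = x 71 1 * k
    rw [inv_one, one_mul, mul_one] at h1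
    exact mul_inv_eq_iff_eq_mul.1 h1
  have hk0' : (⟨k, hk⟩ : ↥(twistedE6 K 2))⁻¹ * r0 F = r0 F * (⟨k, hk⟩ : ↥(twistedE6 K 2))⁻¹ := by
    rw [inv_mul_eq_iff_eq_mul, ← mul_assoc, hk0, mul_assoc, mul_inv_cancel, mul_one]
  have e : (((⟨k, hk⟩ : ↥(twistedE6 K 2)) * X * (⟨k, hk⟩ : ↥(twistedE6 K 2))⁻¹ : ↥(twistedE6 K 2)) : GL chevE6.Idx K) =
      x γ 1 := h2
  generalize (⟨k, hk⟩ : ↥(twistedE6 K 2)) = κ at *
  have hkx : κ * X * κ⁻¹ * r0 F = r0 F * (κ * X * κ⁻¹) := by
    calc κ * X * κ⁻¹ * r0 F = κ * X * (κ⁻¹ * r0 F) := by group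
      _ = κ * (X * r0 F) * κ⁻¹ := by rw [hk0']; group
      _ = (κ * r0 F) * X * κ⁻¹ := by rw [hc]; group
      _ = r0 F * (κ * X * κ⁻¹) := by rw [hk0]; group
  have hc' : x γ (1 : K) * x 71 1 = x 71 1 * x γ 1 := by
    rw [← e]
    exact congrArg Subtype.val hkx
  simp only [List.mem_cons, List.not_mem_nil, or_false] at hγ
  rcases hγ with rfl | rfl | rfl | rfl | rfl
  · exfalso
    have h3 : κ * X * κ⁻¹ = r0 F := Subtype.ext e
    apply hne
    calc X = κ⁻¹ * (κ * X * κ⁻¹) * κ := by group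
      _ = κ⁻¹ * (r0 F * κ) := by rw [h3]; group
      _ = r0 F := by rw [← hk0]; group
  · exfalso
    have h3 : κ * X * κ⁻¹ = c0 F := Subtype.ext e
    apply hn
    have h4 : κ⁻¹ * (r0 F * c0 F) * κ⁻¹⁻¹ = X * r0 F := by
      rw [← h3, ← hkx, inv_inv]
      calc κ⁻¹ * (κ * X * κ⁻¹ * r0 F) * κ = X * (κ⁻¹ * r0 F) * κ := by group
        _ = X * r0 F := by rw [hk0']; group
    rw [← h4]
    exact conj_T (bc_mem F) κ⁻¹
  · refine ⟨κ⁻¹, hk0', ?_⟩
    have h3 : κ * X * κ⁻¹ = a0 F := Subtype.ext e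
    rw [← h3]; group
  · exfalso
    have h3 : (x 71 (1 : K) * x 25 1) ^ 2 = 1 := by
      rw [pow_two]
      calc x 71 (1 : K) * x 25 1 * (x 71 1 * x 25 1) = x 71 1 * (x 25 1 * x 71 1) * x 25 1 := by group
        _ = (x 71 1 * x 71 1) * (x 25 1 * x 25 1) := by rw [hc']; group
        _ = 1 := by rw [x_sq, x_sq, one_mul]
    rw [sq25] at h3
    exact x_ne_one (K := K) (r := 70) (by norm_num) h3
  · exfalso
    have h3 : (x 71 (1 : K) * x 0 1) ^ 2 = 1 := by
      rw [pow_two]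
      calc x 71 (1 : K) * x 0 1 * (x 71 1 * x 0 1) = x 71 1 * (x 0 1 * x 71 1) * x 0 1 := by group
        _ = (x 71 1 * x 71 1) * (x 0 1 * x 0 1) := by rw [hc']; group
        _ = 1 := by rw [x_sq, x_sq, one_mul]
    have h4 := cube0 (K := K)
    rw [pow_succ, h3, one_mul] at h4
    have h5 : x 71 (1 : K) = x 0 1 := by
      rw [eq_inv_of_mul_eq_one_left h4, inv_eq_of_mul_eq_one_left (x_sq 0)]
    exact x_ne (K := K) (r := 71) (s := 0) (by norm_num) (by norm_num) (by norm_num) h5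

/-- `R` is characteristic in `P`. -/
theorem RE_char (β : MulAut (Subgroup.centralizer ({r0 F} : Set ↥(twistedE6 K 2))))
    (x' : Subgroup.centralizer ({r0 F} : Set ↥(twistedE6 K 2))) (hx : (x' : ↥(twistedE6 K 2)) ∈ RE K) :
    ((β x' : Subgroup.centralizer ({r0 F} : Set ↥(twistedE6 K 2))) : ↥(twistedE6 K 2)) ∈ RE K := by
  have := finite_E (K := K)
  have hR2 : IsPGroup 2 ↥(RE K) := (S_two F).to_le fun q hq => UR_le_U hq
  let N : Subgroup ↥(twistedE6 K 2) :=
    (((RE K).subgroupOf (Subgroup.centralizer ({r0 F} : Set ↥(twistedE6 K 2)))).map β.toMonoidHom).map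
      (Subgroup.centralizer ({r0 F} : Set ↥(twistedE6 K 2))).subtype
  have hN : N ≤ RE K := by
    apply R_max F
    · rintro _ ⟨y, -, rfl⟩
      exact Subgroup.mem_centralizer_singleton_iff.1 y.2
    · apply IsPGroup.map
      apply IsPGroup.map
      exact hR2.comap_subtype
    · rintro y hy _ ⟨_, ⟨w, hw, rfl⟩, rfl⟩
      obtain ⟨v, hv⟩ := β.surjective ⟨y, Subgroup.mem_centralizer_singleton_iff.2 hy⟩
      refine ⟨β (v * w * v⁻¹), ⟨v * w * v⁻¹, ?_, rfl⟩, ?_⟩
      · exact R_norm F v (Subgroup.mem_centralizer_singleton_iff.1 v.2) w hw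
      · have h1 : β (v * w * v⁻¹) = β v * β w * (β v)⁻¹ := by rw [map_mul, map_mul, map_inv]
        rw [h1, hv]
        rfl
  exact hN ⟨_, ⟨x', hx, rfl⟩, rfl⟩

/-- **The chart at `z`**: `P → PSU₆(2)` with kernel `R`. -/
theorem exists_chart : ∃ ψ : ↥(Subgroup.centralizer ({r0 F} : Set ↥(twistedE6 K 2))) →* PSU 6 K 2,
    Function.Surjective ψ ∧ (∀ x', ψ x' = 1 ↔ (x' : ↥(twistedE6 K 2)) ∈ RE K) ∧
    ∀ h : a0 F ∈ Subgroup.centralizer ({r0 F} : Set ↥(twistedE6 K 2)), ψ ⟨a0 F, h⟩ ∈ TT (hF4 F) 6 := by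
  have := finite_E (K := K)
  have RF := LeviG.rootFacts_four F (hF4 F)
  have hr : r0 F ∈ rootClass K := xe_T F 71 (by decide +kernel)
  obtain ⟨ψ, C⟩ := RF.chart (r0 F) hr
  obtain ⟨r, hr', s, hs', hop⟩ := RF.opp
  obtain ⟨g, hg⟩ := RF.one r hr' (r0 F) hr
  have hs0 : g * s * g⁻¹ ∈ rootClass K := RF.conj s hs' g
  have hop0 : BabyU.RootCfg.Opp (r0 F) (g * s * g⁻¹) := by
    have h1 := hop.conj g
    rwa [hg] at h1
  have hsurj : Function.Surjective ψ := fun u => by
    obtain ⟨x', -, h⟩ := C.surj _ hs0 hop0 u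
    exact ⟨x', h⟩
  have hR2 : IsPGroup 2 ↥(RE K) := (S_two F).to_le fun q hq => UR_le_U hq
  have hker1 : ∀ x', ψ x' = 1 → (x' : ↥(twistedE6 K 2)) ∈ RE K := by
    have h1 : (ψ.ker.map (Subgroup.centralizer ({r0 F} : Set ↥(twistedE6 K 2))).subtype) ≤ RE K := by
      apply R_max F
      · rintro _ ⟨y, -, rfl⟩
        exact Subgroup.mem_centralizer_singleton_iff.1 y.2
      · apply IsPGroup.map
        rintro ⟨y, hy⟩
        obtain ⟨k, hk⟩ := C.ker y hy
        exact ⟨k, Subtype.ext hk⟩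
      · rintro y hy _ ⟨w, hw, rfl⟩
        exact ⟨_, (inferInstance : ψ.ker.Normal).conj_mem w hw ⟨y, Subgroup.mem_centralizer_singleton_iff.2 hy⟩, rfl⟩
    intro x' hx
    exact h1 ⟨x', hx, rfl⟩
  have hker2 : ∀ x' : ↥(Subgroup.centralizer ({r0 F} : Set ↥(twistedE6 K 2))),
      (x' : ↥(twistedE6 K 2)) ∈ RE K → ψ x' = 1 := by
    let N : Subgroup (PSU 6 K 2) := ((RE K).subgroupOf (Subgroup.centralizer ({r0 F} : Set ↥(twistedE6 K 2)))).map ψ
    have hN2 : IsPGroup 2 N := (hR2.comap_subtype).map ψ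
    have hNn : N.Normal := by
      constructor
      rintro _ ⟨y, hy, rfl⟩ l
      obtain ⟨p, rfl⟩ := hsurj l
      refine ⟨p * y * p⁻¹, R_norm F p (Subgroup.mem_centralizer_singleton_iff.1 p.2) y hy, ?_⟩
      rw [map_mul, map_mul, map_inv]
    have hs : IsSimpleGroup (PSU 6 K 2) := Cfsg.Agent.S0283.result (q := 2) (hF4 F) 6 (by norm_num) (by norm_num)
    have hNb : N = ⊥ := by
      rcases hNn.eq_bot_or_eq_top with h | h
      · exact h
      · exfalso
        have : Fact (Nat.Prime 2) := ⟨Nat.prime_two⟩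
        have h2 : IsPGroup 2 (PSU 6 K 2) := by
          intro u
          obtain ⟨k, hk⟩ := hN2 ⟨u, by rw [h]; trivial⟩
          exact ⟨k, congrArg Subtype.val hk⟩
        have h3 : Nontrivial (Subgroup.center (PSU 6 K 2)) := h2.center_nontrivial
        rw [BabyU.ChartAsm.center_eq_bot (hF4 F)] at h3
        exact not_subsingleton (⊥ : Subgroup (PSU 6 K 2)) inferInstance
    intro x' hx
    have h1 : ψ x' ∈ N := ⟨x', hx, rfl⟩
    rwa [hNb, Subgroup.mem_bot] at h1
  refine ⟨ψ, hsurj, fun x' => ⟨hker1 x', hker2 x'⟩, fun h => ?_⟩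
  rcases C.root ⟨a0 F, h⟩ (xe_T F 60 (by decide +kernel)) with h1 | h1
  · exact absurd (hker1 _ h1) (a_R F)
  · exact h1

theorem commutator_top : _root_.commutator (Subgroup.centralizer ({r0 F} : Set ↥(twistedE6 K 2))) = ⊤ := by
  apply Subgroup.map_injective (Subgroup.centralizer ({r0 F} : Set ↥(twistedE6 K 2))).subtype_injective
  rw [_root_.commutator_def, Subgroup.map_commutator, ← MonoidHom.range_eq_map, Subgroup.range_subtype, SheetA.perf F]

theorem hperf (f : Subgroup.centralizer ({r0 F} : Set ↥(twistedE6 K 2)) →* ℤˣ) (u) : f u = 1 := by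
  have h1 : _root_.commutator (Subgroup.centralizer ({r0 F} : Set ↥(twistedE6 K 2))) ≤ f.ker :=
    Abelianization.commutator_subset_ker f
  rw [commutator_top F] at h1
  exact h1 (Subgroup.mem_top u)

theorem c0_fix (d : ↥(twistedE6 K 2)) (hd : d ∈ SE K) : d * c0 F * d⁻¹ = c0 F ∨ d * c0 F * d⁻¹ = c0 F * r0 F := by
  rw [c0_comm_r0 F]
  exact c_fix F d hd

theorem c0_uni (x' : ↥(twistedE6 K 2)) (hx : x' ∈ RE K)
    (h : ∀ d ∈ SE K, d * x' * d⁻¹ = x' ∨ d * x' * d⁻¹ = x' * r0 F) :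
    x' = 1 ∨ x' = r0 F ∨ x' = c0 F ∨ x' = c0 F * r0 F := by
  rw [c0_comm_r0 F]
  exact FlagL.c_uni F x' hx (fun d hd => by rw [← RE_comm_r0 F hx]; exact h d hd)

theorem c0_ne : c0 F ≠ 1 := fun h => x_ne_one (K := K) (r := 70) (by norm_num) (congrArg Subtype.val h)

theorem c0_ne' : c0 F ≠ r0 F := fun h =>
  x_ne (K := K) (r := 70) (s := 71) (by norm_num) (by norm_num) (by norm_num) (congrArg Subtype.val h)

/-- **`|Out(²E₆(2))|` divides six.** -/
theorem index_out : (MulAut.conj : ↥(twistedE6 K 2) →* MulAut ↥(twistedE6 K 2)).range.index ∣ 6 := by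
  have := finite_E (K := K)
  obtain ⟨ψ, hsurj, hker, -⟩ := exists_chart F
  have hr : r0 F ∈ rootClass K := xe_T F 71 (by decide +kernel)
  have h1 := SheetB.index_dvd (large F) (irr F) (hperf F) (aut_triv F) (c_R F) (c0_ne F) (c0_ne' F)
    (D := (SE K : Set ↥(twistedE6 K 2))) (fun d hd => S_cent F d hd) (c0_uni F) (c0_fix F)
    (fun α => by
      have h2 := (ExtTwisted.auto K K F.card F.card α (r0 F)).1 hr
      obtain ⟨k, hk⟩ := exists_conj F h2
      exact ⟨k, hk.symm⟩)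
    hsurj hker
    (fun β x' hx => (hker _).2 (RE_char F β x' ((hker _).1 hx)))
  rw [SheetPSU.index_PSU (hF4 F)] at h1
  exact h1

omit F [Fintype K] in
/-- A group with outer automorphism group of order dividing six has the Schreier property. -/
theorem sch_of_index {G : Type*} [Group G] [Finite G] (h : (MulAut.conj : G →* MulAut G).range.index ∣ 6) :
    Schreier.Basic.Sch G := by
  intro C hC
  have hn := Schreier.Basic.conj_range_normal G
  have h1 : Group.IsSolvable (MulAut G ⧸ (MulAut.conj : G →* MulAut G).range) :=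
    LieClassical.Order72.isSolvable_of_card_dvd (h.trans (by norm_num))
  intro c hc
  have h2 := Schreier.Basic.apply_eq_one_of_perfect (QuotientGroup.mk' (MulAut.conj : G →* MulAut G).range) hC hc
  exact (QuotientGroup.eq_one_iff _).1 h2

/-- The outer automorphism group of `P` has order dividing six, and all its automorphisms map `a0` to a conjugate. -/
theorem conj_a0 {φ' : MulAut (Subgroup.centralizer ({r0 F} : Set ↥(twistedE6 K 2)))}
    (ha : a0 F ∈ Subgroup.centralizer ({r0 F} : Set ↥(twistedE6 K 2))) (h1 : φ' ⟨a0 F, ha⟩ = ⟨a0 F, ha⟩)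
    (h2 : φ' * φ' = 1) (h3 : ∀ p, φ' ≠ MulAut.conj p)
    (β : MulAut (Subgroup.centralizer ({r0 F} : Set ↥(twistedE6 K 2)))) :
    ∃ p, β ⟨a0 F, ha⟩ = p * ⟨a0 F, ha⟩ * p⁻¹ := by
  have := finite_E (K := K)
  obtain ⟨ψ, hsurj, hker, hTT⟩ := exists_chart F
  have hch : ∀ (β : MulAut (Subgroup.centralizer ({r0 F} : Set ↥(twistedE6 K 2)))) x', ψ x' = 1 → ψ (β x') = 1 :=
    fun β x' hx => (hker _).2 (RE_char F β x' ((hker _).1 hx))
  obtain ⟨Θ, hΘ⟩ := SheetB.exists_theta ψ hsurj hch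
  have hzc : ∀ x' : Subgroup.centralizer ({r0 F} : Set ↥(twistedE6 K 2)),
      x' * ⟨r0 F, Subgroup.mem_centralizer_singleton_iff.2 rfl⟩ =
        ⟨r0 F, Subgroup.mem_centralizer_singleton_iff.2 rfl⟩ * x' := fun x' =>
    Subtype.ext (Subgroup.mem_centralizer_singleton_iff.1 x'.2)
  have hker' : ∀ x', ψ x' = 1 ↔ x' ∈ (RE K).subgroupOf (Subgroup.centralizer ({r0 F} : Set ↥(twistedE6 K 2))) := hker
  have hc : c0 F ∈ Subgroup.centralizer ({r0 F} : Set ↥(twistedE6 K 2)) :=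
    Subgroup.mem_centralizer_singleton_iff.2 (c0_comm_r0 F)
  have hI : (MulAut.conj : Subgroup.centralizer ({r0 F} : Set ↥(twistedE6 K 2)) →* MulAut _).range.index ∣ 6 := by
    have hn' := SheetB.conj_normal (PSU 6 K 2)
    rw [← SheetPSU.index_PSU (hF4 F), ← SheetB.comap_inner (large_sub (large F)) (irr_sub (large F) (irr F)) hzc (hperf F)
      (v := ⟨c0 F, hc⟩) (c_R F) (fun h => c0_ne F (congrArg Subtype.val h)) (fun h => c0_ne' F (congrArg Subtype.val h))
      (D := {d | (d : ↥(twistedE6 K 2)) ∈ SE K})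
      (fun x' hx h => by
        have h4 := c0_uni F x' hx (fun d hd => by
          rcases h ⟨d, Subgroup.mem_centralizer_singleton_iff.2 (S_cent F d hd)⟩ hd with h5 | h5
          · exact Or.inl (congrArg Subtype.val h5)
          · exact Or.inr (congrArg Subtype.val h5))
        rcases h4 with h5 | h5 | h5 | h5
        · exact Or.inl (Subtype.ext h5)
        · exact Or.inr (Or.inl (Subtype.ext h5))
        · exact Or.inr (Or.inr (Or.inl (Subtype.ext h5)))
        · exact Or.inr (Or.inr (Or.inr (Subtype.ext h5))))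
      (fun d hd => by
        rcases c0_fix F d hd with h5 | h5
        · exact Or.inl (Subtype.ext h5)
        · exact Or.inr (Subtype.ext h5))
      hsurj hker' hΘ]
    exact SheetB.index_comap_dvd _ _
  refine SheetB.conj_all (large_sub (large F)) hzc hker' hsurj hΘ hI (a := ⟨a0 F, ha⟩)
    (fun γ => SheetPSU.exists_conj_TT (hF4 F) γ (hTT ha)) ?_ h1 h2 h3 β
  intro x' he
  have h4 : (x' : ↥(twistedE6 K 2)) * a0 F * (x' : ↥(twistedE6 K 2))⁻¹ = a0 F * r0 F := congrArg Subtype.val he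
  apply FlagI.ab_not F
  have h5 := conj_T (xe_T F 60 (by decide +kernel)) (x' : ↥(twistedE6 K 2))
  rw [← h4]
  exact h5

/-- the involutions `k` for the `y`-trick -/
theorem exists_k : ∃ k : ↥(twistedE6 K 2), k * r0 F * k⁻¹ = a0 F ∧
    ∃ y : ↥(twistedE6 K 2), y * r0 F = r0 F * y ∧ k⁻¹ * r0 F * k = y * a0 F * y⁻¹ := by
  obtain ⟨k, hk⟩ := exists_conj F (xe_T F 60 (by decide +kernel))
  refine ⟨k, hk, ?_⟩
  have hT : k⁻¹ * r0 F * k ∈ rootClass K := by
    have := conj_T (xe_T F 71 (by decide +kernel)) k⁻¹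
    rwa [inv_inv] at this
  have hab : a0 F * r0 F = r0 F * a0 F := ab F
  apply pair60 F hT
  · calc k⁻¹ * r0 F * k * r0 F = k⁻¹ * (r0 F * (k * r0 F * k⁻¹)) * k := by group
      _ = k⁻¹ * (r0 F * a0 F) * k := by rw [hk]
      _ = k⁻¹ * (k * r0 F * k⁻¹ * r0 F) * k := by rw [← hab, hk]
      _ = r0 F * (k⁻¹ * r0 F * k) := by group
  · intro h
    apply a_ne F
    calc a0 F = k * r0 F * k⁻¹ := hk.symm
      _ = k * (k⁻¹ * r0 F * k) * k⁻¹ := by rw [h]
      _ = r0 F := by group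
  · intro h
    apply FlagI.ab_not F
    have h1 := conj_T h k
    have e : k * (k⁻¹ * r0 F * k * r0 F) * k⁻¹ = a0 F * r0 F := by
      calc k * (k⁻¹ * r0 F * k * r0 F) * k⁻¹ = r0 F * (k * r0 F * k⁻¹) := by group
        _ = a0 F * r0 F := by rw [hk, hab]
    rwa [e] at h1

end Four

end Cfsg.Agent.TwoESix.SheetD
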