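import Cfsg.Agent.TwoESix.SheetC
import Cfsg.Agent.TwoESix.SheetD
import Cfsg.Agent.OddHalf.D8.SheetMap

/-!
# The fact sheet of `²E₆(2)`

`sheet`: `SheetE (r0 F) (C_E(r0 F)) (RE K)`; `exists_sheet`: the sheet for a group isomorphic to `²E₆(2)`;
`index_of_equiv`, `sch_of_equiv`: the outer automorphism group.
-/

set_option autoImplicit false
set_option linter.unusedSectionVars false
set_option linter.unusedVariables false

namespace Cfsg.Agent.TwoESix.SheetMain

open Cfsg Cfsg.Lie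
open Cfsg.Agent.ChevalleyStructure.TwE6BN
open Cfsg.Agent.TwoESix.LeviA
open Cfsg.Agent.TwoESix.LongCard
open Cfsg.Agent.TwoESix.FlagH
open Cfsg.Agent.TwoESix.SheetA
open Cfsg.Agent.TwoESix.SheetD
open Cfsg.Agent.OddHalf.D8.Sheet

universe u

variable {K : Type u} [Field K] [Fintype K] {φ : K →+* K} (F : Four K φ)

/-- The field automorphism: an automorphism of order two fixing `r0`, `a0`, not inner on `P`. -/
def Fld : Prop := ∃ σ : MulAut ↥(twistedE6 K 2), σ (r0 F) = r0 F ∧ σ (a0 F) = a0 F ∧ σ * σ = 1 ∧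
  ∀ p : ↥(twistedE6 K 2), p * r0 F = r0 F * p →
    ¬ ∀ x' : ↥(twistedE6 K 2), x' * r0 F = r0 F * x' → σ x' = p * x' * p⁻¹

omit [Field K] [Fintype K] in
theorem inv_comm {G : Type*} [Group G] {p z : G} (h : p * z = z * p) : p⁻¹ * z = z * p⁻¹ := by
  rw [inv_mul_eq_iff_eq_mul, ← mul_assoc, h, mul_assoc, mul_inv_cancel, mul_one]

include F

/-- Automorphisms of `P` fixing `z` map `w = y a0 y⁻¹` to a conjugate. -/
theorem conj_w (hσ : Fld F) {y : ↥(twistedE6 K 2)} (hy : y * r0 F = r0 F * y)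
    (hw : y * a0 F * y⁻¹ ∈ Subgroup.centralizer ({r0 F} : Set ↥(twistedE6 K 2)))
    (β : MulAut (Subgroup.centralizer ({r0 F} : Set ↥(twistedE6 K 2)))) :
    ∃ p : ↥(twistedE6 K 2), p * r0 F = r0 F * p ∧
      (β ⟨y * a0 F * y⁻¹, hw⟩ : ↥(twistedE6 K 2)) = p * (y * a0 F * y⁻¹) * p⁻¹ := by
  obtain ⟨σ, h1, h2, h3, h4⟩ := hσ
  have ha : a0 F ∈ Subgroup.centralizer ({r0 F} : Set ↥(twistedE6 K 2)) :=
    Subgroup.mem_centralizer_singleton_iff.2 (ab F)
  have hyC : y ∈ Subgroup.centralizer ({r0 F} : Set ↥(twistedE6 K 2)) := Subgroup.mem_centralizer_singleton_iff.2 hy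
  obtain ⟨p, hp⟩ := conj_a0 F (φ' := SheetB.resC (r0 F) ⟨σ, h1⟩) ha (Subtype.ext h2)
    (by
      rw [← map_mul]
      have : (⟨σ, h1⟩ * ⟨σ, h1⟩ : SheetB.stab (r0 F)) = 1 := Subtype.ext h3
      rw [this, map_one])
    (fun p hp => by
      apply h4 p (Subgroup.mem_centralizer_singleton_iff.1 p.2)
      intro x' hx
      have h5 := congrArg (fun γ : MulAut (Subgroup.centralizer ({r0 F} : Set ↥(twistedE6 K 2))) =>
        ((γ ⟨x', Subgroup.mem_centralizer_singleton_iff.2 hx⟩ :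
          Subgroup.centralizer ({r0 F} : Set ↥(twistedE6 K 2))) : ↥(twistedE6 K 2))) hp
      exact h5) β
  refine ⟨(β ⟨y, hyC⟩ : ↥(twistedE6 K 2)) * p * y⁻¹, ?_, ?_⟩
  · have e1 := Subgroup.mem_centralizer_singleton_iff.1 (β ⟨y, hyC⟩).2
    have e2 := Subgroup.mem_centralizer_singleton_iff.1 p.2
    have e3 := inv_comm hy
    rw [mul_assoc, e3, ← mul_assoc, mul_assoc _ (p : ↥(twistedE6 K 2)), e2, ← mul_assoc, e1]
    group
  · have e : (⟨y * a0 F * y⁻¹, hw⟩ : Subgroup.centralizer ({r0 F} : Set ↥(twistedE6 K 2))) =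
        ⟨y, hyC⟩ * ⟨a0 F, ha⟩ * ⟨y, hyC⟩⁻¹ := rfl
    have e2 : β ⟨y * a0 F * y⁻¹, hw⟩ = β ⟨y, hyC⟩ * (p * ⟨a0 F, ha⟩ * p⁻¹) * (β ⟨y, hyC⟩)⁻¹ := by
      rw [e, map_mul, map_mul, map_inv, hp]
    rw [e2]
    show (β ⟨y, hyC⟩ : ↥(twistedE6 K 2)) * (p * a0 F * (p : ↥(twistedE6 K 2))⁻¹) * (β ⟨y, hyC⟩ : ↥(twistedE6 K 2))⁻¹ = _
    group

/-- **The sheet of `²E₆(2)`.** -/
theorem sheet_of (hσ : Fld F) :
    SheetE (r0 F) (Subgroup.centralizer ({r0 F} : Set ↥(twistedE6 K 2))) (RE K) := by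
  have := finite_E (K := K)
  obtain ⟨k, hk, y, hy, hw⟩ := exists_k F
  have hind := index_out F
  refine KFacts.SheetOf.sheetE (large F) (irr F) (commutator_top F) (by rw [index_cent F]; decide) ?_
    (c_R F) (c0_ne F) (c0_ne' F) (D := (SE K : Set ↥(twistedE6 K 2))) (fun d hd => S_cent F d hd) (c0_uni F) (c0_fix F)
    (aut_triv F) (fun h => by have := h.trans hind; omega) (sch_of_index hind) (k := k) (by rw [hk]; exact ab F)
    (by rw [hk]; exact a_R F) ?_
  · obtain ⟨p, hp, -, q, hq, -, e⟩ := R_non F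
    refine ⟨p, hp, q, hq, fun h => r0_ne' F ?_⟩
    rw [← e, commutatorElement_eq_one_iff_mul_comm]
    exact h
  · intro hkz β hβ
    have key : ∀ (w : ↥(twistedE6 K 2)) (hw' : w = y * a0 F * y⁻¹)
        (hc : w ∈ Subgroup.centralizer ({r0 F} : Set ↥(twistedE6 K 2))),
        ∃ p : ↥(twistedE6 K 2), p * r0 F = r0 F * p ∧ (β ⟨w, hc⟩ : ↥(twistedE6 K 2)) = p * w * p⁻¹ := by
      rintro _ rfl hc
      exact conj_w F hσ hy hc β
    exact key _ hw hkz

theorem fld : Fld F := SheetC.exists_field F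

/-- **The sheet of `²E₆(2)`.** -/
theorem sheet : SheetE (r0 F) (Subgroup.centralizer ({r0 F} : Set ↥(twistedE6 K 2))) (RE K) := sheet_of F (fld F)

/-! ### Isomorphic copies -/

omit F in
/-- The order of the outer automorphism group is invariant. -/
theorem index_equiv {A B : Type*} [Group A] [Group B] (e : A ≃* B) :
    (MulAut.conj : A →* MulAut A).range.index = (MulAut.conj : B →* MulAut B).range.index := by
  have h1 : (MulAut.conj : B →* MulAut B).range.comap (MulAut.congr e).toMonoidHom =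
      (MulAut.conj : A →* MulAut A).range := by
    ext α
    rw [Subgroup.mem_comap]
    constructor
    · rintro ⟨b, hb⟩
      obtain ⟨a, rfl⟩ := e.surjective b
      refine ⟨a, ?_⟩
      ext x
      have h2 := DFunLike.congr_fun hb (e x)
      have h3 : (MulAut.congr e).toMonoidHom α (e x) = e (α x) := by
        show e (α (e.symm (e x))) = e (α x)
        rw [e.symm_apply_apply]
      rw [h3, MulAut.conj_apply, ← map_mul, ← map_inv, ← map_mul] at h2
      rw [MulAut.conj_apply]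
      exact e.injective h2
    · rintro ⟨a, rfl⟩
      refine ⟨e a, ?_⟩
      ext y
      obtain ⟨x, rfl⟩ := e.surjective y
      show e a * e x * (e a)⁻¹ = e (a * e.symm (e x) * a⁻¹)
      rw [e.symm_apply_apply, map_mul, map_mul, map_inv]
  rw [← h1]
  exact Subgroup.index_comap_of_surjective _ (MulAut.congr e).surjective

omit F [Field K] [Fintype K] in
/-- `|Out(X)|` divides six for `X ≅ ²E₆(2)`. -/
theorem index_of_equiv {F' : Type*} [Field F'] [Fintype F'] (hF : Fintype.card F' = 4) {X : Type*} [Group X]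
    (e : X ≃* ↥(twistedE6 F' 2)) : (MulAut.conj : X →* MulAut X).range.index ∣ 6 := by
  obtain ⟨-, φ, F⟩ := exists_four F' hF
  rw [index_equiv e]
  exact index_out F

omit F [Field K] [Fintype K] in
/-- The Schreier property for `X ≅ ²E₆(2)`. -/
theorem sch_of_equiv {F' : Type*} [Field F'] [Fintype F'] (hF : Fintype.card F' = 4) {X : Type*} [Group X] [Finite X]
    (e : X ≃* ↥(twistedE6 F' 2)) : Schreier.Basic.Sch X := sch_of_index (index_of_equiv hF e)

omit F [Field K] [Fintype K] in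
/-- **The sheet of `X ≅ ²E₆(2)`.** -/
theorem exists_sheet {F' : Type*} [Field F'] [Fintype F'] (hF : Fintype.card F' = 4) {X : Type*} [Group X]
    (e : X ≃* ↥(twistedE6 F' 2)) : ∃ (z : X) (P R : Subgroup X), SheetE z P R := by
  obtain ⟨-, φ, F⟩ := exists_four F' hF
  exact ⟨_, _, _, Cfsg.Agent.OddHalf.D8.SheetMap.sheetE_map e.symm (sheet F)⟩

end Cfsg.Agent.TwoESix.SheetMain
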