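import Cfsg.Agent.TwoESix.SheetA
import Cfsg.Agent.TwoESix.LeviCard
import Cfsg.Agent.OddHalf.CaseM.Sheet

/-!
# The sheet of case (M) for `²E₆(2)`

`sheetM (h : SheetE (r0 F) (centralizer {r0 F}) (RE K)) : SheetM (centralizer {r0 F}) (RE K)`.
-/

set_option autoImplicit false
set_option linter.unusedSectionVars false
set_option linter.unusedVariables false

namespace Cfsg.Agent.TwoESix.SheetMM

open Cfsg Cfsg.Lie
open Cfsg.Agent.ChevalleyStructure
open Cfsg.Agent.ChevalleyStructure.Elts hiding x_add x_zero x_eq_one_iff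
open Cfsg.Agent.ChevalleyStructure.TwE6Basic
open Cfsg.Agent.ChevalleyStructure.TwE6BN
open Cfsg.Agent.TwoESix.LeviA
open Cfsg.Agent.TwoESix.LeviB
open Cfsg.Agent.TwoESix.LeviC
open Cfsg.Agent.TwoESix.LeviD
open Cfsg.Agent.TwoESix.LongPairs
open Cfsg.Agent.TwoESix.LongCard
open Cfsg.Agent.TwoESix.FlagH
open Cfsg.Agent.TwoESix.FlagI
open Cfsg.Agent.TwoESix.KeyExtra
open Cfsg.Agent.TwoESix.SheetA
open Cfsg.Agent.OddHalf.D8.Sheet
open Cfsg.Agent.OddHalf.CaseM

open scoped commutatorElement Pointwise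

universe u

variable {K : Type u} [Field K] [Fintype K] {φ : K →+* K} (F : Four K φ)
include F

/-- `C_E(r0)` -/
abbrev PE : Subgroup ↥(twistedE6 K 2) := Subgroup.centralizer ({r0 F} : Set ↥(twistedE6 K 2))

theorem mem_PE {y : ↥(twistedE6 K 2)} : y ∈ PE F ↔ y * r0 F = r0 F * y := Subgroup.mem_centralizer_singleton_iff

/-- `|R| ≤ 2^21` -/
theorem card_RE_le : Nat.card (RE K) ≤ 2 ^ (2 * 10 + 1) := by
  have := finite_E (K := K)
  have hfin : Finite (↥(RE K) × ↥(chevE6.posUnipotent K ⊓ LL K)) := by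
    have : Finite (GL chevE6.Idx K) := inferInstance
    infer_instance
  have h1 : Nat.card (↥(RE K) × ↥(chevE6.posUnipotent K ⊓ LL K)) ≤ Nat.card ↥(SE K) := by
    have hmem : ∀ l : ↥(chevE6.posUnipotent K ⊓ LL K), (l : GL chevE6.Idx K) ∈ twistedE6 K 2 := fun l =>
      (Subgroup.mem_inf.1 (Subgroup.mem_inf.1 l.2).2).2
    refine Nat.card_le_card_of_injective
      (fun p => (⟨(p.1 : ↥(twistedE6 K 2)) * ⟨p.2.1, hmem p.2⟩, Subgroup.mem_subgroupOf.2
        (mul_mem (UR_le_U (Subgroup.mem_subgroupOf.1 p.1.2)) (Subgroup.mem_inf.1 p.2.2).1)⟩ : ↥(SE K))) ?_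
    rintro ⟨q, l⟩ ⟨q', l'⟩ h
    have h2 := congrArg (fun y : ↥(SE K) => (((y : ↥(twistedE6 K 2))) : GL chevE6.Idx K)) h
    have h3 : ((q : ↥(twistedE6 K 2)) : GL chevE6.Idx K) * (l : GL chevE6.Idx K) =
        ((q' : ↥(twistedE6 K 2)) : GL chevE6.Idx K) * (l' : GL chevE6.Idx K) := h2
    have hl : (l : GL chevE6.Idx K) ∈ LR K Jn := (Subgroup.mem_inf.1 (Subgroup.mem_inf.1 l.2).2).1
    have hl' : (l' : GL chevE6.Idx K) ∈ LR K Jn := (Subgroup.mem_inf.1 (Subgroup.mem_inf.1 l'.2).2).1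
    obtain ⟨e1, e2⟩ := decomp_unique (Subgroup.mem_subgroupOf.1 q.2) (Subgroup.mem_subgroupOf.1 q'.2) hl hl' h3
    exact Prod.ext (Subtype.ext (Subtype.ext e1)) (Subtype.ext e2)
  rw [Nat.card_prod, LeviCard.card_U F, card_SE F] at h1
  omega

theorem hq : ∀ N : Subgroup ↥(twistedE6 K 2), N ≤ PE F → RE K ≤ N → (∀ p ∈ PE F, ∀ n ∈ N, p * n * p⁻¹ ∈ N) →
    ⁅N, PE F⁆ ≤ RE K ∨ N = PE F := by
  intro N hNP hRN hn
  rcases normal_cases F N (fun p hp => (mem_PE F).1 (hNP hp)) (fun y hy p hp => hn y ((mem_PE F).2 hy) p hp) with h | h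
  · left
    rw [Subgroup.commutator_le]
    intro a ha b hb
    have hb' : b * a⁻¹ * b⁻¹ ∈ RE K := R_norm F b ((mem_PE F).1 hb) _ (inv_mem (h ha))
    have e : ⁅a, b⁆ = a * (b * a⁻¹ * b⁻¹) := by rw [commutatorElement_def]; group
    rw [e]
    exact mul_mem (h ha) hb'
  · right
    refine le_antisymm hNP fun y hy => ?_
    have h1 := h y ((mem_PE F).1 hy)
    rwa [sup_eq_left.2 hRN] at h1

/-- an element of order 11 of `P`, not central modulo `R` -/
theorem exists_eleven : ∃ x' ∈ PE F, IsPGroup 11 (Subgroup.zpowers x') ∧ ∃ y ∈ PE F, ⁅x', y⁆ ∉ RE K := by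
  have := finite_E (K := K)
  have h11 : Fact (Nat.Prime 11) := ⟨by norm_num⟩
  have hdvd : 11 ∣ Nat.card (PE F) := by
    rw [card_cent F]
    exact ⟨8505 * (3 * 2 ^ 36), by norm_num⟩
  obtain ⟨⟨g, hg⟩, hgo⟩ := exists_prime_orderOf_dvd_card' 11 hdvd
  have hgo' : orderOf g = 11 := by rw [← hgo]; exact (Subgroup.orderOf_mk g hg).symm
  refine ⟨g, hg, ?_, ?_⟩
  · apply IsPGroup.of_card (n := 1)
    rw [Nat.card_zpowers, hgo', pow_one]
  · by_contra hcon
    push Not at hcon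
    -- the elements of `P` central modulo `R`
    let N : Subgroup ↥(twistedE6 K 2) :=
      { carrier := {p | p ∈ PE F ∧ ∀ y ∈ PE F, ⁅p, y⁆ ∈ RE K}
        one_mem' := ⟨one_mem _, fun y _ => by rw [commutatorElement_one_left]; exact one_mem _⟩
        mul_mem' := by
          rintro a b ⟨ha, ha'⟩ ⟨hb, hb'⟩
          refine ⟨mul_mem ha hb, fun y hy => ?_⟩
          have e : ⁅a * b, y⁆ = a * ⁅b, y⁆ * a⁻¹ * ⁅a, y⁆ := by
            simp only [commutatorElement_def]; group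
          rw [e]
          exact mul_mem (R_norm F a ((mem_PE F).1 ha) _ (hb' y hy)) (ha' y hy)
        inv_mem' := by
          rintro a ⟨ha, ha'⟩
          refine ⟨inv_mem ha, fun y hy => ?_⟩
          have e : ⁅a⁻¹, y⁆ = a⁻¹ * ⁅a, y⁆⁻¹ * a⁻¹⁻¹ := by
            simp only [commutatorElement_def]; group
          rw [e]
          exact R_norm F a⁻¹ ((mem_PE F).1 (inv_mem ha)) _ (inv_mem (ha' y hy)) }
    have hNn : ∀ y, y * r0 F = r0 F * y → ∀ p ∈ N, y * p * y⁻¹ ∈ N := by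
      rintro y hy p ⟨hp, hp'⟩
      have hyP : y ∈ PE F := (mem_PE F).2 hy
      refine ⟨mul_mem (mul_mem hyP hp) (inv_mem hyP), fun v hv => ?_⟩
      have e : ⁅y * p * y⁻¹, v⁆ = y * ⁅p, y⁻¹ * v * y⁆ * y⁻¹ := by
        simp only [commutatorElement_def]; group
      rw [e]
      exact R_norm F y hy _ (hp' _ (mul_mem (mul_mem (inv_mem hyP) hv) hyP))
    rcases normal_cases F N (fun p hp => (mem_PE F).1 hp.1) hNn with h | h
    · -- `g ∈ R`, a 2-group
      have hgR : g ∈ RE K := h ⟨hg, hcon⟩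
      have hg4 : g ^ 4 = 1 := by
        have e : g ^ 4 = g * g * (g * g) := by rw [pow_succ, pow_succ, pow_two]; group
        rw [e]
        rcases sq_RE F g hgR with h1 | h1
        · rw [h1, one_mul]
        · rw [h1, r0_sq' F]
      have := orderOf_dvd_of_pow_eq_one hg4
      rw [hgo'] at this
      omega
    · -- `P' ≤ R`
      have hP : PE F ≤ N ⊔ RE K := fun y hy => h y ((mem_PE F).1 hy)
      have hRN : RE K ≤ N := by
        intro r hr
        refine ⟨(mem_PE F).2 (RE_comm_r0 F hr), fun y hy => ?_⟩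
        have e : ⁅r, y⁆ = r * (y * r⁻¹ * y⁻¹) := by rw [commutatorElement_def]; group
        rw [e]
        exact mul_mem hr (R_norm F y ((mem_PE F).1 hy) _ (inv_mem hr))
      rw [sup_eq_left.2 hRN] at hP
      have h1 : PE F ≤ RE K := by
        have h2 : ⁅PE F, PE F⁆ ≤ RE K := Subgroup.commutator_le.2 fun a ha b hb => (hP ha).2 b hb
        rwa [perf F] at h2
      have h3 : 11 ∣ Nat.card (RE K) := hdvd.trans (Subgroup.card_dvd_of_le h1)
      have h4 : IsPGroup 2 (RE K) := (S_two F).to_le (R_le F)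
      obtain ⟨n, hn⟩ := IsPGroup.iff_card.1 h4
      rw [hn] at h3
      have h5 := (Nat.Prime.dvd_of_dvd_pow (by norm_num : Nat.Prime 11) h3)
      omega

/-- **The sheet of case (M) for `²E₆(2)`** -/
theorem sheetM (h : SheetE (r0 F) (PE F) (RE K)) : SheetM (PE F) (RE K) where
  big := by
    have := finite_E (K := K)
    exact big_of_quasisimple h (hq F)
  idx := by
    have := finite_E (K := K)
    obtain ⟨x', hx, hxp, y, hy, hxy⟩ := exists_eleven F
    exact ⟨10, card_RE_le F, idx_of_prime (p := 11) (by norm_num) (by norm_num)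
      (gen_of_quasisimple h (hq F) hx hxp hy hxy)⟩
  odd := by
    intro α hodd hα
    rcases aut_triv F α (fun c hc => hα c ((mem_PE F).2 hc)) with h1 | h1
    · exact h1
    · have h2 : α ^ 2 = 1 := by
        rw [h1, ← map_pow, pow_two, r0_sq' F, map_one]
      have h3 := orderOf_dvd_of_pow_eq_one h2
      rcases (Nat.dvd_prime Nat.prime_two).1 h3 with h4 | h4
      · exact orderOf_eq_one_iff.1 h4
      · rw [h4] at hodd
        exact absurd hodd (by decide)

end Cfsg.Agent.TwoESix.SheetMM
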