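import Cfsg.Agent.TwoESix.FlagL
import Cfsg.Agent.TwoESix.FlagJ

/-!
# ²E₆(2): the flag `b, c, a` (`S_cen`, `a_van`)
-/

set_option autoImplicit false
set_option linter.unusedSectionVars false

namespace Cfsg.Agent.TwoESix.FlagM

open Cfsg.Lie
open Cfsg.Agent.ChevalleyStructure
open Cfsg.Agent.ChevalleyStructure.Elts hiding x_add x_zero x_eq_one_iff
open Cfsg.Agent.ChevalleyStructure.TwE6Basic
open Cfsg.Agent.ChevalleyStructure.TwE6BN
open Cfsg.Agent.TwoESix.LeviA
open Cfsg.Agent.TwoESix.LeviB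
open Cfsg.Agent.TwoESix.LeviC
open Cfsg.Agent.TwoESix.LeviD
open Cfsg.Agent.TwoESix.LongPairs
open Cfsg.Agent.TwoESix.LongCard
open Cfsg.Agent.TwoESix.FlagH
open Cfsg.Agent.TwoESix.FlagI
open Cfsg.Agent.TwoESix.FlagK
open Cfsg.Agent.TwoESix.FlagL
open Cfsg.Agent.BabyU (rootClass)

open scoped commutatorElement Pointwise

universe u

variable {K : Type u} [Field K]

section Four

variable [Fintype K] {φ : K →+* K} (F : Four K φ)
include F

theorem io_inj : Function.Injective (io K) := Subgroup.inclusion_injective _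

/-- A normal subgroup of `C_E(b)` is contained in `R` or covers `C_E(b)/R`. -/
theorem levi_alt (N : Subgroup ↥(twistedE6 K 2)) (hN : ∀ p ∈ N, p * r0 F = r0 F * p)
    (hn : ∀ y, y * r0 F = r0 F * y → ∀ p ∈ N, y * p * y⁻¹ ∈ N) :
    N ≤ RE K ∨ ∀ l : ↥(LL K), ∃ p ∈ N, ∃ q ∈ RE K, io K l = p * q := by
  have hnorm : ∀ l : ↥(LL K), ∀ p ∈ N ⊔ RE K, io K l * p * (io K l)⁻¹ ∈ N ⊔ RE K := by
    intro l p hp
    have hl := LL_r0 F (l := io K l) l.2
    have h1 : (N ⊔ RE K).map (MulAut.conj (io K l)).toMonoidHom ≤ N ⊔ RE K := by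
      rw [Subgroup.map_sup]
      refine sup_le_sup ?_ ?_
      · rintro _ ⟨p, hp, rfl⟩
        exact hn _ hl p hp
      · rintro _ ⟨p, hp, rfl⟩
        exact R_norm F _ hl p hp
    exact h1 ⟨p, hp, rfl⟩
  have hMn : ((N ⊔ RE K).comap (io K)).Normal := ⟨fun p hp l => by
    rw [Subgroup.mem_comap] at hp ⊢
    rw [map_mul, map_mul, map_inv]
    exact hnorm l _ hp⟩
  obtain ⟨hs, -⟩ := simple_LL F
  rcases hs.eq_bot_or_eq_top_of_normal _ hMn with h | h
  · left
    intro p hp
    obtain ⟨q, hq, l, hl, hlE, e⟩ := decompE F (hN p hp)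
    have h1 : (⟨l, hl⟩ : ↥(LL K)) ∈ (N ⊔ RE K).comap (io K) := by
      rw [Subgroup.mem_comap]
      have e1 : io K ⟨l, hl⟩ = q⁻¹ * p := by rw [e, inv_mul_cancel_left]; rfl
      rw [e1]
      exact mul_mem (inv_mem (Subgroup.mem_sup_right hq)) (Subgroup.mem_sup_left hp)
    rw [h, Subgroup.mem_bot] at h1
    have h2 : (⟨l, hlE⟩ : ↥(twistedE6 K 2)) = 1 := Subtype.ext (show l = 1 from congrArg Subtype.val h1)
    rw [e, h2, mul_one]
    exact hq
  · right
    intro l
    have h1 : l ∈ (N ⊔ RE K).comap (io K) := by rw [h]; trivial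
    rw [Subgroup.mem_comap] at h1
    have h2 : ((N ⊔ RE K : Subgroup _) : Set ↥(twistedE6 K 2)) = (N : Set _) * (RE K : Set _) :=
      Subgroup.coe_mul_of_left_le_normalizer_right _ _
        (le_normalizer fun y hy q hq => R_norm F y (hN y hy) q hq)
    have h3 : io K l ∈ ((N ⊔ RE K : Subgroup _) : Set ↥(twistedE6 K 2)) := h1
    rw [h2] at h3
    obtain ⟨p, hp, q, hq, e⟩ := h3
    exact ⟨p, hp, q, hq, e.symm⟩

theorem r0_RE : r0 F ∈ RE K := Subgroup.mem_subgroupOf.2 (x_mem_UR (r := 71) (by decide) (by decide +kernel) 1)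

theorem xe_RE {r : Fin 72} (hr : r ∈ l20) (hrr : rho r = r) : xe F r hrr ∈ RE K :=
  Subgroup.mem_subgroupOf.2 (x_mem_UE F hr hrr).1

/-- `C_E(R) ≤ R` -/
theorem cent_R_le : Subgroup.centralizer (RE K : Set ↥(twistedE6 K 2)) ≤ RE K := by
  have := F.charP
  have hmem : ∀ p, p ∈ Subgroup.centralizer (RE K : Set ↥(twistedE6 K 2)) ↔ ∀ q ∈ RE K, q * p = p * q :=
    fun p => Subgroup.mem_centralizer_iff
  rcases levi_alt F (Subgroup.centralizer (RE K : Set ↥(twistedE6 K 2)))
    (fun p hp => ((hmem p).1 hp _ (r0_RE F)).symm) (fun y hy p hp => by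
      rw [hmem] at hp ⊢
      intro q hq
      have hy' : y⁻¹ * r0 F = r0 F * y⁻¹ := by
        rw [inv_mul_eq_iff_eq_mul, ← mul_assoc, hy, mul_inv_cancel_right]
      have h1 := hp _ (R_norm F _ hy' q hq)
      calc q * (y * p * y⁻¹) = y * ((y⁻¹ * q * y⁻¹⁻¹) * p) * y⁻¹ := by group
        _ = _ := by rw [h1]; group) with h | h
  · exact h
  · exfalso
    obtain ⟨p, hp, q, hq, e⟩ := h ⟨n (K := K) 1, n_mem_LL F 0⟩
    rw [hmem] at hp
    have h46 := xe_RE F (r := 46) (by decide) (by decide +kernel)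
    have e1 : io K ⟨n (K := K) 1, n_mem_LL F 0⟩ * xe F 46 (by decide +kernel) *
        (io K ⟨n (K := K) 1, n_mem_LL F 0⟩)⁻¹ = xe F 47 (by decide +kernel) := by
      have h1 := n_conj2 (K := K) 1 46 1
      rw [show wP 1 46 = 47 by decide +kernel] at h1
      exact Subtype.ext h1
    have hb46 : r0 F * xe F 46 (by decide +kernel) = xe F 46 (by decide +kernel) * r0 F :=
      (S_cent F _ (R_le F h46)).symm
    have e2 : xe F 47 (by decide +kernel) = xe F 46 (by decide +kernel) ∨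
        xe F 47 (by decide +kernel) = r0 F * xe F 46 (by decide +kernel) := by
      rw [← e1, e]
      have e3 : p * q * xe F 46 (by decide +kernel) * (p * q)⁻¹ =
          p * (⁅q, xe F 46 (by decide +kernel)⁆ * xe F 46 (by decide +kernel)) * p⁻¹ := by
        rw [commutatorElement_def]; group
      rw [e3]
      rcases comm_RE F hq h46 with h5 | h5
      · left
        rw [commutatorElement_eq_one_iff_mul_comm.2 h5, one_mul, ← hp _ h46, mul_inv_cancel_right]
      · right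
        rw [h5, ← mul_assoc, ← hp _ (r0_RE F), mul_assoc (r0 F), ← hp _ h46, mul_assoc, mul_inv_cancel_right]
    rcases e2 with e2 | e2
    · exact x_ne (K := K) (r := 47) (s := 46) (by norm_num) (by norm_num) (by norm_num) (congrArg Subtype.val e2)
    · have e3 : x 47 (1 : K) = x 71 1 * x 46 1 := congrArg Subtype.val e2
      have h5 : ⁅x 47 (1 : K), x 70 1⁆ = x 71 (if (47 : Fin 72) = pt 70 then (1 : K) * 1 else 0) :=
        comm_x (r := 47) (q := 70) (by decide) (by decide) 1 1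
      rw [if_neg (by decide +kernel), TwE6Basic.x_zero] at h5
      have h6 : ⁅x 46 (1 : K), x 70 1⁆ = x 71 (if (46 : Fin 72) = pt 70 then (1 : K) * 1 else 0) :=
        comm_x (r := 46) (q := 70) (by decide) (by decide) 1 1
      rw [if_pos (by decide +kernel), mul_one] at h6
      have c1 : x 71 (1 : K) * x 46 1 = x 46 1 * x 71 1 := congrArg Subtype.val hb46
      rw [e3, comm_bl c1 comm70, h6] at h5
      exact x_ne_one (K := K) (by norm_num) h5

/-- an element of `R` commuting with `R` -/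
theorem center_R (p : ↥(twistedE6 K 2)) (hp : p ∈ RE K) (h : ∀ q ∈ RE K, q * p = p * q) : p = 1 ∨ p = r0 F := by
  have := F.charP
  obtain ⟨t, v, e⟩ := coords (Subgroup.mem_subgroupOf.1 hp)
  have hx : ∀ q : GL chevE6.Idx K, q ∈ UR K Jn → q ∈ twistedE6 K 2 →
      lp t l20 * x 71 v * q = q * (lp t l20 * x 71 v) := by
    intro q hq hqE
    rw [← e]
    exact (congrArg Subtype.val (h ⟨q, hqE⟩ (Subgroup.mem_subgroupOf.2 hq))).symm
  have h0 : ∀ r ∈ l20, t r = 0 := by
    intro r hr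
    obtain ⟨h3, h4, h5, h6⟩ := pt_mem r hr
    by_cases hrr : rho (pt r) = pt r
    · have h8 := zero_of_comm (K := K) h3 (hx _ (x_mem_UE F h3 hrr).1 (x_mem_UE F h3 hrr).2)
      rwa [h4] at h8
    · have h8 := (zero_of_comm_z F (t := t) (v := v) h3
        fun u => hx _ (z_mem_UE F h3 hrr u).1 (z_mem_UE F h3 hrr u).2).1
      rwa [h4] at h8
  rw [lp_congr F (t' := 0) (fun r hr => h0 r hr), lp_zero, one_mul] at e
  exact X71_E F (by rw [e]; exact mem_X.2 ⟨_, rfl⟩)

theorem S_cen (p : ↥(twistedE6 K 2)) (_ : p ∈ SE K) (h : ∀ y ∈ SE K, y * p = p * y) : p = 1 ∨ p = r0 F := by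
  have h1 : p ∈ RE K := cent_R_le F (Subgroup.mem_centralizer_iff.2 fun q hq => h q (R_le F hq))
  exact center_R F p h1 fun q hq => h q (R_le F hq)

end Four

end Cfsg.Agent.TwoESix.FlagM
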