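import Mathlib

/-!
# Extremal elements of a symplectic algebra over the field with two elements

`Alg V` : an alternating product `br` and a nondegenerate alternating form `B` on `V`, `B [x,y] z = B x [y,z]`.
`IsExt z` : extremal elements, `g z` : the involution `v ↦ v + [z,v] + B(z,v) z`, `Aut` : the automorphism group.
-/

set_option autoImplicit false

namespace Cfsg.Agent.TwoESix.ExtAlg

/-- An alternating product with an invariant nondegenerate alternating form. -/
structure Alg (V : Type*) [AddCommGroup V] [Module (ZMod 2) V] where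
  /-- the product -/
  br : V →ₗ[ZMod 2] V →ₗ[ZMod 2] V
  /-- the form -/
  B : V →ₗ[ZMod 2] V →ₗ[ZMod 2] ZMod 2
  br_self : ∀ x, br x x = 0
  B_self : ∀ x, B x x = 0
  nondeg : ∀ x, (∀ y, B x y = 0) → x = 0
  inv : ∀ x y z, B (br x y) z = B x (br y z)

theorem z2 (a : ZMod 2) : a = 0 ∨ a = 1 := by
  revert a
  decide

theorem z2_ne {a : ZMod 2} (h : a ≠ 0) : a = 1 := (z2 a).resolve_left h

section

variable {V : Type*} [AddCommGroup V] [Module (ZMod 2) V]

theorem dbl (x : V) : x + x = 0 := ZModModule.add_self x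

theorem dbl' (x y : V) : x + (x + y) = y := by rw [← add_assoc, dbl, zero_add]

theorem eq_of_add {x y : V} (h : x + y = 0) : x = y := by
  rw [← add_zero x, ← dbl y, ← add_assoc, h, zero_add]

theorem ngt (x : V) : -x = x := ZModModule.neg_eq_self x

theorem sbt (x y : V) : x - y = x + y := ZModModule.sub_eq_add x y

end

namespace Alg

variable {V : Type*} [AddCommGroup V] [Module (ZMod 2) V] (A : Alg V)

theorem br_comm (x y : V) : A.br x y = A.br y x := by
  have h := A.br_self (x + y)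
  simp only [map_add, LinearMap.add_apply, A.br_self, zero_add, add_zero] at h
  exact eq_of_add ((add_comm _ _).trans h)

theorem B_comm (x y : V) : A.B x y = A.B y x := by
  have h := A.B_self (x + y)
  simp only [map_add, LinearMap.add_apply, A.B_self, zero_add, add_zero] at h
  exact eq_of_add ((add_comm _ _).trans h)

/-- the form and `[x,y]` with `y` repeated -/
theorem B_br_self (x y : V) : A.B (A.br x y) y = 0 := by rw [A.inv, A.br_self, map_zero]

theorem B_self_br (x y : V) : A.B x (A.br x y) = 0 := by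
  rw [A.br_comm, A.B_comm, A.B_br_self]

theorem eq_of_B {x y : V} (h : ∀ v, A.B x v = A.B y v) : x = y := by
  apply eq_of_add
  apply A.nondeg
  intro v
  rw [map_add, LinearMap.add_apply, h v]
  exact dbl _

/-- Extremal elements. -/
structure IsExt (z : V) : Prop where
  ne : z ≠ 0
  sq : ∀ v, A.br z (A.br z v) = 0
  der : ∀ v w, A.br z (A.br v w) = A.br (A.br z v) w + A.br v (A.br z w)
  quad : ∀ v w, A.br (A.br z v) (A.br z w) = A.B z (A.br v w) • z + A.B z w • A.br z v + A.B z v • A.br z w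

/-- the linear map `v ↦ v + [z,v] + B(z,v) z` -/
def gm (z : V) : V →ₗ[ZMod 2] V := LinearMap.id + A.br z + (A.B z).smulRight z

theorem gm_apply (z v : V) : A.gm z v = v + A.br z v + A.B z v • z := rfl

variable {A}

theorem IsExt.gm_gm {z : V} (h : A.IsExt z) (v : V) : A.gm z (A.gm z v) = v := by
  simp only [gm_apply, map_add, map_smul, h.sq, A.br_self, A.B_self, A.B_self_br, smul_zero, zero_smul, add_zero]
  have h1 := dbl (A.br z v)
  have h2 := dbl (A.B z v • z)
  calc v + A.br z v + A.B z v • z + A.br z v + A.B z v • z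
      = v + (A.br z v + A.br z v) + (A.B z v • z + A.B z v • z) := by abel
    _ = v := by rw [h1, h2, add_zero, add_zero]

variable (A)

/-- the automorphism group -/
def Aut : Subgroup (V ≃ₗ[ZMod 2] V) where
  carrier := {n | (∀ x y, n (A.br x y) = A.br (n x) (n y)) ∧ ∀ x y, A.B (n x) (n y) = A.B x y}
  mul_mem' {a b} ha hb := ⟨fun x y => by
    rw [LinearEquiv.mul_apply, hb.1, ha.1]; rfl, fun x y => by
    rw [LinearEquiv.mul_apply, LinearEquiv.mul_apply, ha.2, hb.2]⟩
  one_mem' := ⟨fun _ _ => rfl, fun _ _ => rfl⟩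
  inv_mem' {a} ha := by
    have h1 : ∀ x, a (a⁻¹ x) = x := fun x => by rw [← LinearEquiv.mul_apply, mul_inv_cancel]; rfl
    refine ⟨fun x y => ?_, fun x y => ?_⟩
    · apply a.injective
      rw [h1, ha.1, h1, h1]
    · rw [← ha.2, h1, h1]

variable {A}

theorem mem_Aut {n : V ≃ₗ[ZMod 2] V} :
    n ∈ A.Aut ↔ (∀ x y, n (A.br x y) = A.br (n x) (n y)) ∧ ∀ x y, A.B (n x) (n y) = A.B x y := Iff.rfl

theorem Aut_br {n : V ≃ₗ[ZMod 2] V} (h : n ∈ A.Aut) (x y : V) : n (A.br x y) = A.br (n x) (n y) := h.1 x y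
theorem Aut_B {n : V ≃ₗ[ZMod 2] V} (h : n ∈ A.Aut) (x y : V) : A.B (n x) (n y) = A.B x y := h.2 x y

theorem apply_inv (n : V ≃ₗ[ZMod 2] V) (x : V) : n (n⁻¹ x) = x := by
  rw [← LinearEquiv.mul_apply, mul_inv_cancel]; rfl
theorem inv_apply (n : V ≃ₗ[ZMod 2] V) (x : V) : n⁻¹ (n x) = x := by
  rw [← LinearEquiv.mul_apply, inv_mul_cancel]; rfl

theorem IsExt.map {z : V} (h : A.IsExt z) {n : V ≃ₗ[ZMod 2] V} (hn : n ∈ A.Aut) : A.IsExt (n z) where
  ne h0 := h.ne (n.map_eq_zero_iff.1 h0)
  sq v := by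
    obtain ⟨v, rfl⟩ := n.surjective v
    rw [← Aut_br hn, ← Aut_br hn, h.sq, map_zero]
  der v w := by
    obtain ⟨v, rfl⟩ := n.surjective v
    obtain ⟨w, rfl⟩ := n.surjective w
    rw [← Aut_br hn, ← Aut_br hn, ← Aut_br hn, ← Aut_br hn, ← Aut_br hn, ← Aut_br hn, h.der, map_add]
  quad v w := by
    obtain ⟨v, rfl⟩ := n.surjective v
    obtain ⟨w, rfl⟩ := n.surjective w
    rw [← Aut_br hn, ← Aut_br hn, ← Aut_br hn, ← Aut_br hn, Aut_B hn, Aut_B hn, Aut_B hn, h.quad,
      map_add, map_add, map_smul, map_smul, map_smul]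

theorem isExt_map_iff {z : V} {n : V ≃ₗ[ZMod 2] V} (hn : n ∈ A.Aut) : A.IsExt (n z) ↔ A.IsExt z :=
  ⟨fun h => by
    have := h.map (A.Aut.inv_mem hn)
    rwa [inv_apply] at this, fun h => h.map hn⟩

variable (A)

open Classical in
/-- the involution of an extremal element -/
noncomputable def g (z : V) : V ≃ₗ[ZMod 2] V :=
  if h : A.IsExt z then LinearEquiv.ofInvolutive (A.gm z) (fun v => h.gm_gm v) else 1

variable {A}

theorem g_apply {z : V} (h : A.IsExt z) (v : V) : A.g z v = v + A.br z v + A.B z v • z := by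
  unfold g
  rw [dif_pos h]
  rfl

theorem g_sq (z : V) : A.g z * A.g z = 1 := by
  by_cases h : A.IsExt z
  · ext v
    unfold g
    rw [dif_pos h]
    exact h.gm_gm v
  · unfold g
    rw [dif_neg h, mul_one]

theorem g_inv (z : V) : (A.g z)⁻¹ = A.g z := inv_eq_of_mul_eq_one_left (g_sq z)

theorem g_g (z v : V) : A.g z (A.g z v) = v := by
  rw [← LinearEquiv.mul_apply, g_sq]; rfl

theorem g_self {z : V} (h : A.IsExt z) : A.g z z = z := by
  rw [g_apply h, A.br_self, A.B_self, zero_smul, add_zero, add_zero]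

/-- `[z,[v,w]] + …`: the involution of an extremal element preserves the product -/
theorem g_br {z : V} (h : A.IsExt z) (v w : V) : A.g z (A.br v w) = A.br (A.g z v) (A.g z w) := by
  rw [g_apply h, g_apply h, g_apply h, h.der]
  simp only [map_add, map_smul, LinearMap.add_apply, LinearMap.smul_apply, A.br_self, smul_zero, add_zero]
  have h1 : A.br (A.br z v) z = 0 := by rw [A.br_comm, h.sq]
  have h2 : A.br v z = A.br z v := A.br_comm _ _
  have h3 : A.br z (A.br z w) = 0 := h.sq w
  rw [h1, h2, h3, h.quad]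
  simp only [smul_zero, add_zero]
  abel_nf
  have h4 : ∀ x : V, (2 : ℤ) • x = 0 := fun x => by rw [two_smul]; exact dbl x
  simp [h4]

theorem g_B {z : V} (h : A.IsExt z) (v w : V) : A.B (A.g z v) (A.g z w) = A.B v w := by
  rw [g_apply h, g_apply h]
  simp only [map_add, map_smul, LinearMap.add_apply, LinearMap.smul_apply, A.B_self, smul_zero, add_zero]
  have h1 : A.B (A.br z v) z = 0 := by rw [A.br_comm, A.B_br_self]
  have h2 : A.B z (A.br z w) = 0 := A.B_self_br _ _
  have h3 : A.B (A.br z v) (A.br z w) = 0 := by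
    rw [A.br_comm z v, A.inv, h.sq, map_zero]
  have h4 : A.B v (A.br z w) = A.B (A.br z v) w := by rw [← A.inv, A.br_comm v z]
  have h5 : A.B v z = A.B z v := A.B_comm _ _
  rw [h1, h2, h3, h4, h5]
  simp only [smul_eq_mul, mul_zero, add_zero]
  generalize A.B v w = a
  generalize A.B (A.br z v) w = b
  generalize A.B z v = c
  generalize A.B z w = d
  revert a b c d
  decide

theorem g_mem {z : V} (h : A.IsExt z) : A.g z ∈ A.Aut := ⟨g_br h, g_B h⟩

theorem g_map {z : V} (h : A.IsExt z) {n : V ≃ₗ[ZMod 2] V} (hn : n ∈ A.Aut) : A.g (n z) = n * A.g z * n⁻¹ := by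
  ext v
  obtain ⟨v, rfl⟩ := n.surjective v
  rw [LinearEquiv.mul_apply, LinearEquiv.mul_apply, inv_apply, g_apply (h.map hn), g_apply h, ← Aut_br hn,
    Aut_B hn, map_add, map_add, map_smul]

theorem g_inj {x y : V} (hx : A.IsExt x) (hy : A.IsExt y) (h : A.g x = A.g y) : x = y := by
  apply A.eq_of_B
  intro v
  have h1 : A.B (A.g x v) v = A.B (A.g y v) v := by rw [h]
  rw [g_apply hx, g_apply hy] at h1
  simp only [map_add, map_smul, LinearMap.add_apply, LinearMap.smul_apply, A.B_self, A.B_br_self] at h1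
  revert h1
  generalize A.B x v = a
  generalize A.B y v = b
  revert a b
  decide

theorem g_ne_one {x : V} (hx : A.IsExt x) : A.g x ≠ 1 := by
  intro h
  apply hx.ne
  apply A.nondeg
  intro v
  have h1 : A.B (A.g x v) v = A.B v v := by rw [h]; rfl
  rw [g_apply hx] at h1
  simp only [map_add, map_smul, LinearMap.add_apply, LinearMap.smul_apply, A.B_self, A.B_br_self] at h1
  revert h1
  generalize A.B x v = a
  revert a
  decide

/-! ### Pairs -/

theorem g_apply_of_one {x y : V} (hx : A.IsExt x) (h : A.B x y = 1) : A.g x y = y + A.br x y + x := by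
  rw [g_apply hx, h, one_smul]

theorem g_apply_of_zero {x y : V} (hx : A.IsExt x) (h : A.B x y = 0) : A.g x y = y + A.br x y := by
  rw [g_apply hx, h, zero_smul, add_zero]

theorem comm_iff {x y : V} (hx : A.IsExt x) (hy : A.IsExt y) : A.g x * A.g y = A.g y * A.g x ↔ A.g x y = y := by
  have h1 := g_map hy (g_mem hx)
  rw [g_inv] at h1
  constructor
  · intro h
    apply g_inj (hy.map (g_mem hx)) hy
    rw [h1, h, mul_assoc, g_sq, mul_one]
  · intro h
    rw [h] at h1
    calc A.g x * A.g y = A.g x * A.g y * (A.g x * A.g x) := by rw [g_sq, mul_one]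
      _ = (A.g x * A.g y * A.g x) * A.g x := by group
      _ = A.g y * A.g x := by rw [← h1]

theorem fix_iff {x y : V} (hx : A.IsExt x) : A.g x y = y ↔ A.B x y = 0 ∧ A.br x y = 0 := by
  rw [g_apply hx]
  constructor
  · intro h
    have h1 : A.br x y + A.B x y • x = 0 := by
      have h0 : y + (y + A.br x y + A.B x y • x) = y + y := by rw [h]
      rwa [add_assoc y, dbl', dbl] at h0
    have h2 : A.B (A.br x y + A.B x y • x) y = 0 := by rw [h1]; simp
    simp only [map_add, map_smul, LinearMap.add_apply, LinearMap.smul_apply, A.B_br_self] at h2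
    have h3 : A.B x y = 0 := by
      revert h2
      generalize A.B x y = a
      revert a
      decide
    rw [h3, zero_smul, add_zero] at h1
    exact ⟨h3, h1⟩
  · rintro ⟨h1, h2⟩
    rw [h1, h2, zero_smul, add_zero, add_zero]

theorem swap {x y : V} (hx : A.IsExt x) (hy : A.IsExt y) (h : A.B x y = 1) : A.g x y = A.g y x := by
  rw [g_apply_of_one hx h, g_apply_of_one hy (by rw [A.B_comm, h]), A.br_comm y x]
  abel

theorem braid {x y : V} (hx : A.IsExt x) (hy : A.IsExt y) (h : A.B x y = 1) :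
    A.g x * A.g y * A.g x = A.g y * A.g x * A.g y := by
  have h1 := g_map hy (g_mem hx)
  have h2 := g_map hx (g_mem hy)
  rw [g_inv] at h1 h2
  rw [← h1, ← h2, swap hx hy h]

theorem pow_three_of_braid {G : Type*} [Group G] {a b : G} (ha : a * a = 1) (hb : b * b = 1)
    (h : a * b * a = b * a * b) : (a * b) ^ 3 = 1 := by
  calc (a * b) ^ 3 = (a * b * a) * (b * a * b) := by simp only [pow_succ, pow_zero, one_mul, mul_assoc]
    _ = (a * b * a) * (a * b * a) := by rw [h]
    _ = a * b * (a * a) * b * a := by group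
    _ = a * (b * b) * a := by rw [ha]; group
    _ = 1 := by rw [hb, mul_one, ha]

theorem braid_of_pow_three {G : Type*} [Group G] {a b : G} (ha : a * a = 1) (hb : b * b = 1)
    (h : (a * b) ^ 3 = 1) : a * b * a = b * a * b := by
  have h1 : (a * b * a) * (b * a * b) = 1 := by
    rw [← h]; simp only [pow_succ, pow_zero, one_mul, mul_assoc]
  have h2 : (b * a * b) * (b * a * b) = 1 := by
    calc (b * a * b) * (b * a * b) = b * a * (b * b) * a * b := by group
      _ = b * (a * a) * b := by rw [hb]; group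
      _ = 1 := by rw [ha, mul_one, hb]
  calc a * b * a = a * b * a * ((b * a * b) * (b * a * b)) := by rw [h2, mul_one]
    _ = (a * b * a) * (b * a * b) * (b * a * b) := by group
    _ = b * a * b := by rw [h1, one_mul]

theorem opp_iff {x y : V} (hx : A.IsExt x) (hy : A.IsExt y) :
    A.B x y = 1 ↔ ((A.g x * A.g y) ^ 3 = 1 ∧ A.g x ≠ A.g y) := by
  constructor
  · intro h
    refine ⟨pow_three_of_braid (g_sq _) (g_sq _) (braid hx hy h), fun h' => ?_⟩
    have := g_inj hx hy h'
    rw [this, A.B_self] at h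
    exact zero_ne_one h
  · rintro ⟨h1, h2⟩
    rcases z2 (A.B x y) with h | h
    · exfalso
      apply h2
      have h3 := braid_of_pow_three (g_sq _) (g_sq _) h1
      have h4 := g_map hy (g_mem hx)
      have h5 := g_map hx (g_mem hy)
      rw [g_inv] at h4 h5
      rw [← h4, ← h5] at h3
      have h6 := g_inj (hy.map (g_mem hx)) (hx.map (g_mem hy)) h3
      rw [g_apply_of_zero hx h, g_apply_of_zero hy (by rw [A.B_comm, h]), A.br_comm y x] at h6
      have h7 := add_right_cancel h6
      rw [h7]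
    · exact h

/-- two root involutions have product of order 1, 2, 3 or 4 -/
theorem pow_four {x y : V} (hx : A.IsExt x) (hy : A.IsExt y) (h : A.B x y = 0) : (A.g x * A.g y) ^ 4 = 1 := by
  have h1 := g_map hx (g_mem hy)
  rw [g_inv] at h1
  have h2 : A.g x * A.g (A.g y x) = A.g (A.g y x) * A.g x := by
    rw [comm_iff hx (hx.map (g_mem hy)), fix_iff hx, g_apply_of_zero hy (by rw [A.B_comm, h])]
    rw [map_add, map_add, A.B_self, A.br_self, A.br_comm y x, hx.sq, A.B_self_br]
    simp
  have h3 : A.g x * A.g y * (A.g x * A.g y) = A.g x * A.g (A.g y x) := by rw [h1]; group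
  calc (A.g x * A.g y) ^ 4 = (A.g x * A.g y * (A.g x * A.g y)) * (A.g x * A.g y * (A.g x * A.g y)) := by
        simp only [pow_succ, pow_zero, one_mul, mul_assoc]
    _ = (A.g x * A.g (A.g y x)) * (A.g x * A.g (A.g y x)) := by rw [h3]
    _ = A.g x * (A.g (A.g y x) * A.g x) * A.g (A.g y x) := by group
    _ = A.g x * (A.g x * A.g (A.g y x)) * A.g (A.g y x) := by rw [h2]
    _ = (A.g x * A.g x) * (A.g (A.g y x) * A.g (A.g y x)) := by group
    _ = 1 := by rw [g_sq, g_sq, one_mul]

variable (A)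

/-- root involutions -/
def R : Set (V ≃ₗ[ZMod 2] V) := {t | ∃ z, A.IsExt z ∧ A.g z = t}

/-- the group generated by the root involutions -/
def E : Subgroup (V ≃ₗ[ZMod 2] V) := Subgroup.closure A.R

variable {A}

theorem g_mem_R {z : V} (h : A.IsExt z) : A.g z ∈ A.R := ⟨z, h, rfl⟩

theorem E_le : A.E ≤ A.Aut := by
  unfold E
  rw [Subgroup.closure_le]
  rintro _ ⟨z, hz, rfl⟩
  exact g_mem hz

theorem R_conj {n : V ≃ₗ[ZMod 2] V} (hn : n ∈ A.Aut) {t : V ≃ₗ[ZMod 2] V} (ht : t ∈ A.R) : n * t * n⁻¹ ∈ A.R := by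
  obtain ⟨z, hz, rfl⟩ := ht
  exact ⟨n z, hz.map hn, g_map hz hn⟩

open Classical in
/-- the extremal element of a root involution -/
noncomputable def vec (t : V ≃ₗ[ZMod 2] V) : V := if h : t ∈ A.R then h.choose else 0

theorem vec_ext {t : V ≃ₗ[ZMod 2] V} (h : t ∈ A.R) : A.IsExt (vec (A := A) t) := by
  unfold vec
  rw [dif_pos h]
  exact h.choose_spec.1

theorem g_vec {t : V ≃ₗ[ZMod 2] V} (h : t ∈ A.R) : A.g (vec (A := A) t) = t := by
  unfold vec
  rw [dif_pos h]
  exact h.choose_spec.2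

theorem vec_g {z : V} (h : A.IsExt z) : vec (A := A) (A.g z) = z :=
  g_inj (vec_ext (g_mem_R h)) h (g_vec (g_mem_R h))

theorem vec_conj {n : V ≃ₗ[ZMod 2] V} (hn : n ∈ A.Aut) {t : V ≃ₗ[ZMod 2] V} (ht : t ∈ A.R) :
    vec (A := A) (n * t * n⁻¹) = n (vec (A := A) t) := by
  rw [← g_vec ht, ← g_map (vec_ext ht) hn, vec_g ((vec_ext ht).map hn), g_vec ht]

end Alg

end Cfsg.Agent.TwoESix.ExtAlg
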