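import Cfsg.Agent.Lib.F2Mat

/-!
# Coded vectors and operators

`vc v` : the vector of `ZMod 2 ^ 78` coded by the number `v`; `op M` : the linear map whose value on the basis vector
`j` is row `j` of the packed matrix `M`.
-/

set_option autoImplicit false

namespace Cfsg.Agent.TwoESix.ExtCode

open Cfsg.Agent.Lib Cfsg.Agent.Lib.F2Mat

/-- the space -/
structure V : Type where
  /-- the coordinates -/
  co : Fin 78 → ZMod 2

/-- the coordinates -/
def eqV : V ≃ (Fin 78 → ZMod 2) where
  toFun := V.co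
  invFun := V.mk
  left_inv _ := rfl
  right_inv _ := rfl

instance instACG : AddCommGroup V := eqV.addCommGroup
instance instMod : Module (ZMod 2) V := eqV.module (ZMod 2)
instance instFin : Finite V := Finite.of_equiv _ eqV.symm

/-- the coordinates of a vector -/
def co (x : V) : Fin 78 → ZMod 2 := x.co

/-- a vector with given coordinates -/
def mk (x : Fin 78 → ZMod 2) : V := ⟨x⟩

theorem co_inj {x y : V} (h : co x = co y) : x = y := by
  cases x
  cases y
  exact congrArg V.mk h
theorem co_add (x y : V) : co (x + y) = co x + co y := rfl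
theorem co_smul (c : ZMod 2) (x : V) : co (c • x) = c • co x := rfl
theorem co_zero : co 0 = 0 := rfl
theorem co_mk (x : Fin 78 → ZMod 2) : co (mk x) = x := rfl
theorem mk_co (x : V) : mk (co x) = x := rfl

/-- coordinates as a linear equivalence -/
def coL : V ≃ₗ[ZMod 2] (Fin 78 → ZMod 2) where
  toFun := co
  map_add' := co_add
  map_smul' := co_smul
  invFun := mk
  left_inv _ := rfl
  right_inv _ := rfl

theorem coL_apply (x : V) : coL x = co x := rfl
theorem coL_symm_apply (x : Fin 78 → ZMod 2) : coL.symm x = mk x := rfl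

theorem co_sum {ι : Type*} (s : Finset ι) (f : ι → V) : co (∑ i ∈ s, f i) = ∑ i ∈ s, co (f i) := by
  rw [← coL_apply, map_sum]
  rfl

/-- the coded vector -/
def vc (v : ℕ) : V := mk (toVec 78 v)

/-- the coded operator -/
def op (M : ℕ) : V →ₗ[ZMod 2] V where
  toFun x := mk (Matrix.vecMul (co x) (toMat 78 M))
  map_add' x y := co_inj (by rw [co_mk, co_add, co_add, co_mk, co_mk, Matrix.add_vecMul])
  map_smul' c x := co_inj (by rw [co_mk, co_smul, co_smul, co_mk, Matrix.smul_vecMul]; rfl)

theorem op_apply (M : ℕ) (x : V) : co (op M x) = Matrix.vecMul (co x) (toMat 78 M) := rfl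

theorem vc_apply (v : ℕ) (i : Fin 78) : co (vc v) i = bz (v.testBit i) := rfl

theorem vc_xor (a b : ℕ) : vc (a ^^^ b) = vc a + vc b := by
  apply co_inj
  funext i
  rw [co_add, Pi.add_apply, vc_apply, vc_apply, vc_apply, Nat.testBit_xor, bz_xor]

theorem vc_zero : vc 0 = 0 := by
  apply co_inj
  funext i
  rw [vc_apply, Nat.zero_testBit]
  rfl

theorem toMat_xor (a b : ℕ) : toMat 78 (a ^^^ b) = toMat 78 a + toMat 78 b := by
  ext i j
  rw [Matrix.add_apply, toMat_apply, toMat_apply, toMat_apply, Nat.testBit_xor, bz_xor]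

theorem op_xor (a b : ℕ) (x : V) : op (a ^^^ b) x = op a x + op b x := by
  apply co_inj
  rw [co_add, op_apply, op_apply, op_apply, toMat_xor, Matrix.vecMul_add]

theorem op_zero (x : V) : op 0 x = 0 := by
  have h : toMat 78 0 = 0 := by
    ext i j
    rw [toMat_apply, Nat.zero_testBit]
    rfl
  apply co_inj
  rw [op_apply, h, Matrix.vecMul_zero, co_zero]

theorem op_one (x : V) : op (one 78) x = x := by
  apply co_inj
  rw [op_apply, toMat_one, Matrix.vecMul_one]

theorem op_mul (M N : ℕ) (x : V) : op (mul 78 M N) x = op N (op M x) := by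
  apply co_inj
  rw [op_apply, toMat_mul, ← Matrix.vecMul_vecMul, op_apply, op_apply]

theorem op_vc (M v : ℕ) : op M (vc v) = vc (vmul 78 v M) := by
  apply co_inj
  rw [op_apply]
  exact (toVec_vmul 78 v M).symm

/-- row `j` -/
def row (M j : ℕ) : ℕ := Nat.mod (Nat.shiftRight M (Nat.mul 78 j)) (Nat.pow 2 78)

theorem row_eq (M j : ℕ) : row M j = (M >>> (78 * j)) % 2 ^ 78 := rfl

theorem vc_row (M : ℕ) (j : Fin 78) : co (vc (row M j)) = fun i => toMat 78 M j i := by
  funext i
  rw [vc_apply, row_eq, Nat.testBit_mod_two_pow, Nat.testBit_shiftRight, toMat_apply]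
  have := i.2
  simp [this]

/-- basis vectors -/
def e (j : Fin 78) : V := mk (Pi.single j 1)

theorem co_e (j : Fin 78) : co (e j) = Pi.single j 1 := rfl

theorem op_e (M : ℕ) (j : Fin 78) : op M (e j) = vc (row M j) := by
  apply co_inj
  rw [vc_row, op_apply, co_e, Matrix.single_one_vecMul]
  rfl

theorem vc_bit (j : Fin 78) : vc (1 <<< (j : ℕ)) = e j := by
  apply co_inj
  funext i
  rw [vc_apply, co_e, Pi.single_apply, Nat.testBit_shiftLeft]
  by_cases h : i = j
  · subst h
    simp [bz]
  · rw [if_neg h]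
    have h' : ¬ (i : ℕ) = j := fun h1 => h (Fin.ext h1)
    by_cases h2 : (j : ℕ) ≤ i
    · have h3 : (i : ℕ) - j ≠ 0 := by omega
      rw [testBit_lit_one]
      simp [h3, bz]
    · simp [h2, bz]

/-- a vector as a sum of basis vectors -/
theorem eq_sum (x : V) : x = ∑ j, co x j • e j := by
  apply co_inj
  funext i
  rw [co_sum, Finset.sum_apply]
  simp only [co_smul, co_e, Pi.smul_apply, Pi.single_apply, smul_eq_mul, mul_ite, mul_one, mul_zero]
  rw [Finset.sum_ite_eq]
  simp

/-- two linear maps on `V` agreeing on the basis are equal -/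
theorem ext_e {W : Type*} [AddCommMonoid W] [Module (ZMod 2) W] {f g : V →ₗ[ZMod 2] W} (h : ∀ j, f (e j) = g (e j)) :
    f = g := by
  refine LinearMap.ext fun x => ?_
  rw [eq_sum x, map_sum, map_sum]
  refine Finset.sum_congr rfl fun j _ => ?_
  rw [map_smul, map_smul, h]

theorem op_eq_of {M N : ℕ} (h : Nat.beq M N = true) (x : V) : op M x = op N x := by
  rw [Nat.eq_of_beq_eq_true h]

/-! ### Bits -/

/-- bit number `p` (with kernel primitives only) -/
def tb (v p : ℕ) : Bool := Nat.beq (Nat.land (Nat.shiftRight v p) 1) 1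

theorem tb_eq (v p : ℕ) : tb v p = v.testBit p := by
  have h1 : Nat.land (Nat.shiftRight v p) 1 = (v.testBit p).toNat := by
    have h0 : Nat.land (Nat.shiftRight v p) 1 = (v >>> p) &&& 1 := rfl
    rw [h0, Nat.and_one_is_mod, Nat.shiftRight_eq_div_pow, Nat.testBit_eq_decide_div_mod_eq]
    rcases Nat.mod_two_eq_zero_or_one (v / 2 ^ p) with h | h <;> rw [h] <;> rfl
  unfold tb
  rw [h1]
  cases v.testBit p <;> rfl

/-! ### Linear combinations of operators -/

/-- XOR of the entries of `L` selected by the bits of `v`, starting with bit `p` -/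
def sel (L : List ℕ) (v p : ℕ) : ℕ :=
  List.rec (motive := fun _ => ℕ → ℕ) (fun _ => 0)
    (fun a _ ih p => Nat.xor (cond (tb v p) a 0) (force (Nat.succ p) ih)) L p

theorem sel_nil (v p : ℕ) : sel [] v p = 0 := rfl
theorem sel_cons (a : ℕ) (L : List ℕ) (v p : ℕ) :
    sel (a :: L) v p = (cond (Nat.testBit v p) a 0) ^^^ sel L v (p + 1) := by
  show Nat.xor (cond (tb v p) a 0) (force (Nat.succ p) (fun p => sel L v p)) = _
  rw [force_eq, tb_eq]
  rfl

theorem op_sel (L : List ℕ) (v p : ℕ) (x : V) :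
    op (sel L v p) x = ∑ i ∈ Finset.range L.length, bz (v.testBit (p + i)) • op (L.getD i 0) x := by
  induction L generalizing p with
  | nil => rw [sel_nil, op_zero]; simp
  | cons a L ih =>
    rw [sel_cons, op_xor, ih, List.length_cons, Finset.sum_range_succ', add_comm]
    have h1 : op (cond (v.testBit p) a 0) x = bz (v.testBit (p + 0)) • op ((a :: L).getD 0 0) x := by
      rw [List.getD_cons_zero, add_zero]
      cases v.testBit p
      · rw [cond_false, op_zero, bz_false, zero_smul]
      · rw [cond_true, bz_true, one_smul]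
    have h2 : ∀ i, bz (v.testBit (p + 1 + i)) • op (L.getD i 0) x =
        bz (v.testBit (p + (i + 1))) • op ((a :: L).getD (i + 1) 0) x := by
      intro i
      rw [List.getD_cons_succ, show p + 1 + i = p + (i + 1) by ring]
    rw [h1]
    simp only [h2]

theorem op_sel' {L : List ℕ} (hL : L.length = 78) (v : ℕ) (x : V) :
    op (sel L v 0) x = ∑ i : Fin 78, co (vc v) i • op (L.getD i 0) x := by
  rw [op_sel, hL, Finset.sum_range]
  refine Finset.sum_congr rfl fun i _ => ?_
  rw [vc_apply, zero_add]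

/-- a test for all entries of a list, with their indices -/
def allI (t : ℕ → ℕ → Bool) (L : List ℕ) (p : ℕ) : Bool :=
  List.rec (motive := fun _ => ℕ → Bool) (fun _ => true)
    (fun a _ ih p => and (t p a) (force (Nat.succ p) ih)) L p

theorem allI_cons (t : ℕ → ℕ → Bool) (a : ℕ) (L : List ℕ) (p : ℕ) :
    allI t (a :: L) p = (t p a && allI t L (p + 1)) := by
  show and (t p a) (force (Nat.succ p) (fun p => allI t L p)) = _
  rw [force_eq]

theorem allI_sound {t : ℕ → ℕ → Bool} {L : List ℕ} {p : ℕ} (h : allI t L p = true) :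
    ∀ i < L.length, t (p + i) (L.getD i 0) = true := by
  induction L generalizing p with
  | nil => intro i hi; exact absurd hi (Nat.not_lt_zero _)
  | cons a L ih =>
    rw [allI_cons, Bool.and_eq_true] at h
    intro i hi
    rcases i with _ | i
    · rw [List.getD_cons_zero, add_zero]
      exact h.1
    · rw [List.getD_cons_succ, show p + (i + 1) = p + 1 + i by ring]
      exact ih h.2 i (by simpa using hi)

/-- the first `n` numbers satisfy the test -/
def allN (t : ℕ → Bool) (n : ℕ) : Bool := Nat.rec true (fun i ih => and ih (t i)) n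

theorem allN_succ (t : ℕ → Bool) (n : ℕ) : allN t (n + 1) = (allN t n && t n) := rfl

theorem allN_sound {t : ℕ → Bool} {n : ℕ} (h : allN t n = true) : ∀ i < n, t i = true := by
  induction n with
  | zero => intro i hi; exact absurd hi (Nat.not_lt_zero _)
  | succ n ih =>
    rw [allN_succ, Bool.and_eq_true] at h
    intro i hi
    rcases Nat.lt_succ_iff_lt_or_eq.1 hi with h1 | rfl
    · exact ih h.1 i h1
    · exact h.2

/-! ### Dot products -/

/-- dot product of codes -/
def dotN (a b : ℕ) (n : ℕ) : Bool := Nat.rec false (fun i ih => xor ih (and (tb a i) (tb b i))) n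

theorem dotN_succ (a b n : ℕ) : dotN a b (n + 1) = xor (dotN a b n) (a.testBit n && b.testBit n) := by
  rw [← tb_eq, ← tb_eq]
  rfl

/-- dot product of codes -/
def dot (a b : ℕ) : Bool := dotN a b 78

theorem bz_dotN (a b n : ℕ) : bz (dotN a b n) = ∑ i ∈ Finset.range n, bz (a.testBit i) * bz (b.testBit i) := by
  induction n with
  | zero => simp [dotN, bz]
  | succ n ih => rw [dotN_succ, bz_xor, ih, bz_and, Finset.sum_range_succ]

theorem bz_dot (a b : ℕ) : bz (dot a b) = co (vc a) ⬝ᵥ co (vc b) := by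
  rw [dot, bz_dotN, Finset.sum_range]
  rfl

/-! ### Rank one operators -/

/-- the code of `x ↦ (φ ⬝ x) v` -/
def outN (φ v : ℕ) (n : ℕ) : ℕ :=
  Nat.rec 0 (fun i ih => Nat.xor ih (cond (tb φ i) (Nat.shiftLeft v (Nat.mul 78 i)) 0)) n

theorem outN_succ (φ v n : ℕ) : outN φ v (n + 1) = outN φ v n ^^^ cond (φ.testBit n) (v <<< (78 * n)) 0 := by
  rw [← tb_eq]
  rfl

/-- the code of `x ↦ (φ ⬝ x) v` -/
def out (φ v : ℕ) : ℕ := outN φ v 78

theorem toMat_shl {v : ℕ} (hv : v < 2 ^ 78) {n : ℕ} (i j : Fin 78) :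
    toMat 78 (v <<< (78 * n)) i j = if (i : ℕ) = n then co (vc v) j else 0 := by
  rw [toMat_apply, Nat.testBit_shiftLeft]
  have hj := j.2
  rcases Nat.lt_trichotomy (i : ℕ) n with h | h | h
  · rw [if_neg (by omega)]
    have h1 : ¬ (78 * (i : ℕ) + j ≥ 78 * n) := by
      have : 78 * ((i : ℕ) + 1) ≤ 78 * n := Nat.mul_le_mul_left _ h
      omega
    simp [h1, bz]
  · rw [if_pos h, vc_apply]
    have h1 : 78 * (i : ℕ) + j ≥ 78 * n := by rw [h]; omega
    have h2 : 78 * (i : ℕ) + j - 78 * n = j := by rw [h]; omega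
    simp [h2, h]
  · rw [if_neg (by omega)]
    have h1 : 78 * (i : ℕ) + j - 78 * n ≥ 78 := by
      have : 78 * (n + 1) ≤ 78 * (i : ℕ) := Nat.mul_le_mul_left _ h
      omega
    rw [Nat.testBit_lt_two_pow (lt_of_lt_of_le hv (Nat.pow_le_pow_right (by norm_num) h1)), Bool.and_false]
    rfl

theorem toMat_outN {v : ℕ} (hv : v < 2 ^ 78) (φ n : ℕ) (i j : Fin 78) :
    toMat 78 (outN φ v n) i j = if (i : ℕ) < n then co (vc φ) i * co (vc v) j else 0 := by
  induction n with
  | zero =>
    rw [if_neg (Nat.not_lt_zero _)]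
    have : outN φ v 0 = 0 := rfl
    rw [this, toMat_apply, Nat.zero_testBit]
    rfl
  | succ n ih =>
    rw [outN_succ, toMat_xor, Matrix.add_apply, ih]
    have h0 : toMat 78 (cond (φ.testBit n) (v <<< (78 * n)) 0) i j =
        bz (φ.testBit n) * (if (i : ℕ) = n then co (vc v) j else 0) := by
      cases φ.testBit n
      · rw [cond_false, toMat_apply, Nat.zero_testBit]; simp [bz]
      · rw [cond_true, toMat_shl hv]; simp [bz]
    rw [h0]
    rcases Nat.lt_trichotomy (i : ℕ) n with h | h | h
    · rw [if_pos h, if_neg (show ¬ (i : ℕ) = n by omega), if_pos (show (i : ℕ) < n + 1 by omega), mul_zero, add_zero]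
    · rw [if_neg (show ¬ (i : ℕ) < n by omega), if_pos h, if_pos (show (i : ℕ) < n + 1 by omega), zero_add, ← h,
        vc_apply φ]
    · rw [if_neg (show ¬ (i : ℕ) < n by omega), if_neg (show ¬ (i : ℕ) = n by omega),
        if_neg (show ¬ (i : ℕ) < n + 1 by omega), mul_zero, add_zero]

theorem op_out {v : ℕ} (hv : Nat.blt v (Nat.pow 2 78) = true) (φ : ℕ) (x : V) :
    op (out φ v) x = (co (vc φ) ⬝ᵥ co x) • vc v := by
  have hv' : v < 2 ^ 78 := by rwa [Nat.blt_eq] at hv
  apply co_inj
  funext j
  rw [op_apply, co_smul, Matrix.vecMul, dotProduct, Pi.smul_apply, dotProduct, smul_eq_mul, Finset.sum_mul]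
  refine Finset.sum_congr rfl fun i _ => ?_
  rw [out, toMat_outN hv', if_pos i.2]
  ring

/-! ### Symmetric and transposed matrices -/

/-- the diagonal bits of the blocks -/
def trL (M k m f o : ℕ) : ℕ := Nat.land (Nat.mul (Nat.land (Nat.shiftRight M k) m) f) o

/-- the diagonal bits of copies of a row -/
def trR (N k m o : ℕ) : ℕ := Nat.land (Nat.mul m (row N k)) o

/-- `N` is the transpose of `M` -/
def trOk (M N : ℕ) : Bool :=
  force M fun M => force N fun N => force (msk 78) fun m => force (Nat.sub (Nat.pow 2 78) 1) fun f =>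
    force (one 78) fun o => allN (fun k => Nat.beq (trL M k m f o) (trR N k m o)) 78

theorem row_lt (N k : ℕ) : row N k < 2 ^ 78 := Nat.mod_lt _ (Nat.two_pow_pos 78)

theorem trL_bit (M k : ℕ) {i : ℕ} (hi : i < 78) :
    (trL M k (msk 78) (2 ^ 78 - 1) (one 78)).testBit (78 * i + i) = M.testBit (78 * i + k) := by
  have h1 : trL M k (msk 78) (2 ^ 78 - 1) (one 78) =
      (Nat.land (Nat.shiftRight M k) (msk 78) * (2 ^ 78 - 1)) &&& one 78 := rfl
  have hb : ∀ i < 78, (M.testBit (78 * i + k)).toNat * (2 ^ 78 - 1) < 2 ^ 78 := fun i _ => by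
    have := Bool.toNat_le (M.testBit (78 * i + k))
    calc (M.testBit (78 * i + k)).toNat * (2 ^ 78 - 1) ≤ 1 * (2 ^ 78 - 1) := Nat.mul_le_mul_right _ this
      _ < 2 ^ 78 := by norm_num
  rw [h1, land_msk (by norm_num), blk_mul, Nat.testBit_and, testBit_blk 78 hb hi hi, testBit_one hi hi,
    decide_eq_true rfl, Bool.and_true]
  cases M.testBit (78 * i + k)
  · simp
  · rw [Bool.toNat_true, one_mul, Nat.testBit_two_pow_sub_one]
    exact decide_eq_true hi

theorem trR_bit (N k : ℕ) {i : ℕ} (hi : i < 78) :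
    (trR N k (msk 78) (one 78)).testBit (78 * i + i) = N.testBit (78 * k + i) := by
  have h1 : trR N k (msk 78) (one 78) = (msk 78 * row N k) &&& one 78 := rfl
  have hb : ∀ i < 78, (fun _ => 1 * row N k) i < 2 ^ 78 := fun i _ => by
    show 1 * row N k < 2 ^ 78
    rw [one_mul]
    exact row_lt N k
  rw [h1, msk_eq (by norm_num), blk_mul, Nat.testBit_and, testBit_blk 78 hb hi hi, testBit_one hi hi,
    decide_eq_true rfl, Bool.and_true, one_mul, row_eq, Nat.testBit_mod_two_pow, Nat.testBit_shiftRight]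
  simp [hi]

theorem toMat_tr {M N : ℕ} (h : trOk M N = true) : toMat 78 N = (toMat 78 M).transpose := by
  unfold trOk at h
  rw [force_eq, force_eq, force_eq, force_eq, force_eq] at h
  ext k i
  have h1 := Nat.eq_of_beq_eq_true (allN_sound h k k.2)
  have h2 := trL_bit M k i.2
  have h3 := trR_bit N k i.2
  rw [Matrix.transpose_apply, toMat_apply, toMat_apply]
  congr 1
  rw [← h2, ← h3]
  exact congrArg (fun x => Nat.testBit x (78 * (i : ℕ) + i)) h1.symm

theorem op_tr {M N : ℕ} (h : trOk M N = true) (x y : V) : co (op M x) ⬝ᵥ co y = co x ⬝ᵥ co (op N y) := by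
  rw [op_apply, op_apply, toMat_tr h, Matrix.vecMul_transpose, Matrix.dotProduct_mulVec]

end Cfsg.Agent.TwoESix.ExtCode
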