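import Cfsg.Agent.TwoESix.ExtLocal
import Cfsg.Prelude.Def_SporadicB

/-!
# Global consequences

Under the numerical facts `Glob Γ e y`: `Γ` is transitive on the extremal elements and on the pairs of opposite
extremal elements, `Γ = A.E`, and the root involutions are exactly the 2-central involutions of `Γ`.
-/

set_option autoImplicit false

open scoped Pointwise

namespace Cfsg.Agent.TwoESix.ExtGlobal

open Cfsg.Agent.TwoESix.ExtAlg Cfsg.Agent.TwoESix.ExtAlg.Alg Cfsg.Agent.TwoESix.ExtLocal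

variable {V : Type*} [AddCommGroup V] [Module (ZMod 2) V] {A : Alg V}

/-- numerical facts -/
structure Glob (A : Alg V) (Γ : Subgroup (V ≃ₗ[ZMod 2] V)) (m : ℕ) (e y : V) extends Loc A Γ m e y where
  span : ∀ z, z ≠ 0 → ∃ γ ∈ Γ, A.B z (γ y) = 1
  leE : Γ ≤ A.E

/-- the extremal elements as a type -/
abbrev Om (A : Alg V) : Type _ := {z : V // A.IsExt z}

/-- action on the extremal elements -/
@[instance_reducible] def act {Γ : Subgroup (V ≃ₗ[ZMod 2] V)} (hΓ : Γ ≤ A.Aut) : MulAction Γ (Om A) where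
  smul γ z := ⟨(γ : V ≃ₗ[ZMod 2] V) z.1, z.2.map (hΓ γ.2)⟩
  one_smul _ := Subtype.ext rfl
  mul_smul _ _ _ := Subtype.ext rfl

namespace Glob

variable {Γ : Subgroup (V ≃ₗ[ZMod 2] V)} {m : ℕ} {e y : V} (L : Glob A Γ m e y)

include L

theorem e_eq : e = (A.g y * A.g e) y := by
  have h := swap L.he L.hy L.hey
  rw [LinearEquiv.mul_apply, h, g_g]

/-- transitivity on opposite pairs -/
theorem trans_opp {z w : V} (hz : A.IsExt z) (hw : A.IsExt w) (h : A.B z w = 1)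
    (hwy : ∃ γ ∈ Γ, γ y = w) : ∃ γ ∈ Γ, γ e = z ∧ γ y = w := by
  obtain ⟨γ, hγ, rfl⟩ := hwy
  have hγ' := L.le hγ
  have h1 : A.B (γ⁻¹ z) y = 1 := by
    rw [← Aut_B hγ', apply_inv, h]
  obtain ⟨u, hu, hue⟩ := L.exists_rad (hz.map (A.Aut.inv_mem hγ')) h1
  refine ⟨γ * u, Γ.mul_mem hγ hu.1, ?_, ?_⟩
  · rw [LinearEquiv.mul_apply, hue, apply_inv]
  · rw [LinearEquiv.mul_apply, hu.2.2.1]

/-- transitivity on extremal elements -/
theorem trans {z : V} (hz : A.IsExt z) : ∃ γ ∈ Γ, γ y = z := by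
  obtain ⟨γ, hγ, h⟩ := L.span z hz.ne
  obtain ⟨δ, hδ, h1, -⟩ := L.trans_opp hz (L.hy.map (L.le hγ)) h ⟨γ, hγ, rfl⟩
  refine ⟨δ * (A.g y * A.g e), Γ.mul_mem hδ (Γ.mul_mem L.gy L.ge), ?_⟩
  rw [LinearEquiv.mul_apply, ← L.e_eq, h1]

theorem exists_opp {z w : V} (hz : A.IsExt z) (hw : A.IsExt w) (h : A.B z w = 1) :
    ∃ γ ∈ Γ, γ e = z ∧ γ y = w := L.trans_opp hz hw h (L.trans hw)

theorem opp_trans {z w z' w' : V} (hz : A.IsExt z) (hw : A.IsExt w) (h : A.B z w = 1)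
    (hz' : A.IsExt z') (hw' : A.IsExt w') (h' : A.B z' w' = 1) : ∃ γ ∈ Γ, γ z = z' ∧ γ w = w' := by
  obtain ⟨γ, hγ, h1, h2⟩ := L.exists_opp hz hw h
  obtain ⟨δ, hδ, h3, h4⟩ := L.exists_opp hz' hw' h'
  refine ⟨δ * γ⁻¹, Γ.mul_mem hδ (Γ.inv_mem hγ), ?_, ?_⟩
  · rw [LinearEquiv.mul_apply, ← h1, inv_apply, h3]
  · rw [LinearEquiv.mul_apply, ← h2, inv_apply, h4]

/-- the group generated by all root involutions -/
theorem E_eq : A.E = Γ := by
  apply le_antisymm _ L.leE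
  unfold E
  rw [Subgroup.closure_le]
  rintro _ ⟨z, hz, rfl⟩
  obtain ⟨γ, hγ, rfl⟩ := L.trans hz
  rw [g_map L.hy (L.le hγ)]
  exact Γ.mul_mem (Γ.mul_mem hγ L.gy) (Γ.inv_mem hγ)

theorem g_mem_Γ {z : V} (hz : A.IsExt z) : A.g z ∈ Γ := by
  rw [← L.E_eq]
  exact Subgroup.subset_closure (g_mem_R hz)

/-! ### `Rad z` for all extremal elements -/

theorem Rad_map {γ : V ≃ₗ[ZMod 2] V} (hγ : γ ∈ A.Aut) : Rad A (γ y) = (Rad A y).map (MulAut.conj γ).toMonoidHom := by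
  ext u
  rw [Subgroup.mem_map]
  constructor
  · intro hu
    refine ⟨γ⁻¹ * u * γ, ?_, ?_⟩
    · have := Rad_conj hu (A.Aut.inv_mem hγ)
      rwa [inv_apply, inv_inv] at this
    · show γ * (γ⁻¹ * u * γ) * γ⁻¹ = u
      group
  · rintro ⟨w, hw, rfl⟩
    exact Rad_conj hw hγ

theorem rad_le' {z : V} (hz : A.IsExt z) : Rad A z ≤ Γ := by
  obtain ⟨γ, hγ, rfl⟩ := L.trans hz
  rw [L.Rad_map (L.le hγ)]
  rintro _ ⟨w, hw, rfl⟩
  exact Γ.mul_mem (Γ.mul_mem hγ (L.rad_le hw)) (Γ.inv_mem hγ)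

theorem isPGroup' {z : V} (hz : A.IsExt z) : IsPGroup 2 (Rad A z) := by
  obtain ⟨γ, hγ, rfl⟩ := L.trans hz
  rw [L.Rad_map (L.le hγ)]
  exact L.isPGroup.map _

theorem cent_rad' {z : V} (hz : A.IsExt z) {t : V ≃ₗ[ZMod 2] V} (ht : t ∈ A.Aut)
    (hc : ∀ w ∈ Rad A z, t * w = w * t) : t = 1 ∨ t = A.g z := by
  obtain ⟨γ, hγ, rfl⟩ := L.trans hz
  have hγ' := L.le hγ
  have h1 := L.cent_rad (t := γ⁻¹ * t * γ) (A.Aut.mul_mem (A.Aut.mul_mem (A.Aut.inv_mem hγ') ht) hγ') (by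
    intro w hw
    have h2 := hc _ (Rad_conj hw hγ')
    calc γ⁻¹ * t * γ * w = γ⁻¹ * (t * (γ * w * γ⁻¹)) * γ := by group
      _ = γ⁻¹ * (γ * w * γ⁻¹ * t) * γ := by rw [h2]
      _ = w * (γ⁻¹ * t * γ) := by group)
  rcases h1 with h1 | h1
  · left
    calc t = γ * (γ⁻¹ * t * γ) * γ⁻¹ := by group
      _ = 1 := by rw [h1, mul_one, mul_inv_cancel]
  · right
    rw [g_map L.hy hγ', ← h1]
    group

/-- `g z` is in the radical and central in the stabiliser -/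
theorem g_comm {z : V} (hz : A.IsExt z) {u : V ≃ₗ[ZMod 2] V} (hu : u ∈ A.Aut) (h : u z = z) :
    u * A.g z = A.g z * u := by
  have h1 := g_map hz hu
  rw [h] at h1
  calc u * A.g z = (u * A.g z * u⁻¹) * u := by group
    _ = A.g z * u := by rw [← h1]

/-! ### Parity -/

theorem odd_card [Finite V] : Nat.card (Om A) % 2 = 1 := by
  letI : MulAction Γ (Om A) := act L.le
  have : Finite (Om A) := inferInstance
  let Q : Subgroup Γ := (Rad A y).subgroupOf Γ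
  have hQ : IsPGroup 2 Q := L.isPGroup.comap_of_injective Γ.subtype Subtype.coe_injective
  have hfix : MulAction.fixedPoints Q (Om A) = {⟨y, L.hy⟩} := by
    ext z
    rw [MulAction.mem_fixedPoints, Set.mem_singleton_iff]
    constructor
    · intro h
      apply Subtype.ext
      apply L.fixed_rad z.2
      intro w hw
      have h1 := h ⟨⟨w, L.rad_le hw⟩, hw⟩
      exact congrArg Subtype.val h1
    · rintro rfl u
      apply Subtype.ext
      have h1 : ((u : Γ) : V ≃ₗ[ZMod 2] V) ∈ Rad A y := u.2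
      exact h1.2.1
  have h1 := hQ.card_modEq_card_fixedPoints (Om A)
  rw [hfix] at h1
  have h2 : Nat.card ({⟨y, L.hy⟩} : Set (Om A)) = 1 := Nat.card_unique
  rw [h2] at h1
  exact h1

/-- a 2-subgroup of `Γ` fixes an extremal element -/
theorem exists_fixed [Finite V] (P : Subgroup Γ) (hP : IsPGroup 2 P) :
    ∃ z, A.IsExt z ∧ ∀ p ∈ P, (p : V ≃ₗ[ZMod 2] V) z = z := by
  letI : MulAction Γ (Om A) := act L.le
  have : Finite (Om A) := inferInstance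
  have h1 := hP.card_modEq_card_fixedPoints (Om A)
  have h2 := L.odd_card
  have h3 : Nat.card (MulAction.fixedPoints P (Om A)) ≠ 0 := by
    intro h
    rw [h] at h1
    have h4 : Nat.card (Om A) % 2 = 0 % 2 := h1
    omega
  obtain ⟨z, hz⟩ := (Nat.card_ne_zero.1 h3).1
  refine ⟨z.1, z.2, fun p hp => ?_⟩
  exact congrArg Subtype.val (hz ⟨p, hp⟩)

/-- a Sylow 2-subgroup fixing `z` contains `Rad z` -/
theorem rad_le_sylow [Finite V] (P : Sylow 2 Γ) {z : V} (hz : A.IsExt z)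
    (h : ∀ p ∈ P, (p : V ≃ₗ[ZMod 2] V) z = z) : (Rad A z).subgroupOf Γ ≤ P := by
  have hQ : IsPGroup 2 ((Rad A z).subgroupOf Γ) :=
    (L.isPGroup' hz).comap_of_injective Γ.subtype Subtype.coe_injective
  have hn : (P : Subgroup Γ) ≤ Subgroup.normalizer ((Rad A z).subgroupOf Γ : Set Γ) := by
    intro p hp
    have key : ∀ q ∈ P, ∀ w : Γ, w ∈ (Rad A z).subgroupOf Γ → q * w * q⁻¹ ∈ (Rad A z).subgroupOf Γ := by
      intro q hq w hw
      have h1 := Rad_conj (show (w : V ≃ₗ[ZMod 2] V) ∈ Rad A z from hw) (L.le q.2)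
      rw [h q hq] at h1
      exact h1
    rw [Subgroup.mem_normalizer_iff]
    intro w
    refine ⟨key p hp w, fun hw => ?_⟩
    have h2 := key p⁻¹ (P.inv_mem hp) _ hw
    have h3 : p⁻¹ * (p * w * p⁻¹) * p⁻¹⁻¹ = w := by group
    rwa [h3] at h2
  have h1 : IsPGroup 2 ((P : Subgroup Γ) ⊔ (Rad A z).subgroupOf Γ : Subgroup Γ) :=
    IsPGroup.to_sup_of_normal_right' P.2 hQ hn
  have h2 := P.3 h1 le_sup_left
  rw [← h2]
  exact le_sup_right

/-- **The root involutions are the 2-central involutions.** -/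
theorem twoCentral_iff [Finite V] (t : Γ) : IsTwoCentralInvolution t ↔ (t : V ≃ₗ[ZMod 2] V) ∈ A.R := by
  constructor
  · rintro ⟨ho, P, htP, hc⟩
    obtain ⟨z, hz, hfix⟩ := L.exists_fixed P P.2
    have h1 := L.rad_le_sylow P hz hfix
    rcases L.cent_rad' hz (L.le t.2) (by
      intro w hw
      have h2 := hc ⟨w, L.rad_le' hz hw⟩ (h1 (show (⟨w, L.rad_le' hz hw⟩ : Γ) ∈ (Rad A z).subgroupOf Γ from hw))
      exact (congrArg Subtype.val h2).symm) with h2 | h2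
    · exfalso
      have h3 : t = 1 := Subtype.ext h2
      rw [h3, orderOf_one] at ho
      exact absurd ho (by norm_num)
    · exact ⟨z, hz, h2.symm⟩
  · rintro ⟨w, hw, hgw⟩
    obtain ⟨P⟩ : Nonempty (Sylow 2 Γ) := inferInstance
    obtain ⟨z, hz, hfix⟩ := L.exists_fixed P P.2
    obtain ⟨γ, hγ, rfl⟩ := L.trans hw
    obtain ⟨δ, hδ, rfl⟩ := L.trans hz
    obtain ⟨q, hq⟩ : ∃ q : Γ, q = (⟨γ, hγ⟩ : Γ) * (⟨δ, hδ⟩ : Γ)⁻¹ := ⟨_, rfl⟩
    have hqz : (q : V ≃ₗ[ZMod 2] V) (δ y) = γ y := by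
      rw [hq]
      show γ (δ⁻¹ (δ y)) = γ y
      rw [inv_apply]
    have hfix' : ∀ x ∈ (MulAut.conj q • P : Sylow 2 Γ), (x : V ≃ₗ[ZMod 2] V) (γ y) = γ y := by
      intro x hx
      have hx' : x ∈ MulAut.conj q • (P : Subgroup Γ) := hx
      rw [Subgroup.mem_smul_pointwise_iff_exists] at hx'
      obtain ⟨p, hp, rfl⟩ := hx'
      show (q : V ≃ₗ[ZMod 2] V) ((p : V ≃ₗ[ZMod 2] V) (((q⁻¹ : Γ) : V ≃ₗ[ZMod 2] V) (γ y))) = γ y
      rw [← hqz]
      have h1 : ((q⁻¹ : Γ) : V ≃ₗ[ZMod 2] V) ((q : V ≃ₗ[ZMod 2] V) (δ y)) = δ y := inv_apply _ _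
      rw [h1, hfix p hp]
    refine ⟨?_, MulAut.conj q • P, ?_, ?_⟩
    · rw [orderOf_eq_prime_iff]
      refine ⟨Subtype.ext ?_, fun h => ?_⟩
      · show (t : V ≃ₗ[ZMod 2] V) ^ 2 = 1
        rw [pow_two, ← hgw, g_sq]
      · rw [h] at hgw
        exact g_ne_one hw hgw
    · apply L.rad_le_sylow _ hw hfix'
      show (t : V ≃ₗ[ZMod 2] V) ∈ Rad A (γ y)
      rw [← hgw]
      exact g_mem_Rad hw
    · intro x hx
      apply Subtype.ext
      show (x : V ≃ₗ[ZMod 2] V) * t = t * x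
      rw [← hgw]
      exact L.g_comm hw (L.le x.2) (hfix' x hx)

end Glob

end Cfsg.Agent.TwoESix.ExtGlobal
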