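import Cfsg.Agent.TwoESix.ExtAlg

/-!
# The stabiliser of an extremal element

`V0 y` : the elements `x` of `y^⊥` with `[x,y] ∈ {0,y}`; `Rad y` : the automorphisms fixing `y` and acting trivially on
`y^⊥ / V0 y`.  Structure `Loc Γ e y` : the numerical facts about a pair `e, y` of opposite extremal elements from which
it follows that `Rad y` is a 2-subgroup of `Γ`, regular on the extremal elements opposite `y`.
-/

set_option autoImplicit false

namespace Cfsg.Agent.TwoESix.ExtLocal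

open Cfsg.Agent.TwoESix.ExtAlg Cfsg.Agent.TwoESix.ExtAlg.Alg

variable {V : Type*} [AddCommGroup V] [Module (ZMod 2) V] (A : Alg V)

/-- the normaliser of `y` in `y^⊥` -/
def V0 (y : V) : AddSubgroup V where
  carrier := {x | A.B x y = 0 ∧ (A.br x y = 0 ∨ A.br x y = y)}
  zero_mem' := by simp
  add_mem' {a b} ha hb := by
    refine ⟨by rw [map_add, LinearMap.add_apply, ha.1, hb.1, add_zero], ?_⟩
    rw [map_add, LinearMap.add_apply]
    rcases ha.2 with h | h <;> rcases hb.2 with h' | h' <;> rw [h, h'] <;> simp [dbl]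
  neg_mem' {a} ha := by rw [ngt]; exact ha

variable {A}

theorem mem_V0 {x y : V} : x ∈ V0 A y ↔ A.B x y = 0 ∧ (A.br x y = 0 ∨ A.br x y = y) := Iff.rfl

theorem map_V0 {x y : V} {n : V ≃ₗ[ZMod 2] V} (hn : n ∈ A.Aut) (h : x ∈ V0 A y) : n x ∈ V0 A (n y) := by
  obtain ⟨h1, h2⟩ := h
  refine ⟨by rw [Aut_B hn, h1], ?_⟩
  rw [← Aut_br hn]
  rcases h2 with h2 | h2
  · left; rw [h2, map_zero]
  · right; rw [h2]

theorem map_V0_fix {x y : V} {n : V ≃ₗ[ZMod 2] V} (hn : n ∈ A.Aut) (hy : n y = y) (h : x ∈ V0 A y) :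
    n x ∈ V0 A y := by
  have := map_V0 hn h
  rwa [hy] at this

theorem B_fix {x y : V} {n : V ≃ₗ[ZMod 2] V} (hn : n ∈ A.Aut) (hy : n y = y) : A.B (n x) y = A.B x y := by
  conv_lhs => rw [← hy]
  exact Aut_B hn x y

theorem inv_fix {y : V} {n : V ≃ₗ[ZMod 2] V} (hy : n y = y) : n⁻¹ y = y := by
  conv_lhs => rw [← hy]
  exact inv_apply n y

/-- `[y,a]` is in `V0` for `a ∈ y^⊥` -/
theorem br_mem_V0 {y : V} (hy : A.IsExt y) (a : V) : A.br y a ∈ V0 A y := by
  refine ⟨by rw [A.B_comm, A.B_self_br], Or.inl ?_⟩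
  rw [A.br_comm, hy.sq]

theorem self_mem_V0 (y : V) : y ∈ V0 A y := ⟨A.B_self y, Or.inl (A.br_self y)⟩

theorem B_V0 {x y a : V} (hx : x ∈ V0 A y) (ha : A.B y a = 0) : A.B x (A.br y a) = 0 := by
  rw [← A.inv]
  rcases hx.2 with h | h
  · rw [h, map_zero, LinearMap.zero_apply]
  · rw [h, ha]

variable (A)

/-- the unipotent radical of the stabiliser of `y` -/
def Rad (y : V) : Subgroup (V ≃ₗ[ZMod 2] V) where
  carrier := {u | u ∈ A.Aut ∧ u y = y ∧ ∀ v, A.B v y = 0 → u v + v ∈ V0 A y}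
  one_mem' := ⟨A.Aut.one_mem, rfl, fun v _ => by
    rw [show (1 : V ≃ₗ[ZMod 2] V) v = v from rfl, dbl]; exact (V0 A y).zero_mem⟩
  mul_mem' {a b} ha hb := by
    refine ⟨A.Aut.mul_mem ha.1 hb.1, by rw [LinearEquiv.mul_apply, hb.2.1, ha.2.1], fun v hv => ?_⟩
    have h1 := map_V0_fix ha.1 ha.2.1 (hb.2.2 v hv)
    have h2 := ha.2.2 v hv
    rw [LinearEquiv.mul_apply]
    have h3 : a (b v) + v = a (b v + v) + (a v + v) := by
      rw [map_add]
      have := dbl (a v)
      calc a (b v) + v = a (b v) + (a v + a v) + v := by rw [this, add_zero]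
        _ = a (b v) + a v + (a v + v) := by abel
    rw [h3]
    exact (V0 A y).add_mem h1 h2
  inv_mem' {a} ha := by
    have hy : a⁻¹ y = y := inv_fix ha.2.1
    have hi : a⁻¹ ∈ A.Aut := A.Aut.inv_mem ha.1
    refine ⟨hi, hy, fun v hv => ?_⟩
    have h1 := map_V0_fix hi hy (ha.2.2 v hv)
    rw [map_add, inv_apply] at h1
    rwa [add_comm]

variable {A}

theorem mem_Rad {u : V ≃ₗ[ZMod 2] V} {y : V} :
    u ∈ Rad A y ↔ u ∈ A.Aut ∧ u y = y ∧ ∀ v, A.B v y = 0 → u v + v ∈ V0 A y := Iff.rfl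

theorem Rad_conj {u n : V ≃ₗ[ZMod 2] V} {y : V} (hu : u ∈ Rad A y) (hn : n ∈ A.Aut) :
    n * u * n⁻¹ ∈ Rad A (n y) := by
  refine ⟨A.Aut.mul_mem (A.Aut.mul_mem hn hu.1) (A.Aut.inv_mem hn), ?_, fun v hv => ?_⟩
  · rw [LinearEquiv.mul_apply, LinearEquiv.mul_apply, inv_apply, hu.2.1]
  · obtain ⟨v, rfl⟩ := n.surjective v
    rw [Aut_B hn] at hv
    rw [LinearEquiv.mul_apply, LinearEquiv.mul_apply, inv_apply, ← map_add]
    exact map_V0 hn (hu.2.2 v hv)

theorem g_mem_Rad {y : V} (hy : A.IsExt y) : A.g y ∈ Rad A y := by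
  refine ⟨g_mem hy, g_self hy, fun v hv => ?_⟩
  rw [g_apply hy, A.B_comm, hv, zero_smul, add_zero, add_comm, dbl']
  exact br_mem_V0 hy v

/-- numerical facts about a pair of opposite extremal elements -/
structure Loc (A : Alg V) (Γ : Subgroup (V ≃ₗ[ZMod 2] V)) (m : ℕ) (e y : V) where
  le : Γ ≤ A.Aut
  he : A.IsExt e
  hy : A.IsExt y
  hey : A.B e y = 1
  ge : A.g e ∈ Γ
  gy : A.g y ∈ Γ
  /-- extremal elements collinear to `y` -/
  c : Fin m → V
  /-- dual basis -/
  c' : Fin m → V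
  hc : ∀ i, A.IsExt (c i)
  gc : ∀ i, A.g (c i) ∈ Γ
  cy : ∀ i, A.g (c i) y = y
  cc : ∀ i j, A.g (c i) (c' j) = if i = j then c' j + y else c' j
  ce : ∀ j, A.B e (c' j) = 0
  low : ∀ x, A.B x y = 0 → (∀ j, A.B x (c' j) = 0) → A.br x y = 0 ∨ A.br x y = y
  cmem : ∀ j, ∃ a, A.B y a = 0 ∧ c' j = A.br y a
  cspan : ∀ a, A.B y a = 0 → A.br y a ∈ AddSubgroup.closure (Set.range c ∪ {y})
  core : ∀ x, A.B x y = 0 → (∀ j, A.B x (c' j) = 0) →
    (∀ i j, A.br (A.br e (c' i)) (A.br x (c' j)) + A.br (A.br x (c' i)) (A.br e (c' j)) +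
        A.B e (A.br (c' i) (c' j)) • x ∈ AddSubgroup.closure {y}) →
    x ∈ AddSubgroup.closure {A.br e y, y}
  top : ∃ a, a ≠ 0 ∧ A.br (A.br e y) a = a ∧ A.br e a = 0
  gen : ∀ u ∈ A.Aut, u e = e → u y = y → (∀ v, A.br e v = 0 → A.br (A.br e y) v = v → u v = v) → u = 1

theorem mem_closure_one {x y : V} (h : x ∈ AddSubgroup.closure ({y} : Set V)) : x = 0 ∨ x = y := by
  induction h using AddSubgroup.closure_induction with
  | mem x hx => exact Or.inr hx
  | zero => exact Or.inl rfl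
  | add a b _ _ ha hb =>
    rcases ha with rfl | rfl <;> rcases hb with rfl | rfl <;> simp [dbl]
  | neg a _ ha => rw [ngt]; exact ha

theorem mem_closure_two {x a b : V} (h : x ∈ AddSubgroup.closure ({a, b} : Set V)) :
    x = 0 ∨ x = a ∨ x = b ∨ x = a + b := by
  have key : ∃ s t : ZMod 2, x = s • a + t • b := by
    induction h using AddSubgroup.closure_induction with
    | mem x hx =>
      rcases hx with rfl | rfl
      · exact ⟨1, 0, by simp⟩
      · exact ⟨0, 1, by simp⟩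
    | zero => exact ⟨0, 0, by simp⟩
    | add p q _ _ hp hq =>
      obtain ⟨s, t, rfl⟩ := hp
      obtain ⟨s', t', rfl⟩ := hq
      exact ⟨s + s', t + t', by rw [add_smul, add_smul]; abel⟩
    | neg p _ hp =>
      rw [ngt]
      exact hp
  obtain ⟨s, t, rfl⟩ := key
  rcases z2 s with rfl | rfl <;> rcases z2 t with rfl | rfl <;> simp

theorem closure_one_mem (y : V) : y ∈ AddSubgroup.closure ({y} : Set V) :=
  AddSubgroup.subset_closure rfl

namespace Loc

variable {Γ : Subgroup (V ≃ₗ[ZMod 2] V)} {m : ℕ} {e y : V} (L : Loc A Γ m e y)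

include L

theorem B_V0_c' {x : V} (hx : x ∈ V0 A y) (j : Fin m) : A.B x (L.c' j) = 0 := by
  obtain ⟨a, ha, h⟩ := L.cmem j
  rw [h]
  exact B_V0 hx ha

theorem mem_V0_iff {x : V} : x ∈ V0 A y ↔ A.B x y = 0 ∧ ∀ j, A.B x (L.c' j) = 0 :=
  ⟨fun h => ⟨h.1, L.B_V0_c' h⟩, fun h => ⟨h.1, L.low x h.1 h.2⟩⟩

/-- the effect of the `g (c i)` on the functionals -/
theorem f_gc (i j : Fin m) (z : V) :
    A.B (A.g (L.c i) z) (L.c' j) = A.B z (L.c' j) + (if i = j then A.B z y else 0) := by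
  have h1 : L.c' j = A.g (L.c i) (A.g (L.c i) (L.c' j)) := (g_g _ _).symm
  conv_lhs => rw [h1]
  rw [g_B (L.hc i), L.cc]
  split
  · rw [map_add]
  · rw [add_zero]

theorem gc_mem_Rad (i : Fin m) : A.g (L.c i) ∈ Rad A y := by
  refine ⟨g_mem (L.hc i), L.cy i, fun v hv => ?_⟩
  rw [L.mem_V0_iff]
  refine ⟨?_, fun j => ?_⟩
  · rw [map_add, LinearMap.add_apply, B_fix (g_mem (L.hc i)) (L.cy i), hv, add_zero]
  · rw [map_add, LinearMap.add_apply, L.f_gc, hv, ite_self, add_zero, dbl]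

/-- every functional value can be corrected -/
theorem exists_kill (z : V) (hz : A.B z y = 1) :
    ∃ u ∈ Γ ⊓ Rad A y, ∀ j, A.B (u z) (L.c' j) = 0 := by
  have key : ∀ k ≤ m, ∃ u ∈ Γ ⊓ Rad A y, ∀ j : Fin m, (j : ℕ) < k → A.B (u z) (L.c' j) = 0 := by
    intro k
    induction k with
    | zero => exact fun _ => ⟨1, Subgroup.one_mem _, fun j hj => absurd hj (Nat.not_lt_zero _)⟩
    | succ k ih =>
      intro hk
      obtain ⟨u, hu, h⟩ := ih (by omega)
      let i : Fin m := ⟨k, by omega⟩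
      have hB : A.B (u z) y = 1 := by rw [B_fix hu.2.1 hu.2.2.1, hz]
      rcases z2 (A.B (u z) (L.c' i)) with h1 | h1
      · refine ⟨u, hu, fun j hj => ?_⟩
        rcases Nat.lt_succ_iff_lt_or_eq.1 hj with h2 | h2
        · exact h j h2
        · have : j = i := Fin.ext h2
          rw [this, h1]
      · refine ⟨A.g (L.c i) * u, Subgroup.mul_mem _ ⟨L.gc i, L.gc_mem_Rad i⟩ hu, fun j hj => ?_⟩
        rw [LinearEquiv.mul_apply, L.f_gc, hB]
        rcases Nat.lt_succ_iff_lt_or_eq.1 hj with h2 | h2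
        · have h3 : i ≠ j := by
            intro h4
            rw [← h4] at h2
            exact lt_irrefl _ h2
          rw [if_neg h3, add_zero, h j h2]
        · have h3 : i = j := Fin.ext h2.symm
          rw [if_pos h3, ← h3, h1]
          decide
  obtain ⟨u, hu, h⟩ := key m le_rfl
  exact ⟨u, hu, fun j => h j j.2⟩

/-- the commutator structure: `[x', [y,a]]` for `x' ∈ V0` -/
theorem quad_zero {z : V} (hz : A.IsExt z) (hzy : A.B z y = 1) (h0 : ∀ j, A.B z (L.c' j) = 0) :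
    z = e ∨ z = A.g y e := by
  have hx : z + e ∈ V0 A y := by
    rw [L.mem_V0_iff]
    refine ⟨?_, fun j => ?_⟩
    · rw [map_add, LinearMap.add_apply, hzy, L.hey]; decide
    · rw [map_add, LinearMap.add_apply, h0, L.ce, add_zero]
  obtain ⟨x, hxz⟩ : ∃ x, x = z + e := ⟨_, rfl⟩
  have hze : z = e + x := by rw [hxz, add_comm z, dbl']
  rw [← hxz] at hx
  -- `[x, [y, a]]` is in the span of `[y, y^⊥]` and `y`
  have hbr : ∀ a, A.B y a = 0 → ∃ a', A.B y a' = 0 ∧ A.br x (A.br y a) = A.br y a' := by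
    intro a ha
    have h1 := L.hy.der x a
    have h2 : A.br x (A.br y a) = A.br y (A.br x a) + A.br (A.br y x) a := by
      rw [h1, add_comm, dbl']
    rw [A.br_comm y x] at h2
    rcases hx.2 with h | h
    · rw [h, map_zero, LinearMap.zero_apply, add_zero] at h2
      refine ⟨A.br x a, ?_, h2⟩
      rw [← A.inv, A.br_comm y x, h, map_zero, LinearMap.zero_apply]
    · rw [h, ← map_add] at h2
      refine ⟨A.br x a + a, ?_, h2⟩
      rw [map_add, ← A.inv, A.br_comm y x, h, ha, add_zero]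
  have hyy : ∀ a b, A.B y a = 0 → A.B y b = 0 → A.br (A.br y a) (A.br y b) ∈ AddSubgroup.closure ({y} : Set V) := by
    intro a b ha hb
    rw [L.hy.quad, ha, hb, zero_smul, zero_smul, add_zero, add_zero]
    rcases z2 (A.B y (A.br a b)) with h | h
    · rw [h, zero_smul]; exact AddSubgroup.zero_mem _
    · rw [h, one_smul]; exact closure_one_mem y
  have hcore := L.core x hx.1 (fun j => L.B_V0_c' hx j) (by
    intro i j
    obtain ⟨a, ha, hva⟩ := L.cmem i
    obtain ⟨b, hb, hvb⟩ := L.cmem j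
    obtain ⟨a', ha', hxa⟩ := hbr a ha
    obtain ⟨b', hb', hxb⟩ := hbr b hb
    have h1 : A.br (A.br x (L.c' i)) (A.br x (L.c' j)) ∈ AddSubgroup.closure ({y} : Set V) := by
      rw [hva, hvb, hxa, hxb]
      exact hyy a' b' ha' hb'
    have hvw := hyy a b ha hb
    rw [← hva, ← hvb] at hvw
    have hzw : ∀ j, A.B z (L.c' j) = 0 := h0
    have h2 := hz.quad (L.c' i) (L.c' j)
    have h3 := L.he.quad (L.c' i) (L.c' j)
    rw [hzw, hzw, zero_smul, zero_smul, add_zero, add_zero] at h2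
    rw [L.ce, L.ce, zero_smul, zero_smul, add_zero, add_zero] at h3
    have h4 : A.B z (A.br (L.c' i) (L.c' j)) = A.B e (A.br (L.c' i) (L.c' j)) := by
      rcases mem_closure_one hvw with h | h
      · rw [h, map_zero, map_zero]
      · rw [h, hzy, L.hey]
    rw [h4, hze] at h2
    simp only [map_add, LinearMap.add_apply, smul_add] at h2
    rw [h3] at h2
    generalize A.B e (A.br (L.c' i) (L.c' j)) • e = p at h2
    generalize A.B e (A.br (L.c' i) (L.c' j)) • x = q at h2 ⊢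
    generalize A.br (A.br x (L.c' i)) (A.br x (L.c' j)) = r at h2 h1
    generalize A.br (A.br e (L.c' i)) (A.br x (L.c' j)) = k1 at h2 ⊢
    generalize A.br (A.br x (L.c' i)) (A.br e (L.c' j)) = k2 at h2 ⊢
    have h5 : k1 + k2 + q = r := by
      have h6 : p + (k1 + k2 + r) = p + q := by rw [← h2]; abel
      have h7 : k1 + k2 + r = q := add_left_cancel h6
      rw [← h7]
      calc k1 + k2 + (k1 + k2 + r) = (k1 + k1) + (k2 + k2) + r := by abel
        _ = r := by rw [dbl, dbl, add_zero, zero_add]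
    rw [h5]
    exact h1)
  obtain ⟨a, ha, hha, hea⟩ := L.top
  rcases mem_closure_two hcore with h | h | h | h
  · left; rw [hze, h, add_zero]
  · exfalso
    have h1 := hz.sq a
    rw [hze, h] at h1
    simp only [map_add, LinearMap.add_apply, hha, hea, zero_add] at h1
    exact ha h1
  · exfalso
    have h1 := hz.sq a
    have h2 := L.he.der y a
    rw [hha, hea, map_zero, add_zero] at h2
    rw [hze, h] at h1
    simp only [map_add, LinearMap.add_apply, hea, zero_add, L.hy.sq, add_zero, h2] at h1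
    exact ha h1
  · right
    rw [hze, h, g_apply_of_one L.hy (by rw [A.B_comm, L.hey]), A.br_comm y e, add_assoc]

/-- `Γ ⊓ Rad y` is transitive on the extremal elements opposite `y` -/
theorem exists_rad {z : V} (hz : A.IsExt z) (hzy : A.B z y = 1) : ∃ u ∈ Γ ⊓ Rad A y, u e = z := by
  obtain ⟨u, hu, h⟩ := L.exists_kill z hzy
  have h1 : A.B (u z) y = 1 := by rw [B_fix hu.2.1 hu.2.2.1, hzy]
  rcases L.quad_zero (hz.map hu.2.1) h1 h with h2 | h2
  · exact ⟨u⁻¹, Subgroup.inv_mem _ hu, by rw [← h2, inv_apply]⟩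
  · refine ⟨u⁻¹ * A.g y, Subgroup.mul_mem _ (Subgroup.inv_mem _ hu) ⟨L.gy, g_mem_Rad L.hy⟩, ?_⟩
    rw [LinearEquiv.mul_apply, ← h2, inv_apply]

/-- an element of `Rad y` fixing `e` is trivial -/
theorem eq_one_of_fix {u : V ≃ₗ[ZMod 2] V} (hu : u ∈ Rad A y) (he : u e = e) : u = 1 := by
  refine L.gen u hu.1 he hu.2.1 fun v hev hhv => ?_
  have hby : A.B v y = 0 := by
    rw [← hhv, A.br_comm, A.inv, A.br_comm (A.br e y), A.br_comm e y, L.hy.sq, map_zero]
  have h1 := hu.2.2 v hby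
  have h2 : A.br e (u v) = 0 := by
    have h := Aut_br hu.1 e v
    rw [he, hev, map_zero] at h
    exact h.symm
  have h3 : A.br (A.br e y) (u v) = u v := by
    have h := Aut_br hu.1 (A.br e y) v
    rw [hhv, Aut_br hu.1 e y, he, hu.2.1] at h
    exact h.symm
  have h4 : A.br e (u v + v) = 0 := by rw [map_add, h2, hev, add_zero]
  have h5 : A.br (A.br e y) (u v + v) = u v + v := by rw [map_add, h3, hhv]
  apply eq_of_add
  generalize u v + v = x at h1 h4 h5
  have h6 := L.he.der y x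
  rw [h4, h5, map_zero, add_zero] at h6
  rcases h1.2 with h | h
  · rw [← h6, A.br_comm y x, h, map_zero]
  · rw [A.br_comm y x, h] at h6
    rw [← h5, ← h6, A.br_self]

theorem rad_inj {u u' : V ≃ₗ[ZMod 2] V} (hu : u ∈ Rad A y) (hu' : u' ∈ Rad A y) (h : u e = u' e) : u = u' := by
  have h1 : u'⁻¹ * u = 1 := L.eq_one_of_fix (Subgroup.mul_mem _ (Subgroup.inv_mem _ hu') hu) (by
    rw [LinearEquiv.mul_apply, h, inv_apply])
  exact (inv_mul_eq_one.1 h1).symm

theorem B_rad_e {u : V ≃ₗ[ZMod 2] V} (hu : u ∈ A.Aut) (hy : u y = y) : A.B (u e) y = 1 := by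
  rw [B_fix hu hy, L.hey]

/-- `Rad y` is contained in `Γ` -/
theorem rad_le : Rad A y ≤ Γ := by
  intro u hu
  obtain ⟨u', hu', h⟩ := L.exists_rad (L.he.map hu.1) (L.B_rad_e hu.1 hu.2.1)
  rw [L.rad_inj hu hu'.2 h.symm]
  exact hu'.1

theorem fix_cases {u : V ≃ₗ[ZMod 2] V} (hu : u ∈ A.Aut) (hy : u y = y) (h : u e + e ∈ V0 A y) :
    u e = e ∨ u e = A.g y e := by
  apply L.quad_zero (L.he.map hu) (L.B_rad_e hu hy)
  intro j
  have h1 := L.B_V0_c' h j
  rwa [map_add, LinearMap.add_apply, L.ce, add_zero] at h1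

theorem rad_cases {u : V ≃ₗ[ZMod 2] V} (hu : u ∈ Rad A y) (h : u e + e ∈ V0 A y) : u = 1 ∨ u = A.g y := by
  rcases L.fix_cases hu.1 hu.2.1 h with h | h
  · exact Or.inl (L.eq_one_of_fix hu h)
  · exact Or.inr (L.rad_inj hu (g_mem_Rad L.hy) h)

theorem B_add_e {u : V ≃ₗ[ZMod 2] V} (hu : u ∈ Rad A y) : A.B (u e + e) y = 0 := by
  rw [map_add, LinearMap.add_apply, L.B_rad_e hu.1 hu.2.1, L.hey]
  decide

theorem mul_apply_e {u w : V ≃ₗ[ZMod 2] V} (hu : u ∈ Rad A y) (hw : w ∈ Rad A y) :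
    u (w e) + (u e + e + (w e + e)) + e ∈ V0 A y := by
  have h1 := hu.2.2 _ (L.B_add_e hw)
  rw [map_add] at h1
  have h2 : u (w e) + (u e + e + (w e + e)) + e = u (w e) + u e + (w e + e) + (e + e) := by abel
  rw [h2, dbl, add_zero]
  exact h1

/-- squares in `Rad y` -/
theorem sq_cases {u : V ≃ₗ[ZMod 2] V} (hu : u ∈ Rad A y) : u * u = 1 ∨ u * u = A.g y := by
  apply L.rad_cases (Subgroup.mul_mem _ hu hu)
  have h1 := L.mul_apply_e hu hu
  rw [dbl, add_zero] at h1
  exact h1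

theorem gy_comm {u : V ≃ₗ[ZMod 2] V} (hu : u ∈ A.Aut) (hy : u y = y) : u * A.g y = A.g y * u := by
  have h := g_map L.hy hu
  rw [hy] at h
  calc u * A.g y = (u * A.g y * u⁻¹) * u := by group
    _ = A.g y * u := by rw [← h]

/-- commutators in `Rad y` -/
theorem comm_cases {u w : V ≃ₗ[ZMod 2] V} (hu : u ∈ Rad A y) (hw : w ∈ Rad A y) :
    u * w = w * u ∨ u * w = w * u * A.g y := by
  have hk : u⁻¹ * w⁻¹ * (u * w) ∈ Rad A y :=
    Subgroup.mul_mem _ (Subgroup.mul_mem _ (Subgroup.inv_mem _ hu) (Subgroup.inv_mem _ hw)) (Subgroup.mul_mem _ hu hw)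
  have h1 := L.mul_apply_e hu hw
  have h2 := L.mul_apply_e hw hu
  have h3 : u (w e) + w (u e) ∈ V0 A y := by
    have h4 := (V0 A y).add_mem h1 h2
    have h5 : u (w e) + (u e + e + (w e + e)) + e + (w (u e) + (w e + e + (u e + e)) + e) =
        u (w e) + w (u e) + ((u e + u e) + (w e + w e) + ((e + e) + (e + e) + (e + e))) := by abel
    rw [h5] at h4
    simpa only [dbl, add_zero] using h4
  have h6 : (u⁻¹ * w⁻¹ * (u * w)) e + e ∈ V0 A y := by
    have h7 := map_V0_fix (A.Aut.mul_mem (A.Aut.inv_mem hu.1) (A.Aut.inv_mem hw.1))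
      (show (u⁻¹ * w⁻¹) y = y by rw [LinearEquiv.mul_apply, inv_fix hw.2.1, inv_fix hu.2.1]) h3
    rw [map_add] at h7
    have h8 : (u⁻¹ * w⁻¹) (w (u e)) = e := by
      rw [LinearEquiv.mul_apply, inv_apply, inv_apply]
    rw [h8] at h7
    exact h7
  rcases L.rad_cases hk h6 with h | h
  · left
    calc u * w = w * u * (u⁻¹ * w⁻¹ * (u * w)) := by group
      _ = w * u := by rw [h, mul_one]
  · right
    calc u * w = w * u * (u⁻¹ * w⁻¹ * (u * w)) := by group
      _ = w * u * A.g y := by rw [h]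

/-- `Rad y` is a 2-group -/
theorem isPGroup : IsPGroup 2 (Rad A y) := by
  intro u
  refine ⟨2, ?_⟩
  apply Subtype.ext
  have h : (u : V ≃ₗ[ZMod 2] V) ^ (2 ^ 2) = 1 := by
    have h1 : (u : V ≃ₗ[ZMod 2] V) ^ (2 ^ 2) = (u * u) * (u * u) := by
      show (u : V ≃ₗ[ZMod 2] V) ^ 4 = (u * u) * (u * u)
      simp only [pow_succ, pow_zero, one_mul, mul_assoc]
    rw [h1]
    rcases L.sq_cases u.2 with h | h
    · rw [h, one_mul]
    · rw [h, g_sq]
  exact h

/-- an automorphism commuting with all `g (c i)` and fixing `e` and `y` is trivial -/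
theorem eq_one_of_comm {n : V ≃ₗ[ZMod 2] V} (hn : n ∈ A.Aut) (he : n e = e) (hy : n y = y)
    (hc : ∀ i, n (L.c i) = L.c i) : n = 1 := by
  have key : ∀ a, A.B y a = 0 → n (A.br y a) = A.br y a := by
    intro a ha
    have h1 := L.cspan a ha
    have h2 : AddSubgroup.closure (Set.range L.c ∪ {y}) ≤ (n.toLinearMap.toAddMonoidHom).eqLocus (AddMonoidHom.id V) := by
      rw [AddSubgroup.closure_le]
      rintro x (⟨i, rfl⟩ | rfl)
      · exact hc i
      · exact hy
    exact h2 h1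
  refine L.gen n hn he hy fun v hev hhv => ?_
  have hby : A.B y v = 0 := by
    rw [A.B_comm, ← hhv, A.br_comm, A.inv, A.br_comm (A.br e y), A.br_comm e y, L.hy.sq, map_zero]
  have h1 := L.he.der y v
  rw [hev, hhv, map_zero, add_zero] at h1
  rw [← h1, Aut_br hn, he, key v hby]

/-- the centraliser of `Rad y` -/
theorem cent_rad {t : V ≃ₗ[ZMod 2] V} (ht : t ∈ A.Aut) (hc : ∀ w ∈ Rad A y, t * w = w * t) :
    t = 1 ∨ t = A.g y := by
  have key : ∀ z, A.IsExt z → A.g z ∈ Rad A y → t z = z := by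
    intro z hz h
    apply g_inj (hz.map ht) hz
    rw [g_map hz ht, hc _ h, mul_assoc, mul_inv_cancel, mul_one]
  have hy := key y L.hy (g_mem_Rad L.hy)
  have hci : ∀ i, t (L.c i) = L.c i := fun i => key _ (L.hc i) (L.gc_mem_Rad i)
  have h1 : ∀ a, A.B y a = 0 → A.B (t e + e) (A.br y a) = 0 := by
    intro a ha
    have h2 : AddSubgroup.closure (Set.range L.c ∪ {y}) ≤ ((A.B (t e + e)).toAddMonoidHom).ker := by
      rw [AddSubgroup.closure_le]
      have h3 : ∀ x, t x = x → A.B (t e + e) x = 0 := by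
        intro x hx
        rw [map_add, LinearMap.add_apply, B_fix ht hx, dbl]
      rintro x (⟨i, rfl⟩ | rfl)
      · exact h3 _ (hci i)
      · exact h3 _ hy
    exact h2 (L.cspan a ha)
  have h2 : t e + e ∈ V0 A y := by
    refine ⟨?_, ?_⟩
    · rw [map_add, LinearMap.add_apply, B_fix ht hy, dbl]
    · have h3 : ∀ a, A.B (A.br (t e + e) y) a = A.B y a * A.B (A.br (t e + e) y) e := by
        intro a
        have h4 := h1 (a + A.B y a • e) (by
          rw [map_add, map_smul, A.B_comm y e, L.hey, smul_eq_mul, mul_one, dbl])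
        rw [← A.inv, map_add, map_smul, smul_eq_mul] at h4
        exact eq_of_add h4
      rcases z2 (A.B (A.br (t e + e) y) e) with h | h
      · left
        apply A.nondeg
        intro a
        rw [h3, h, mul_zero]
      · right
        apply A.eq_of_B
        intro a
        rw [h3, h, mul_one]
  rcases L.fix_cases ht hy h2 with h | h
  · exact Or.inl (L.eq_one_of_comm ht h hy hci)
  · right
    have h4 : A.g y * t = 1 := by
      apply L.eq_one_of_comm (A.Aut.mul_mem (g_mem L.hy) ht)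
      · rw [LinearEquiv.mul_apply, h, g_g]
      · rw [LinearEquiv.mul_apply, hy, g_self L.hy]
      · intro i
        rw [LinearEquiv.mul_apply, hci]
        have h5 := (comm_iff (L.hc i) L.hy).2 (L.cy i)
        exact (comm_iff L.hy (L.hc i)).1 h5.symm
    rw [← g_inv, eq_inv_iff_mul_eq_one]
    have h5 := L.gy_comm ht hy
    rw [h5, h4]

/-- the only extremal element fixed by `Rad y` is `y` -/
theorem fixed_rad {z : V} (hz : A.IsExt z) (h : ∀ w ∈ Rad A y, w z = z) : z = y := by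
  have h1 : ∀ w ∈ Rad A y, A.g z * w = w * A.g z := by
    intro w hw
    have h2 := g_map hz hw.1
    rw [h w hw] at h2
    calc A.g z * w = (w * A.g z * w⁻¹) * w := by rw [← h2]
      _ = w * A.g z := by group
  rcases L.cent_rad (g_mem hz) h1 with h2 | h2
  · exact absurd h2 (g_ne_one hz)
  · exact g_inj hz L.hy h2

end Loc

end Cfsg.Agent.TwoESix.ExtLocal
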