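import Cfsg.Agent.TwoESix.ExtCode
import Cfsg.Agent.TwoESix.ExtData
import Cfsg.Agent.TwoESix.ExtAlg
import Cfsg.Agent.TwoESix.Iso

/-!
# The algebra on the 78-dimensional module: product and form
-/

set_option autoImplicit false

namespace Cfsg.Agent.TwoESix.ExtModel

open Cfsg.Agent.Lib Cfsg.Agent.Lib.F2Mat
open Cfsg.Agent.TwoESix.ExtCode Cfsg.Agent.TwoESix.ExtData Cfsg.Agent.TwoESix.ExtAlg

theorem AD_length : AD.length = 78 := by decide +kernel

/-- the operator of the product with the coded vector `v` -/
def adc (v : ℕ) : ℕ := force v fun v => sel AD v 0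

/-- coordinate functional -/
def cf (i : Fin 78) : V →ₗ[ZMod 2] ZMod 2 := (LinearMap.proj i).comp coL.toLinearMap

theorem cf_apply (i : Fin 78) (x : V) : cf i x = co x i := rfl

/-- the product -/
noncomputable def br : V →ₗ[ZMod 2] V →ₗ[ZMod 2] V :=
  ∑ i : Fin 78, (cf i).smulRight (op (AD.getD i 0))

theorem br_apply (x y : V) : br x y = ∑ i : Fin 78, co x i • op (AD.getD i 0) y := by
  unfold br
  rw [LinearMap.sum_apply, LinearMap.sum_apply]
  rfl

theorem br_vc (v : ℕ) (y : V) : br (vc v) y = op (adc v) y := by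
  rw [br_apply, adc, force_eq, op_sel' AD_length]

theorem br_vc_vc (v w : ℕ) : br (vc v) (vc w) = vc (vmul 78 w (adc v)) := by rw [br_vc, op_vc]

theorem br_e (i : Fin 78) (y : V) : br (e i) y = op (AD.getD i 0) y := by
  rw [br_apply, Finset.sum_eq_single i]
  · rw [co_e, Pi.single_eq_same, one_smul]
  · intro j _ hj
    rw [co_e, Pi.single_eq_of_ne hj, zero_smul]
  · intro h
    exact absurd (Finset.mem_univ i) h

/-- the form -/
noncomputable def bil : V →ₗ[ZMod 2] V →ₗ[ZMod 2] ZMod 2 :=
  LinearMap.mk₂ (ZMod 2) (fun x y => co (op Jc x) ⬝ᵥ co y)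
    (fun x x' y => by rw [map_add, co_add, add_dotProduct]) (fun c x y => by rw [map_smul, co_smul, smul_dotProduct])
    (fun x y y' => by rw [co_add, dotProduct_add]) (fun c x y => by rw [co_smul, dotProduct_smul])

theorem bil_apply (x y : V) : bil x y = co (op Jc x) ⬝ᵥ co y := rfl

/-- the form on codes -/
def bilc (a b : ℕ) : Bool := force (vmul 78 a Jc) fun φ => dot φ b

theorem bil_vc (a b : ℕ) : bil (vc a) (vc b) = bz (bilc a b) := by
  rw [bilc, force_eq, bz_dot, bil_apply, op_vc]

/-- the functional `x ↦ bil (vc k) x` -/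
theorem bil_out {k t : ℕ} (ht : Nat.blt t (Nat.pow 2 78) = true) (x : V) :
    op (out (vmul 78 k Jc) t) x = bil (vc k) x • vc t := by
  rw [op_out ht, bil_apply, op_vc]

/-! ### Symmetry -/

/-- a symmetric bilinear map vanishing on the pairs `(e j, e j)` is alternating -/
theorem alt_of {W : Type*} [AddCommGroup W] [Module (ZMod 2) W] {f : V →ₗ[ZMod 2] V →ₗ[ZMod 2] W}
    (hs : ∀ i j, f (e i) (e j) = f (e j) (e i)) (hd : ∀ i, f (e i) (e i) = 0) (x : V) : f x x = 0 := by
  have hsym : ∀ x y, f x y = f y x := by
    have h1 : f = f.flip := ext_e fun i => ext_e fun j => hs i j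
    intro x y
    conv_lhs => rw [h1]
    rfl
  let q : V →+ W :=
    { toFun := fun x => f x x
      map_zero' := by simp
      map_add' := fun x y => by
        rw [map_add, map_add, LinearMap.add_apply, LinearMap.add_apply, hsym y x]
        calc f x x + f x y + (f x y + f y y) = f x x + f y y + (f x y + f x y) := by abel
          _ = f x x + f y y := by rw [dbl, add_zero] }
  have h2 : q x = 0 := by
    rw [eq_sum x, map_sum]
    refine Finset.sum_eq_zero fun i _ => ?_
    rcases z2 (co x i) with h | h
    · rw [h, zero_smul, map_zero]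
    · rw [h, one_smul]; exact hd i
  exact h2

/-- check of the symmetry of the product -/
theorem sym_check : allI (fun i a => and (Nat.beq (row a i) 0)
    (allI (fun j b => Nat.beq (row a j) (row b i)) AD 0)) AD 0 = true := by decide +kernel

theorem sym_row (i j : Fin 78) : row (AD.getD i 0) j = row (AD.getD j 0) i := by
  have h1 := allI_sound sym_check i (by rw [AD_length]; exact i.2)
  rw [Bool.and_eq_true] at h1
  have h2 := allI_sound h1.2 j (by rw [AD_length]; exact j.2)
  rw [zero_add, zero_add] at h2
  exact Nat.eq_of_beq_eq_true h2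

theorem diag_row (i : Fin 78) : row (AD.getD i 0) i = 0 := by
  have h1 := allI_sound sym_check i (by rw [AD_length]; exact i.2)
  rw [Bool.and_eq_true, zero_add] at h1
  exact Nat.eq_of_beq_eq_true h1.1

theorem br_self (x : V) : br x x = 0 := by
  apply alt_of
  · intro i j
    rw [br_e, br_e, op_e, op_e, sym_row]
  · intro i
    rw [br_e, op_e, diag_row, vc_zero]

theorem J_check : trOk Jc Jc = true := by decide +kernel

theorem J_diag : allN (fun i => Nat.beq (Nat.land (Nat.shiftRight Jc (Nat.mul 79 i)) 1) 0) 78 = true := by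
  decide +kernel

theorem bil_self (x : V) : bil x x = 0 := by
  apply alt_of
  · intro i j
    rw [bil_apply, bil_apply, op_tr J_check, dotProduct_comm]
  · intro i
    rw [bil_apply, op_e, co_e, dotProduct_single, mul_one, vc_apply, row_eq, Nat.testBit_mod_two_pow,
      Nat.testBit_shiftRight]
    have h1 := Nat.eq_of_beq_eq_true (allN_sound J_diag i i.2)
    have h2 : (Jc >>> (79 * (i : ℕ)) &&& 1) = 0 := h1
    have h3 : (Jc >>> (79 * (i : ℕ))).testBit 0 = false := by
      rw [Nat.testBit_zero]
      rw [Nat.and_one_is_mod] at h2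
      simp [h2]
    rw [Nat.testBit_shiftRight, add_zero] at h3
    have h4 : 78 * (i : ℕ) + i = 79 * i := by ring
    rw [h4, h3]
    simp [bz]

theorem JI_check : Nat.beq (mul 78 Jc JI) (one 78) = true := by decide +kernel

theorem bil_nondeg (x : V) (h : ∀ y, bil x y = 0) : x = 0 := by
  have h1 : op Jc x = 0 := by
    apply co_inj
    funext i
    have h2 := h (e i)
    rw [bil_apply, co_e, dotProduct_single, mul_one] at h2
    rw [h2, co_zero, Pi.zero_apply]
  have h2 : op (mul 78 Jc JI) x = x := by rw [op_eq_of JI_check, op_one]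
  rw [← h2, op_mul, h1, map_zero]

end Cfsg.Agent.TwoESix.ExtModel
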