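import Cfsg.Agent.TwoESix.ExtModelA

/-!
# The generators preserve the product and the form
-/

set_option autoImplicit false

namespace Cfsg.Agent.TwoESix.ExtModel

open Cfsg.Agent.Lib Cfsg.Agent.Lib.F2Mat
open Cfsg.Agent.TwoESix.ExtCode Cfsg.Agent.TwoESix.ExtData Cfsg.Agent.TwoESix.ExtAlg
open Cfsg.Agent.TwoESix.Data Cfsg.Agent.TwoESix.Iso

/-- conjugation by the coordinate isomorphism -/
def cj : ((Fin 78 → ZMod 2) ≃ₗ[ZMod 2] (Fin 78 → ZMod 2)) ≃* (V ≃ₗ[ZMod 2] V) where
  toFun f := (coL.trans f).trans coL.symm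
  invFun f := (coL.symm.trans f).trans coL
  left_inv f := by ext; rfl
  right_inv f := by
    apply LinearEquiv.toLinearMap_injective
    refine LinearMap.ext fun x => ?_
    rfl
  map_mul' f g := by
    apply LinearEquiv.toLinearMap_injective
    refine LinearMap.ext fun x => ?_
    rfl

/-- matrices as linear maps -/
noncomputable def gl : GL (Fin 78) (ZMod 2) ≃* (V ≃ₗ[ZMod 2] V) :=
  (Matrix.GeneralLinearGroup.toLin.trans
    (LinearMap.GeneralLinearGroup.generalLinearEquiv (ZMod 2) (Fin 78 → ZMod 2))).trans cj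

theorem gl_apply (g : GL (Fin 78) (ZMod 2)) (x : V) :
    co (gl g x) = (g : Matrix (Fin 78) (Fin 78) (ZMod 2)).mulVec (co x) := by
  have h : co (gl g x) = Matrix.toLin' (g : Matrix (Fin 78) (Fin 78) (ZMod 2)) (co x) := rfl
  rw [h, Matrix.toLin'_apply]

/-- the generators -/
noncomputable def mM (k : Fin 16) : V ≃ₗ[ZMod 2] V := gl (gM k)

theorem tr_check : allN (fun k => trOk (Ms.getD k 0) (MT.getD k 0)) 16 = true := by decide +kernel

theorem mM_apply (k : Fin 16) (x : V) : mM k x = op (MT.getD k 0) x := by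
  have h := toMat_tr (allN_sound tr_check k k.2)
  apply co_inj
  rw [mM, gl_apply, op_apply, h, Matrix.vecMul_transpose]
  rfl

/-- the operator `G` preserves the product -/
def eqv (G : ℕ) : Bool := force G fun G => allI (fun i a => Nat.beq (mul 78 a G) (mul 78 G (adc (row G i)))) AD 0

theorem eqv_sound {G : ℕ} (h : eqv G = true) (x y : V) : op G (br x y) = br (op G x) (op G y) := by
  unfold eqv at h
  rw [force_eq] at h
  have h1 : br.compr₂ (op G) = br.compl₁₂ (op G) (op G) := by
    refine ext_e fun i => LinearMap.ext fun y => ?_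
    rw [LinearMap.compr₂_apply, LinearMap.compl₁₂_apply, br_e, op_e, br_vc, ← op_mul, ← op_mul]
    have h2 := allI_sound h i (by rw [AD_length]; exact i.2)
    rw [zero_add] at h2
    exact op_eq_of h2 y
  exact LinearMap.congr_fun (LinearMap.congr_fun h1 x) y

theorem eqv_0 : eqv (MT.getD 0 0) = true := by decide +kernel
theorem eqv_1 : eqv (MT.getD 1 0) = true := by decide +kernel
theorem eqv_2 : eqv (MT.getD 2 0) = true := by decide +kernel
theorem eqv_3 : eqv (MT.getD 3 0) = true := by decide +kernel
theorem eqv_4 : eqv (MT.getD 4 0) = true := by decide +kernel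
theorem eqv_5 : eqv (MT.getD 5 0) = true := by decide +kernel
theorem eqv_6 : eqv (MT.getD 6 0) = true := by decide +kernel
theorem eqv_7 : eqv (MT.getD 7 0) = true := by decide +kernel
theorem eqv_8 : eqv (MT.getD 8 0) = true := by decide +kernel
theorem eqv_9 : eqv (MT.getD 9 0) = true := by decide +kernel
theorem eqv_10 : eqv (MT.getD 10 0) = true := by decide +kernel
theorem eqv_11 : eqv (MT.getD 11 0) = true := by decide +kernel
theorem eqv_12 : eqv (MT.getD 12 0) = true := by decide +kernel
theorem eqv_13 : eqv (MT.getD 13 0) = true := by decide +kernel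
theorem eqv_14 : eqv (MT.getD 14 0) = true := by decide +kernel
theorem eqv_15 : eqv (MT.getD 15 0) = true := by decide +kernel

theorem mM_br (k : Fin 16) (x y : V) : mM k (br x y) = br (mM k x) (mM k y) := by
  rw [mM_apply, mM_apply, mM_apply]
  apply eqv_sound
  fin_cases k
  · exact eqv_0
  · exact eqv_1
  · exact eqv_2
  · exact eqv_3
  · exact eqv_4
  · exact eqv_5
  · exact eqv_6
  · exact eqv_7
  · exact eqv_8
  · exact eqv_9
  · exact eqv_10
  · exact eqv_11
  · exact eqv_12
  · exact eqv_13
  · exact eqv_14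
  · exact eqv_15

/-- the operator with matrix `N`, transpose `G`, preserves the form -/
theorem form_check : allN (fun k => Nat.beq (mul 78 (mul 78 (MT.getD k 0) Jc) (Ms.getD k 0)) Jc) 16 = true := by
  decide +kernel

theorem mM_bil (k : Fin 16) (x y : V) : bil (mM k x) (mM k y) = bil x y := by
  have h := toMat_tr (allN_sound tr_check k k.2)
  have h1 := Nat.eq_of_beq_eq_true (allN_sound form_check k k.2)
  have h2 : toMat 78 (MT.getD k 0) * toMat 78 Jc * toMat 78 (Ms.getD k 0) = toMat 78 Jc := by
    rw [← toMat_mul, ← toMat_mul, h1]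
  rw [mM_apply, mM_apply, bil_apply, bil_apply, op_apply, op_apply, op_apply, op_apply, Matrix.vecMul_vecMul]
  conv_lhs => rw [h, Matrix.vecMul_transpose, Matrix.dotProduct_mulVec, Matrix.vecMul_vecMul, ← h, h2]

end Cfsg.Agent.TwoESix.ExtModel
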