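import Cfsg.Agent.TwoESix.ExtModelC
import Cfsg.Agent.TwoESix.ExtData2
import Cfsg.Agent.TwoESix.Gens

/-!
# More extremal elements; the group is generated by root involutions
-/

set_option autoImplicit false

namespace Cfsg.Agent.TwoESix.ExtModel

open Cfsg.Agent.Lib Cfsg.Agent.Lib.F2Mat
open Cfsg.Agent.TwoESix.ExtCode Cfsg.Agent.TwoESix.ExtData Cfsg.Agent.TwoESix.ExtData2 Cfsg.Agent.TwoESix.ExtAlg
open Cfsg.Agent.TwoESix.Data Cfsg.Agent.TwoESix.Iso

/-! ### Words -/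

/-- image of a code under a word -/
def runW (w : List ℕ) (v : ℕ) : ℕ := List.rec v (fun k _ ih => force ih fun a => vmul 78 a (MT.getD k 0)) w

theorem runW_cons (k : ℕ) (w : List ℕ) (v : ℕ) : runW (k :: w) v = vmul 78 (runW w v) (MT.getD k 0) := by
  show force (runW w v) (fun a => vmul 78 a (MT.getD k 0)) = _
  rw [force_eq]

theorem runW_mem {w : List ℕ} (hw : (w.all fun k => Nat.blt k 16) = true) (v : ℕ) :
    ∃ γ ∈ Γ, γ (vc v) = vc (runW w v) := by
  induction w with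
  | nil => exact ⟨1, Γ.one_mem, rfl⟩
  | cons k w ih =>
    rw [List.all_cons, Bool.and_eq_true, Nat.blt_eq] at hw
    obtain ⟨γ, hγ, h1⟩ := ih hw.2
    refine ⟨mM ⟨k, hw.1⟩ * γ, Γ.mul_mem (mM_mem _) hγ, ?_⟩
    rw [LinearEquiv.mul_apply, h1, mM_apply, op_vc, runW_cons]

/-- test of a word -/
def wOk (w : List ℕ) (v : ℕ) : Bool := and (List.all w fun k => Nat.blt k 16) (Nat.beq (runW w b0) v)

theorem word_mem {w : List ℕ} {v : ℕ} (h : wOk w v = true) : ∃ γ ∈ Γ, γ (vc b0) = vc v := by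
  unfold wOk at h
  rw [Bool.and_eq_true] at h
  obtain ⟨γ, hγ, h1⟩ := runW_mem h.1 b0
  exact ⟨γ, hγ, by rw [h1, Nat.eq_of_beq_eq_true h.2]⟩

theorem ext_of_word {w : List ℕ} {v : ℕ} (h : wOk w v = true) : A.IsExt (vc v) := by
  obtain ⟨γ, hγ, h1⟩ := word_mem h
  rw [← h1]
  exact b0_ext.map (Γ_le hγ)

/-! ### The involution of an extremal element -/

/-- the code of the involution -/
def gc (v : ℕ) : ℕ := force v fun v => Nat.xor (Nat.xor (one 78) (adc v)) (out (vmul 78 v Jc) v)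

theorem op_gc {v : ℕ} (hv : Nat.blt v (Nat.pow 2 78) = true) (h : A.IsExt (vc v)) (x : V) :
    op (gc v) x = A.g (vc v) x := by
  have h4 : ∀ a b c : ℕ, op (Nat.xor (Nat.xor a b) c) x = op a x + op b x + op c x := by
    intro a b c
    have h5 : op (Nat.xor (Nat.xor a b) c) x = op (Nat.xor a b) x + op c x := op_xor _ _ _
    have h6 : op (Nat.xor a b) x = op a x + op b x := op_xor _ _ _
    rw [h5, h6]
  rw [gc, force_eq, h4, op_one, bil_out hv, ← br_vc, Alg.g_apply h, A_br, A_B]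

theorem g_check : Nat.beq (gc b0) (MT.getD 0 0) = true := by decide +kernel

theorem g_b0 : A.g (vc b0) = mM 0 := by
  refine LinearEquiv.ext fun x => ?_
  rw [← op_gc (by decide +kernel) b0_ext, mM_apply, op_eq_of g_check]
  rfl

theorem g_mem_of {v : V} (h : ∃ γ ∈ Γ, γ (vc b0) = v) : A.g v ∈ Γ := by
  obtain ⟨γ, hγ, rfl⟩ := h
  rw [Alg.g_map b0_ext (Γ_le hγ), g_b0]
  exact Γ.mul_mem (Γ.mul_mem hγ (mM_mem 0)) (Γ.inv_mem hγ)

/-! ### `e` and `y` -/

theorem ew_check : wOk ew ec = true := by decide +kernel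
theorem yw_check : wOk yw yc = true := by decide +kernel

/-- `e_θ` is extremal -/
theorem ec_ext : A.IsExt (vc ec) := ext_of_word ew_check

/-- `e_{-θ}` is extremal -/
theorem yc_ext : A.IsExt (vc yc) := ext_of_word yw_check

/-- `e_{-θ}` is extremal -/
theorem ext_64 : A.IsExt (vc (2 ^ 6)) := yc_ext

theorem ec_mem : ∃ γ ∈ Γ, γ (vc b0) = vc ec := word_mem ew_check
theorem yc_mem : ∃ γ ∈ Γ, γ (vc b0) = vc yc := word_mem yw_check

/-! ### The ten involutions `T i` -/

open Cfsg.Agent.TwoESix.Gens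

theorem xw_check : allN (fun i => wOk (xw.getD i []) (xs.getD i 0)) 10 = true := by decide +kernel

theorem xs_ext (i : Fin 10) : A.IsExt (vc (xs.getD i 0)) := ext_of_word (allN_sound xw_check i i.2)

theorem xs_lt : allN (fun i => Nat.blt (xs.getD i 0) (Nat.pow 2 78)) 10 = true := by decide +kernel

theorem T_check : allN (fun i => trOk (Ts.getD i 0) (gc (xs.getD i 0))) 10 = true := by decide +kernel

theorem gl_T (i : Fin 10) : gl (T i) = A.g (vc (xs.getD i 0)) := by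
  have h := toMat_tr (allN_sound T_check i i.2)
  refine LinearEquiv.ext fun x => ?_
  rw [← op_gc (allN_sound xs_lt i i.2) (xs_ext i)]
  apply co_inj
  rw [gl_apply, op_apply, h, Matrix.vecMul_transpose]
  rfl

theorem Γ_eq_closure : Γ = Subgroup.closure (Set.range fun i : Fin 10 => A.g (vc (xs.getD i 0))) := by
  unfold Γ
  rw [← H_eq]
  unfold H
  rw [MonoidHom.map_closure]
  congr 1
  ext x
  constructor
  · rintro ⟨_, ⟨k, rfl⟩, rfl⟩
    exact ⟨k, (gl_T k).symm⟩
  · rintro ⟨k, rfl⟩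
    exact ⟨_, ⟨k, rfl⟩, gl_T k⟩

theorem Γ_le_E : Γ ≤ A.E := by
  rw [Γ_eq_closure, Subgroup.closure_le]
  rintro _ ⟨k, rfl⟩
  exact Subgroup.subset_closure (Alg.g_mem_R (xs_ext k))

end Cfsg.Agent.TwoESix.ExtModel
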