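import Cfsg.Agent.TwoESix.ExtModelD
import Cfsg.Agent.TwoESix.ExtGlobal

/-!
# The local certificates for the algebra
-/

set_option autoImplicit false

namespace Cfsg.Agent.TwoESix.ExtModel

open Cfsg.Agent.Lib Cfsg.Agent.Lib.F2Mat
open Cfsg.Agent.TwoESix.ExtCode Cfsg.Agent.TwoESix.ExtData Cfsg.Agent.TwoESix.ExtData2 Cfsg.Agent.TwoESix.ExtAlg
open Cfsg.Agent.TwoESix.Data Cfsg.Agent.TwoESix.Iso

/-! ### Sums of rank one operators -/

/-- the code of `x ↦ ∑ B(k,x) t` over the pairs `(k,t)` of the list -/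
def ktop (L : List (ℕ × ℕ)) : ℕ :=
  List.rec 0 (fun a _ ih => force (Prod.fst a) fun k => force (Prod.snd a) fun t => Nat.xor ih (out (vmul 78 k Jc) t)) L

theorem ktop_cons (a : ℕ × ℕ) (L : List (ℕ × ℕ)) : ktop (a :: L) = ktop L ^^^ out (vmul 78 a.1 Jc) a.2 := by
  show force (Prod.fst a) (fun k => force (Prod.snd a) fun t => Nat.xor (ktop L) (out (vmul 78 k Jc) t)) = _
  rw [force_eq, force_eq]
  rfl

theorem op_ktop {L : List (ℕ × ℕ)} (hL : L.all (fun a => Nat.blt a.2 (Nat.pow 2 78)) = true) (x : V) :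
    op (ktop L) x = (L.map fun a => bil (vc a.1) x • vc a.2).sum := by
  induction L with
  | nil => exact op_zero x
  | cons a L ih =>
    rw [List.all_cons, Bool.and_eq_true] at hL
    rw [ktop_cons, op_xor, ih hL.2, bil_out hL.1, List.map_cons, List.sum_cons, add_comm]

/-! ### Numbers -/

theorem hey_check : Nat.beq (vmul 78 yc (adc ec)) hc = true := by decide +kernel

theorem br_ey : A.br (vc ec) (vc yc) = vc hc := by
  rw [A_br, br_vc_vc, Nat.eq_of_beq_eq_true hey_check]

theorem B_ey : A.B (vc ec) (vc yc) = 1 := by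
  rw [A_B, bil_vc, show bilc ec yc = true from by decide +kernel]
  rfl

/-- extremal elements collinear to `y` -/
noncomputable def cF (i : Fin 20) : V := vc (cs.getD i 0)

/-- dual basis -/
noncomputable def cF' (i : Fin 20) : V := vc (cps.getD i 0)

theorem cw_check : allN (fun i => wOk (cw.getD i []) (cs.getD i 0)) 20 = true := by decide +kernel

theorem cF_ext (i : Fin 20) : A.IsExt (cF i) := ext_of_word (allN_sound cw_check i i.2)

theorem cF_mem (i : Fin 20) : ∃ γ ∈ Γ, γ (vc b0) = cF i := word_mem (allN_sound cw_check i i.2)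

theorem cy_check : allN (fun i => and (not (bilc (cs.getD i 0) yc)) (Nat.beq (vmul 78 yc (adc (cs.getD i 0))) 0)) 20 =
    true := by decide +kernel

theorem cF_y (i : Fin 20) : A.g (cF i) (vc yc) = vc yc := by
  have h := allN_sound cy_check i i.2
  rw [Bool.and_eq_true, Bool.not_eq_true'] at h
  rw [Alg.fix_iff (cF_ext i), A_B, A_br, cF, bil_vc, br_vc_vc, h.1, Nat.eq_of_beq_eq_true h.2, vc_zero]
  exact ⟨rfl, rfl⟩

theorem cc_check : allN (fun i => force (adc (cs.getD i 0)) fun X => allN (fun j =>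
    and (not (bilc (cs.getD i 0) (cps.getD j 0)))
      (Nat.beq (vmul 78 (cps.getD j 0) X) (cond (Nat.beq i j) yc 0))) 20) 20 = true := by decide +kernel

theorem cF_cF' (i j : Fin 20) : A.g (cF i) (cF' j) = if i = j then cF' j + vc yc else cF' j := by
  have h := allN_sound cc_check i i.2
  rw [force_eq] at h
  have h1 := allN_sound h j j.2
  rw [Bool.and_eq_true, Bool.not_eq_true'] at h1
  rw [Alg.g_apply (cF_ext i), A_B, A_br, cF, cF', bil_vc, br_vc_vc, h1.1, bz_false, zero_smul, add_zero,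
    Nat.eq_of_beq_eq_true h1.2]
  by_cases hij : i = j
  · subst hij
    rw [if_pos rfl, Nat.beq_refl]
    rfl
  · rw [if_neg hij]
    have h2 : Nat.beq (i : ℕ) j = false := by
      rw [← Bool.not_eq_true, Nat.beq_eq]
      exact fun h => hij (Fin.ext h)
    rw [h2, cond_false, vc_zero, add_zero]

theorem ce_check : allN (fun j => not (bilc ec (cps.getD j 0))) 20 = true := by decide +kernel

theorem B_e_cF' (j : Fin 20) : A.B (vc ec) (cF' j) = 0 := by
  have h := allN_sound ce_check j j.2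
  rw [Bool.not_eq_true'] at h
  rw [A_B, cF', bil_vc, h, bz_false]

theorem L1_lt : L1.all (fun a => Nat.blt a.2 (Nat.pow 2 78)) = true := by decide +kernel

theorem L1_check : Nat.beq (adc yc) (ktop L1) = true := by decide +kernel

theorem L1_mem : ∀ a ∈ L1, (a.1 ∈ cps ∧ a.2 ∈ cs) ∨ a.2 = yc ∨ a.1 = yc := by decide +kernel

theorem cs_length : cs.length = 20 := by decide +kernel
theorem cps_length : cps.length = 20 := by decide +kernel
theorem aps_length : aps.length = 20 := by decide +kernel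
theorem brs_length : brs.length = 36 := by decide +kernel

theorem mem_cs {v : ℕ} (h : v ∈ cs) : vc v ∈ Set.range cF := by
  obtain ⟨i, hi, rfl⟩ := List.mem_iff_getElem.1 h
  have hi' : i < 20 := by rwa [cs_length] at hi
  exact ⟨⟨i, hi'⟩, by rw [cF, List.getD_eq_getElem _ _ hi]⟩

theorem mem_cps {v : ℕ} (h : v ∈ cps) : ∃ j, vc v = cF' j := by
  obtain ⟨i, hi, rfl⟩ := List.mem_iff_getElem.1 h
  have hi' : i < 20 := by rwa [cps_length] at hi
  exact ⟨⟨i, hi'⟩, by rw [cF', List.getD_eq_getElem _ _ hi]⟩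

theorem smul_mem_closure {S : Set V} {v : V} (h : v ∈ AddSubgroup.closure S) (c : ZMod 2) :
    c • v ∈ AddSubgroup.closure S := by
  rcases z2 c with rfl | rfl
  · rw [zero_smul]; exact AddSubgroup.zero_mem _
  · rwa [one_smul]

theorem sum_mem_closure {S : Set V} {L : List (ℕ × ℕ)} {x : V}
    (h : ∀ a ∈ L, bil (vc a.1) x = 0 ∨ vc a.2 ∈ AddSubgroup.closure S) :
    (L.map fun a => bil (vc a.1) x • vc a.2).sum ∈ AddSubgroup.closure S := by
  apply AddSubgroup.list_sum_mem
  intro z hz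
  rw [List.mem_map] at hz
  obtain ⟨a, ha, rfl⟩ := hz
  rcases h a ha with h1 | h1
  · rw [h1, zero_smul]; exact AddSubgroup.zero_mem _
  · exact smul_mem_closure h1 _

theorem br_y (x : V) : A.br (vc yc) x = (L1.map fun a => bil (vc a.1) x • vc a.2).sum := by
  rw [A_br, br_vc, op_eq_of L1_check, op_ktop L1_lt]

theorem low_aux (x : V) (hx : A.B x (vc yc) = 0) (h : ∀ j, A.B x (cF' j) = 0) :
    A.br x (vc yc) = 0 ∨ A.br x (vc yc) = vc yc := by
  have h1 : A.br x (vc yc) ∈ AddSubgroup.closure ({vc yc} : Set V) := by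
    rw [Alg.br_comm, br_y]
    apply sum_mem_closure
    intro a ha
    rcases L1_mem a ha with h1 | h1 | h1
    · left
      obtain ⟨j, hj⟩ := mem_cps h1.1
      rw [hj, ← A_B, Alg.B_comm, h]
    · right
      rw [h1]
      exact ExtLocal.closure_one_mem _
    · left
      rw [h1, ← A_B, Alg.B_comm, hx]
  exact ExtLocal.mem_closure_one h1

theorem cspan_aux (x : V) (hx : A.B (vc yc) x = 0) :
    A.br (vc yc) x ∈ AddSubgroup.closure (Set.range cF ∪ {vc yc}) := by
  rw [br_y]
  apply sum_mem_closure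
  intro a ha
  rcases L1_mem a ha with h1 | h1 | h1
  · right
    exact AddSubgroup.subset_closure (Or.inl (mem_cs h1.2))
  · right
    rw [h1]
    exact AddSubgroup.subset_closure (Or.inr rfl)
  · left
    rw [h1, ← A_B, hx]

theorem aps_check : allN (fun j => and (not (bilc yc (aps.getD j 0)))
    (Nat.beq (vmul 78 (aps.getD j 0) (adc yc)) (cps.getD j 0))) 20 = true := by decide +kernel

theorem cmem_aux (j : Fin 20) : A.B (vc yc) (vc (aps.getD j 0)) = 0 ∧ cF' j = A.br (vc yc) (vc (aps.getD j 0)) := by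
  have h := allN_sound aps_check j j.2
  rw [Bool.and_eq_true, Bool.not_eq_true'] at h
  rw [A_B, A_br, bil_vc, br_vc_vc, h.1, Nat.eq_of_beq_eq_true h.2]
  exact ⟨rfl, rfl⟩

/-! ### The core certificate -/

/-- the operator of the core certificate -/
def Dop (i j : ℕ) : ℕ :=
  force (adc ec) fun E => force (cps.getD i 0) fun a => force (cps.getD j 0) fun b => force (adc a) fun M =>
    force (adc b) fun N => Nat.xor (Nat.xor (mul 78 N (adc (vmul 78 a E))) (mul 78 M (adc (vmul 78 b E))))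
      (cond (bilc ec (vmul 78 b M)) (one 78) 0)

theorem op_Dop (i j : Fin 20) (x : V) : op (Dop i j) x =
    A.br (A.br (vc ec) (cF' i)) (A.br x (cF' j)) + A.br (A.br x (cF' i)) (A.br (vc ec) (cF' j)) +
        A.B (vc ec) (A.br (cF' i) (cF' j)) • x := by
  have h4 : ∀ a b c : ℕ, op (Nat.xor (Nat.xor a b) c) x = op a x + op b x + op c x := by
    intro a b c
    have h5 : op (Nat.xor (Nat.xor a b) c) x = op (Nat.xor a b) x + op c x := op_xor _ _ _
    have h6 : op (Nat.xor a b) x = op a x + op b x := op_xor _ _ _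
    rw [h5, h6]
  rw [Dop, force_eq, force_eq, force_eq, force_eq, force_eq, h4, op_mul, op_mul]
  have h7 : ∀ b : Bool, op (cond b (one 78) 0) x = bz b • x := by
    intro b
    cases b
    · rw [cond_false, op_zero, bz_false, zero_smul]
    · rw [cond_true, op_one, bz_true, one_smul]
  unfold cF'
  rw [h7, ← bil_vc, ← br_vc, ← br_vc, ← br_vc, ← br_vc, ← br_vc_vc, ← br_vc_vc, ← br_vc_vc, A_B, A_br,
    br_comm' x (vc (cps.getD j 0)), br_comm' x (vc (cps.getD i 0)), br_comm' (br (vc (cps.getD i 0)) x) _]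

theorem L2_lt : L2.all (fun a => Nat.blt a.2 (Nat.pow 2 78)) = true := by decide +kernel

theorem L2_mem : ∀ a ∈ L2, a.1 ∈ cps ∨ a.1 = yc ∨ a.2 = hc ∨ a.2 = yc := by decide +kernel

theorem core_check : Nat.beq (Nat.xor (Nat.xor (mul 78 (Dop 6 10) TA) (mul 78 (Dop 0 2) TB)) (ktop L2)) (one 78) = true := by
  decide +kernel

theorem TA_y : Nat.beq (vmul 78 yc TA) 0 = true := by decide +kernel
theorem TB_y : Nat.beq (vmul 78 yc TB) 0 = true := by decide +kernel

theorem op_zero_of {T : ℕ} (hT : Nat.beq (vmul 78 yc T) 0 = true) {z : V}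
    (hz : z ∈ AddSubgroup.closure ({vc yc} : Set V)) : op T z = 0 := by
  rcases ExtLocal.mem_closure_one hz with rfl | rfl
  · rw [map_zero]
  · rw [op_vc, Nat.eq_of_beq_eq_true hT, vc_zero]

theorem core_aux (x : V) (hx : A.B x (vc yc) = 0) (h : ∀ j, A.B x (cF' j) = 0)
    (hD : ∀ i j, A.br (A.br (vc ec) (cF' i)) (A.br x (cF' j)) + A.br (A.br x (cF' i)) (A.br (vc ec) (cF' j)) +
        A.B (vc ec) (A.br (cF' i) (cF' j)) • x ∈ AddSubgroup.closure ({vc yc} : Set V)) :
    x ∈ AddSubgroup.closure ({A.br (vc ec) (vc yc), vc yc} : Set V) := by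
  have h1 : x = op (one 78) x := (op_one x).symm
  have h4 : ∀ a b c : ℕ, op (Nat.xor (Nat.xor a b) c) x = op a x + op b x + op c x := by
    intro a b c
    have h5 : op (Nat.xor (Nat.xor a b) c) x = op (Nat.xor a b) x + op c x := op_xor _ _ _
    have h6 : op (Nat.xor a b) x = op a x + op b x := op_xor _ _ _
    rw [h5, h6]
  have hA := hD ⟨6, by norm_num⟩ ⟨10, by norm_num⟩
  have hB := hD ⟨0, by norm_num⟩ ⟨2, by norm_num⟩
  rw [← op_Dop] at hA hB
  rw [h1, ← op_eq_of core_check, h4, op_mul, op_mul]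
  have hA' : op TA (op (Dop 6 10) x) = 0 := op_zero_of TA_y hA
  have hB' : op TB (op (Dop 0 2) x) = 0 := op_zero_of TB_y hB
  rw [hA', hB', zero_add, zero_add, op_ktop L2_lt]
  apply sum_mem_closure
  intro a ha
  rcases L2_mem a ha with h1 | h1 | h1 | h1
  · left
    obtain ⟨j, hj⟩ := mem_cps h1
    rw [hj, ← A_B, Alg.B_comm, h]
  · left
    rw [h1, ← A_B, Alg.B_comm, hx]
  · right
    rw [h1, br_ey]
    exact AddSubgroup.subset_closure (Or.inl rfl)
  · right
    rw [h1]
    exact AddSubgroup.subset_closure (Or.inr rfl)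

/-! ### Generation -/

theorem ape_check : (force (adc ec) fun E => force (adc hc) fun H => allN (fun j => force (aps.getD j 0) fun a =>
    and (and (Nat.beq (vmul 78 a E) 0) (Nat.beq (vmul 78 a H) a)) (not (Nat.beq a 0))) 20) = true := by decide +kernel

theorem ape (j : Fin 20) : A.br (vc ec) (vc (aps.getD j 0)) = 0 ∧ A.br (A.br (vc ec) (vc yc)) (vc (aps.getD j 0)) =
    vc (aps.getD j 0) := by
  have h := ape_check
  rw [force_eq, force_eq] at h
  have h1 := allN_sound h j j.2
  rw [force_eq, Bool.and_eq_true, Bool.and_eq_true] at h1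
  rw [br_ey, A_br, br_vc_vc, br_vc_vc, Nat.eq_of_beq_eq_true h1.1.1, Nat.eq_of_beq_eq_true h1.1.2, vc_zero]
  exact ⟨rfl, rfl⟩

theorem vc_bit_ne {v : ℕ} (i : Fin 78) (h : v.testBit i = true) : vc v ≠ 0 := by
  intro h1
  have h2 := congrFun (congrArg co h1) i
  rw [vc_apply, h, co_zero] at h2
  exact one_ne_zero h2

theorem top_aux : ∃ a, a ≠ 0 ∧ A.br (A.br (vc ec) (vc yc)) a = a ∧ A.br (vc ec) a = 0 :=
  ⟨vc (aps.getD ((0 : Fin 20) : ℕ) 0), vc_bit_ne ⟨28, by norm_num⟩ (by decide +kernel), (ape 0).2, (ape 0).1⟩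

/-- generating vectors -/
def genL : List ℕ := ec :: yc :: (aps ++ (cps ++ brs))

theorem genL_lt : genL.all (fun a => Nat.blt a (Nat.pow 2 78)) = true := by decide +kernel

theorem GI_check : Nat.beq (mul 78 GI (pack genL)) (one 78) = true := by decide +kernel

theorem brs_check : allN (fun q => force (Prod.fst (gp.getD q (0, 0))) fun i => force (Prod.snd (gp.getD q (0, 0))) fun j =>
    and (and (Nat.blt i 20) (Nat.blt j 20)) (Nat.beq (vmul 78 (cps.getD j 0) (adc (aps.getD i 0))) (brs.getD q 0))) 36 = true := by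
  decide +kernel

theorem genL_length : genL.length = 78 := by decide +kernel

theorem genL_mem {v : ℕ} (h : v ∈ genL) : v = ec ∨ v = yc ∨ v ∈ aps ∨ v ∈ cps ∨ v ∈ brs := by
  unfold genL at h
  rw [List.mem_cons, List.mem_cons, List.mem_append, List.mem_append] at h
  exact h

theorem gen_aux (u : V ≃ₗ[ZMod 2] V) (hu : u ∈ A.Aut) (h1 : u (vc ec) = vc ec) (h2 : u (vc yc) = vc yc)
    (h3 : ∀ v, A.br (vc ec) v = 0 → A.br (A.br (vc ec) (vc yc)) v = v → u v = v) : u = 1 := by
  have ha : ∀ j : Fin 20, u (vc (aps.getD j 0)) = vc (aps.getD j 0) := fun j => h3 _ (ape j).1 (ape j).2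
  have hc : ∀ j : Fin 20, u (cF' j) = cF' j := by
    intro j
    rw [(cmem_aux j).2, Alg.Aut_br hu, h2, ha]
  have hfix : ∀ v ∈ genL, u (vc v) = vc v := by
    intro v hv
    rcases genL_mem hv with rfl | rfl | hv | hv | hv
    · exact h1
    · exact h2
    · obtain ⟨i, hi, rfl⟩ := List.mem_iff_getElem.1 hv
      have hi' : i < 20 := by rwa [aps_length] at hi
      have := ha ⟨i, hi'⟩
      rwa [List.getD_eq_getElem _ _ hi] at this
    · obtain ⟨j, hj⟩ := mem_cps hv
      rw [hj, hc]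
    · obtain ⟨q, hq, rfl⟩ := List.mem_iff_getElem.1 hv
      have hq' : q < 36 := by rwa [brs_length] at hq
      have h := allN_sound brs_check q hq'
      rw [force_eq, force_eq, Bool.and_eq_true, Bool.and_eq_true, Nat.blt_eq, Nat.blt_eq] at h
      have h4 := Nat.eq_of_beq_eq_true h.2
      rw [List.getD_eq_getElem _ _ hq] at h4
      rw [← h4, ← br_vc_vc, ← A_br, Alg.Aut_br hu]
      have h5 := ha ⟨_, h.1.1⟩
      have h6 := hc ⟨_, h.1.2⟩
      unfold cF' at h6
      rw [h5, h6]
  refine LinearEquiv.ext fun x => ?_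
  have h7 : ∀ x : V, u x = x := by
    intro x
    rw [span_of genL_lt GI_check x, map_sum]
    refine Finset.sum_congr rfl fun j _ => ?_
    rw [map_smul, hfix]
    rw [List.getD_eq_getElem _ _ (by rw [genL_length]; exact j.2)]
    exact List.getElem_mem _
  rw [h7 x]
  rfl

end Cfsg.Agent.TwoESix.ExtModel
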