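import Cfsg.Agent.TwoESix.ExtModelE

/-!
# The algebra satisfies the local and global conditions
-/

set_option autoImplicit false

namespace Cfsg.Agent.TwoESix.ExtModel

open Cfsg.Agent.Lib Cfsg.Agent.Lib.F2Mat
open Cfsg.Agent.TwoESix.ExtCode Cfsg.Agent.TwoESix.ExtData Cfsg.Agent.TwoESix.ExtData2 Cfsg.Agent.TwoESix.ExtAlg
open Cfsg.Agent.TwoESix.ExtLocal Cfsg.Agent.TwoESix.ExtGlobal
open Cfsg.Agent.TwoESix.Data Cfsg.Agent.TwoESix.Iso

/-- the local certificates -/
noncomputable def loc : Loc A Γ 20 (vc ec) (vc yc) where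
  le := Γ_le
  he := ec_ext
  hy := yc_ext
  hey := B_ey
  ge := g_mem_of ec_mem
  gy := g_mem_of yc_mem
  c := cF
  c' := cF'
  hc := cF_ext
  gc i := g_mem_of (cF_mem i)
  cy := cF_y
  cc := cF_cF'
  ce := B_e_cF'
  low := low_aux
  cmem j := ⟨_, cmem_aux j⟩
  cspan := cspan_aux
  core := core_aux
  top := top_aux
  gen := gen_aux

theorem span_aux (z : V) (hz : z ≠ 0) : ∃ γ ∈ Γ, A.B z (γ (vc yc)) = 1 := by
  by_contra hne
  push Not at hne
  have h1 : ∀ γ ∈ Γ, A.B z (γ (vc yc)) = 0 := fun γ hγ => (z2 _).resolve_right (hne γ hγ)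
  apply hz
  apply A.nondeg
  obtain ⟨γ₀, hγ₀, h0⟩ := yc_mem
  have h2 : A.B z = 0 := by
    apply orbit_induction
    intro γ hγ
    have h3 := h1 (γ * γ₀⁻¹) (Γ.mul_mem hγ (Γ.inv_mem hγ₀))
    rw [← h0, LinearEquiv.mul_apply, Alg.inv_apply] at h3
    rw [h3]
    rfl
  intro y
  rw [h2]
  rfl

/-- **The certificates.** -/
noncomputable def glob : Glob A Γ 20 (vc ec) (vc yc) where
  toLoc := loc
  span := span_aux
  leE := Γ_le_E

/-- the group generated by the root involutions is the group of the model -/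
theorem E_eq : A.E = Γ := glob.E_eq

end Cfsg.Agent.TwoESix.ExtModel
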