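import Cfsg.Agent.TwoESix.ExtAlg
import Cfsg.Prelude.Def_SporadicB

/-!
# Transport of 3-transposition groups generated by root involutions

Two homomorphisms `f, f'` of a simple 3-transposition group into the automorphism group of an algebra `A`, taking
transpositions to root involutions, are conjugate under `A.Aut` as soon as the extremal elements of `f d`, `d` a
transposition, span the algebra.
-/

set_option autoImplicit false

namespace Cfsg.Agent.TwoESix.ExtTransport

open Cfsg.Agent.TwoESix.ExtAlg Cfsg.Agent.TwoESix.ExtAlg.Alg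

variable {V : Type*} [AddCommGroup V] [Module (ZMod 2) V] (A : Alg V)
variable {F : Type*} [Group F] (T : Set F)

/-- a homomorphism taking transpositions to root involutions -/
structure Rooted (f : F →* (V ≃ₗ[ZMod 2] V)) : Prop where
  mem : ∀ d ∈ T, f d ∈ A.R
  inj : Function.Injective f

variable {A T} {f f' : F →* (V ≃ₗ[ZMod 2] V)}

/-- extremal element of a transposition -/
noncomputable def xv (A : Alg V) (f : F →* (V ≃ₗ[ZMod 2] V)) (d : F) : V := vec (A := A) (f d)

namespace Rooted

theorem ext (h : Rooted A T f) {d : F} (hd : d ∈ T) : A.IsExt (xv A f d) := vec_ext (h.mem d hd)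

theorem g_xv (h : Rooted A T f) {d : F} (hd : d ∈ T) : A.g (xv A f d) = f d := g_vec (h.mem d hd)

theorem aut (hT : Subgroup.closure T = ⊤) (h : Rooted A T f) (x : F) : f x ∈ A.Aut := by
  have h1 : (⊤ : Subgroup F) ≤ A.Aut.comap f := by
    rw [← hT, Subgroup.closure_le]
    intro d hd
    show f d ∈ A.Aut
    rw [← h.g_xv hd]
    exact g_mem (h.ext hd)
  exact h1 (Subgroup.mem_top x)

theorem conj_mem {e : F} (hT : ∃ d ∈ T, T = conjugatesOf d) (he : e ∈ T) (c : F) : c * e * c⁻¹ ∈ T := by
  obtain ⟨d, hd, h⟩ := hT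
  rw [h] at he ⊢
  exact (show IsConj d e from he).trans (isConj_iff.2 ⟨c, rfl⟩)

theorem xv_conj (hT : Subgroup.closure T = ⊤) (h : Rooted A T f) {d : F} (hd : d ∈ T) (c : F) :
    xv A f (c * d * c⁻¹) = f c (xv A f d) := by
  unfold xv
  rw [map_mul, map_mul, map_inv, vec_conj (h.aut hT c) (h.mem d hd)]

theorem B_zero (h : Rooted A T f) {d e : F} (hd : d ∈ T) (he : e ∈ T) (hc : d * e = e * d) :
    A.B (xv A f d) (xv A f e) = 0 ∧ A.br (xv A f d) (xv A f e) = 0 := by
  have h1 : A.g (xv A f d) * A.g (xv A f e) = A.g (xv A f e) * A.g (xv A f d) := by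
    rw [h.g_xv hd, h.g_xv he, ← map_mul, ← map_mul, hc]
  rw [comm_iff (h.ext hd) (h.ext he), fix_iff (h.ext hd)] at h1
  exact h1

theorem B_one (hT : IsThreeTranspositionSet T) (h : Rooted A T f) {d e : F} (hd : d ∈ T) (he : e ∈ T)
    (hc : ¬ d * e = e * d) : A.B (xv A f d) (xv A f e) = 1 := by
  have hdd : d * d = 1 := by rw [← pow_two, ← hT.1 d hd, pow_orderOf_eq_one]
  have hee : e * e = 1 := by rw [← pow_two, ← hT.1 e he, pow_orderOf_eq_one]
  rw [opp_iff (h.ext hd) (h.ext he), h.g_xv hd, h.g_xv he]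
  rcases hT.2 d hd e he with h1 | h1
  · exfalso
    apply hc
    have h2 : d * e * (d * e) = 1 := by rw [← pow_two]; exact h1
    calc d * e = d * e * ((e * d) * (d * e)) := by
          rw [mul_assoc e d, ← mul_assoc d d, hdd, one_mul, hee, mul_one]
      _ = d * (e * e) * d * (d * e) := by group
      _ = (d * d) * (d * e) := by rw [hee]; group
      _ = d * e := by rw [hdd, one_mul]
      _ = (e * d) * (d * e * (d * e)) := by
          calc d * e = (e * e) * (d * e) := by rw [hee, one_mul]
            _ = e * (d * d) * e * (d * e) := by rw [hdd]; group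
            _ = (e * d) * (d * e * (d * e)) := by group
      _ = e * d := by rw [h2, mul_one]
  · refine ⟨by rw [← map_mul, ← map_pow, h1, map_one], fun h2 => hc ?_⟩
    have h3 := h.inj h2
    rw [h3]

/-- `[x_d, x_e]` for noncommuting transpositions -/
theorem br_one (hT : IsThreeTranspositionClass T) (h : Rooted A T f) {d e : F} (hd : d ∈ T) (he : e ∈ T)
    (hc : ¬ d * e = e * d) : A.br (xv A f d) (xv A f e) = xv A f e + xv A f d + xv A f (d * e * d⁻¹) := by
  have h1 := h.B_one hT.1 hd he hc
  have h2 := h.xv_conj hT.2.2 he d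
  rw [h2, ← h.g_xv hd, g_apply_of_one (h.ext hd) h1]
  generalize A.br (xv A f d) (xv A f e) = a
  generalize xv A f e = b
  generalize xv A f d = c
  have h3 := dbl b
  have h4 := dbl c
  calc a = a + (b + b) + (c + c) := by rw [h3, h4, add_zero, add_zero]
    _ = b + c + (b + a + c) := by abel

end Rooted

/-- the values of `B` on transpositions are determined by the group -/
theorem B_eq (hT : IsThreeTranspositionClass T) (h : Rooted A T f) (h' : Rooted A T f') {d e : F} (hd : d ∈ T)
    (he : e ∈ T) : A.B (xv A f d) (xv A f e) = A.B (xv A f' d) (xv A f' e) := by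
  by_cases hc : d * e = e * d
  · rw [(h.B_zero hd he hc).1, (h'.B_zero hd he hc).1]
  · rw [h.B_one hT.1 hd he hc, h'.B_one hT.1 hd he hc]

/-- **Transport.** -/
theorem exists_aut (hT : IsThreeTranspositionClass T) (h : Rooted A T f) (h' : Rooted A T f')
    {ι : Type*} [Finite ι] (d : ι → F) (hd : ∀ i, d i ∈ T) (b : Module.Basis ι (ZMod 2) V)
    (hb : ∀ i, b i = xv A f (d i)) :
    ∃ n ∈ A.Aut, (∀ e ∈ T, n (xv A f e) = xv A f' e) ∧ ∀ x, f' x = n * f x * n⁻¹ := by
  classical
  haveI : Fintype ι := Fintype.ofFinite ι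
  haveI : Module.Finite (ZMod 2) V := Module.Finite.of_basis b
  let φ : V →ₗ[ZMod 2] V := b.constr (ZMod 2) (fun i => xv A f' (d i))
  have hφb : ∀ i, φ (b i) = xv A f' (d i) := fun i => b.constr_basis _ _ i
  -- `φ` preserves the form
  have hB : ∀ x y, A.B (φ x) (φ y) = A.B x y := by
    have h1 : A.B.compl₁₂ φ φ = A.B := by
      apply LinearMap.ext_basis b b
      intro i j
      rw [LinearMap.compl₁₂_apply, hφb, hφb, hb, hb]
      exact (B_eq hT h h' (hd i) (hd j)).symm
    intro x y
    rw [← LinearMap.compl₁₂_apply, h1]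
  have hinj : Function.Injective φ := by
    rw [injective_iff_map_eq_zero]
    intro x hx
    apply A.nondeg
    intro y
    rw [← hB, hx, map_zero, LinearMap.zero_apply]
  let n : V ≃ₗ[ZMod 2] V := LinearEquiv.ofInjectiveEndo φ hinj
  have hn : ∀ x, n x = φ x := fun x => rfl
  -- values on all transpositions
  have hval : ∀ e ∈ T, n (xv A f e) = xv A f' e := by
    intro e he
    apply A.eq_of_B
    intro v
    obtain ⟨v, rfl⟩ := n.surjective v
    have h1 : A.B (n (xv A f e)) ∘ₗ φ = A.B (xv A f' e) ∘ₗ φ := by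
      apply b.ext
      intro i
      rw [LinearMap.comp_apply, LinearMap.comp_apply, hn, hB, hφb, hb]
      exact B_eq hT h h' he (hd i)
    exact LinearMap.congr_fun h1 v
  have hbr : ∀ x y, n (A.br x y) = A.br (n x) (n y) := by
    have h1 : A.br.compr₂ φ = A.br.compl₁₂ φ φ := by
      apply LinearMap.ext_basis b b
      intro i j
      rw [LinearMap.compr₂_apply, LinearMap.compl₁₂_apply, hφb, hφb, hb, hb]
      by_cases hc : d i * d j = d j * d i
      · rw [(h.B_zero (hd i) (hd j) hc).2, (h'.B_zero (hd i) (hd j) hc).2, map_zero]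
      · rw [h.br_one hT (hd i) (hd j) hc, h'.br_one hT (hd i) (hd j) hc, map_add, map_add]
        have h2 := hval _ (hd i)
        have h3 := hval _ (hd j)
        have h4 := hval _ (Rooted.conj_mem hT.2.1 (hd j) (d i))
        rw [hn] at h2 h3 h4
        rw [h2, h3, h4]
    intro x y
    have h2 := LinearMap.congr_fun (LinearMap.congr_fun h1 x) y
    exact h2
  have hmem : n ∈ A.Aut := ⟨hbr, hB⟩
  refine ⟨n, hmem, hval, ?_⟩
  have h1 : (⊤ : Subgroup F) ≤ f'.eqLocus ((MulAut.conj n).toMonoidHom.comp f) := by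
    rw [← hT.2.2, Subgroup.closure_le]
    intro e he
    show f' e = n * f e * n⁻¹
    rw [← h.g_xv he, ← h'.g_xv he, ← hval e he, g_map (h.ext he) hmem]
  intro x
  exact h1 (Subgroup.mem_top x)

/-- uniqueness -/
theorem unique_aut (h : Rooted A T f) {ι : Type*} (d : ι → F) (hd : ∀ i, d i ∈ T)
    (b : Module.Basis ι (ZMod 2) V) (hb : ∀ i, b i = xv A f (d i)) {n : V ≃ₗ[ZMod 2] V} (hn : n ∈ A.Aut)
    (hc : ∀ x, f x = n * f x * n⁻¹) : n = 1 := by
  apply LinearEquiv.toLinearMap_injective
  apply b.ext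
  intro i
  show n (b i) = b i
  rw [hb]
  apply g_inj ((h.ext (hd i)).map hn) (h.ext (hd i))
  rw [g_map (h.ext (hd i)) hn, h.g_xv (hd i)]
  exact (hc _).symm

end Cfsg.Agent.TwoESix.ExtTransport
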