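/-
A homomorphism from the presented group `Spor.Fi22` to ²E₆(2) taking the nine generators to root involutions
(`t3, …, t11` of the configuration `T`).
-/
import Cfsg.Agent.TwoESix.Main
import Cfsg.Prelude.Def_Spor_Fi22
set_option autoImplicit false

namespace Cfsg.Agent.TwoESix.FiInst

open Cfsg.Lie Cfsg.Spor Cfsg.Agent.TwoESix.Data Cfsg.Agent.TwoESix.Iso Cfsg.Agent.TwoESix.Gens
open Cfsg.Agent.TwoESix.Rels Cfsg.Agent.TwoESix.Main
open Cfsg.Agent.Lib Cfsg.Agent.Lib.F2MatGroup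

/-- the node of `T` belonging to a generator of `Spor.Fi22` -/
def nd : Fi22.Gen → Fin 10
  | .a => 6
  | .b => 5
  | .c => 4
  | .d => 3
  | .e => 7
  | .f => 8
  | .g => 9
  | .h => 2
  | .i => 1

/-- the three further relators -/
def fiRels : List (List ℕ × ℕ) := [
  ([3, 4, 5, 3, 7, 8, 3, 2, 1], 10),
  ([6, 5, 4, 3, 7, 8, 2], 9),
  ([5, 4, 3, 7, 8, 9, 2], 9)]

theorem fi_check : eqs 78 (fiRels.map fun p => (rep p.1 p.2, [])) (Ts ++ Ms) = true := by decide +kernel

theorem fi_rel {w : List ℕ} {n : ℕ} (h : (w, n) ∈ fiRels) : evG LG w ^ n = 1 := by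
  have h1 := eqs_sound codes_LG fi_check (rep w n, []) (List.mem_map.2 ⟨(w, n), h, rfl⟩)
  rw [evG_rep, evG_nil] at h1
  exact h1

theorem fi_rel' (w : List (Fin 10)) (n : ℕ) (h : (w.map Fin.val, n) ∈ fiRels) : (w.map T).prod ^ n = 1 := by
  rw [← evG_T]
  exact fi_rel h

/-- the generators `t3, …, t11` satisfy the relators of `Spor.Fi22` -/
theorem rels_T : ∀ r ∈ coxRelators Fi22.edges ∪ {r | r ∈ Fi22.extra},
    FreeGroup.lift (fun g => T (nd g)) r = 1 := by
  rintro r (⟨x, -, y, -, rfl⟩ | hr)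
  · rw [map_pow, map_mul, FreeGroup.lift_apply_of, FreeGroup.lift_apply_of]
    have h : ∀ x y : Fi22.Gen, coxLabel Fi22.edges x y = 1 ∧ x = y ∨
        coxLabel Fi22.edges x y = 2 ∧ adj (nd x) (nd y) = false ∨
        coxLabel Fi22.edges x y = 3 ∧ adj (nd x) (nd y) = true := by
      intro x y
      cases x <;> cases y <;> decide
    rcases h x y with ⟨h1, rfl⟩ | ⟨h1, h2⟩ | ⟨h1, h2⟩
    · rw [h1, pow_one, T_sq]
    · rw [h1, T_order_two _ _ h2]
    · rw [h1, T_order_three _ _ h2]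
  · simp only [Fi22.extra, Set.mem_ofPred_eq, List.mem_cons, List.not_mem_nil, or_false] at hr
    rcases hr with rfl | rfl | rfl
    · have h := fi_rel' [3, 4, 5, 3, 7, 8, 3, 2, 1] 10 (by decide +kernel)
      simpa only [map_pow, map_mul, FreeGroup.lift_apply_of, nd, List.map_cons, List.map_nil, List.prod_cons,
        List.prod_nil, mul_one, ← mul_assoc] using h
    · have h := fi_rel' [6, 5, 4, 3, 7, 8, 2] 9 (by decide +kernel)
      simpa only [map_pow, map_mul, FreeGroup.lift_apply_of, nd, List.map_cons, List.map_nil, List.prod_cons,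
        List.prod_nil, mul_one, ← mul_assoc] using h
    · have h := fi_rel' [5, 4, 3, 7, 8, 9, 2] 9 (by decide +kernel)
      simpa only [map_pow, map_mul, FreeGroup.lift_apply_of, nd, List.map_cons, List.map_nil, List.prod_cons,
        List.prod_nil, mul_one, ← mul_assoc] using h

/-- the homomorphism `Spor.Fi22 → Gam` -/
noncomputable def fiHom : Spor.Fi22 →* GL (Fin 78) (ZMod 2) := PresentedGroup.toGroup rels_T

theorem fiHom_of (g : Fi22.Gen) : fiHom (PresentedGroup.of g) = T (nd g) := PresentedGroup.toGroup.of rels_T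

/-- `Spor.Fi22` maps to ²E₆(2), the generators going to conjugates of `x_{p₂}(1)`. -/
theorem exists_fiHom (K : Type*) [Field K] [Fintype K] (hK : Fintype.card K = 4) :
    ∃ (t : Fin 10 → twistedE6 K 2) (r : twistedE6 K 2) (f : Spor.Fi22 →* twistedE6 K 2),
      Y333 t ∧ Subgroup.closure (Set.range t) = ⊤ ∧
      ((r : GL chevE6.Idx K) : Matrix chevE6.Idx chevE6.Idx K) = chevE6.x K e6p2 1 ∧
      (∀ i, t i ≠ 1) ∧ (∀ i, ∃ g, t i = g * r * g⁻¹) ∧ ∀ a, f (PresentedGroup.of a) = t (nd a) := by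
  obtain ⟨w, f, h2, hw, hf, hmap, hval⟩ := exists_phi K hK
  have hmem : ∀ g ∈ Gam, f g ∈ twistedE6 K 2 := fun g hg => hmap ▸ ⟨g, hg, rfl⟩
  have hfi : ∀ x : Spor.Fi22, fiHom x ∈ Gam := by
    have h1 : (⊤ : Subgroup Spor.Fi22) ≤ Gam.comap fiHom := by
      rw [← PresentedGroup.closure_range_of, Subgroup.closure_le]
      rintro _ ⟨g, rfl⟩
      show fiHom (PresentedGroup.of g) ∈ Gam
      rw [fiHom_of]
      exact T_mem _
    exact fun x => h1 (Subgroup.mem_top x)
  refine ⟨fun i => ⟨f (T i), hmem _ (T_mem i)⟩, ⟨f (gM 0), hmem _ (Subgroup.subset_closure ⟨0, rfl⟩)⟩,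
    (f.comp fiHom).codRestrict (twistedE6 K 2) (fun x => hmem _ (hfi x)), ?_, ?_, ?_, ?_, ?_, ?_⟩
  · exact Y333.of_injective (twistedE6 K 2).subtype Subtype.coe_injective (Y333_T.map f)
  · apply Subgroup.map_injective (f := (twistedE6 K 2).subtype) Subtype.coe_injective
    rw [MonoidHom.map_closure, ← MonoidHom.range_eq_map, Subgroup.range_subtype]
    refine Eq.trans ?_ hmap
    rw [← H_eq, H, MonoidHom.map_closure]
    congr 1
    ext x
    constructor
    · rintro ⟨_, ⟨i, rfl⟩, rfl⟩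
      exact ⟨T i, ⟨i, rfl⟩, rfl⟩
    · rintro ⟨_, ⟨i, rfl⟩, rfl⟩
      exact ⟨_, ⟨i, rfl⟩, rfl⟩
  · show ((f (gM 0) : GL chevE6.Idx K) : Matrix chevE6.Idx chevE6.Idx K) = chevE6.x K e6p2 1
    rw [hval]
    simp [lw, ws, ChevalleyDatum.wordMat, Coded.cv_one]
    rfl
  · intro i h
    apply T_ne_one i
    apply hf
    rw [map_one]
    exact congrArg Subtype.val h
  · intro i
    obtain ⟨g, hg, hgi⟩ := T_conj i
    refine ⟨⟨f g, hmem g hg⟩, Subtype.ext ?_⟩
    show f (T i) = f g * f (gM 0) * (f g)⁻¹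
    rw [hgi, map_mul, map_mul, map_inv]
  · intro a
    apply Subtype.ext
    show f (fiHom (PresentedGroup.of a)) = f (T (nd a))
    rw [fiHom_of]

end Cfsg.Agent.TwoESix.FiInst
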