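import Cfsg.Agent.TwoESix.FlagM

/-!
# ²E₆(2): the flag `b, c, a` (`R/⟨b⟩` is generated by `x_46` as a module, the action of the Levi subgroup is faithful)
-/

set_option autoImplicit false
set_option linter.unusedSectionVars false

namespace Cfsg.Agent.TwoESix.FlagCyc

open Cfsg.Lie
open Cfsg.Agent.ChevalleyStructure
open Cfsg.Agent.ChevalleyStructure.Elts hiding x_add x_zero x_eq_one_iff
open Cfsg.Agent.ChevalleyStructure.TwE6Basic
open Cfsg.Agent.ChevalleyStructure.TwE6BN
open Cfsg.Agent.TwoESix.LeviA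
open Cfsg.Agent.TwoESix.LeviB
open Cfsg.Agent.TwoESix.LeviC
open Cfsg.Agent.TwoESix.LeviD
open Cfsg.Agent.TwoESix.LongPairs
open Cfsg.Agent.TwoESix.LongCard
open Cfsg.Agent.TwoESix.FlagH
open Cfsg.Agent.TwoESix.FlagI
open Cfsg.Agent.TwoESix.FlagK
open Cfsg.Agent.TwoESix.FlagL
open Cfsg.Agent.TwoESix.FlagM
open Cfsg.Agent.BabyU (rootClass)

open scoped commutatorElement Pointwise

universe u

variable {K : Type u} [Field K]

section Four

variable [Fintype K] {φ : K →+* K} (F : Four K φ)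
include F

/-- A subgroup containing `x_46(1)` and stable under commutators with `U ∩ L` contains all root elements of `R`. -/
theorem cyc {W : Subgroup (GL chevE6.Idx K)} (h46 : x 46 (1 : K) ∈ W)
    (hC : ∀ y ∈ LL K, y ∈ chevE6.posUnipotent K → ∀ h ∈ W, ⁅y, h⁆ ∈ W) :
    (∀ r ∈ l20, rho r = r → x r.val (1 : K) ∈ W) ∧ (∀ r ∈ l20, rho r ≠ r → ∀ t : K, z φ r t ∈ W) := by
  have := F.charP
  obtain ⟨w, hw⟩ := exists_omega F
  have hcomm : ∀ {g h c : GL chevE6.Idx K}, g ∈ LL K → g ∈ chevE6.posUnipotent K → h ∈ W →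
      g * h = h * g * c → c ∈ W := by
    intro g h c hg hg' hh e
    rw [comm_eq e]
    exact hC _ (inv_mem hg) (inv_mem hg') _ (inv_mem hh)
  have u39 : x (39 : Fin 72).val (1 : K) ∈ LL K := x_mem_LL F (by decide +kernel) (by decide +kernel)
  have v39 : x (39 : Fin 72).val (1 : K) ∈ chevE6.posUnipotent K := mem_U (by decide) 1
  have u42 : ∀ t, z φ 42 t ∈ LL K := fun t => z_mem_LL F (by decide +kernel) (by decide +kernel) t
  have v42 : ∀ t, z φ 42 t ∈ chevE6.posUnipotent K := fun t =>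
    mul_mem (mem_U (by decide) t) (mem_U (by decide +kernel) _)
  have u56 : ∀ t, z φ 56 t ∈ LL K := fun t => z_mem_LL F (by decide +kernel) (by decide +kernel) t
  have v56 : ∀ t, z φ 56 t ∈ chevE6.posUnipotent K := fun t =>
    mul_mem (mem_U (by decide) t) (mem_U (by decide +kernel) _)
  have hN : ∀ a : K, φ (a * φ a) = a * φ a := fun a => by rw [map_mul, F.inv, mul_comm]
  have dx : ∀ r k : Fin 72, x r.val (1 : K) ∈ W → Si r 39 k → x k.val (1 : K) ∈ W := fun r k hr h =>
    hcomm u39 v39 hr (comm_xx h)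
  -- from `x_r` to `z_k` and `x_m`
  have zx' : ∀ s r k m : Fin 72, (∀ t, z φ s t ∈ LL K) → (∀ t, z φ s t ∈ chevE6.posUnipotent K) →
      x r.val (1 : K) ∈ W → ZX s r k m → ZZ s k m → x s.val (1 : K) * x m.val 1 = x m.val 1 * x s.val 1 →
      x (rho s).val (1 : K) * x m.val 1 = x m.val 1 * x (rho s).val 1 →
      x m.val (1 : K) ∈ W ∧ ∀ t : K, z φ k t ∈ W := by
    intro s r k m hs hs' hr h h' hc hc'
    have h1 : ∀ t, z φ k t * x m.val (t * φ t) ∈ W := fun t => hcomm (hs t) (hs' t) hr (comm_zx h φ t)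
    have e1 : z φ s 1 * x m.val (w * φ w) = x m.val (w * φ w) * z φ s 1 := by
      rcases zero_or_one F (hN w) with h0 | h0
      · rw [h0, TwE6Basic.x_zero, mul_one, one_mul]
      · rw [h0]
        show x s.val 1 * x (rho s).val (φ 1) * x m.val 1 = x m.val 1 * (x s.val 1 * x (rho s).val (φ 1))
        rw [map_one, mul_assoc, hc', ← mul_assoc, hc, mul_assoc]
    have e2 := comm_zz h' φ 1 w
    have tr1 : φ w * 1 + w * φ 1 = 1 := by rw [map_one, mul_one, mul_one, add_comm, hw]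
    rw [tr1] at e2
    have hm : x m.val (1 : K) ∈ W := by
      have h0 : x m.val (1 : K) * x m.val (w * φ w) = x m.val (w * φ w) * x m.val 1 := by
        rw [x_add, x_add, add_comm]
      refine hcomm (hs 1) (hs' 1) (h1 w) ?_
      calc z φ s 1 * (z φ k w * x m.val (w * φ w)) = (z φ s 1 * z φ k w) * x m.val (w * φ w) := by group
        _ = z φ k w * z φ s 1 * (x m.val 1 * x m.val (w * φ w)) := by rw [e2]; group
        _ = z φ k w * (z φ s 1 * x m.val (w * φ w)) * x m.val 1 := by rw [h0]; group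
        _ = _ := by rw [e1]; group
    exact ⟨hm, fun t => (Subgroup.mul_mem_cancel_right _ (x_norm_mem F hm (hN t))).1 (h1 t)⟩
  have dzs : ∀ s k m : Fin 72, (∀ t, z φ s t ∈ LL K) → (∀ t, z φ s t ∈ chevE6.posUnipotent K) →
      (∀ t, z φ k t ∈ W) → ZS s k m → ∀ t : K, z φ m t ∈ W := by
    intro s k m hs hs' hk h t
    have := hcomm (hs t) (hs' t) (hk 1) (comm_zs h φ t 1)
    rwa [one_mul] at this
  have co : ∀ {r s : Fin 72}, Co r s → x s.val (1 : K) * x r.val 1 = x r.val 1 * x s.val 1 := fun h => h.eq 1 1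
  have x47 := dx 46 47 h46 t1.1
  obtain ⟨x51, z50⟩ := zx' 42 47 50 51 u42 v42 x47 t2.1 t3.1 (co (by decide +kernel)) (co (by decide +kernel))
  have x53 := dx 51 53 x51 t1.2.1
  obtain ⟨x63, z62⟩ := zx' 56 51 62 63 u56 v56 x51 t2.2.1 t3.2.1 (co (by decide +kernel)) (co (by decide +kernel))
  obtain ⟨x65, z64⟩ := zx' 56 53 64 65 u56 v56 x53 t2.2.2.1 t3.2.2.1 (co (by decide +kernel))
    (co (by decide +kernel))
  obtain ⟨x69, z68⟩ := zx' 42 65 68 69 u42 v42 x65 t2.2.2.2 t3.2.2.2 (co (by decide +kernel))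
    (co (by decide +kernel))
  have x70 := dx 69 70 x69 t1.2.2.2
  have z61 := dzs 56 50 61 u56 v56 z50 t4.1
  have z67 := dzs 42 64 67 u42 v42 z64 t4.2.1
  refine ⟨fun r hr hrr => ?_, fun r hr hrr t => ?_⟩
  · have h8 : ∀ r ∈ l20, rho r = r → r = 46 ∨ r = 47 ∨ r = 51 ∨ r = 53 ∨ r = 63 ∨ r = 65 ∨ r = 69 ∨ r = 70 := by
      decide +kernel
    rcases h8 r hr hrr with rfl | rfl | rfl | rfl | rfl | rfl | rfl | rfl <;> assumption
  · have key : ∀ s : Fin 72, (s = 50 ∨ s = 61 ∨ s = 62 ∨ s = 64 ∨ s = 67 ∨ s = 68) → ∀ t : K, z φ s t ∈ W := by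
      rintro s (rfl | rfl | rfl | rfl | rfl | rfl) t
      · exact z50 t
      · exact z61 t
      · exact z62 t
      · exact z64 t
      · exact z67 t
      · exact z68 t
    have h12 : ∀ r ∈ l20, rho r ≠ r → (r = 50 ∨ r = 61 ∨ r = 62 ∨ r = 64 ∨ r = 67 ∨ r = 68) ∨
        (rho r = 50 ∨ rho r = 61 ∨ rho r = 62 ∨ rho r = 64 ∨ rho r = 67 ∨ rho r = 68) := by decide +kernel
    rcases h12 r hr hrr with h | h
    · exact key r h t
    · have h1 := key (rho r) h (φ t)
      rwa [z_rho F hr, F.inv] at h1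

/-- `U ∩ E` is generated by the root elements of `R` and of `L`. -/
theorem UE_le {W : Subgroup (GL chevE6.Idx K)} (h71 : x 71 (1 : K) ∈ W)
    (hx : ∀ r ∈ l20, rho r = r → x r.val (1 : K) ∈ W) (hz : ∀ r ∈ l20, rho r ≠ r → ∀ t : K, z φ r t ∈ W)
    (hL : ∀ y ∈ LL K, y ∈ chevE6.posUnipotent K → y ∈ W) {g : GL chevE6.Idx K} (hg : g ∈ chevE6.posUnipotent K)
    (hE : g ∈ twistedE6 K 2) : g ∈ W := by
  refine U_E_le F (fun o ho => ?_) hg hE
  rcases L_levi o ho with h | h
  · refine rel_le F ho (fun r hr hr' => ?_) (fun r hr hr' t => ?_)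
    · exact hL _ (x_mem_LL F (h _ hr) hr') (mem_U (L_pos o ho _ hr).2 1)
    · exact hL _ (z_mem_LL F (h _ hr) hr' t) (mul_mem (mem_U (L_pos o ho _ hr).2 t)
        (mem_U ((rho_pos r).2 (L_pos o ho _ hr).2) _))
  · refine rel_le F ho (fun r hr hr' => ?_) (fun r hr hr' t => ?_)
    · rcases mem_l20 r (L_pos o ho _ hr).2 (h _ hr) with rfl | h'
      · exact h71
      · exact hx r h' hr'
    · rcases mem_l20 r (L_pos o ho _ hr).2 (h _ hr) with rfl | h'
      · exact absurd (by decide +kernel) hr'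
      · exact hz r h' hr' t

/-- An element of the Levi subgroup centralising `R/⟨b⟩` is trivial. -/
theorem faithful (l : ↥(LL K)) (h : ∀ q ∈ RE K, ⁅io K l, q⁆ = 1 ∨ ⁅io K l, q⁆ = r0 F) : l = 1 := by
  have := F.charP
  have hb : ∀ l : ↥(LL K), io K l * r0 F = r0 F * io K l := fun l => LL_r0 F (l := io K l) l.2
  -- the kernel of the action
  let N : Subgroup ↥(LL K) :=
    { carrier := {l | ∀ q ∈ RE K, ⁅io K l, q⁆ = 1 ∨ ⁅io K l, q⁆ = r0 F}
      one_mem' := fun q _ => Or.inl (by rw [map_one, commutatorElement_one_left])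
      mul_mem' := by
        intro a b ha hb' q hq
        have e : ⁅io K (a * b), q⁆ = io K a * ⁅io K b, q⁆ * (io K a)⁻¹ * ⁅io K a, q⁆ := by
          rw [map_mul]; simp only [commutatorElement_def]; group
        have hb2 : r0 F * r0 F = 1 := Subtype.ext (x_sq (K := K) 71)
        rw [e]
        rcases hb' q hq with h1 | h1 <;> rcases ha q hq with h2 | h2 <;> rw [h1, h2]
        · left; group
        · right; group
        · right; rw [hb, mul_inv_cancel_right, mul_one]
        · left; rw [hb, mul_inv_cancel_right, hb2]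
      inv_mem' := by
        intro a ha q hq
        have e : ⁅io K a⁻¹, q⁆ = (io K a)⁻¹ * ⁅io K a, q⁆⁻¹ * io K a := by
          rw [map_inv]; simp only [commutatorElement_def]; group
        have hb2 : (r0 F)⁻¹ = r0 F := inv_eq_of_mul_eq_one_right (Subtype.ext (x_sq (K := K) 71))
        rw [e]
        rcases ha q hq with h2 | h2 <;> rw [h2]
        · left; group
        · right; rw [hb2, mul_assoc, ← hb, inv_mul_cancel_left] }
  have hN : N.Normal := ⟨fun n hn g q hq => by
    have hgi : (io K g)⁻¹ * r0 F = r0 F * (io K g)⁻¹ := by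
      rw [inv_mul_eq_iff_eq_mul, ← mul_assoc, hb, mul_inv_cancel_right]
    have h1 := hn _ (R_norm F _ hgi q hq)
    have e : ⁅io K (g * n * g⁻¹), q⁆ = io K g * ⁅io K n, (io K g)⁻¹ * q * (io K g)⁻¹⁻¹⁆ * (io K g)⁻¹ := by
      rw [map_mul, map_mul, map_inv]; simp only [commutatorElement_def]; group
    rw [e]
    rcases h1 with h1 | h1 <;> rw [h1]
    · left; group
    · right; rw [hb, mul_inv_cancel_right]⟩
  obtain ⟨hs, -⟩ := simple_LL F
  have hl : l ∈ N := h
  rcases hs.eq_bot_or_eq_top_of_normal N hN with h1 | h1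
  · rw [h1] at hl
    exact Subgroup.mem_bot.1 hl
  · exfalso
    have h2 : (⟨n (K := K) 1, n_mem_LL F 0⟩ : ↥(LL K)) ∈ N := by rw [h1]; trivial
    have h46 := xe_RE F (r := 46) (by decide) (by decide +kernel)
    have e1 : io K ⟨n (K := K) 1, n_mem_LL F 0⟩ * xe F 46 (by decide +kernel) *
        (io K ⟨n (K := K) 1, n_mem_LL F 0⟩)⁻¹ = xe F 47 (by decide +kernel) := by
      have h1 := n_conj2 (K := K) 1 46 1
      rw [show wP 1 46 = 47 by decide +kernel] at h1
      exact Subtype.ext h1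
    have e2 : ⁅io K ⟨n (K := K) 1, n_mem_LL F 0⟩, xe F 46 (by decide +kernel)⁆ =
        xe F 47 (by decide +kernel) * (xe F 46 (by decide +kernel))⁻¹ := by
      rw [commutatorElement_def, e1]
    have hb46 : r0 F * xe F 46 (by decide +kernel) = xe F 46 (by decide +kernel) * r0 F :=
      (S_cent F _ (R_le F h46)).symm
    rcases h2 _ h46 with h3 | h3
    · rw [e2, mul_inv_eq_one] at h3
      exact x_ne (K := K) (r := 47) (s := 46) (by norm_num) (by norm_num) (by norm_num) (congrArg Subtype.val h3)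
    · rw [e2, mul_inv_eq_iff_eq_mul] at h3
      have e3 : x 47 (1 : K) = x 71 1 * x 46 1 := congrArg Subtype.val h3
      have h5 : ⁅x 47 (1 : K), x 70 1⁆ = x 71 (if (47 : Fin 72) = pt 70 then (1 : K) * 1 else 0) :=
        comm_x (r := 47) (q := 70) (by decide) (by decide) 1 1
      rw [if_neg (by decide +kernel), TwE6Basic.x_zero] at h5
      have h6 : ⁅x 46 (1 : K), x 70 1⁆ = x 71 (if (46 : Fin 72) = pt 70 then (1 : K) * 1 else 0) :=
        comm_x (r := 46) (q := 70) (by decide) (by decide) 1 1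
      rw [if_pos (by decide +kernel), mul_one] at h6
      have c1 : x 71 (1 : K) * x 46 1 = x 46 1 * x 71 1 := congrArg Subtype.val hb46
      rw [e3, comm_bl c1 comm70, h6] at h5
      exact x_ne_one (K := K) (by norm_num) h5

end Four

end Cfsg.Agent.TwoESix.FlagCyc
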