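import Cfsg.Agent.TwoESix.LeviD
import Cfsg.Agent.TwoESix.LongPairs
import Cfsg.Agent.Lib.Cores
import Cfsg.Prelude.Def_SporadicB

/-!
# ²E₆(2): the class of root elements of the Levi subgroup `L` is a class of 3-transpositions
-/

set_option autoImplicit false
set_option linter.unusedSectionVars false

namespace Cfsg.Agent.TwoESix.LeviE

open Cfsg.Lie
open Cfsg.Agent.ChevalleyStructure
open Cfsg.Agent.ChevalleyStructure.Elts hiding x_add x_zero x_eq_one_iff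
open Cfsg.Agent.ChevalleyStructure.TwE6Basic
open Cfsg.Agent.ChevalleyStructure.TwE6BN
open Cfsg.Agent.TwoESix.LeviA
open Cfsg.Agent.TwoESix.LeviB
open Cfsg.Agent.TwoESix.LeviC
open Cfsg.Agent.TwoESix.LeviD
open Cfsg.Agent.TwoESix.LongPairs
open Cfsg.Agent.LieExceptional.BNPairCore

universe u

/-- A criterion for `O₂(⟨D_x⟩)` not to be central. -/
theorem not_central {L : Type*} [Group L] {D : Set L} {x n y : L} (Q : Subgroup L) (hQ : IsPGroup 2 Q)
    (hn : n ∈ Subgroup.closure {y : L | y ∈ D ∧ y ≠ x ∧ Commute x y}) (hnQ : n ∈ Q)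
    (hnorm : ∀ g, Commute g x → ∀ q ∈ Q, g * q * g⁻¹ ∈ Q)
    (hy : y ∈ Subgroup.closure {y : L | y ∈ D ∧ y ≠ x ∧ Commute x y}) (hny : n * y ≠ y * n) :
    ¬ Cfsg.pCore 2 ↥(Subgroup.closure {y : L | y ∈ D ∧ y ≠ x ∧ Commute x y}) ≤
      Subgroup.center ↥(Subgroup.closure {y : L | y ∈ D ∧ y ≠ x ∧ Commute x y}) := by
  intro hle
  set H := Subgroup.closure {y : L | y ∈ D ∧ y ≠ x ∧ Commute x y} with hH
  have hcx : ∀ h ∈ H, Commute h x := by
    intro h hh
    have : H ≤ Subgroup.centralizer {x} := by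
      rw [hH, Subgroup.closure_le]
      rintro s ⟨-, -, hs⟩
      exact Subgroup.mem_centralizer_singleton_iff.2 hs.symm.eq
    exact Subgroup.mem_centralizer_singleton_iff.1 (this hh)
  have hPn : (Q.subgroupOf H).Normal := ⟨fun q hq h => by
    rw [Subgroup.mem_subgroupOf] at hq ⊢
    exact hnorm h (hcx h h.2) q hq⟩
  have hP2 : IsPGroup 2 ↥(Q.subgroupOf H) := by
    intro g
    obtain ⟨k, hk⟩ := hQ ⟨(g : ↥H), Subgroup.mem_subgroupOf.1 g.2⟩
    refine ⟨k, ?_⟩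
    apply Subtype.ext
    apply Subtype.ext
    have := congrArg Subtype.val hk
    simpa using this
  have h1 : (⟨n, hn⟩ : ↥H) ∈ Subgroup.center ↥H :=
    hle (Lib.Cores.le_pCore hPn hP2 (Subgroup.mem_subgroupOf.2 hnQ))
  have h2 := Subgroup.mem_center_iff.1 h1 ⟨y, hy⟩
  exact hny (congrArg Subtype.val h2).symm

variable {K : Type u} [Field K]

theorem conj60_tab : ∀ r : Fin 72, 36 ≤ r.val → chevE6.InRootSub {j | j ∈ Jn} r.val →
    r.val = 60 ∨ (60 ≠ r.val ∧ 60 ≠ chevE6.neg r.val ∧ chevE6.commTerms r.val 60 = []) := by decide +kernel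

theorem U_comm60 {g : GL chevE6.Idx K} (hg : g ∈ chevE6.posUnipotent K) (hl : g ∈ LR K Jn) :
    g * x 60 (1 : K) = x 60 1 * g := by
  have key := U_LR_le (K := K) (M := Subgroup.centralizer {x 60 (1 : K)}) (fun r h36 hJ t => ?_) hg hl
  · exact Subgroup.mem_centralizer_singleton_iff.1 key
  · rw [Subgroup.mem_centralizer_singleton_iff]
    rcases conj60_tab r h36 hJ with h | ⟨h1, h2, h3⟩
    · rw [h, x_add, x_add, add_comm]
    · exact (comm_of_commTerms r.isLt (by norm_num) h1 h2 h3 t 1).symm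

section Four

variable [Fintype K] {φ : K →+* K} (F : Four K φ)
include F

theorem B_comm60 {b : GL chevE6.Idx K} (hb : b ∈ chevE6.borelSubgroup K) (hL : b ∈ LL K) :
    b * x 60 (1 : K) = x 60 1 * b := by
  obtain ⟨u, hu, huL, h, hh, hhL, rfl⟩ := ((TL F).mem_B_iff b hL).1 hb
  have h1 := U_comm60 hu (Subgroup.mem_inf.1 huL).1
  have h2 : h * x 60 (1 : K) = x 60 1 * h :=
    comm_of_NT F (r := 60) (by decide +kernel) (H_le_NT 60 hh) (Subgroup.mem_inf.1 hhL).2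
  rw [mul_assoc, h2, ← mul_assoc, h1, mul_assoc]

/-- Bruhat decomposition with words in `L`. -/
theorem bruhat_L {g : GL chevE6.Idx K} (hg : g ∈ LL K) :
    ∃ b ∈ chevE6.borelSubgroup K, b ∈ LL K ∧ ∃ w : List (Fin 4), (∀ i ∈ w, i ≠ 0) ∧
      ∃ b' ∈ chevE6.borelSubgroup K, b' ∈ LL K ∧ g = b * wn w * b' := by
  obtain ⟨P, hB, hS, -⟩ := exists_bnL F
  obtain ⟨m, hm, h1⟩ := bruhat (P := P) (⟨g, hg⟩ : ↥(LL K))
  obtain ⟨l, hl, hrel⟩ := exists_word (P := P) hm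
  rw [← C_eq_of_rel hrel] at h1
  obtain ⟨b, hb, b', hb', e⟩ := mem_C.1 h1
  have hw : ∀ l : List ↥(LL K), (∀ s ∈ l, s ∈ P.S) →
      ∃ w : List (Fin 4), (∀ i ∈ w, i ≠ 0) ∧ ((l.prod : ↥(LL K)) : GL chevE6.Idx K) = wn w := by
    intro l
    induction l with
    | nil => exact fun _ => ⟨[], by simp, by rw [List.prod_nil, wn_nil]; rfl⟩
    | cons s l ih =>
      intro hl
      obtain ⟨w, hw0, hw⟩ := ih fun t ht => hl t (List.mem_cons_of_mem _ ht)
      have hs := hl s List.mem_cons_self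
      rw [hS] at hs
      obtain ⟨i, hi⟩ := hs
      refine ⟨i.succ :: w, ?_, ?_⟩
      · intro j hj
        rcases List.mem_cons.1 hj with rfl | hj
        · exact Fin.succ_ne_zero i
        · exact hw0 j hj
      · rw [List.prod_cons, wn_cons, ← hw, ← hi]
        rfl
  obtain ⟨w, hw0, hw⟩ := hw l hl
  rw [hB] at hb hb'
  refine ⟨b, Subgroup.mem_subgroupOf.1 hb, b.2, w, hw0, b', Subgroup.mem_subgroupOf.1 hb', b'.2, ?_⟩
  rw [← hw]
  exact congrArg Subtype.val e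

omit [Field K] [Fintype K] F in
theorem tab60 : ∀ i : Fin 4, i ≠ 0 → ∀ k : Fin 72, k.val ∈ [60, 44, 39, 32, 27, 11] →
    (wP i k).val ∈ [60, 44, 39, 32, 27, 11] := by decide +kernel

omit [Field K] [Fintype K] F in
theorem wpm60 (w : List (Fin 4)) (hw : ∀ i ∈ w, i ≠ 0) : (wpm w 60).val ∈ [60, 44, 39, 32, 27, 11] := by
  induction w with
  | nil => decide
  | cons i w ih =>
    rw [wpm_cons]
    exact tab60 i (hw i List.mem_cons_self) _ (ih fun j hj => hw j (List.mem_cons_of_mem _ hj))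

/-- Conjugates of `x_60(1)` in `L`. -/
theorem pair_L {g : GL chevE6.Idx K} (hg : g ∈ LL K) : ∃ b ∈ LL K, b * x 60 (1 : K) = x 60 1 * b ∧
    ∃ k ∈ [60, 44, 39, 32, 27, 11], g * x 60 (1 : K) * g⁻¹ = b * x k 1 * b⁻¹ := by
  have := F.charP
  obtain ⟨b, hb, hbL, w, hw, b', hb', hbL', rfl⟩ := bruhat_L F hg
  refine ⟨b, hbL, B_comm60 F hb hbL, (wpm w 60).val, wpm60 w hw, ?_⟩
  have h1 : b' * x 60 (1 : K) * b'⁻¹ = x 60 1 := by rw [B_comm60 F hb' hbL', mul_inv_cancel_right]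
  have h2 : wn w * x 60 (1 : K) * (wn w)⁻¹ = x (wpm w 60).val 1 := wn_conj w 60 1
  rw [← h2]
  calc b * wn w * b' * x 60 (1 : K) * (b * wn w * b')⁻¹
      = b * (wn w * (b' * x 60 (1 : K) * b'⁻¹) * (wn w)⁻¹) * b⁻¹ := by group
    _ = _ := by rw [h1]

end Four

section CharTwo

variable [CharP K 2]

theorem cube11 : (x 60 (1 : K) * x 11 1) ^ 3 = 1 := by
  have h1 : wn (K := K) [0,1,2,1,0] * x 71 1 * (wn (K := K) [0,1,2,1,0])⁻¹ = x 60 1 := wn_conj [0,1,2,1,0] 71 1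
  have h2 : wn (K := K) [0,1,2,1,0] * x 0 1 * (wn (K := K) [0,1,2,1,0])⁻¹ = x 11 1 := wn_conj [0,1,2,1,0] 0 1
  have h3 : x 60 (1 : K) * x 11 1 = wn (K := K) [0,1,2,1,0] * (x 71 1 * x 0 1) * (wn (K := K) [0,1,2,1,0])⁻¹ := by
    rw [← h1, ← h2]; group
  rw [h3, conj_pow, cube0, mul_one, mul_inv_cancel]

theorem comm60_tab : ∀ k ∈ [44, 39, 32, 27], k < 72 ∧ 60 ≠ k ∧ 60 ≠ chevE6.neg k ∧ chevE6.commTerms k 60 = [] := by
  decide +kernel

theorem comm60_of {k : ℕ} (hk : k ∈ [44, 39, 32, 27]) : x 60 (1 : K) * x k 1 = x k 1 * x 60 1 := by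
  obtain ⟨h0, h1, h2, h3⟩ := comm60_tab k hk
  exact comm_of_commTerms h0 (by norm_num) h1 h2 h3 1 1

theorem prod60 {k : ℕ} (hk : k ∈ [60, 44, 39, 32, 27, 11]) :
    (x 60 (1 : K) * x k 1) ^ 2 = 1 ∨ (x 60 (1 : K) * x k 1) ^ 3 = 1 := by
  by_cases h11 : k = 11
  · right; rw [h11]; exact cube11
  · left
    by_cases h60 : k = 60
    · rw [h60, x_sq, one_pow]
    · have hk' : k ∈ [44, 39, 32, 27] := by
        simp only [List.mem_cons, List.not_mem_nil, or_false] at hk ⊢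
        tauto
      have h := comm60_of (K := K) hk'
      calc (x 60 (1 : K) * x k 1) ^ 2 = x 60 (1 : K) * (x k 1 * x 60 1) * x k 1 := by rw [pow_two]; group
        _ = (x 60 (1 : K) * x 60 1) * (x k 1 * x k 1) := by rw [← h]; group
        _ = 1 := by rw [x_sq, x_sq, one_mul]

end CharTwo

section Four

variable [Fintype K] {φ : K →+* K} (F : Four K φ)
include F

/-- `x_60(1)` as an element of `L` -/
def d0 : ↥(LL K) := ⟨x 60 1, x_mem_LL F (r := 60) (by decide +kernel) (by decide +kernel)⟩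

theorem d0_sq : d0 F * d0 F = 1 := by
  have := F.charP
  exact Subtype.ext (x_sq 60)

theorem d0_ne : d0 F ≠ 1 := fun h => x_ne_one (K := K) (r := 60) (by norm_num) (congrArg Subtype.val h)

/-- The class of `3`-transpositions. -/
def DD : Set ↥(LL K) := conjugatesOf (d0 F)

theorem mem_DD {g : ↥(LL K)} : g ∈ DD F ↔ ∃ c : ↥(LL K), c * d0 F * c⁻¹ = g := by
  show IsConj (d0 F) g ↔ _
  exact isConj_iff

theorem three_trans : Cfsg.IsThreeTranspositionSet (DD F) := by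
  have := F.charP
  constructor
  · intro d hd
    obtain ⟨c, rfl⟩ := (mem_DD F).1 hd
    refine orderOf_eq_prime ?_ ?_
    · rw [conj_pow, pow_two, d0_sq, mul_one, mul_inv_cancel]
    · intro h
      apply d0_ne F
      rw [mul_inv_eq_one] at h
      exact (mul_eq_left (a := c)).1 h
  · intro d hd e he
    obtain ⟨c, rfl⟩ := (mem_DD F).1 hd
    obtain ⟨c', rfl⟩ := (mem_DD F).1 he
    obtain ⟨b, hb, hb60, k, hk, hg⟩ := pair_L F (c⁻¹ * c').2
    have e1 : c * d0 F * c⁻¹ * (c' * d0 F * c'⁻¹) =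
        c * (d0 F * ((c⁻¹ * c') * d0 F * (c⁻¹ * c')⁻¹)) * c⁻¹ := by group
    have hpow : ∀ m : ℕ, (x 60 (1 : K) * x k 1) ^ m = 1 → (c * d0 F * c⁻¹ * (c' * d0 F * c'⁻¹)) ^ m = 1 := by
      intro m hm
      rw [e1, conj_pow]
      have e2 : (d0 F * ((c⁻¹ * c') * d0 F * (c⁻¹ * c')⁻¹)) ^ m = 1 := by
        apply Subtype.ext
        show (x 60 (1 : K) * (((c⁻¹ * c' : ↥(LL K)) : GL chevE6.Idx K) * x 60 1 *
          ((c⁻¹ * c' : ↥(LL K)) : GL chevE6.Idx K)⁻¹)) ^ m = 1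
        rw [hg]
        have e3 : x 60 (1 : K) * (b * x k 1 * b⁻¹) = b * (x 60 1 * x k 1) * b⁻¹ := by
          calc x 60 (1 : K) * (b * x k 1 * b⁻¹) = (x 60 (1 : K) * b) * x k 1 * b⁻¹ := by group
            _ = _ := by rw [← hb60]; group
        rw [e3, conj_pow, hm, mul_one, mul_inv_cancel]
      rw [e2, mul_one, mul_inv_cancel]
    rcases prod60 (K := K) hk with h | h
    · exact Or.inl (hpow 2 h)
    · exact Or.inr (hpow 3 h)

theorem closure_DD : Subgroup.closure (DD F) = ⊤ := by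
  have hs := (simple_LL F).1
  have hn : (Subgroup.closure (DD F)).Normal := by
    refine ⟨fun n hn g => ?_⟩
    have key : Subgroup.closure (DD F) ≤ (Subgroup.closure (DD F)).comap (MulAut.conj g).toMonoidHom := by
      rw [Subgroup.closure_le]
      intro d hd
      obtain ⟨c, rfl⟩ := (mem_DD F).1 hd
      refine Subgroup.subset_closure ((mem_DD F).2 ⟨g * c, ?_⟩)
      show g * c * d0 F * (g * c)⁻¹ = g * (c * d0 F * c⁻¹) * g⁻¹
      group
    exact key hn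
  rcases hn.eq_bot_or_eq_top with h | h
  · exfalso
    have h1 : d0 F ∈ Subgroup.closure (DD F) := Subgroup.subset_closure ((mem_DD F).2 ⟨1, by group⟩)
    rw [h, Subgroup.mem_bot] at h1
    exact d0_ne F h1
  · exact h

theorem d0_mem : d0 F ∈ DD F := (mem_DD F).2 ⟨1, by group⟩

/-- **`DD` is a class of 3-transpositions of `L`.** -/
theorem isClass : Cfsg.IsThreeTranspositionClass (DD F) :=
  ⟨three_trans F, ⟨d0 F, d0_mem F, rfl⟩, closure_DD F⟩

end Four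

/-! ### The centraliser of `x_60(1)` in `L` -/

/-- the fundamental roots of `L` orthogonal to 60 -/
def J3 : List ℕ := [2, 3, 4]

theorem n_mem_LR3 (i : Fin 3) (hi : i ≠ 2) : n (K := K) i.succ ∈ LR K J3 := by
  rw [n_def]
  refine Subgroup.list_prod_mem _ ?_
  intro g hg
  obtain ⟨j, hj, rfl⟩ := List.mem_map.1 hg
  have key : ∀ i : Fin 3, i ≠ 2 → ∀ j ∈ J i.succ, chevE6.InRootSub {j | j ∈ J3} (chevE6.simple j) ∧
      chevE6.InRootSub {j | j ∈ J3} (chevE6.neg (chevE6.simple j)) := by decide +kernel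
  obtain ⟨h1, h2⟩ := key i hi j hj
  show nG hE6 (chevE6.simple j) (1 : K) ∈ LR K J3
  rw [nG_def]
  exact mul_mem (x_mem_LR h1 _) (mul_mem (x_mem_LR h2 _) (x_mem_LR h1 _))

section Four

variable [Fintype K] {φ : K →+* K} (F : Four K φ)
include F

theorem cent60_le {g : GL chevE6.Idx K} (hg : g ∈ LL K) (hc : g * x 60 (1 : K) = x 60 1 * g) : g ∈ PR K J3 := by
  have := F.charP
  obtain ⟨P, hB, hS, -⟩ := exists_bnL F
  have hBC : P.B ≤ (Subgroup.centralizer {x 60 (1 : K)}).subgroupOf (LL K) := by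
    rw [hB]
    intro b hb
    rw [Subgroup.mem_subgroupOf, Subgroup.mem_centralizer_singleton_iff]
    exact B_comm60 F (Subgroup.mem_subgroupOf.1 hb) b.2
  have hC := Cfsg.Agent.LieExceptional.BNPairCore.eq_parabolic hBC
  have hle : P.parabolic (P.S ∩ (Subgroup.centralizer {x 60 (1 : K)}).subgroupOf (LL K)) ≤
      (PR K J3).subgroupOf (LL K) := by
    refine sup_le ?_ ((Subgroup.closure_le _).2 ?_)
    · rw [hB]
      intro b hb
      rw [Subgroup.mem_subgroupOf]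
      exact B_le_PR (Subgroup.mem_subgroupOf.1 hb)
    · rintro m ⟨hm, hm'⟩
      rw [hS] at hm
      obtain ⟨i, hi⟩ := hm
      have hi' : (m : GL chevE6.Idx K) = n (K := K) i.succ := (congrArg Subtype.val hi).symm
      rw [SetLike.mem_coe, Subgroup.mem_subgroupOf, hi']
      refine LR_le_PR (n_mem_LR3 i ?_)
      rintro rfl
      have h1 : (m : GL chevE6.Idx K) * x 60 (1 : K) = x 60 1 * (m : GL chevE6.Idx K) :=
        Subgroup.mem_centralizer_singleton_iff.1 (Subgroup.mem_subgroupOf.1 hm')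
      rw [hi', ← mul_inv_eq_iff_eq_mul] at h1
      have h2 : n (K := K) (2 : Fin 3).succ * x 60 1 * (n (K := K) (2 : Fin 3).succ)⁻¹ = x 44 1 :=
        n_conj2 (K := K) (2 : Fin 3).succ 60 1
      exact x_ne (K := K) (r := 44) (s := 60) (by norm_num) (by norm_num) (by norm_num) (h2.symm.trans h1)
  have h1 : (⟨g, hg⟩ : ↥(LL K)) ∈ (Subgroup.centralizer {x 60 (1 : K)}).subgroupOf (LL K) := by
    rw [Subgroup.mem_subgroupOf, Subgroup.mem_centralizer_singleton_iff]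
    exact hc
  rw [hC] at h1
  exact hle h1

end Four

section CharTwo

variable [CharP K 2] (φ : K →+* K)

/-- the element `z_59(1) x_60(1)` -/
def nn : GL chevE6.Idx K := z φ 59 1 * x 60 1

/-- `x_44(1) x_27(1) x_44(1)` -/
def m44 : GL chevE6.Idx K := (n (K := K) 2)⁻¹ * n (K := K) 1 * n (K := K) 2

theorem x44_eq : (n (K := K) 2)⁻¹ * x 39 1 * n (K := K) 2 = x 44 1 := by
  have h : n (K := K) 2 * x 44 1 * (n (K := K) 2)⁻¹ = x 39 1 := n_conj2 (K := K) 2 44 1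
  rw [← h]; group

theorem x27_eq : (n (K := K) 2)⁻¹ * x 32 1 * n (K := K) 2 = x 27 1 := by
  have h : n (K := K) 2 * x 27 1 * (n (K := K) 2)⁻¹ = x 32 1 := n_conj2 (K := K) 2 27 1
  rw [← h]; group

theorem m44_eq : m44 (K := K) = x 44 1 * (x 27 1 * x 44 1) := by
  rw [← x44_eq, ← x27_eq, m44, n1_eq]; group

theorem m44_z59 (t : K) : m44 (K := K) * z φ 59 t * (m44 (K := K))⁻¹ = z φ 56 t := by
  have h1 : n (K := K) 2 * z φ 59 t * (n (K := K) 2)⁻¹ = z φ 58 t := n_conj_z φ 2 59 t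
  have h2 : n (K := K) 1 * z φ 58 t * (n (K := K) 1)⁻¹ = z φ 57 t := n_conj_z φ 1 58 t
  have h3 : n (K := K) 2 * z φ 56 t * (n (K := K) 2)⁻¹ = z φ 57 t := n_conj_z φ 2 56 t
  have h4 : z φ 56 t = (n (K := K) 2)⁻¹ * z φ 57 t * n (K := K) 2 := by rw [← h3]; group
  rw [h4, ← h2, ← h1, m44]; group

theorem m44_x60 : m44 (K := K) * x 60 1 * (m44 (K := K))⁻¹ = x 60 1 := by
  have h1 : n (K := K) 2 * x 60 1 * (n (K := K) 2)⁻¹ = x 60 1 := n_conj2 (K := K) 2 60 1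
  have h2 : n (K := K) 1 * x 60 1 * (n (K := K) 1)⁻¹ = x 60 1 := n_conj2 (K := K) 1 60 1
  have h4 : x 60 1 = (n (K := K) 2)⁻¹ * x 60 1 * n (K := K) 2 := by
    conv_rhs => rw [← h1]
    group
  conv_rhs => rw [h4, ← h2, ← h1]
  rw [m44]; group

theorem comm_z56_x60 (t : K) : z φ 56 t * x 60 1 = x 60 1 * z φ 56 t := by
  have h1 : x 56 t * x 60 1 = x 60 (1 : K) * x 56 t :=
    comm_nil' (r := 60) (s := 56) (by norm_num) (by norm_num) (by decide +kernel) 1 t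
  have h2 : x 36 (φ t) * x 60 1 = x 60 (1 : K) * x 36 (φ t) :=
    comm_nil' (r := 60) (s := 36) (by norm_num) (by norm_num) (by decide +kernel) 1 (φ t)
  show x 56 t * x 36 (φ t) * x 60 1 = x 60 1 * (x 56 t * x 36 (φ t))
  rw [mul_assoc, h2, ← mul_assoc, h1, mul_assoc]

theorem comm_z59_x44 (t : K) : z φ 59 t * x 44 1 = x 44 1 * z φ 59 t := by
  have h1 : x 59 t * x 44 1 = x 44 (1 : K) * x 59 t :=
    comm_nil' (r := 44) (s := 59) (by norm_num) (by norm_num) (by decide +kernel) 1 t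
  have h2 : x 45 (φ t) * x 44 1 = x 44 (1 : K) * x 45 (φ t) :=
    comm_nil' (r := 44) (s := 45) (by norm_num) (by norm_num) (by decide +kernel) 1 (φ t)
  show x 59 t * x 45 (φ t) * x 44 1 = x 44 1 * (x 59 t * x 45 (φ t))
  rw [mul_assoc, h2, ← mul_assoc, h1, mul_assoc]

end CharTwo

section Four

variable [Fintype K] {φ : K →+* K} (F : Four K φ)
include F

theorem nn_ne_one : nn (K := K) φ ≠ 1 := by
  have := F.charP
  intro h
  obtain ⟨w, hw⟩ := exists_omega F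
  have h1 : z φ 59 1 = (x 60 (1 : K))⁻¹ := eq_inv_of_mul_eq_one_left h
  have h2 := comm56_59 φ w 1
  rw [map_one, one_mul, one_mul, hw, h1] at h2
  have h3 : z φ 56 w * (x 60 (1 : K))⁻¹ = (x 60 (1 : K))⁻¹ * z φ 56 w :=
    (show Commute (z φ 56 w) (x 60 (1 : K)) from comm_z56_x60 φ w).inv_right.eq
  rw [h3] at h2
  exact x_ne_one (K := K) (r := 60) (by norm_num) (mul_eq_left.1 h2.symm)

theorem nn_comm : nn (K := K) φ * x 27 1 ≠ x 27 1 * nn φ := by
  have := F.charP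
  intro h
  have h44 : nn (K := K) φ * x 44 1 = x 44 1 * nn φ := by
    have h1 := comm_z59_x44 (K := K) φ 1
    have h2 := comm60_of (K := K) (k := 44) (by decide)
    rw [nn, mul_assoc, h2, ← mul_assoc, h1, mul_assoc]
  have c : Commute (m44 (K := K)) (nn φ) := by
    rw [m44_eq]
    have c44 : Commute (x 44 (1 : K)) (nn φ) := h44.symm
    have c27 : Commute (x 27 (1 : K)) (nn φ) := h.symm
    exact c44.mul_left (c27.mul_left c44)
  have h1 : m44 (K := K) * nn φ * (m44 (K := K))⁻¹ = nn φ := by rw [c.eq, mul_inv_cancel_right]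
  have h2 : m44 (K := K) * nn φ * (m44 (K := K))⁻¹ = z φ 56 1 * x 60 1 := by
    rw [← m44_z59 φ, ← m44_x60, nn]
    have e := m44_x60 (K := K)
    rw [e]
    calc m44 (K := K) * (z φ 59 1 * x 60 1) * (m44 (K := K))⁻¹
        = (m44 (K := K) * z φ 59 1 * (m44 (K := K))⁻¹) * (m44 (K := K) * x 60 1 * (m44 (K := K))⁻¹) := by group
      _ = _ := by rw [e]
  have h3 : z φ 56 (1 : K) = z φ 59 1 := mul_right_cancel (h2.symm.trans h1)
  have h4 := comm56_44 φ (1 : K)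
  rw [map_one, one_mul] at h4
  have h5 : z φ 56 (1 : K) * x 44 1 = x 44 1 * z φ 56 1 := by rw [h3]; exact comm_z59_x44 φ 1
  rw [h5] at h4
  exact nn_ne_one F (mul_eq_left.1 h4.symm)

/-- the commutator element is `x_44(1)` times a conjugate -/
theorem nn_eq : z φ 56 (1 : K) * x 44 1 * (z φ 56 1)⁻¹ = x 44 1 * nn φ := by
  have := F.charP
  have h1 := comm56_44 φ (1 : K)
  rw [map_one, one_mul] at h1
  have h2 := comm56_59 φ (1 : K) 1
  have h3 : φ (1 : K) * 1 + 1 * φ 1 = 0 := by rw [map_one, one_mul, CharTwo.add_self_eq_zero]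
  rw [h3, TwE6Basic.x_zero, mul_one] at h2
  have h4 := comm_z56_x60 φ (1 : K)
  have h5 : z φ 56 1 * (z φ 59 1 * x 60 1) = z φ 59 1 * x 60 1 * z φ 56 1 := by
    rw [← mul_assoc, h2, mul_assoc, h4, ← mul_assoc]
  rw [mul_inv_eq_iff_eq_mul, h1, nn, mul_assoc, h5]
  simp only [mul_assoc]

theorem isPGroup_U : IsPGroup 2 ↥(chevE6.posUnipotent K) := by
  refine IsPGroup.of_card (n := 72) ?_
  rw [Cfsg.Agent.S1027.result chevE6 hE6, F.card]
  rfl

/-- **`O₂(⟨D_x⟩)` is not central.** -/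
theorem pCore_not_central :
    ¬ Cfsg.pCore 2 ↥(Subgroup.closure {y : ↥(LL K) | y ∈ DD F ∧ y ≠ d0 F ∧ Commute (d0 F) y}) ≤
      Subgroup.center ↥(Subgroup.closure {y : ↥(LL K) | y ∈ DD F ∧ y ≠ d0 F ∧ Commute (d0 F) y}) := by
  have := F.charP
  have h56 : z φ 56 (1 : K) ∈ LL K := z_mem_LL F (by decide +kernel) (by decide +kernel) 1
  have h59 : z φ 59 (1 : K) ∈ LL K := z_mem_LL F (by decide +kernel) (by decide +kernel) 1
  have h60 : x 60 (1 : K) ∈ LL K := (d0 F).2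
  have hnnL : nn φ ∈ LL K := mul_mem h59 h60
  have h44 : x 44 (1 : K) ∈ LL K := x_mem_LL F (r := 44) (by decide +kernel) (by decide +kernel)
  have h27 : x 27 (1 : K) ∈ LL K := x_mem_LL F (r := 27) (by decide +kernel) (by decide +kernel)
  have hD : ∀ w : List (Fin 4), (∀ i ∈ w, i ≠ 0) → ∀ k, ∀ hk : x k (1 : K) ∈ LL K, (wpm w 60).val = k →
      (⟨x k 1, hk⟩ : ↥(LL K)) ∈ DD F := by
    intro w hw k hk e
    refine (mem_DD F).2 ⟨⟨wn w, wn_mem_LL F hw⟩, Subtype.ext ?_⟩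
    show wn w * x 60 (1 : K) * (wn w)⁻¹ = x k 1
    have h := wn_conj (K := K) w 60 1
    rw [e] at h
    exact h
  have d44 : (⟨x 44 1, h44⟩ : ↥(LL K)) ∈ {y : ↥(LL K) | y ∈ DD F ∧ y ≠ d0 F ∧ Commute (d0 F) y} := by
    refine ⟨hD [3] (by decide) 44 h44 (by decide +kernel), fun h => ?_, Subtype.ext (comm60_of (by decide))⟩
    exact x_ne (K := K) (r := 44) (s := 60) (by norm_num) (by norm_num) (by norm_num) (congrArg Subtype.val h)
  have d27 : (⟨x 27 1, h27⟩ : ↥(LL K)) ∈ {y : ↥(LL K) | y ∈ DD F ∧ y ≠ d0 F ∧ Commute (d0 F) y} := by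
    refine ⟨hD [2, 1, 2, 3] (by decide) 27 h27 (by decide +kernel), fun h => ?_,
      Subtype.ext (comm60_of (by decide))⟩
    exact x_ne (K := K) (r := 27) (s := 60) (by norm_num) (by norm_num) (by norm_num) (congrArg Subtype.val h)
  have c56 : Commute (d0 F) (⟨z φ 56 1, h56⟩ : ↥(LL K)) := Subtype.ext (comm_z56_x60 φ 1).symm
  have de : (⟨z φ 56 1, h56⟩ * ⟨x 44 1, h44⟩ * ⟨z φ 56 1, h56⟩⁻¹ : ↥(LL K)) ∈
      {y : ↥(LL K) | y ∈ DD F ∧ y ≠ d0 F ∧ Commute (d0 F) y} := by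
    obtain ⟨h1, h2, h3⟩ := d44
    refine ⟨?_, fun h => h2 ?_, (c56.mul_right h3).mul_right c56.inv_right⟩
    · obtain ⟨c, hc⟩ := (mem_DD F).1 h1
      exact (mem_DD F).2 ⟨⟨z φ 56 1, h56⟩ * c, by rw [← hc]; group⟩
    · have e : (⟨x 44 1, h44⟩ : ↥(LL K)) = ⟨z φ 56 1, h56⟩⁻¹ *
          (⟨z φ 56 1, h56⟩ * ⟨x 44 1, h44⟩ * ⟨z φ 56 1, h56⟩⁻¹) * ⟨z φ 56 1, h56⟩ := by group
      rw [e, h, mul_assoc, c56.eq, inv_mul_cancel_left]
  refine not_central (n := (⟨nn φ, hnnL⟩ : ↥(LL K))) (y := ⟨x 27 1, h27⟩) ((UR K J3).subgroupOf (LL K)) ?_ ?_ ?_ ?_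
    (Subgroup.subset_closure d27) ?_
  · -- a 2-group
    intro g
    obtain ⟨k, hk⟩ := isPGroup_U F ⟨(g : ↥(LL K)), UR_le_U (Subgroup.mem_subgroupOf.1 g.2)⟩
    refine ⟨k, ?_⟩
    apply Subtype.ext
    apply Subtype.ext
    have := congrArg Subtype.val hk
    simpa using this
  · have e : (⟨nn φ, hnnL⟩ : ↥(LL K)) = ⟨x 44 1, h44⟩⁻¹ *
        (⟨z φ 56 1, h56⟩ * ⟨x 44 1, h44⟩ * ⟨z φ 56 1, h56⟩⁻¹) := by
      apply Subtype.ext
      show nn φ = (x 44 1)⁻¹ * (z φ 56 1 * x 44 1 * (z φ 56 1)⁻¹)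
      rw [nn_eq F, inv_mul_cancel_left]
    rw [e]
    exact mul_mem (inv_mem (Subgroup.subset_closure d44)) (Subgroup.subset_closure de)
  · rw [Subgroup.mem_subgroupOf]
    exact mul_mem (mul_mem (x_mem_UR (r := 59) (by decide) (by decide +kernel) _)
      (x_mem_UR (r := rho 59) (by decide +kernel) (by decide +kernel) _))
      (x_mem_UR (r := 60) (by decide) (by decide +kernel) _)
  · intro g hg q hq
    rw [Subgroup.mem_subgroupOf] at hq ⊢
    exact conj_UR (cent60_le F g.2 (congrArg Subtype.val hg.eq)) hq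
  · intro h
    exact nn_comm F (congrArg Subtype.val h)

end Four

end Cfsg.Agent.TwoESix.LeviE
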