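import Cfsg.Agent.TwoESix.LongCard
import Cfsg.Agent.TwoESix.LeviE
import Cfsg.Agent.BabyU.Setup

/-!
# ²E₆(2): the flag `b, c, a` (first half)

`b = x_71(1)`, `c = x_70(1)`, `a = x_60(1)`, `S = U ∩ E`, `R = U_J ∩ E`, `T` the class of root involutions.
-/

set_option autoImplicit false
set_option linter.unusedSectionVars false

namespace Cfsg.Agent.TwoESix.FlagH

open Cfsg.Lie
open Cfsg.Agent.ChevalleyStructure
open Cfsg.Agent.ChevalleyStructure.Elts hiding x_add x_zero x_eq_one_iff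
open Cfsg.Agent.ChevalleyStructure.TwE6Basic
open Cfsg.Agent.ChevalleyStructure.TwE6BN
open Cfsg.Agent.TwoESix.LeviA
open Cfsg.Agent.TwoESix.LeviB
open Cfsg.Agent.TwoESix.LeviC
open Cfsg.Agent.TwoESix.LeviD
open Cfsg.Agent.TwoESix.LongPairs
open Cfsg.Agent.TwoESix.LongCard
open Cfsg.Agent.BabyU (rootClass)

open scoped commutatorElement Pointwise

universe u

variable {K : Type u} [Field K]

/-- `U ∩ E` -/
abbrev SE (K : Type u) [Field K] : Subgroup ↥(twistedE6 K 2) :=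
  (chevE6.posUnipotent K).subgroupOf (twistedE6 K 2)

/-- `U_J ∩ E` -/
abbrev RE (K : Type u) [Field K] : Subgroup ↥(twistedE6 K 2) := (UR K Jn).subgroupOf (twistedE6 K 2)

theorem conj_T {x : ↥(twistedE6 K 2)} (h : x ∈ rootClass K) (g : ↥(twistedE6 K 2)) :
    g * x * g⁻¹ ∈ rootClass K := by
  obtain ⟨k, r, hr, rfl⟩ := h
  exact ⟨g * k, r, hr, by group⟩

section Comm

variable [CharP K 2]

/-- `[z_42(a), x_65(1)]` -/
theorem comm42_65 (φ : K →+* K) (a : K) :
    z φ 42 a * x 65 1 = x 65 1 * z φ 42 a * (z φ 68 a * x 69 (a * φ a)) := by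
  show x 42 a * x 37 (φ a) * x 65 1 = x 65 1 * (x 42 a * x 37 (φ a)) * (x 68 a * x 66 (φ a) * x 69 (a * φ a))
  have c1 : x 37 (φ a) * x 65 1 = x 65 1 * x 37 (φ a) * x 66 (1 * φ a) :=
    comm_single (r := 65) (s := 37) (k := 66) (c := (chevE6.commTerms 65 37).head!.2.1) (by norm_num) (by norm_num)
      (by norm_num) (by decide +kernel) (by decide +kernel) (by decide +kernel) 1 (φ a)
  have c2 : x 42 a * x 65 1 = x 65 1 * x 42 a * x 68 (1 * a) :=
    comm_single (r := 65) (s := 42) (k := 68) (c := (chevE6.commTerms 65 42).head!.2.1) (by norm_num) (by norm_num)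
      (by norm_num) (by decide +kernel) (by decide +kernel) (by decide +kernel) 1 a
  have c3 : x 37 (φ a) * x 68 a = x 68 a * x 37 (φ a) * x 69 (a * φ a) :=
    comm_single (r := 68) (s := 37) (k := 69) (c := (chevE6.commTerms 68 37).head!.2.1) (by norm_num) (by norm_num)
      (by norm_num) (by decide +kernel) (by decide +kernel) (by decide +kernel) a (φ a)
  have c4 : x 69 (a * φ a) * x 66 (φ a) = x 66 (φ a) * x 69 (a * φ a) :=
    comm_nil' (r := 66) (s := 69) (by norm_num) (by norm_num) (by decide +kernel) _ _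
  have c5 : x 69 (a * φ a) * x 69 (a * φ a) = (1 : GL chevE6.Idx K) := by
    rw [x_add, CharTwo.add_self_eq_zero, TwE6Basic.x_zero]
  have c6 : x 68 a * x 37 (φ a) = x 37 (φ a) * x 68 a * x 69 (a * φ a) := by
    rw [c3, mul_assoc, c5, mul_one]
  rw [one_mul] at c1 c2
  calc x 42 a * x 37 (φ a) * x 65 1 = x 42 a * (x 37 (φ a) * x 65 1) := by rw [mul_assoc]
    _ = (x 42 a * x 65 1) * x 37 (φ a) * x 66 (φ a) := by rw [c1]; simp only [mul_assoc]
    _ = x 65 1 * x 42 a * (x 68 a * x 37 (φ a)) * x 66 (φ a) := by rw [c2]; simp only [mul_assoc]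
    _ = x 65 1 * x 42 a * (x 37 (φ a) * x 68 a) * (x 69 (a * φ a) * x 66 (φ a)) := by
        rw [c6]; simp only [mul_assoc]
    _ = _ := by rw [c4]; simp only [mul_assoc]

theorem comm46_70 : x 46 (1 : K) * x 70 1 = x 70 1 * x 46 1 * x 71 1 := by
  have h := comm_single (K := K) (r := 70) (s := 46) (k := 71) (c := (chevE6.commTerms 70 46).head!.2.1)
    (by norm_num) (by norm_num) (by norm_num) (by decide +kernel) (by decide +kernel) (by decide +kernel) 1 1
  rwa [mul_one] at h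

theorem conj46_70 : x 46 (1 : K) * x 70 1 * (x 46 1)⁻¹ = x 71 1 * x 70 1 := by
  have h1 : x 71 (1 : K) * x 46 1 = x 46 1 * x 71 1 := comm_top (r := (46 : Fin 72)) (by decide) 1 1
  rw [comm46_70, mul_assoc, mul_assoc, ← mul_assoc (x 46 1), ← h1, mul_inv_cancel_right, comm70]

end Comm

/-- words sending `68` to the nonfixed roots of `U_J` -/
def w68 : List (List (Fin 4)) :=
  [[], [2], [3], [3, 2], [2, 3], [2, 3, 2], [1, 2, 3], [1, 2, 3, 2], [2, 1, 2, 3], [2, 1, 2, 3, 2],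
    [3, 2, 1, 2, 3], [3, 2, 1, 2, 3, 2]]

theorem exists_w68 : ∀ r : Fin 72, 36 ≤ r.val → ¬ chevE6.InRootSub {j | j ∈ Jn} r.val → rho r ≠ r →
    ∃ w ∈ w68, wpm w 68 = r := by decide +kernel

theorem w68_ne : ∀ w ∈ w68, ∀ i ∈ w, i ≠ 0 := by decide +kernel

/-- commutators of root elements of `U_J` lie in the highest root group -/
theorem comm_UR_tab : ∀ r s : Fin 72, 36 ≤ r.val → 36 ≤ s.val → ¬ chevE6.InRootSub {j | j ∈ Jn} r.val →
    ¬ chevE6.InRootSub {j | j ∈ Jn} s.val → r = s ∨ (s.val ≠ chevE6.neg r.val ∧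
      (chevE6.commTerms r.val s.val = [] ∨ (r.val ≠ s.val ∧ ∃ c ∈ [(1 : ℤ), -1],
        chevE6.commTerms r.val s.val = [(71, c, 1, 1)]))) := by decide +kernel

section Comm2

variable [CharP K 2]

theorem comm_UR_gen {r s : Fin 72} (hr : 36 ≤ r.val) (hs : 36 ≤ s.val)
    (hr' : ¬ chevE6.InRootSub {j | j ∈ Jn} r.val) (hs' : ¬ chevE6.InRootSub {j | j ∈ Jn} s.val) (t u : K) :
    ⁅x r.val t, x s.val u⁆ ∈ chevE6.rootSubgroup K 71 := by
  rcases comm_UR_tab r s hr hs hr' hs' with rfl | ⟨hneg, h⟩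
  · have : x r.val t * x r.val u = x r.val u * x r.val t := by rw [x_add, x_add, add_comm]
    rw [commutatorElement_eq_one_iff_mul_comm.2 this]
    exact one_mem _
  · rcases h with h | ⟨hne, c, hc, h⟩
    · by_cases hrs : r = s
      · subst hrs
        have : x r.val t * x r.val u = x r.val u * x r.val t := by rw [x_add, x_add, add_comm]
        rw [commutatorElement_eq_one_iff_mul_comm.2 this]
        exact one_mem _
      · have := comm_of_commTerms (K := K) r.2 s.2 (fun h => hrs (Fin.ext h.symm)) hneg h t u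
        rw [commutatorElement_eq_one_iff_mul_comm.2 this.symm]
        exact one_mem _
    · have hc' : c = 1 ∨ c = -1 := by simpa using hc
      have e := comm_single (K := K) r.2 s.2 (fun h => hne h.symm) hneg hc' h t u
      have e2 : ⁅x s.val u, x r.val t⁆ ∈ chevE6.rootSubgroup K 71 := by
        have h1 : x 71 (t * u) * x r.val t = x r.val t * x 71 (t * u) := comm_top hr t (t * u)
        have h2 : x 71 (t * u) * x s.val u = x s.val u * x 71 (t * u) := comm_top hs u (t * u)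
        have h3 : ⁅x s.val u, x r.val t⁆ = x 71 (t * u) := by
          rw [commutatorElement_def, e, mul_inv_eq_iff_eq_mul, mul_inv_eq_iff_eq_mul, mul_assoc, mul_assoc,
            ← h2, ← mul_assoc, ← mul_assoc, h1]
        rw [h3]
        exact mem_X.2 ⟨_, rfl⟩
      rw [← commutatorElement_inv]
      exact inv_mem e2

theorem X71_comm {g h : GL chevE6.Idx K} (hg : g ∈ chevE6.posUnipotent K) (hh : h ∈ chevE6.rootSubgroup K 71) :
    g * h = h * g := by
  obtain ⟨u, rfl⟩ := mem_X.1 hh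
  exact U_comm_top hg u

/-- commutators of `U_J` lie in the highest root group -/
theorem comm_UR {g h : GL chevE6.Idx K} (hg : g ∈ UR K Jn) (hh : h ∈ UR K Jn) : ⁅g, h⁆ ∈ chevE6.rootSubgroup K 71 := by
  -- fixed second argument
  have step : ∀ y ∈ chevE6.posUnipotent K, (∀ r : Fin 72, 36 ≤ r.val → ¬ chevE6.InRootSub {j | j ∈ Jn} r.val →
      ∀ t : K, ⁅x r.val t, y⁆ ∈ chevE6.rootSubgroup K 71) → ∀ g ∈ UR K Jn, ⁅g, y⁆ ∈ chevE6.rootSubgroup K 71 := by
    intro y hy hgen g hg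
    let M : Subgroup (GL chevE6.Idx K) :=
      { carrier := {g | g ∈ chevE6.posUnipotent K ∧ ⁅g, y⁆ ∈ chevE6.rootSubgroup K 71}
        one_mem' := ⟨one_mem _, by rw [commutatorElement_one_left]; exact one_mem _⟩
        mul_mem' := by
          rintro a b ⟨ha, ha'⟩ ⟨hb, hb'⟩
          refine ⟨mul_mem ha hb, ?_⟩
          have e : ⁅a * b, y⁆ = a * ⁅b, y⁆ * a⁻¹ * ⁅a, y⁆ := by
            simp only [commutatorElement_def]; group
          rw [e, X71_comm ha hb', mul_inv_cancel_right]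
          exact mul_mem hb' ha'
        inv_mem' := by
          rintro a ⟨ha, ha'⟩
          refine ⟨inv_mem ha, ?_⟩
          have e : ⁅a⁻¹, y⁆ = a⁻¹ * ⁅a, y⁆⁻¹ * a := by
            simp only [commutatorElement_def]; group
          rw [e, X71_comm (inv_mem ha) (inv_mem ha'), inv_mul_cancel_right]
          exact inv_mem ha' }
    have h1 : UR K Jn ≤ M := UR_le fun r hr hr' t => ⟨mem_U hr t, hgen r hr hr' t⟩
    exact (h1 hg).2
  refine step h (UR_le_U hh) (fun r hr hr' t => ?_) g hg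
  rw [← commutatorElement_inv]
  refine inv_mem (step (x r.val t) (mem_U hr t) (fun s hs hs' u => comm_UR_gen hs hr hs' hr' u t) h hh)

end Comm2

section Four

variable [Fintype K] {φ : K →+* K} (F : Four K φ)
include F

/-- `x_r(1)` as an element of `E` -/
def xe (r : Fin 72) (hr : rho r = r) : ↥(twistedE6 K 2) := ⟨x r.val 1, x_mem_E F hr⟩

theorem xe_T (r : Fin 72) (hr : rho r = r) : xe F r hr ∈ rootClass K := by
  have := F.charP
  obtain ⟨w, -, hw⟩ := exists_fixW r hr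
  obtain ⟨w', -, hw'⟩ := exists_fixW 46 (by decide +kernel)
  have h1 := wn_conj (K := K) w 71 1
  have h2 := wn_conj (K := K) w' 71 1
  rw [hw] at h1
  rw [hw'] at h2
  refine ⟨we F w * (we F w')⁻¹, xe F 46 (by decide +kernel), coe_xG hE6 46 1, Subtype.ext ?_⟩
  show x r.val 1 = wn w * (wn w')⁻¹ * x (46 : Fin 72).val 1 * (wn w * (wn w')⁻¹)⁻¹
  rw [← h1, ← h2]
  group

theorem comm_r0 {y : ↥(twistedE6 K 2)} : y * r0 F = r0 F * y ↔ (y : GL chevE6.Idx K) ∈ PR K Jn := by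
  rw [← cent_top F y.2]
  exact ⟨fun h => congrArg Subtype.val h, fun h => Subtype.ext h⟩

theorem R_norm (y : ↥(twistedE6 K 2)) (hy : y * r0 F = r0 F * y) (q : ↥(twistedE6 K 2)) (hq : q ∈ RE K) :
    y * q * y⁻¹ ∈ RE K := by
  rw [Subgroup.mem_subgroupOf] at hq ⊢
  exact conj_UR ((comm_r0 F).1 hy) hq

theorem comm_RE {p q : ↥(twistedE6 K 2)} (hp : p ∈ RE K) (hq : q ∈ RE K) : p * q = q * p ∨ ⁅p, q⁆ = r0 F := by
  have := F.charP
  obtain ⟨u, hu⟩ := mem_X.1 (comm_UR (Subgroup.mem_subgroupOf.1 hp) (Subgroup.mem_subgroupOf.1 hq))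
  by_cases h0 : u = 0
  · left
    rw [h0, TwE6Basic.x_zero] at hu
    exact Subtype.ext (commutatorElement_eq_one_iff_mul_comm.1 hu)
  · right
    have h1 : x 71 u ∈ twistedE6 K 2 := by
      rw [← hu]; exact (⁅p, q⁆ : ↥(twistedE6 K 2)).2
    have h2 := eq_one_of_mem F (r := 71) (by decide +kernel) h0 h1
    refine Subtype.ext ?_
    show (⁅(p : GL chevE6.Idx K), (q : GL chevE6.Idx K)⁆ : GL chevE6.Idx K) = x 71 1
    rw [hu, h2]

theorem bc_mem : r0 F * xe F 70 (by decide +kernel) ∈ rootClass K := by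
  have := F.charP
  have h := conj_T (xe_T F 70 (by decide +kernel)) (xe F 46 (by decide +kernel))
  have e : xe F 46 (by decide +kernel) * xe F 70 (by decide +kernel) * (xe F 46 (by decide +kernel))⁻¹ =
      r0 F * xe F 70 (by decide +kernel) := Subtype.ext conj46_70
  rwa [e] at h

theorem R_non : ∃ p ∈ RE K, p ∈ rootClass K ∧ ∃ q ∈ RE K, q ∈ rootClass K ∧ ⁅p, q⁆ = r0 F := by
  have := F.charP
  have h46 : xe F 46 (by decide +kernel) ∈ RE K :=
    Subgroup.mem_subgroupOf.2 (x_mem_UR (r := 46) (by decide) (by decide +kernel) 1)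
  have h70 : xe F 70 (by decide +kernel) ∈ RE K :=
    Subgroup.mem_subgroupOf.2 (x_mem_UR (r := 70) (by decide) (by decide +kernel) 1)
  refine ⟨_, h46, xe_T F _ _, _, h70, xe_T F _ _, ?_⟩
  rcases comm_RE F h46 h70 with h | h
  · exfalso
    have h1 : x 46 (1 : K) * x 70 1 = x 70 1 * x 46 1 := congrArg Subtype.val h
    rw [comm46_70] at h1
    exact x_ne_one (K := K) (r := 71) (by norm_num) (mul_eq_left.1 h1)
  · exact h

theorem S_two : IsPGroup 2 ↥(SE K) :=
  (LeviE.isPGroup_U F).comap_of_injective _ (twistedE6 K 2).subtype_injective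

theorem card_SE : Nat.card ↥(SE K) = 2 ^ 36 := by
  have hU := Cfsg.Agent.S1086.result (K := K) (q := 2) (Nat.prime_two.isPrimePow) (by rw [F.card]; norm_num)
  rw [← hU]
  refine Nat.card_congr ⟨fun g => ⟨g.1.1, ⟨g.2, g.1.2⟩⟩, fun g => ⟨⟨g.1, g.2.2⟩, g.2.1⟩, fun g => rfl, fun g => rfl⟩

theorem S_odd : ¬ 2 ∣ (SE K).index := by
  have h1 := (SE K).card_mul_index
  rw [card_SE F, card_E F] at h1
  intro ⟨k, hk⟩
  rw [hk] at h1
  omega

/-- `L ∩ E` as a subgroup of the centraliser -/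
theorem decompE {y : ↥(twistedE6 K 2)} (hy : y * r0 F = r0 F * y) : ∃ q ∈ RE K, ∃ l ∈ LL K,
    ∃ hl : l ∈ twistedE6 K 2, y = q * ⟨l, hl⟩ := by
  obtain ⟨u, hu, huE, l, hl, hlE, e⟩ := F.decomp stable_Jn ((comm_r0 F).1 hy) y.2
  exact ⟨⟨u, huE⟩, Subgroup.mem_subgroupOf.2 hu, l, Subgroup.mem_inf.2 ⟨hl, hlE⟩, hlE, Subtype.ext e⟩

theorem LL_r0 {l : ↥(twistedE6 K 2)} (hl : (l : GL chevE6.Idx K) ∈ LL K) : l * r0 F = r0 F * l :=
  (comm_r0 F).2 (LR_le_PR (Subgroup.mem_inf.1 hl).1)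

omit [Fintype K] F in
theorem le_normalizer {G : Type*} [Group G] {N R : Subgroup G} (h : ∀ y ∈ N, ∀ q ∈ R, y * q * y⁻¹ ∈ R) :
    N ≤ Subgroup.normalizer (R : Set G) := by
  intro y hy
  rw [Subgroup.mem_normalizer_iff]
  intro q
  refine ⟨fun hq => h y hy q hq, fun hq => ?_⟩
  have h1 := h y⁻¹ (inv_mem hy) _ hq
  have e : y⁻¹ * (y * q * y⁻¹) * y⁻¹⁻¹ = q := by group
  rwa [e] at h1

/-- the embedding of the Levi subgroup -/
def io (K : Type u) [Field K] : ↥(LL K) →* ↥(twistedE6 K 2) := Subgroup.inclusion inf_le_right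

theorem not_two_LL : ¬ IsPGroup 2 ↥(LL K) := by
  intro h
  have : Finite ↥(twistedE6 K 2) := finite_E
  have : Finite ↥(LL K) := Finite.of_injective (io K) (Subgroup.inclusion_injective _)
  obtain ⟨n, hn⟩ := IsPGroup.iff_card.1 h
  rw [card_levi F] at hn
  have h3 : 3 ∣ 2 ^ n := by rw [← hn]; norm_num
  have := Nat.prime_three.dvd_of_dvd_pow h3
  omega

/-- `R` is the largest normal 2-subgroup of `C_E(b)`. -/
theorem R_max (N : Subgroup ↥(twistedE6 K 2)) (hN : ∀ p ∈ N, p * r0 F = r0 F * p) (h2 : IsPGroup 2 ↥N)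
    (hn : ∀ y, y * r0 F = r0 F * y → ∀ p ∈ N, y * p * y⁻¹ ∈ N) : N ≤ RE K := by
  have hR2 : IsPGroup 2 ↥(RE K) := (S_two F).to_le fun q hq => UR_le_U hq
  have hP : IsPGroup 2 ↥(N ⊔ RE K) :=
    h2.to_sup_of_normal_right' hR2 (le_normalizer fun y hy q hq => R_norm F y (hN y hy) q hq)
  have hM2 : IsPGroup 2 ↥((N ⊔ RE K).comap (io K)) := hP.comap_of_injective _ (Subgroup.inclusion_injective _)
  have hnorm : ∀ l : ↥(LL K), ∀ p ∈ N ⊔ RE K, io K l * p * (io K l)⁻¹ ∈ N ⊔ RE K := by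
    intro l p hp
    have hl := LL_r0 F (l := io K l) l.2
    have h1 : (N ⊔ RE K).map (MulAut.conj (io K l)).toMonoidHom ≤ N ⊔ RE K := by
      rw [Subgroup.map_sup]
      refine sup_le_sup ?_ ?_
      · rintro _ ⟨p, hp, rfl⟩
        exact hn _ hl p hp
      · rintro _ ⟨p, hp, rfl⟩
        exact R_norm F _ hl p hp
    exact h1 ⟨p, hp, rfl⟩
  have hMn : ((N ⊔ RE K).comap (io K)).Normal := ⟨fun p hp l => by
    rw [Subgroup.mem_comap] at hp ⊢
    rw [map_mul, map_mul, map_inv]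
    exact hnorm l _ hp⟩
  obtain ⟨hs, -⟩ := simple_LL F
  rcases hs.eq_bot_or_eq_top_of_normal _ hMn with h | h
  · intro p hp
    obtain ⟨q, hq, l, hl, hlE, e⟩ := decompE F (hN p hp)
    have h1 : (⟨l, hl⟩ : ↥(LL K)) ∈ (N ⊔ RE K).comap (io K) := by
      rw [Subgroup.mem_comap]
      have e1 : io K ⟨l, hl⟩ = q⁻¹ * p := by rw [e, inv_mul_cancel_left]; rfl
      rw [e1]
      exact mul_mem (inv_mem (Subgroup.mem_sup_right hq)) (Subgroup.mem_sup_left hp)
    rw [h, Subgroup.mem_bot] at h1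
    have h2 : (⟨l, hlE⟩ : ↥(twistedE6 K 2)) = 1 := 
      Subtype.ext (show l = 1 from congrArg Subtype.val h1)
    rw [e, h2, mul_one]
    exact hq
  · exfalso
    rw [h] at hM2
    exact not_two_LL F (hM2.of_equiv Subgroup.topEquiv)

/-- the subgroup of `GL` generated by the root involutions in `R` -/
def RG (K : Type u) [Field K] : Subgroup (GL chevE6.Idx K) :=
  (Subgroup.closure ((RE K : Set ↥(twistedE6 K 2)) ∩ rootClass K)).map (twistedE6 K 2).subtype

theorem mem_RG {p : ↥(twistedE6 K 2)} (h : p ∈ RE K) (h' : p ∈ rootClass K) : (p : GL chevE6.Idx K) ∈ RG K :=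
  ⟨p, Subgroup.subset_closure ⟨h, h'⟩, rfl⟩

theorem RG_conj {y : ↥(twistedE6 K 2)} (hy : y * r0 F = r0 F * y) {m : GL chevE6.Idx K} (hm : m ∈ RG K) :
    (y : GL chevE6.Idx K) * m * (y : GL chevE6.Idx K)⁻¹ ∈ RG K := by
  obtain ⟨p, hp, rfl⟩ := hm
  have h1 : (Subgroup.closure ((RE K : Set ↥(twistedE6 K 2)) ∩ rootClass K)).map (MulAut.conj y).toMonoidHom ≤
      Subgroup.closure ((RE K : Set ↥(twistedE6 K 2)) ∩ rootClass K) := by
    rw [MonoidHom.map_closure, Subgroup.closure_le]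
    rintro _ ⟨q, ⟨hq, hq'⟩, rfl⟩
    exact Subgroup.subset_closure ⟨R_norm F y hy q hq, conj_T hq' y⟩
  exact ⟨y * p * y⁻¹, h1 ⟨p, hp, rfl⟩, rfl⟩

theorem x_mem_RG {r : Fin 72} (hr : 36 ≤ r.val) (hr' : ¬ chevE6.InRootSub {j | j ∈ Jn} r.val) (hrr : rho r = r) :
    x r.val (1 : K) ∈ RG K :=
  mem_RG F (p := xe F r hrr) (Subgroup.mem_subgroupOf.2 (x_mem_UR hr hr' 1)) (xe_T F r hrr)

theorem x_mem_RG' {r : Fin 72} (hr : 36 ≤ r.val) (hr' : ¬ chevE6.InRootSub {j | j ∈ Jn} r.val) (hrr : rho r = r)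
    {t : K} (ht : φ t = t) : x r.val t ∈ RG K := by
  rcases zero_or_one F ht with h | h
  · rw [h, TwE6Basic.x_zero]; exact one_mem _
  · rw [h]; exact x_mem_RG F hr hr' hrr

theorem z68_mem (t : K) : z φ 68 t ∈ RG K := by
  have := F.charP
  have h65 := x_mem_RG F (r := 65) (by decide) (by decide +kernel) (by decide +kernel)
  have h42 : z φ 42 t ∈ LL K := z_mem_LL F (by decide +kernel) (by decide +kernel) t
  have hy := LL_r0 F (l := (⟨z φ 42 t, (Subgroup.mem_inf.1 h42).2⟩ : ↥(twistedE6 K 2))) h42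
  have hy' : (⟨z φ 42 t, (Subgroup.mem_inf.1 h42).2⟩ : ↥(twistedE6 K 2))⁻¹ * r0 F =
      r0 F * (⟨z φ 42 t, (Subgroup.mem_inf.1 h42).2⟩ : ↥(twistedE6 K 2))⁻¹ := by
    rw [inv_mul_eq_iff_eq_mul, ← mul_assoc, hy, mul_inv_cancel_right]
  have h1 := RG_conj F hy' (inv_mem h65)
  have h69 : x 69 (t * φ t) ∈ RG K :=
    x_mem_RG' F (r := 69) (by decide) (by decide +kernel) (by decide +kernel) (by rw [map_mul, F.inv, mul_comm])
  have e := comm42_65 φ t
  have e2 : z φ 68 t * x 69 (t * φ t) = (z φ 42 t)⁻¹ * (x 65 1)⁻¹ * z φ 42 t * x 65 1 := by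
    rw [mul_assoc, e]; group
  have h2 : z φ 68 t * x 69 (t * φ t) ∈ RG K := by
    rw [e2]
    refine mul_mem ?_ h65
    have e3 : ((⟨z φ 42 t, (Subgroup.mem_inf.1 h42).2⟩ : ↥(twistedE6 K 2))⁻¹ : GL chevE6.Idx K) * (x 65 1)⁻¹ *
        ((⟨z φ 42 t, (Subgroup.mem_inf.1 h42).2⟩ : ↥(twistedE6 K 2))⁻¹ : GL chevE6.Idx K)⁻¹ =
        (z φ 42 t)⁻¹ * (x 65 1)⁻¹ * z φ 42 t := by
      rw [inv_inv]
    rw [← e3]
    exact h1
  exact (Subgroup.mul_mem_cancel_right _ h69).1 h2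

theorem z_mem_RG {r : Fin 72} (hr : 36 ≤ r.val) (hr' : ¬ chevE6.InRootSub {j | j ∈ Jn} r.val) (hrr : rho r ≠ r)
    (t : K) : z φ r t ∈ RG K := by
  have := F.charP
  obtain ⟨w, hw, rfl⟩ := exists_w68 r hr hr' hrr
  rw [← wn_conj_z]
  have hy : we F w * r0 F = r0 F * we F w := Subtype.ext (wn_top F w (w68_ne w hw))
  exact RG_conj F hy (z68_mem F t)

/-- `R` is generated by root involutions. -/
theorem R_gen : RE K ≤ Subgroup.closure ((RE K : Set ↥(twistedE6 K 2)) ∩ rootClass K) := by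
  have := F.charP
  intro q hq
  have hn : LL K ≤ Subgroup.normalizer (RG K : Set (GL chevE6.Idx K)) :=
    le_normalizer fun y hy m hm =>
      RG_conj F (y := ⟨y, (Subgroup.mem_inf.1 hy).2⟩) (LL_r0 F (l := ⟨y, (Subgroup.mem_inf.1 hy).2⟩) hy) hm
  have h1 : ((RG K ⊔ LL K : Subgroup _) : Set (GL chevE6.Idx K)) =
      (RG K : Set (GL chevE6.Idx K)) * (LL K : Set (GL chevE6.Idx K)) :=
    Subgroup.coe_mul_of_right_le_normalizer_left _ _ hn
  have h2 : (q : GL chevE6.Idx K) ∈ RG K ⊔ LL K := by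
    refine U_E_le F (fun o ho => ?_) (UR_le_U (Subgroup.mem_subgroupOf.1 hq)) q.2
    rcases L_levi o ho with h | h
    · refine rel_le F ho (fun r hr hr' => ?_) (fun r hr hr' t => ?_)
      · exact Subgroup.mem_sup_right (x_mem_LL F (h _ hr) hr')
      · exact Subgroup.mem_sup_right (z_mem_LL F (h _ hr) hr' t)
    · refine rel_le F ho (fun r hr hr' => ?_) (fun r hr hr' t => ?_)
      · exact Subgroup.mem_sup_left (x_mem_RG F (L_pos o ho _ hr).2 (h _ hr) hr')
      · exact Subgroup.mem_sup_left (z_mem_RG F (L_pos o ho _ hr).2 (h _ hr) hr' t)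
  have h3 : (q : GL chevE6.Idx K) ∈ ((RG K ⊔ LL K : Subgroup _) : Set (GL chevE6.Idx K)) := h2
  rw [h1] at h3
  obtain ⟨m, hm, l, hl, e⟩ := h3
  obtain ⟨p, hp, rfl⟩ := hm
  have hpR : p ∈ RE K := (Subgroup.closure_le _).2 (fun _ h => h.1) hp
  have e1 : (p : GL chevE6.Idx K) * l = q := e
  have h4 : l = 1 := by
    refine UR_inf_LR (J := Jn) ?_ (Subgroup.mem_inf.1 hl).1
    have e2 : l = (p : GL chevE6.Idx K)⁻¹ * q := by rw [← e1, inv_mul_cancel_left]
    rw [e2]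
    exact mul_mem (inv_mem (Subgroup.mem_subgroupOf.1 hpR)) (Subgroup.mem_subgroupOf.1 hq)
  have h5 : q = p := Subtype.ext (by rw [← e1, h4, mul_one])
  rw [h5]
  exact hp

theorem S_cent (q : ↥(twistedE6 K 2)) (hq : q ∈ SE K) : q * r0 F = r0 F * q :=
  Subtype.ext (U_comm_top (Subgroup.mem_subgroupOf.1 hq) 1)

theorem a_S : xe F 60 (by decide +kernel) ∈ SE K := Subgroup.mem_subgroupOf.2 (mem_U (r := 60) (by decide) 1)

theorem c_R : xe F 70 (by decide +kernel) ∈ RE K :=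
  Subgroup.mem_subgroupOf.2 (x_mem_UR (r := 70) (by decide) (by decide +kernel) 1)

theorem a_R : xe F 60 (by decide +kernel) ∉ RE K := fun h =>
  x_ne_one (K := K) (r := 60) (by norm_num)
    (UR_inf_LR (J := Jn) (Subgroup.mem_subgroupOf.1 h) (x_mem_LR (by decide +kernel) 1))

theorem ab : xe F 60 (by decide +kernel) * r0 F = r0 F * xe F 60 (by decide +kernel) := S_cent F _ (a_S F)

theorem a_ne : xe F 60 (by decide +kernel) ≠ r0 F := fun h =>
  x_ne (K := K) (r := 60) (s := 71) (by norm_num) (by norm_num) (by norm_num) (congrArg Subtype.val h)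

theorem R_le : RE K ≤ SE K := fun _ hq => UR_le_U hq

end Four

end Cfsg.Agent.TwoESix.FlagH
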