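import Cfsg.Agent.TwoESix.FlagH

/-!
# ²E₆(2): the flag `b, c, a` (`c_fix`, `a_fix`, `ab_not`)
-/

set_option autoImplicit false
set_option linter.unusedSectionVars false

namespace Cfsg.Agent.TwoESix.FlagI

open Cfsg.Lie
open Cfsg.Agent.ChevalleyStructure
open Cfsg.Agent.ChevalleyStructure.Elts hiding x_add x_zero x_eq_one_iff
open Cfsg.Agent.ChevalleyStructure.TwE6Basic
open Cfsg.Agent.ChevalleyStructure.TwE6BN
open Cfsg.Agent.TwoESix.LeviA
open Cfsg.Agent.TwoESix.LeviB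
open Cfsg.Agent.TwoESix.LeviC
open Cfsg.Agent.TwoESix.LeviD
open Cfsg.Agent.TwoESix.LongPairs
open Cfsg.Agent.TwoESix.LongCard
open Cfsg.Agent.TwoESix.FlagH
open Cfsg.Agent.BabyU (rootClass)

open scoped commutatorElement Pointwise

universe u

variable {K : Type u} [Field K]

/-- root elements of positive roots against `x_70` -/
theorem tab70 : ∀ r : Fin 72, 36 ≤ r.val → r.val = 70 ∨ (70 ≠ r.val ∧ 70 ≠ chevE6.neg r.val ∧
    (chevE6.commTerms r.val 70 = [] ∨ (r.val = 46 ∧ ∃ c ∈ [(1 : ℤ), -1],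
      chevE6.commTerms r.val 70 = [(71, c, 1, 1)]))) := by decide +kernel

section Two

variable [CharP K 2]

/-- the elements of `U` whose commutator with `y ∈ U` is in the highest root group -/
def CM (y : GL chevE6.Idx K) : Subgroup (GL chevE6.Idx K) where
  carrier := {g | g ∈ chevE6.posUnipotent K ∧ ⁅g, y⁆ ∈ chevE6.rootSubgroup K 71}
  one_mem' := ⟨one_mem _, by rw [commutatorElement_one_left]; exact one_mem _⟩
  mul_mem' := by
    rintro a b ⟨ha, ha'⟩ ⟨hb, hb'⟩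
    refine ⟨mul_mem ha hb, ?_⟩
    have e : ⁅a * b, y⁆ = a * ⁅b, y⁆ * a⁻¹ * ⁅a, y⁆ := by
      simp only [commutatorElement_def]; group
    rw [e, X71_comm ha hb', mul_inv_cancel_right]
    exact mul_mem hb' ha'
  inv_mem' := by
    rintro a ⟨ha, ha'⟩
    refine ⟨inv_mem ha, ?_⟩
    have e : ⁅a⁻¹, y⁆ = a⁻¹ * ⁅a, y⁆⁻¹ * a := by
      simp only [commutatorElement_def]; group
    rw [e, X71_comm (inv_mem ha) (inv_mem ha'), inv_mul_cancel_right]
    exact inv_mem ha'

theorem comm70_U {g : GL chevE6.Idx K} (hg : g ∈ chevE6.posUnipotent K) :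
    ⁅g, x 70 (1 : K)⁆ ∈ chevE6.rootSubgroup K 71 := by
  have key : chevE6.posUnipotent K ≤ CM (x 70 (1 : K)) := by
    rw [posUnipotent_le_iff hE6]
    intro r hr t
    have hlt : r < 72 := hr.1
    have h36 := (pos_iff ⟨r, hlt⟩).1 hr
    have hU : x r t ∈ chevE6.posUnipotent K := mem_U (r := ⟨r, hlt⟩) h36 t
    refine ⟨hU, ?_⟩
    show ⁅x r t, x 70 (1 : K)⁆ ∈ _
    rcases tab70 ⟨r, hlt⟩ h36 with h | ⟨h1, h2, h3 | ⟨h3, c, hc, h4⟩⟩
    · have h' : r = 70 := h
      have : x r t * x 70 (1 : K) = x 70 1 * x r t := by rw [h', x_add, x_add, add_comm]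
      rw [commutatorElement_eq_one_iff_mul_comm.2 this]
      exact one_mem _
    · have := comm_of_commTerms (K := K) hlt (by norm_num) h1 h2 h3 t 1
      rw [commutatorElement_eq_one_iff_mul_comm.2 this.symm]
      exact one_mem _
    · have hc' : c = 1 ∨ c = -1 := by simpa using hc
      have e := comm_single (K := K) hlt (by norm_num) h1 h2 hc' h4 t 1
      have e2 : ⁅x 70 (1 : K), x r t⁆ = x 71 (t * 1) := by
        have k1 : x 71 (t * 1) * x r t = x r t * x 71 (t * 1) := comm_top (r := ⟨r, hlt⟩) h36 t (t * 1)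
        have k2 : x 71 (t * 1) * x 70 (1 : K) = x 70 1 * x 71 (t * 1) := comm_top (r := 70) (by decide) 1 (t * 1)
        rw [commutatorElement_def, e, mul_inv_eq_iff_eq_mul, mul_inv_eq_iff_eq_mul, mul_assoc, mul_assoc,
          ← k2, ← mul_assoc, ← mul_assoc, k1]
      rw [← commutatorElement_inv, e2]
      exact inv_mem (mem_X.2 ⟨_, rfl⟩)
  exact (key hg).2

end Two

section Four

variable [Fintype K] {φ : K →+* K} (F : Four K φ)
include F

/-- elements of the highest root group in `E` -/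
theorem X71_E {g : ↥(twistedE6 K 2)} (h : (g : GL chevE6.Idx K) ∈ chevE6.rootSubgroup K 71) :
    g = 1 ∨ g = r0 F := by
  obtain ⟨u, hu⟩ := mem_X.1 h
  by_cases h0 : u = 0
  · left
    rw [h0, TwE6Basic.x_zero] at hu
    exact Subtype.ext hu
  · right
    have h1 : x 71 u ∈ twistedE6 K 2 := by rw [← hu]; exact g.2
    refine Subtype.ext ?_
    rw [hu, eq_one_of_mem F (r := 71) (by decide +kernel) h0 h1]
    rfl

theorem c_fix (y : ↥(twistedE6 K 2)) (hy : y ∈ SE K) :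
    y * xe F 70 (by decide +kernel) * y⁻¹ = xe F 70 (by decide +kernel) ∨
      y * xe F 70 (by decide +kernel) * y⁻¹ = r0 F * xe F 70 (by decide +kernel) := by
  have := F.charP
  generalize hc : xe F 70 (by decide +kernel) = c
  have h : ((⁅y, c⁆ : ↥(twistedE6 K 2)) : GL chevE6.Idx K) ∈ chevE6.rootSubgroup K 71 := by
    rw [← hc]
    exact comm70_U (Subgroup.mem_subgroupOf.1 hy)
  have e : y * c * y⁻¹ = ⁅y, c⁆ * c := by rw [commutatorElement_def]; group
  rw [e]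
  rcases X71_E F h with h | h
  · left; rw [h, one_mul]
  · right; rw [h]

theorem a_fix (y : ↥(twistedE6 K 2)) (hy : y ∈ SE K) :
    y * xe F 60 (by decide +kernel) * y⁻¹ * (xe F 60 (by decide +kernel))⁻¹ ∈ RE K := by
  have hb := S_cent F y hy
  have ha := ab F
  have haS := a_S F
  have hcom : ∀ l : ↥(twistedE6 K 2), (l : GL chevE6.Idx K) ∈ LL K → l ∈ SE K →
      l * xe F 60 (by decide +kernel) = xe F 60 (by decide +kernel) * l := fun l hl hl' =>
    Subtype.ext (LeviE.U_comm60 (Subgroup.mem_subgroupOf.1 hl') (Subgroup.mem_inf.1 hl).1)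
  generalize xe F 60 (by decide +kernel) = a at ha haS hcom ⊢
  obtain ⟨q, hq, l, hl, hlE, rfl⟩ := decompE F hb
  have hlS : (⟨l, hlE⟩ : ↥(twistedE6 K 2)) ∈ SE K := (Subgroup.mul_mem_cancel_left _ (R_le F hq)).1 hy
  have h1 := hcom _ hl hlS
  have e : q * ⟨l, hlE⟩ * a * (q * ⟨l, hlE⟩)⁻¹ * a⁻¹ = q * (a * q⁻¹ * a⁻¹) := by
    calc q * ⟨l, hlE⟩ * a * (q * ⟨l, hlE⟩)⁻¹ * a⁻¹ = q * (⟨l, hlE⟩ * a) * (q * ⟨l, hlE⟩)⁻¹ * a⁻¹ := by group
      _ = _ := by rw [h1]; group
  rw [e]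
  exact mul_mem hq (R_norm F a ha _ (inv_mem hq))

/-- the order of a product of two root involutions -/
theorem order_T {r s : ↥(twistedE6 K 2)} (hr : r ∈ rootClass K) (hs : s ∈ rootClass K) :
    (r * s) ^ 4 = 1 ∨ (r * s) ^ 3 = 1 := by
  have := F.charP
  obtain ⟨g0, -, hg0⟩ : ∃ g : ↥(twistedE6 K 2), g ∈ (⊤ : Subgroup _) ∧ ∀ r ∈ rootClass K,
      ∃ k, k * r0 F * k⁻¹ = r := by
    obtain ⟨w', -, hw'⟩ := exists_fixW 46 (by decide +kernel)
    refine ⟨1, trivial, ?_⟩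
    rintro _ ⟨k, r, hr, rfl⟩
    refine ⟨k * we F w', Subtype.ext ?_⟩
    have h2 := wn_conj (K := K) w' 71 1
    rw [hw'] at h2
    have h3 : (r : GL chevE6.Idx K) = x 46 1 := Units.ext (hr.trans (coe_xG hE6 46 1).symm)
    show (k : GL chevE6.Idx K) * wn w' * x 71 1 * ((k : GL chevE6.Idx K) * wn w')⁻¹ =
      (k : GL chevE6.Idx K) * (r : GL chevE6.Idx K) * (k : GL chevE6.Idx K)⁻¹
    rw [h3]
    have h4 : wn w' * x 71 (1 : K) * (wn w')⁻¹ = x 46 1 := h2
    rw [← h4]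
    group
  obtain ⟨g, rfl⟩ := hg0 r hr
  obtain ⟨h, rfl⟩ := hg0 s hs
  obtain ⟨b, hb, h1, γ, hγ, h2⟩ := pair_general F g.2 h.2
  have key : (x 71 (1 : K) * x γ 1) ^ 4 = 1 ∨ (x 71 (1 : K) * x γ 1) ^ 3 = 1 := by
    simp only [List.mem_cons, List.not_mem_nil, or_false] at hγ
    have h71 := x_sq (K := K) 71
    rcases hγ with rfl | rfl | rfl | rfl | rfl
    · left; rw [h71, one_pow]
    · left
      have e : (x 71 (1 : K) * x 70 1) ^ 2 = 1 := by
        rw [pow_two]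
        calc x 71 (1 : K) * x 70 1 * (x 71 1 * x 70 1) = x 71 1 * (x 70 1 * x 71 1) * x 70 1 := by group
          _ = (x 71 1 * x 71 1) * (x 70 1 * x 70 1) := by rw [← comm70]; group
          _ = 1 := by rw [h71, x_sq, one_mul]
      rw [show 4 = 2 * 2 from rfl, pow_mul, e, one_pow]
    · left
      have e : (x 71 (1 : K) * x 60 1) ^ 2 = 1 := by
        rw [pow_two]
        calc x 71 (1 : K) * x 60 1 * (x 71 1 * x 60 1) = x 71 1 * (x 60 1 * x 71 1) * x 60 1 := by group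
          _ = (x 71 1 * x 71 1) * (x 60 1 * x 60 1) := by rw [← comm60]; group
          _ = 1 := by rw [h71, x_sq, one_mul]
      rw [show 4 = 2 * 2 from rfl, pow_mul, e, one_pow]
    · left
      rw [show 4 = 2 * 2 from rfl, pow_mul, sq25, pow_two, x_sq]
    · right; exact cube0
  have e : ∀ n : ℕ, (x 71 (1 : K) * x γ 1) ^ n = 1 →
      ((g * r0 F * g⁻¹) * (h * r0 F * h⁻¹)) ^ n = 1 := by
    intro n hn
    apply Subtype.ext
    show ((g : GL chevE6.Idx K) * x 71 1 * (g : GL chevE6.Idx K)⁻¹ *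
      ((h : GL chevE6.Idx K) * x 71 1 * (h : GL chevE6.Idx K)⁻¹)) ^ n = 1
    rw [← h1, ← h2] at hn
    generalize (g : GL chevE6.Idx K) * x 71 1 * (g : GL chevE6.Idx K)⁻¹ = A at hn ⊢
    generalize (h : GL chevE6.Idx K) * x 71 1 * (h : GL chevE6.Idx K)⁻¹ = B at hn ⊢
    have e1 : b * A * b⁻¹ * (b * B * b⁻¹) = b * (A * B) * b⁻¹ := by group
    rw [e1, conj_pow, mul_inv_eq_one] at hn
    exact mul_eq_left.1 hn
  rcases key with h | h
  · exact Or.inl (e 4 h)
  · exact Or.inr (e 3 h)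

theorem ab_not : xe F 60 (by decide +kernel) * r0 F ∉ rootClass K := by
  have := F.charP
  intro hT
  have h0 : xe F 0 (by decide +kernel) ∈ rootClass K := xe_T F 0 _
  have c60 : x 60 (1 : K) * x 0 1 = x 0 1 * x 60 1 :=
    comm_of_commTerms (K := K) (r := 0) (s := 60) (by norm_num) (by norm_num) (by decide) (by decide +kernel)
      (by decide +kernel) 1 1
  have h3 := cube0 (K := K)
  have ne1 : x 60 (1 : K) ≠ 1 := x_ne_one (by norm_num)
  have ne2 : x 71 (1 : K) * x 0 1 ≠ 1 := by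
    intro h
    have h1 : x 71 (1 : K) = x 0 1 := by
      rw [mul_eq_one_iff_eq_inv] at h
      rw [h, inv_eq_iff_mul_eq_one, x_sq]
    exact x_ne (K := K) (by norm_num) (by norm_num) (by norm_num) h1
  have e : ∀ n : ℕ, (x 60 (1 : K) * x 71 1 * x 0 1) ^ n = x 60 1 ^ n * (x 71 1 * x 0 1) ^ n := by
    intro n
    have hc : Commute (x 60 (1 : K)) (x 71 1 * x 0 1) := Commute.mul_right (comm60.symm) c60
    rw [mul_assoc, hc.mul_pow]
  rcases order_T F hT h0 with h | h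
  · have h' : (x 60 (1 : K) * x 71 1 * x 0 1) ^ 4 = 1 := congrArg Subtype.val h
    rw [e, show 4 = 3 + 1 from rfl, pow_succ (x 71 (1 : K) * x 0 1), h3, one_mul,
      show 3 + 1 = 2 * 2 from rfl, pow_mul, pow_two (x 60 (1 : K)), x_sq, one_pow, one_mul] at h'
    exact ne2 h'
  · have h' : (x 60 (1 : K) * x 71 1 * x 0 1) ^ 3 = 1 := congrArg Subtype.val h
    rw [e, h3, mul_one, pow_succ, pow_two, x_sq, one_mul] at h'
    exact ne1 h'

end Four

end Cfsg.Agent.TwoESix.FlagI
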