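import Cfsg.Agent.TwoESix.FlagI

/-!
# ²E₆(2): the flag `b, c, a` (coordinates of the unipotent radical)

Every element of `U_J` is `Π x_r(t_r) · x_71(v)`; the commutator with `x_q(u)` is `x_71(t_p u)`, `p = 71 - q`.
-/

set_option autoImplicit false
set_option linter.unusedSectionVars false

namespace Cfsg.Agent.TwoESix.FlagK

open Cfsg.Lie
open Cfsg.Agent.ChevalleyStructure
open Cfsg.Agent.ChevalleyStructure.Elts hiding x_add x_zero x_eq_one_iff
open Cfsg.Agent.ChevalleyStructure.TwE6Basic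
open Cfsg.Agent.ChevalleyStructure.TwE6BN
open Cfsg.Agent.TwoESix.LeviA
open Cfsg.Agent.TwoESix.LeviB
open Cfsg.Agent.TwoESix.LeviC
open Cfsg.Agent.TwoESix.LeviD
open Cfsg.Agent.TwoESix.LongPairs
open Cfsg.Agent.TwoESix.LongCard
open Cfsg.Agent.TwoESix.FlagH
open Cfsg.Agent.TwoESix.FlagI
open Cfsg.Agent.BabyU (rootClass)

open scoped commutatorElement Pointwise

universe u

variable {K : Type u} [Field K]

/-- the roots of `U_J` different from the highest one -/
def l20 : List (Fin 72) := [46, 47, 48, 49, 50, 51, 52, 53, 54, 55, 61, 62, 63, 64, 65, 66, 67, 68, 69, 70]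

/-- the complement with respect to the highest root -/
def pt (q : Fin 72) : Fin 72 := ((l20.find? fun r => chevE6.commTerms r.val q.val != []).getD 71)

theorem mem_l20 : ∀ r : Fin 72, 36 ≤ r.val → ¬ chevE6.InRootSub {j | j ∈ Jn} r.val → r = 71 ∨ r ∈ l20 := by
  decide +kernel

theorem l20_mem : ∀ r ∈ l20, 36 ≤ r.val ∧ ¬ chevE6.InRootSub {j | j ∈ Jn} r.val ∧ r ≠ 71 := by decide +kernel

theorem nodup_l20 : l20.Nodup := by decide

/-- the commutator table -/
theorem pt_tab : ∀ r ∈ l20, ∀ q ∈ l20, q.val ≠ chevE6.neg r.val ∧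
    ((r = pt q ∧ r.val ≠ q.val ∧ ∃ c ∈ [(1 : ℤ), -1], chevE6.commTerms r.val q.val = [(71, c, 1, 1)]) ∨
      (r ≠ pt q ∧ (r = q ∨ chevE6.commTerms r.val q.val = []))) := by decide +kernel

theorem pt_mem : ∀ q ∈ l20, pt q ∈ l20 ∧ pt (pt q) = q ∧ pt (rho q) = rho (pt q) ∧ rho q ∈ l20 := by decide +kernel

section Two

variable [CharP K 2]

theorem comm_mem_X {a b y : GL chevE6.Idx K} (ha : a ∈ chevE6.posUnipotent K)
    (hb' : ⁅b, y⁆ ∈ chevE6.rootSubgroup K 71) : ⁅a * b, y⁆ = ⁅b, y⁆ * ⁅a, y⁆ := by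
  have e : ⁅a * b, y⁆ = a * ⁅b, y⁆ * a⁻¹ * ⁅a, y⁆ := by
    simp only [commutatorElement_def]; group
  rw [e, X71_comm ha hb', mul_inv_cancel_right]

/-- the basic commutators -/
theorem comm_x {r q : Fin 72} (hr : r ∈ l20) (hq : q ∈ l20) (t u : K) :
    ⁅x r.val t, x q.val u⁆ = x 71 (if r = pt q then t * u else 0) := by
  obtain ⟨hneg, ⟨h1, h2, c, hc, h3⟩ | ⟨h1, h2⟩⟩ := pt_tab r hr q hq
  · have hc' : c = 1 ∨ c = -1 := by simpa using hc
    have e := comm_single (K := K) r.2 q.2 (fun h => h2 h.symm) hneg hc' h3 t u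
    have k1 : x 71 (t * u) * x r.val t = x r.val t * x 71 (t * u) := comm_top (l20_mem r hr).1 t (t * u)
    have k2 : x 71 (t * u) * x q.val u = x q.val u * x 71 (t * u) := comm_top (l20_mem q hq).1 u (t * u)
    have e2 : ⁅x q.val u, x r.val t⁆ = x 71 (t * u) := by
      rw [commutatorElement_def, e, mul_inv_eq_iff_eq_mul, mul_inv_eq_iff_eq_mul, mul_assoc, mul_assoc,
        ← k2, ← mul_assoc, ← mul_assoc, k1]
    rw [if_pos h1, ← commutatorElement_inv, e2, x_inv, LeviA.neg_eq_self]
  · rw [if_neg h1, TwE6Basic.x_zero, commutatorElement_eq_one_iff_mul_comm]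
    rcases h2 with rfl | h2
    · rw [x_add, x_add, add_comm]
    · by_cases hrq : r = q
      · rw [hrq, x_add, x_add, add_comm]
      · exact (comm_of_commTerms (K := K) r.2 q.2 (fun h => hrq (Fin.ext h.symm)) hneg h2 t u).symm

/-- products of root elements -/
def lp (t : Fin 72 → K) (L : List (Fin 72)) : GL chevE6.Idx K := (L.map fun r => x r.val (t r)).prod

theorem lp_nil (t : Fin 72 → K) : lp t [] = 1 := rfl

theorem lp_cons (t : Fin 72 → K) (r : Fin 72) (L : List (Fin 72)) : lp t (r :: L) = x r.val (t r) * lp t L := by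
  unfold lp; rw [List.map_cons, List.prod_cons]

theorem lp_mem_U (t : Fin 72 → K) (L : List (Fin 72)) (hL : ∀ r ∈ L, r ∈ l20) :
    lp t L ∈ UR K Jn := by
  induction L with
  | nil => exact one_mem _
  | cons r L ih =>
    rw [lp_cons]
    obtain ⟨h1, h2, -⟩ := l20_mem r (hL r List.mem_cons_self)
    exact mul_mem (x_mem_UR h1 h2 _) (ih fun s hs => hL s (List.mem_cons_of_mem _ hs))

/-- The pairing in coordinates. -/
theorem comm_lp (t : Fin 72 → K) (L : List (Fin 72)) (hL : ∀ r ∈ L, r ∈ l20) (hn : L.Nodup) {q : Fin 72}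
    (hq : q ∈ l20) (u : K) : ⁅lp t L, x q.val u⁆ = x 71 (if pt q ∈ L then t (pt q) * u else 0) := by
  induction L with
  | nil =>
    rw [lp_nil, commutatorElement_one_left, if_neg List.not_mem_nil, TwE6Basic.x_zero]
  | cons r L ih =>
    have hL' : ∀ s ∈ L, s ∈ l20 := fun s hs => hL s (List.mem_cons_of_mem _ hs)
    obtain ⟨h1, h2, -⟩ := l20_mem r (hL r List.mem_cons_self)
    have ih' := ih hL' (List.nodup_cons.1 hn).2
    rw [lp_cons, comm_mem_X (mem_U h1 _) (by rw [ih']; exact mem_X.2 ⟨_, rfl⟩), ih',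
      comm_x (hL r List.mem_cons_self) hq, x_add]
    congr 1
    by_cases hp : r = pt q
    · rw [if_pos hp, if_neg (fun h => (List.nodup_cons.1 hn).1 (hp ▸ h)), zero_add,
        if_pos (hp ▸ List.mem_cons_self), hp]
    · rw [if_neg hp, add_zero]
      by_cases hp' : pt q ∈ L
      · rw [if_pos hp', if_pos (List.mem_cons_of_mem _ hp')]
      · rw [if_neg hp', if_neg]
        rintro h
        rcases List.mem_cons.1 h with h | h
        · exact hp h.symm
        · exact hp' h

/-- product of two products -/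
theorem lp_mul (t t' : Fin 72 → K) (L : List (Fin 72)) (hL : ∀ r ∈ L, r ∈ l20) :
    ∃ v, lp t L * lp t' L = lp (t + t') L * x 71 v := by
  induction L with
  | nil => exact ⟨0, by rw [lp_nil, lp_nil, lp_nil, TwE6Basic.x_zero]⟩
  | cons r L ih =>
    have hL' : ∀ s ∈ L, s ∈ l20 := fun s hs => hL s (List.mem_cons_of_mem _ hs)
    obtain ⟨h1, h2, -⟩ := l20_mem r (hL r List.mem_cons_self)
    obtain ⟨v, hv⟩ := ih hL'
    obtain ⟨v', hv'⟩ := mem_X.1 (comm_UR (lp_mem_U t L hL') (x_mem_UR h1 h2 (t' r)))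
    refine ⟨v' + v, ?_⟩
    rw [lp_cons, lp_cons, lp_cons]
    have e : lp t L * x r.val (t' r) = x 71 v' * x r.val (t' r) * lp t L := by
      rw [← hv', commutatorElement_def]; group
    have k1 : x 71 v' * x r.val (t' r) = x r.val (t' r) * x 71 v' := comm_top h1 _ _
    have k2 : x 71 v' * lp (t + t') L = lp (t + t') L * x 71 v' :=
      (U_comm_top (UR_le_U (lp_mem_U _ L hL')) v').symm
    calc x r.val (t r) * lp t L * (x r.val (t' r) * lp t' L)
        = x r.val (t r) * (lp t L * x r.val (t' r)) * lp t' L := by group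
      _ = x r.val (t r) * (x r.val (t' r) * x 71 v') * (lp t L * lp t' L) := by rw [e, k1]; group
      _ = (x r.val (t r) * x r.val (t' r)) * (x 71 v' * lp (t + t') L) * x 71 v := by rw [hv]; group
      _ = x r.val (t r + t' r) * (lp (t + t') L * (x 71 v' * x 71 v)) := by rw [k2, x_add]; group
      _ = _ := by rw [x_add, ← mul_assoc]; rfl

theorem lp_zero (L : List (Fin 72)) : lp (0 : Fin 72 → K) L = 1 := by
  induction L with
  | nil => rfl
  | cons r L ih => rw [lp_cons, ih, Pi.zero_apply, TwE6Basic.x_zero, one_mul]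

theorem lp_single (r : Fin 72) (t : K) (L : List (Fin 72)) (hn : L.Nodup) :
    lp (fun s => if s = r then t else 0) L = if r ∈ L then x r.val t else 1 := by
  induction L with
  | nil => rw [lp_nil, if_neg List.not_mem_nil]
  | cons s L ih =>
    rw [lp_cons, ih (List.nodup_cons.1 hn).2]
    by_cases h : s = r
    · subst h
      rw [if_pos rfl, if_neg (List.nodup_cons.1 hn).1, mul_one, if_pos List.mem_cons_self]
    · rw [if_neg h, TwE6Basic.x_zero, one_mul]
      by_cases h' : r ∈ L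
      · rw [if_pos h', if_pos (List.mem_cons_of_mem _ h')]
      · rw [if_neg h', if_neg]
        intro h2
        rcases List.mem_cons.1 h2 with h2 | h2
        · exact h h2.symm
        · exact h' h2

/-- **Coordinates.** -/
theorem coords {g : GL chevE6.Idx K} (hg : g ∈ UR K Jn) : ∃ (t : Fin 72 → K) (v : K), g = lp t l20 * x 71 v := by
  let M : Subgroup (GL chevE6.Idx K) :=
    { carrier := {g | ∃ (t : Fin 72 → K) (v : K), g = lp t l20 * x 71 v}
      one_mem' := ⟨0, 0, by rw [lp_zero, TwE6Basic.x_zero, one_mul]⟩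
      mul_mem' := by
        rintro _ _ ⟨t, v, rfl⟩ ⟨t', v', rfl⟩
        obtain ⟨v'', h⟩ := lp_mul t t' l20 (fun _ h => h)
        refine ⟨t + t', v'' + (v + v'), ?_⟩
        have k : lp t' l20 * x 71 v = x 71 v * lp t' l20 :=
          U_comm_top (UR_le_U (lp_mem_U _ _ fun _ h => h)) v
        calc lp t l20 * x 71 v * (lp t' l20 * x 71 v') = lp t l20 * (x 71 v * lp t' l20) * x 71 v' := by group
          _ = (lp t l20 * lp t' l20) * (x 71 v * x 71 v') := by rw [← k]; group
          _ = _ := by rw [h, x_add, mul_assoc, x_add]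
      inv_mem' := by
        rintro _ ⟨t, v, rfl⟩
        obtain ⟨v', h⟩ := lp_mul t t l20 (fun _ h => h)
        have h0 : t + t = 0 := by ext r; exact CharTwo.add_self_eq_zero _
        rw [h0, lp_zero, one_mul] at h
        have k : ∀ w : K, lp t l20 * x 71 w = x 71 w * lp t l20 := fun w =>
          U_comm_top (UR_le_U (lp_mem_U _ _ fun _ h => h)) w
        refine ⟨t, v + v', ?_⟩
        rw [inv_eq_iff_mul_eq_one, ← x_add]
        calc lp t l20 * x 71 v * (lp t l20 * (x 71 v * x 71 v'))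
            = lp t l20 * (x 71 v * lp t l20) * (x 71 v * x 71 v') := by group
          _ = (lp t l20 * lp t l20) * (x 71 v * x 71 v * x 71 v') := by rw [← k]; group
          _ = _ := by
            rw [h, x_add, CharTwo.add_self_eq_zero, TwE6Basic.x_zero, one_mul, x_add,
              CharTwo.add_self_eq_zero, TwE6Basic.x_zero] }
  have h1 : UR K Jn ≤ M := UR_le fun r hr hr' t => by
    rcases mem_l20 r hr hr' with rfl | h
    · exact ⟨0, t, by rw [lp_zero, one_mul]; rfl⟩
    · refine ⟨fun s => if s = r then t else 0, 0, ?_⟩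
      rw [lp_single r t l20 nodup_l20, if_pos h, TwE6Basic.x_zero, mul_one]
  exact h1 hg

/-- the pairing with a root element -/
theorem comm_coords (t : Fin 72 → K) (v : K) {q : Fin 72} (hq : q ∈ l20) (u : K) :
    ⁅lp t l20 * x 71 v, x q.val u⁆ = x 71 (t (pt q) * u) := by
  obtain ⟨h1, h2, -⟩ := l20_mem q hq
  have h3 : ⁅x 71 v, x q.val u⁆ = 1 := by
    rw [commutatorElement_eq_one_iff_mul_comm]
    exact comm_top h1 u v
  rw [comm_mem_X (UR_le_U (lp_mem_U _ _ fun _ h => h)) (by rw [h3]; exact one_mem _), h3, one_mul,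
    comm_lp t l20 (fun _ h => h) nodup_l20 hq, if_pos (pt_mem q hq).1]

theorem x71_eq {u u' : K} (h : x 71 u = x 71 u') : u = u' := by
  have h1 : x 71 (u + u') = (1 : GL chevE6.Idx K) := by
    rw [← x_add, h, x_add, CharTwo.add_self_eq_zero, TwE6Basic.x_zero]
  have h2 := (x_eq_one_iff (by norm_num) _).1 h1
  have h3 : u = -u' := eq_neg_of_add_eq_zero_left h2
  rw [h3, LeviA.neg_eq_self]

theorem zero_of_comm {t : Fin 72 → K} {v : K} {q : Fin 72} (hq : q ∈ l20)
    (h : lp t l20 * x 71 v * x q.val 1 = x q.val 1 * (lp t l20 * x 71 v)) : t (pt q) = 0 := by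
  have h1 := comm_coords t v hq 1
  rw [commutatorElement_eq_one_iff_mul_comm.2 h, mul_one] at h1
  exact (x_eq_one_iff (by norm_num) _).1 h1.symm

end Two

end Cfsg.Agent.TwoESix.FlagK
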