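import Cfsg.Agent.TwoESix.FlagK

/-!
# ²E₆(2): the flag `b, c, a` (commutators with the root elements of the Levi subgroup, `c_uni`)
-/

set_option autoImplicit false
set_option linter.unusedSectionVars false

namespace Cfsg.Agent.TwoESix.FlagL

open Cfsg.Lie
open Cfsg.Agent.ChevalleyStructure
open Cfsg.Agent.ChevalleyStructure.Elts hiding x_add x_zero x_eq_one_iff
open Cfsg.Agent.ChevalleyStructure.TwE6Basic
open Cfsg.Agent.ChevalleyStructure.TwE6BN
open Cfsg.Agent.TwoESix.LeviA
open Cfsg.Agent.TwoESix.LeviB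
open Cfsg.Agent.TwoESix.LeviC
open Cfsg.Agent.TwoESix.LeviD
open Cfsg.Agent.TwoESix.LongPairs
open Cfsg.Agent.TwoESix.LongCard
open Cfsg.Agent.TwoESix.FlagH
open Cfsg.Agent.TwoESix.FlagI
open Cfsg.Agent.TwoESix.FlagK
open Cfsg.Agent.BabyU (rootClass)

open scoped commutatorElement Pointwise

universe u

variable {K : Type u} [Field K]

/-- `x_r` and `x_s` have the commutator `x_k` -/
def Si (r s k : Fin 72) : Prop := s.val ≠ r.val ∧ s.val ≠ chevE6.neg r.val ∧
  ((chevE6.commTerms r.val s.val = [(k.val, 1, 1, 1)]) ∨ (chevE6.commTerms r.val s.val = [(k.val, -1, 1, 1)]))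

/-- `x_r` and `x_s` commute -/
def Co (r s : Fin 72) : Prop := s.val ≠ r.val ∧ s.val ≠ chevE6.neg r.val ∧ chevE6.commTerms r.val s.val = []

instance (r s k : Fin 72) : Decidable (Si r s k) := by unfold Si; infer_instance
instance (r s : Fin 72) : Decidable (Co r s) := by unfold Co; infer_instance

section Two

variable [CharP K 2]

theorem Si.eq {r s k : Fin 72} (h : Si r s k) (t u : K) :
    x s.val u * x r.val t = x r.val t * x s.val u * x k.val (t * u) := by
  obtain ⟨h1, h2, h3 | h3⟩ := h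
  · exact comm_single r.2 s.2 h1 h2 (Or.inl rfl) h3 t u
  · exact comm_single r.2 s.2 h1 h2 (Or.inr rfl) h3 t u

omit [CharP K 2] in
theorem Co.eq {r s : Fin 72} (h : Co r s) (t u : K) : x s.val u * x r.val t = x r.val t * x s.val u :=
  comm_of_commTerms r.2 s.2 h.1 h.2.1 h.2.2 t u

/-- long root by long root -/
theorem comm_xx {s r k : Fin 72} (h : Si r s k) : x s.val (1 : K) * x r.val 1 = x r.val 1 * x s.val 1 * x k.val 1 := by
  have := h.eq (K := K) 1 1
  rwa [mul_one] at this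

/-- short root by long root -/
def ZX (s r k m : Fin 72) : Prop := Si r (rho s) (rho k) ∧ Si r s k ∧ Si k (rho s) m ∧ Co (rho k) m

instance (s r k m : Fin 72) : Decidable (ZX s r k m) := by unfold ZX; infer_instance

theorem comm_zx {s r k m : Fin 72} (h : ZX s r k m) (φ : K →+* K) (a : K) :
    z φ s a * x r.val 1 = x r.val 1 * z φ s a * (z φ k a * x m.val (a * φ a)) := by
  obtain ⟨h1, h2, h3, h4⟩ := h
  show x s.val a * x (rho s).val (φ a) * x r.val 1 = x r.val 1 * (x s.val a * x (rho s).val (φ a)) *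
    (x k.val a * x (rho k).val (φ a) * x m.val (a * φ a))
  have c1 := h1.eq (K := K) 1 (φ a)
  have c2 := h2.eq (K := K) 1 a
  have c3 := h3.eq (K := K) a (φ a)
  have c4 := h4.eq (K := K) (φ a) (a * φ a)
  have c5 : x m.val (a * φ a) * x m.val (a * φ a) = (1 : GL chevE6.Idx K) := by
    rw [x_add, CharTwo.add_self_eq_zero, TwE6Basic.x_zero]
  have c6 : x k.val a * x (rho s).val (φ a) = x (rho s).val (φ a) * x k.val a * x m.val (a * φ a) := by
    rw [c3, mul_assoc, c5, mul_one]
  rw [one_mul] at c1 c2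
  calc x s.val a * x (rho s).val (φ a) * x r.val 1 = x s.val a * (x (rho s).val (φ a) * x r.val 1) := by rw [mul_assoc]
    _ = (x s.val a * x r.val 1) * x (rho s).val (φ a) * x (rho k).val (φ a) := by rw [c1]; simp only [mul_assoc]
    _ = x r.val 1 * x s.val a * (x k.val a * x (rho s).val (φ a)) * x (rho k).val (φ a) := by
        rw [c2]; simp only [mul_assoc]
    _ = x r.val 1 * x s.val a * (x (rho s).val (φ a) * x k.val a) * (x m.val (a * φ a) * x (rho k).val (φ a)) := by
        rw [c6]; simp only [mul_assoc]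
    _ = _ := by rw [c4]; simp only [mul_assoc]

/-- short root by short root, long result -/
def ZZ (s k m : Fin 72) : Prop := Si k (rho s) m ∧ Si (rho k) s m ∧ Co k s ∧ Co (rho k) (rho s) ∧ Co (rho k) m ∧
  Co (rho s) m

instance (s k m : Fin 72) : Decidable (ZZ s k m) := by unfold ZZ; infer_instance

theorem comm_zz {s k m : Fin 72} (h : ZZ s k m) (φ : K →+* K) (a b : K) :
    z φ s a * z φ k b = z φ k b * z φ s a * x m.val (φ b * a + b * φ a) := by
  obtain ⟨h1, h2, h3, h4, h5, h6⟩ := h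
  show x s.val a * x (rho s).val (φ a) * (x k.val b * x (rho k).val (φ b)) =
    x k.val b * x (rho k).val (φ b) * (x s.val a * x (rho s).val (φ a)) * x m.val (φ b * a + b * φ a)
  have c1 := h1.eq (K := K) b (φ a)
  have c2 := h2.eq (K := K) (φ b) a
  have c3 := h3.eq (K := K) b a
  have c4 := h4.eq (K := K) (φ b) (φ a)
  have c5 := h5.eq (K := K) (φ b) (b * φ a)
  have c6 := h6.eq (K := K) (φ a) (φ b * a)
  calc x s.val a * x (rho s).val (φ a) * (x k.val b * x (rho k).val (φ b))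
      = x s.val a * (x (rho s).val (φ a) * x k.val b) * x (rho k).val (φ b) := by simp only [mul_assoc]
    _ = (x s.val a * x k.val b) * x (rho s).val (φ a) * (x m.val (b * φ a) * x (rho k).val (φ b)) := by
        rw [c1]; simp only [mul_assoc]
    _ = x k.val b * x s.val a * (x (rho s).val (φ a) * x (rho k).val (φ b)) * x m.val (b * φ a) := by
        rw [c3, c5]; simp only [mul_assoc]
    _ = x k.val b * (x s.val a * x (rho k).val (φ b)) * x (rho s).val (φ a) * x m.val (b * φ a) := by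
        rw [c4]; simp only [mul_assoc]
    _ = x k.val b * x (rho k).val (φ b) * x s.val a * (x m.val (φ b * a) * x (rho s).val (φ a)) *
          x m.val (b * φ a) := by rw [c2]; simp only [mul_assoc]
    _ = x k.val b * x (rho k).val (φ b) * x s.val a * x (rho s).val (φ a) *
          (x m.val (φ b * a) * x m.val (b * φ a)) := by rw [c6]; simp only [mul_assoc]
    _ = _ := by rw [x_add]; simp only [mul_assoc]

/-- short root by short root, short result -/
def ZS (s k m : Fin 72) : Prop := Si k s m ∧ Si (rho k) (rho s) (rho m) ∧ Co k (rho s) ∧ Co (rho k) s ∧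
  Co (rho k) m ∧ Co (rho s) m ∧ Co m (rho m)

instance (s k m : Fin 72) : Decidable (ZS s k m) := by unfold ZS; infer_instance

theorem comm_zs {s k m : Fin 72} (h : ZS s k m) (φ : K →+* K) (a b : K) :
    z φ s a * z φ k b = z φ k b * z φ s a * z φ m (b * a) := by
  obtain ⟨h1, h2, h3, h4, h5, h6, h7⟩ := h
  show x s.val a * x (rho s).val (φ a) * (x k.val b * x (rho k).val (φ b)) =
    x k.val b * x (rho k).val (φ b) * (x s.val a * x (rho s).val (φ a)) *
      (x m.val (b * a) * x (rho m).val (φ (b * a)))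
  have c1 := h1.eq (K := K) b a
  have c2 := h2.eq (K := K) (φ b) (φ a)
  have c3 := h3.eq (K := K) b (φ a)
  have c4 := h4.eq (K := K) (φ b) a
  have c5 := h5.eq (K := K) (φ b) (b * a)
  have c6 := h6.eq (K := K) (φ a) (b * a)
  calc x s.val a * x (rho s).val (φ a) * (x k.val b * x (rho k).val (φ b))
      = x s.val a * (x (rho s).val (φ a) * x k.val b) * x (rho k).val (φ b) := by simp only [mul_assoc]
    _ = (x s.val a * x k.val b) * x (rho s).val (φ a) * x (rho k).val (φ b) := by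
        rw [c3]; simp only [mul_assoc]
    _ = x k.val b * x s.val a * x m.val (b * a) * (x (rho s).val (φ a) * x (rho k).val (φ b)) := by
        rw [c1]; simp only [mul_assoc]
    _ = x k.val b * x s.val a * (x m.val (b * a) * x (rho k).val (φ b)) * x (rho s).val (φ a) *
          x (rho m).val (φ b * φ a) := by rw [c2]; simp only [mul_assoc]
    _ = x k.val b * (x s.val a * x (rho k).val (φ b)) * (x m.val (b * a) * x (rho s).val (φ a)) *
          x (rho m).val (φ b * φ a) := by rw [c5]; simp only [mul_assoc]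
    _ = _ := by rw [c4, c6, map_mul]; simp only [mul_assoc]

/-- long root by short root -/
def XZ (s k m : Fin 72) : Prop := Si k s m ∧ Si (rho k) s (rho m) ∧ Si (rho k) m 71 ∧ Co m (rho m)

instance (s k m : Fin 72) : Decidable (XZ s k m) := by unfold XZ; infer_instance

theorem comm_xz {s k m : Fin 72} (h : XZ s k m) (φ : K →+* K) (b : K) :
    x s.val 1 * z φ k b = z φ k b * x s.val 1 * (z φ m b * x 71 (φ b * b)) := by
  obtain ⟨h1, h2, h3, h4⟩ := h
  show x s.val 1 * (x k.val b * x (rho k).val (φ b)) = x k.val b * x (rho k).val (φ b) * x s.val 1 *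
      (x m.val b * x (rho m).val (φ b) * x 71 (φ b * b))
  have c1 := h1.eq (K := K) b 1
  have c2 := h2.eq (K := K) (φ b) 1
  have c3 : x m.val b * x (rho k).val (φ b) = x (rho k).val (φ b) * x m.val b * x 71 (φ b * b) :=
    h3.eq (K := K) (φ b) b
  have c4 := h4.eq (K := K) b (φ b)
  rw [mul_one] at c1 c2
  calc x s.val 1 * (x k.val b * x (rho k).val (φ b)) = (x s.val 1 * x k.val b) * x (rho k).val (φ b) := by
        simp only [mul_assoc]
    _ = x k.val b * x s.val 1 * (x m.val b * x (rho k).val (φ b)) := by rw [c1]; simp only [mul_assoc]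
    _ = x k.val b * (x s.val 1 * x (rho k).val (φ b)) * x m.val b * x 71 (φ b * b) := by
        rw [c3]; simp only [mul_assoc]
    _ = x k.val b * x (rho k).val (φ b) * x s.val 1 * (x (rho m).val (φ b) * x m.val b) * x 71 (φ b * b) := by
        rw [c2]; simp only [mul_assoc]
    _ = _ := by rw [c4]; simp only [mul_assoc]

end Two

/-! ### The tables -/

theorem t1 : Si 46 39 47 ∧ Si 51 39 53 ∧ Si 63 39 65 ∧ Si 69 39 70 := by decide +kernel
theorem t2 : ZX 42 47 50 51 ∧ ZX 56 51 62 63 ∧ ZX 56 53 64 65 ∧ ZX 42 65 68 69 := by decide +kernel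
theorem t3 : ZZ 42 50 51 ∧ ZZ 56 62 63 ∧ ZZ 56 64 65 ∧ ZZ 42 68 69 := by decide +kernel
theorem t4 : ZS 56 50 61 ∧ ZS 42 64 67 ∧ ZS 37 61 62 := by decide +kernel
theorem t5 : XZ 39 62 64 := by decide +kernel

/-- the fixed and the nonfixed roots of the radical -/
theorem l20_fix : ∀ r ∈ l20, (rho r = r ∧ r.val ∈ [46, 47, 51, 53, 63, 65, 69, 70]) ∨
    (rho r ≠ r ∧ (r.val ∈ [50, 61, 62, 64, 67, 68] ∨ (rho r).val ∈ [50, 61, 62, 64, 67, 68])) := by decide +kernel

section Gen

variable {G : Type*} [Group G]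

/-- from `g h = h g w` to a commutator -/
theorem comm_eq {g h w : G} (e : g * h = h * g * w) : w = ⁅g⁻¹, h⁻¹⁆ := by
  rw [commutatorElement_def, inv_inv, inv_inv]
  have : w = (h * g)⁻¹ * (g * h) := by rw [e]; group
  rw [this]; group

theorem comm_bl {b y h : G} (h1 : b * y = y * b) (h2 : b * h = h * b) : ⁅b * y, h⁆ = ⁅y, h⁆ := by
  have h3 : b * (y * h * y⁻¹) = y * h * y⁻¹ * b := by
    have : Commute b (y * h * y⁻¹) := ((show Commute b y from h1).mul_right h2).mul_right
      (show Commute b y from h1).inv_right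
    exact this
  calc ⁅b * y, h⁆ = b * (y * h * y⁻¹) * b⁻¹ * h⁻¹ := by rw [commutatorElement_def]; group
    _ = _ := by rw [h3, mul_inv_cancel_right, commutatorElement_def]

theorem comm_br {b y h : G} (h1 : b * y = y * b) (h2 : b * h = h * b) : ⁅y, b * h⁆ = ⁅y, h⁆ := by
  rw [← commutatorElement_inv, comm_bl h2 h1, commutatorElement_inv]

/-- An element commuting modulo `b` with `y` and `h` commutes with `⁅y, h⁆`. -/
theorem comm_aux {b X y h : G} (hb : b * b = 1) (by' : b * y = y * b) (bh : b * h = h * b)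
    (h1 : y * X * y⁻¹ = X ∨ y * X * y⁻¹ = b * X) (h2 : h * X * h⁻¹ = X ∨ h * X * h⁻¹ = b * X) :
    ⁅y, h⁆ * X = X * ⁅y, h⁆ := by
  have key : ∀ g : G, b * g = g * b → (g * X * g⁻¹ = X ∨ g * X * g⁻¹ = b * X) →
      X * g * X⁻¹ = g ∨ X * g * X⁻¹ = b * g := by
    rintro g hg (h | h)
    · left
      rw [mul_inv_eq_iff_eq_mul] at h ⊢
      exact h.symm
    · right
      rw [mul_inv_eq_iff_eq_mul] at h ⊢
      calc X * g = b * (b * X * g) := by rw [← mul_assoc, ← mul_assoc, hb, one_mul]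
        _ = _ := by rw [← h, mul_assoc]
  have h3 : X * ⁅y, h⁆ * X⁻¹ = ⁅X * y * X⁻¹, X * h * X⁻¹⁆ := by
    simp only [commutatorElement_def]; group
  have h4 : X * ⁅y, h⁆ * X⁻¹ = ⁅y, h⁆ := by
    rw [h3]
    rcases key y by' h1 with e1 | e1 <;> rcases key h bh h2 with e2 | e2 <;> rw [e1, e2]
    · exact comm_br by' bh
    · exact comm_bl by' bh
    · have bh' : b * (b * h) = b * h * b := by rw [mul_assoc, ← bh]
      rw [comm_bl by' bh', comm_br by' bh]
  rw [mul_inv_eq_iff_eq_mul] at h4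
  exact h4.symm

end Gen

section Four

variable [Fintype K] {φ : K →+* K} (F : Four K φ)
include F

theorem z_mem_UE {r : Fin 72} (hr : r ∈ l20) (hrr : rho r ≠ r) (t : K) :
    z φ r t ∈ UR K Jn ∧ z φ r t ∈ twistedE6 K 2 := by
  obtain ⟨h1, h2, -⟩ := l20_mem r hr
  obtain ⟨p, hp, e⟩ := z_mem_RG F h1 h2 hrr t
  have hpR : p ∈ RE K := (Subgroup.closure_le _).2 (fun _ h => h.1) hp
  have e' : (p : GL chevE6.Idx K) = z φ r t := e
  rw [← e']
  exact ⟨Subgroup.mem_subgroupOf.1 hpR, p.2⟩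

theorem x_mem_UE {r : Fin 72} (hr : r ∈ l20) (hrr : rho r = r) :
    x r.val (1 : K) ∈ UR K Jn ∧ x r.val (1 : K) ∈ twistedE6 K 2 :=
  ⟨x_mem_UR (l20_mem r hr).1 (l20_mem r hr).2.1 1, x_mem_E F hrr⟩

/-- the values `a φ(a)` -/
theorem x_norm_mem {C : Subgroup (GL chevE6.Idx K)} {r : Fin 72} (h : x r.val (1 : K) ∈ C) {t : K} (ht : φ t = t) :
    x r.val t ∈ C := by
  rcases zero_or_one F ht with h0 | h0
  · rw [h0, TwE6Basic.x_zero]; exact one_mem _
  · rwa [h0]

theorem z_rho {r : Fin 72} (hr : r ∈ l20) (t : K) : z φ (rho r) t = z φ r (φ t) := by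
  have := F.charP
  show x (rho r).val t * x (rho (rho r)).val (φ t) = x r.val (φ t) * x (rho r).val (φ (φ t))
  rw [rho_rho, F.inv]
  by_cases hrr : rho r = r
  · rw [hrr, x_add, x_add, add_comm]
  · obtain ⟨h1, h2, -⟩ := l20_mem r hr
    have h3 : ∀ r ∈ l20, rho r ≠ r → Co r (rho r) := by decide +kernel
    exact (h3 r hr hrr).eq (φ t) t

/-- **Everything except `46` is a commutator.** -/
theorem der_top {C : Subgroup (GL chevE6.Idx K)}
    (hC : ∀ y ∈ LL K, y ∈ chevE6.posUnipotent K → ∀ h ∈ UR K Jn, h ∈ twistedE6 K 2 → ⁅y, h⁆ ∈ C) :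
    (∀ r ∈ l20, rho r = r → r ≠ 46 → x r.val (1 : K) ∈ C) ∧ (∀ r ∈ l20, rho r ≠ r → ∀ t : K, z φ r t ∈ C) := by
  have := F.charP
  obtain ⟨w, hw⟩ := exists_omega F
  have hcomm : ∀ {g h c : GL chevE6.Idx K}, g ∈ LL K → g ∈ chevE6.posUnipotent K → h ∈ UR K Jn →
      h ∈ twistedE6 K 2 → g * h = h * g * c → c ∈ C := by
    intro g h c hg hg' hh hh' e
    rw [comm_eq e]
    exact hC _ (inv_mem hg) (inv_mem hg') _ (inv_mem hh) (inv_mem hh')
  have u39 : x (39 : Fin 72).val (1 : K) ∈ LL K := x_mem_LL F (by decide +kernel) (by decide +kernel)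
  have v39 : x (39 : Fin 72).val (1 : K) ∈ chevE6.posUnipotent K := mem_U (by decide) 1
  have u42 : ∀ t, z φ 42 t ∈ LL K := fun t => z_mem_LL F (by decide +kernel) (by decide +kernel) t
  have v42 : ∀ t, z φ 42 t ∈ chevE6.posUnipotent K := fun t =>
    mul_mem (mem_U (by decide) t) (mem_U (by decide +kernel) _)
  have u56 : ∀ t, z φ 56 t ∈ LL K := fun t => z_mem_LL F (by decide +kernel) (by decide +kernel) t
  have v56 : ∀ t, z φ 56 t ∈ chevE6.posUnipotent K := fun t =>
    mul_mem (mem_U (by decide) t) (mem_U (by decide +kernel) _)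
  have X : ∀ r ∈ l20, rho r = r → x r.val (1 : K) ∈ UR K Jn ∧ x r.val (1 : K) ∈ twistedE6 K 2 :=
    fun r hr hrr => x_mem_UE F hr hrr
  have Z : ∀ r ∈ l20, rho r ≠ r → ∀ t : K, z φ r t ∈ UR K Jn ∧ z φ r t ∈ twistedE6 K 2 :=
    fun r hr hrr t => z_mem_UE F hr hrr t
  -- long by long
  have dx : ∀ r k : Fin 72, r ∈ l20 → rho r = r → Si r 39 k → x k.val (1 : K) ∈ C := fun r k hr hrr h =>
    hcomm u39 v39 (X r hr hrr).1 (X r hr hrr).2 (comm_xx h)
  have tr1 : φ w * 1 + w * φ 1 = 1 := by rw [map_one, mul_one, mul_one, add_comm, hw]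
  have dzz : ∀ k m : Fin 72, k ∈ l20 → rho k ≠ k → (ZZ 42 k m ∨ ZZ 56 k m) → x m.val (1 : K) ∈ C := by
    rintro k m hk hkk (h | h)
    · have := hcomm (u42 1) (v42 1) (Z k hk hkk w).1 (Z k hk hkk w).2 (comm_zz h φ 1 w)
      rwa [tr1] at this
    · have := hcomm (u56 1) (v56 1) (Z k hk hkk w).1 (Z k hk hkk w).2 (comm_zz h φ 1 w)
      rwa [tr1] at this
  have hN : ∀ a : K, φ (a * φ a) = a * φ a := fun a => by rw [map_mul, F.inv, mul_comm]
  have dzx : ∀ r k m : Fin 72, r ∈ l20 → rho r = r → (ZX 42 r k m ∨ ZX 56 r k m) → x m.val (1 : K) ∈ C →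
      ∀ t : K, z φ k t ∈ C := by
    rintro r k m hr hrr h hm t
    have h1 : z φ k t * x m.val (t * φ t) ∈ C := by
      rcases h with h | h
      · exact hcomm (u42 t) (v42 t) (X r hr hrr).1 (X r hr hrr).2 (comm_zx h φ t)
      · exact hcomm (u56 t) (v56 t) (X r hr hrr).1 (X r hr hrr).2 (comm_zx h φ t)
    exact (Subgroup.mul_mem_cancel_right _ (x_norm_mem F hm (hN t))).1 h1
  have dzs : ∀ k m : Fin 72, k ∈ l20 → rho k ≠ k → (ZS 42 k m ∨ ZS 56 k m) → ∀ t : K, z φ m t ∈ C := by
    rintro k m hk hkk h t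
    rcases h with h | h
    · have := hcomm (u42 t) (v42 t) (Z k hk hkk 1).1 (Z k hk hkk 1).2 (comm_zs h φ t 1)
      rwa [one_mul] at this
    · have := hcomm (u56 t) (v56 t) (Z k hk hkk 1).1 (Z k hk hkk 1).2 (comm_zs h φ t 1)
      rwa [one_mul] at this
  have x47 := dx 46 47 (by decide) (by decide +kernel) t1.1
  have x53 := dx 51 53 (by decide) (by decide +kernel) t1.2.1
  have x65 := dx 63 65 (by decide) (by decide +kernel) t1.2.2.1
  have x70 := dx 69 70 (by decide) (by decide +kernel) t1.2.2.2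
  have x51 := dzz 50 51 (by decide) (by decide +kernel) (Or.inl t3.1)
  have x63 := dzz 62 63 (by decide) (by decide +kernel) (Or.inr t3.2.1)
  have x69 := dzz 68 69 (by decide) (by decide +kernel) (Or.inl t3.2.2.2)
  have z50 := dzx 47 50 51 (by decide) (by decide +kernel) (Or.inl t2.1) x51
  have z62 := dzx 51 62 63 (by decide) (by decide +kernel) (Or.inr t2.2.1) x63
  have z68 := dzx 65 68 69 (by decide) (by decide +kernel) (Or.inl t2.2.2.2) x69
  have z61 := dzs 50 61 (by decide) (by decide +kernel) (Or.inr t4.1)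
  have z64 := dzx 53 64 65 (by decide) (by decide +kernel) (Or.inr t2.2.2.1) x65
  have z67 := dzs 64 67 (by decide) (by decide +kernel) (Or.inl t4.2.1)
  refine ⟨fun r hr hrr hne => ?_, fun r hr hrr t => ?_⟩
  · rcases l20_fix r hr with ⟨-, h⟩ | ⟨h, -⟩
    · simp only [List.mem_cons, List.not_mem_nil, or_false] at h
      rcases h with h | h | h | h | h | h | h | h <;> rw [h] <;> try assumption
      exact absurd (Fin.ext h) hne
    · exact absurd hrr h
  · have key : ∀ s ∈ l20, s.val ∈ [50, 61, 62, 64, 67, 68] → ∀ t : K, z φ s t ∈ C := by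
      intro s _ h t
      have h' : s = 50 ∨ s = 61 ∨ s = 62 ∨ s = 64 ∨ s = 67 ∨ s = 68 := by
        simp only [List.mem_cons, List.not_mem_nil, or_false] at h
        rcases h with h | h | h | h | h | h
        · exact Or.inl (Fin.ext h)
        · exact Or.inr (Or.inl (Fin.ext h))
        · exact Or.inr (Or.inr (Or.inl (Fin.ext h)))
        · exact Or.inr (Or.inr (Or.inr (Or.inl (Fin.ext h))))
        · exact Or.inr (Or.inr (Or.inr (Or.inr (Or.inl (Fin.ext h)))))
        · exact Or.inr (Or.inr (Or.inr (Or.inr (Or.inr (Fin.ext h)))))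
      rcases h' with rfl | rfl | rfl | rfl | rfl | rfl
      · exact z50 t
      · exact z61 t
      · exact z62 t
      · exact z64 t
      · exact z67 t
      · exact z68 t
    rcases l20_fix r hr with ⟨h, -⟩ | ⟨-, h | h⟩
    · exact absurd h hrr
    · exact key r hr h t
    · have h1 := key (rho r) (pt_mem r hr).2.2.2 h (φ t)
      rwa [z_rho F hr, F.inv] at h1

/-- the pairing with a short root element -/
theorem comm_coords_z (t : Fin 72 → K) (v : K) {q : Fin 72} (hq : q ∈ l20) (u : K) :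
    ⁅lp t l20 * x 71 v, z φ q u⁆ = x 71 (t (pt q) * u + t (pt (rho q)) * φ u) := by
  have := F.charP
  have h1 := comm_coords t v hq u
  have h2 := comm_coords t v (pt_mem q hq).2.2.2 (φ u)
  generalize lp t l20 * x 71 v = g at h1 h2 ⊢
  have e : ⁅g, z φ q u⁆ = ⁅g, x q.val u⁆ * (x q.val u * ⁅g, x (rho q).val (φ u)⁆ * (x q.val u)⁻¹) := by
    show ⁅g, x q.val u * x (rho q).val (φ u)⁆ = _
    simp only [commutatorElement_def]; group
  rw [e, h1, h2]
  have k : x q.val u * x 71 (t (pt (rho q)) * φ u) = x 71 (t (pt (rho q)) * φ u) * x q.val u :=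
    (comm_top (l20_mem q hq).1 _ _).symm
  rw [k, mul_inv_cancel_right, x_add]

theorem zero_of_comm_z {t : Fin 72 → K} {v : K} {q : Fin 72} (hq : q ∈ l20)
    (h : ∀ u : K, lp t l20 * x 71 v * z φ q u = z φ q u * (lp t l20 * x 71 v)) :
    t (pt q) = 0 ∧ t (pt (rho q)) = 0 := by
  have := F.charP
  have h1 : ∀ u : K, t (pt q) * u + t (pt (rho q)) * φ u = 0 := by
    intro u
    have h2 := comm_coords_z F t v hq u
    rw [commutatorElement_eq_one_iff_mul_comm.2 (h u)] at h2
    exact (x_eq_one_iff (by norm_num) _).1 h2.symm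
  obtain ⟨w, hw⟩ := exists_omega F
  have h2 := h1 1
  rw [map_one, mul_one, mul_one] at h2
  have h3 : t (pt q) = t (pt (rho q)) := by
    rw [eq_neg_of_add_eq_zero_left h2, LeviA.neg_eq_self]
  have h4 := h1 w
  rw [← h3, ← mul_add, hw, mul_one] at h4
  exact ⟨h4, by rw [← h3]; exact h4⟩

theorem lp_congr {t t' : Fin 72 → K} {L : List (Fin 72)} (h : ∀ r ∈ L, t r = t' r) : lp t L = lp t' L := by
  unfold FlagK.lp
  congr 1
  exact List.map_congr_left fun r hr => by rw [h r hr]

theorem only70 {t : Fin 72 → K} (h : ∀ r ∈ l20, r ≠ 70 → t r = 0) : lp t l20 = x 70 (t 70) := by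
  have := F.charP
  rw [lp_congr F (t' := fun s => if s = 70 then t 70 else 0), lp_single 70 (t 70) l20 nodup_l20,
    if_pos (by decide)]
  · rfl
  · intro r hr
    by_cases h70 : r = 70
    · rw [if_pos h70, h70]
    · rw [if_neg h70, h r hr h70]

/-- the coordinates of an element of `U_J ∩ E` commuting with all root elements except `46` -/
theorem zero_of_der {t : Fin 72 → K} {v : K}
    (h1 : ∀ r ∈ l20, rho r = r → r ≠ 46 → x r.val (1 : K) ∈ Subgroup.centralizer {lp t l20 * x 71 v})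
    (h2 : ∀ r ∈ l20, rho r ≠ r → ∀ u : K, z φ r u ∈ Subgroup.centralizer {lp t l20 * x 71 v}) :
    ∀ r ∈ l20, r ≠ 70 → t r = 0 := by
  have := F.charP
  intro r hr h70
  obtain ⟨h3, h4, h5, h6⟩ := pt_mem r hr
  have h46 : pt 46 = 70 := by decide +kernel
  by_cases hrr : rho (pt r) = pt r
  · have h7 := h1 (pt r) h3 hrr (fun h => h70 (by rw [← h4, h, h46]))
    have h8 := zero_of_comm (K := K) h3 (Subgroup.mem_centralizer_singleton_iff.1 h7).symm
    rwa [h4] at h8
  · have h8 := (zero_of_comm_z F (t := t) (v := v) h3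
      fun u => (Subgroup.mem_centralizer_singleton_iff.1 (h2 (pt r) h3 hrr u)).symm).1
    rwa [h4] at h8

theorem comm_GL {p q : ↥(twistedE6 K 2)} {g : GL chevE6.Idx K} (hp : (p : GL chevE6.Idx K) = g)
    (h : g * q = q * g) : p * q = q * p := Subtype.ext (by
  show (p : GL chevE6.Idx K) * q = q * p
  rw [hp, h])

/-- the fixed points of `S` on `R/⟨b⟩` -/
theorem c_uni (p : ↥(twistedE6 K 2)) (hp : p ∈ RE K) (h : ∀ y ∈ SE K, y * p * y⁻¹ = p ∨ y * p * y⁻¹ = r0 F * p) :
    p = 1 ∨ p = r0 F ∨ p = xe F 70 (by decide +kernel) ∨ p = r0 F * xe F 70 (by decide +kernel) := by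
  have := F.charP
  obtain ⟨t, v, e⟩ := coords (Subgroup.mem_subgroupOf.1 hp)
  have hb2 : r0 F * r0 F = 1 := Subtype.ext (x_sq (K := K) 71)
  have hC : ∀ y ∈ LL K, y ∈ chevE6.posUnipotent K → ∀ h ∈ UR K Jn, h ∈ twistedE6 K 2 →
      ⁅y, h⁆ ∈ Subgroup.centralizer {(p : GL chevE6.Idx K)} := by
    intro y hy hyU q hq hqE
    have hyE := (Subgroup.mem_inf.1 hy).2
    have hyS : (⟨y, hyE⟩ : ↥(twistedE6 K 2)) ∈ SE K := Subgroup.mem_subgroupOf.2 hyU
    have hqS : (⟨q, hqE⟩ : ↥(twistedE6 K 2)) ∈ SE K := Subgroup.mem_subgroupOf.2 (UR_le_U hq)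
    have h1 := comm_aux (b := r0 F) (X := p) hb2 (S_cent F _ hyS).symm (S_cent F _ hqS).symm (h _ hyS) (h _ hqS)
    rw [Subgroup.mem_centralizer_singleton_iff]
    exact congrArg Subtype.val h1
  obtain ⟨h1, h2⟩ := der_top F hC
  rw [e] at h1 h2
  have h3 := zero_of_der F h1 h2
  rw [only70 F h3] at e
  -- `p = x_70(t) x_71(v)`
  have h4 : ⁅(p : GL chevE6.Idx K), x 46 (1 : K)⁆ = x 71 (t 70) := by
    have h5 := comm_coords (K := K) t v (q := 46) (by decide) 1
    rw [only70 F h3, ← e, mul_one] at h5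
    exact h5
  have hE : x 71 (t 70) ∈ twistedE6 K 2 := by
    rw [← h4]
    exact (⁅p, xe F 46 (by decide +kernel)⁆ : ↥(twistedE6 K 2)).2
  have hX : ∀ q : ↥(twistedE6 K 2), (q : GL chevE6.Idx K) = x 71 v → q = 1 ∨ q = r0 F := fun q hq =>
    X71_E F (by rw [hq]; exact mem_X.2 ⟨_, rfl⟩)
  by_cases h0 : t 70 = 0
  · rw [h0, TwE6Basic.x_zero, one_mul] at e
    rcases hX p e with h6 | h6
    · exact Or.inl h6
    · exact Or.inr (Or.inl h6)
  · have h6 := eq_one_of_mem F (r := 71) (by decide +kernel) h0 hE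
    rw [h6] at e
    have h7 : (((xe F 70 (by decide +kernel))⁻¹ * p : ↥(twistedE6 K 2)) : GL chevE6.Idx K) = x 71 v := by
      show (x 70 (1 : K))⁻¹ * (p : GL chevE6.Idx K) = _
      rw [e, inv_mul_cancel_left]
    have hc := S_cent F _ (R_le F (c_R F))
    rcases hX _ h7 with h8 | h8
    · right; right; left
      exact (inv_mul_eq_one.1 h8).symm
    · right; right; right
      rw [← hc, ← h8, mul_inv_cancel_left]

end Four

end Cfsg.Agent.TwoESix.FlagL
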