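import Cfsg.Agent.TwoESix.FlagM

/-!
# ²E₆(2): the flag `b, c, a` (`a_van`)
-/

set_option autoImplicit false
set_option linter.unusedSectionVars false

namespace Cfsg.Agent.TwoESix.FlagN

open Cfsg.Lie
open Cfsg.Agent.ChevalleyStructure
open Cfsg.Agent.ChevalleyStructure.Elts hiding x_add x_zero x_eq_one_iff
open Cfsg.Agent.ChevalleyStructure.TwE6Basic
open Cfsg.Agent.ChevalleyStructure.TwE6BN
open Cfsg.Agent.TwoESix.LeviA
open Cfsg.Agent.TwoESix.LeviB
open Cfsg.Agent.TwoESix.LeviC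
open Cfsg.Agent.TwoESix.LeviD
open Cfsg.Agent.TwoESix.LongPairs
open Cfsg.Agent.TwoESix.LongCard
open Cfsg.Agent.TwoESix.FlagH
open Cfsg.Agent.TwoESix.FlagI
open Cfsg.Agent.TwoESix.FlagK
open Cfsg.Agent.TwoESix.FlagL
open Cfsg.Agent.TwoESix.FlagM
open Cfsg.Agent.BabyU (rootClass)

open scoped commutatorElement Pointwise

universe u

variable {K : Type u} [Field K]

section Gen

variable {G : Type*} [Group G]

/-- If `y p y⁻¹ p⁻¹` commutes with `g`, then `p` commutes with `⁅y⁻¹, g⁆` (all commutators of `p` and `g` central). -/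
theorem dual_aux {c p g y D : G} (hD : y * p * y⁻¹ * p⁻¹ = D) (hg : g * D = D * g) (hc : p * g = c * (g * p))
    (cy : c * y = y * c) (cg : c * g = g * c) (cD : c * D = D * c) :
    (y⁻¹ * g * y * g⁻¹) * p = p * (y⁻¹ * g * y * g⁻¹) := by
  have h1 : y * p = D * p * y := by rw [← hD]; group
  have h2 : p * y⁻¹ = y⁻¹ * (D * p) := by
    rw [eq_inv_mul_iff_mul_eq, ← mul_assoc, h1]; group
  have h3 : p * g⁻¹ = c⁻¹ * (g⁻¹ * p) := by
    rw [eq_inv_mul_iff_mul_eq]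
    have h4 : c * (p * g⁻¹) = g⁻¹ * (c * (g * p)) * g⁻¹ := by
      have : g⁻¹ * (c * (g * p)) * g⁻¹ = g⁻¹ * (c * g) * p * g⁻¹ := by group
      rw [this, cg]; group
    rw [h4, ← hc]; group
  symm
  calc p * (y⁻¹ * g * y * g⁻¹) = (p * y⁻¹) * g * y * g⁻¹ := by group
    _ = y⁻¹ * D * (p * g) * y * g⁻¹ := by rw [h2]; group
    _ = y⁻¹ * (D * c) * g * p * y * g⁻¹ := by rw [hc]; group
    _ = y⁻¹ * c * (g * D) * p * y * g⁻¹ := by rw [← cD, hg]; group
    _ = y⁻¹ * c * g * (D * p * y) * g⁻¹ := by group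
    _ = y⁻¹ * (c * g) * y * (p * g⁻¹) := by rw [← h1]; group
    _ = y⁻¹ * g * (c * y) * (c⁻¹ * (g⁻¹ * p)) := by rw [cg, h3]; group
    _ = _ := by rw [cy]; group

/-- `⁅q, a⁆` commutes with `g` if `a` does (`⁅q, g⁆` central, `a q⁻¹ a⁻¹` in the same group). -/
theorem comm_a_aux {q a g c : G} (ha : g * a = a * g) (hc : q * g = c * (g * q)) (ca : c * a = a * c)
    (cq : c * q = q * c) : g * ⁅q, a⁆ = ⁅q, a⁆ * g := by
  have h3 : q⁻¹ * g = c⁻¹ * (g * q⁻¹) := by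
    have h4 : c * (q⁻¹ * g) = q⁻¹ * (c * (g * q)) * q⁻¹ := by
      have e1 : c * (q⁻¹ * g) = (c * q⁻¹) * g := by group
      have e2 : c * q⁻¹ = q⁻¹ * c := by
        rw [eq_inv_mul_iff_mul_eq, ← mul_assoc, ← cq, mul_inv_cancel_right]
      rw [e1, e2]; group
    rw [eq_inv_mul_iff_mul_eq, h4, ← hc]; group
  have ha' : a⁻¹ * g = g * a⁻¹ := by rw [inv_mul_eq_iff_eq_mul, ← mul_assoc, ← ha, mul_inv_cancel_right]
  have ca' : c⁻¹ * a = a * c⁻¹ := by rw [inv_mul_eq_iff_eq_mul, ← mul_assoc, ca, mul_inv_cancel_right]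
  symm
  calc ⁅q, a⁆ * g = q * a * q⁻¹ * (a⁻¹ * g) := by rw [commutatorElement_def]; group
    _ = q * a * (q⁻¹ * g) * a⁻¹ := by rw [ha']; group
    _ = q * (a * c⁻¹) * g * q⁻¹ * a⁻¹ := by rw [h3]; group
    _ = q * c⁻¹ * (a * g) * q⁻¹ * a⁻¹ := by rw [← ca']; group
    _ = (q * c⁻¹) * g * a * q⁻¹ * a⁻¹ := by rw [← ha]; group
    _ = c⁻¹ * (q * g) * a * q⁻¹ * a⁻¹ := by
        have : q * c⁻¹ = c⁻¹ * q := by rw [eq_inv_mul_iff_mul_eq, ← mul_assoc, cq, mul_inv_cancel_right]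
        rw [this]; group
    _ = _ := by rw [hc, commutatorElement_def]; group

end Gen

section Four

variable [Fintype K] {φ : K →+* K} (F : Four K φ)
include F

/-- `p * g = c * (g * p)` with `c` in the centre -/
theorem exists_c {p g : ↥(twistedE6 K 2)} (hp : p ∈ RE K) (hg : g ∈ RE K) :
    ∃ c : ↥(twistedE6 K 2), (c = 1 ∨ c = r0 F) ∧ p * g = c * (g * p) := by
  rcases comm_RE F hp hg with h | h
  · exact ⟨1, Or.inl rfl, by rw [one_mul, h]⟩
  · exact ⟨r0 F, Or.inr rfl, by rw [← h, commutatorElement_def]; group⟩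

theorem c_comm {c y : ↥(twistedE6 K 2)} (hc : c = 1 ∨ c = r0 F) (hy : y * r0 F = r0 F * y) : c * y = y * c := by
  rcases hc with rfl | rfl
  · rw [one_mul, mul_one]
  · exact hy.symm

/-- the hypothesis of `a_van` -/
abbrev Van (p : ↥(twistedE6 K 2)) : Prop :=
  ∀ y, y * r0 F = r0 F * y → (∀ x ∈ SE K, y * x * y⁻¹ ∈ SE K) →
    ∃ q ∈ RE K, y * p * y⁻¹ * p⁻¹ = ⁅q, xe F 60 (by decide +kernel)⁆ ∨
      y * p * y⁻¹ * p⁻¹ = r0 F * ⁅q, xe F 60 (by decide +kernel)⁆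

theorem van_comm {p : ↥(twistedE6 K 2)} (hp : p ∈ RE K) (h : Van F p) {y g : ↥(twistedE6 K 2)}
    (hy : (y : GL chevE6.Idx K) ∈ chevE6.borelSubgroup K) (hg : g ∈ RE K)
    (hga : g * xe F 60 (by decide +kernel) = xe F 60 (by decide +kernel) * g) :
    ⁅y⁻¹, g⁆ * p = p * ⁅y⁻¹, g⁆ := by
  have hyb : y * r0 F = r0 F * y := (comm_r0 F).2 (B_le_PR hy)
  have hab := ab F
  obtain ⟨q, hq, hD⟩ := h y hyb fun x hx => by
    rw [Subgroup.mem_subgroupOf] at hx ⊢
    exact FlagJ.conj_B_U F hy y.2 hx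
  generalize xe F 60 (by decide +kernel) = a at hga hab hD
  obtain ⟨c', hc', e'⟩ := exists_c F hq hg
  have hgb := S_cent F g (R_le F hg)
  have hqb := S_cent F q (R_le F hq)
  have h1 : g * ⁅q, a⁆ = ⁅q, a⁆ * g :=
    comm_a_aux hga e' (c_comm F hc' hab) (c_comm F hc' hqb)
  have hDR : y * p * y⁻¹ * p⁻¹ ∈ RE K := mul_mem (R_norm F y hyb p hp) (inv_mem hp)
  have h2 : g * (y * p * y⁻¹ * p⁻¹) = y * p * y⁻¹ * p⁻¹ * g := by
    rcases hD with e | e
    · rw [e]; exact h1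
    · rw [e, ← mul_assoc, hgb, mul_assoc, h1, mul_assoc]
  obtain ⟨c, hc, e⟩ := exists_c F hp hg
  have h3 := dual_aux rfl h2 e (c_comm F hc hyb) (c_comm F hc hgb) (c_comm F hc (S_cent F _ (R_le F hDR)))
  have e5 : ⁅y⁻¹, g⁆ = y⁻¹ * g * y * g⁻¹ := by rw [commutatorElement_def, inv_inv]
  rw [e5]
  exact h3

/-- the roots of `U_J` commuting with `x_60` -/
def l14 : List (Fin 72) := [49, 52, 54, 55, 61, 62, 63, 64, 65, 66, 67, 68, 69, 70]

omit [Fintype K] F in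
theorem l14_tab : ∀ r ∈ l14, r ∈ l20 ∧ Co r 60 ∧ rho r ∈ l14 := by decide +kernel

omit [Fintype K] F in
theorem l14_pt : ∀ r ∈ l20, r ∉ [(63 : Fin 72), 65, 66, 68, 69, 70] → pt r ∈ l14 := by decide +kernel

theorem z_add {r : Fin 72} (hr : r ∈ l20) (hrr : rho r ≠ r) (a b : K) : z φ r a * z φ r b = z φ r (a + b) := by
  have h3 : ∀ r ∈ l20, rho r ≠ r → Co r (rho r) := by decide +kernel
  have h := (h3 r hr hrr).eq (K := K) b (φ a)
  show x r.val a * x (rho r).val (φ a) * (x r.val b * x (rho r).val (φ b)) =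
    x r.val (a + b) * x (rho r).val (φ (a + b))
  rw [map_add, ← x_add, ← x_add]
  calc x r.val a * x (rho r).val (φ a) * (x r.val b * x (rho r).val (φ b))
      = x r.val a * (x (rho r).val (φ a) * x r.val b) * x (rho r).val (φ b) := by group
    _ = _ := by rw [h]; group

theorem z_inv {r : Fin 72} (hr : r ∈ l20) (hrr : rho r ≠ r) (a : K) : (z φ r a)⁻¹ = z φ r a := by
  have := F.charP
  rw [inv_eq_iff_mul_eq_one, z_add F hr hrr, CharTwo.add_self_eq_zero]
  show x r.val 0 * x (rho r).val (φ 0) = 1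
  rw [map_zero, TwE6Basic.x_zero, TwE6Basic.x_zero, one_mul]

/-- the torus element acting on `z_61` -/
theorem torus61 {t : K} (ht : t ≠ 0) : ∃ h ∈ LL K, h ∈ chevE6.borelSubgroup K ∧
    ∀ u : K, h * z φ 61 u = z φ 61 (t * u) * h := by
  have ht' : φ t ≠ 0 := fun h => ht (by rw [← F.inv t, h, map_zero])
  refine ⟨hG hE6 56 t * hG hE6 36 (φ t), M0_le F (h56_mem F t), ?_, fun u => ?_⟩
  · exact H_le_B (mul_mem (hG_mem_diagonal hE6 (by decide) ht) (hG_mem_diagonal hE6 (by decide) ht'))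
  · have a1 := hG_conj (K := K) (i := 0) (s := 61) (by norm_num) (by norm_num) ht u
    have a2 := hG_conj (K := K) (i := 5) (s := 61) (by norm_num) (by norm_num) ht' u
    have a3 := hG_conj (K := K) (i := 0) (s := 49) (by norm_num) (by norm_num) ht (φ t * φ u)
    have a4 := hG_conj (K := K) (i := 5) (s := 49) (by norm_num) (by norm_num) ht' (φ u)
    rw [show chevE6.cartan 0 61 = 1 by decide +kernel, show chevE6.simple 0 = 56 from rfl, zpow_one] at a1
    rw [show chevE6.cartan 5 61 = 0 by decide +kernel, show chevE6.simple 5 = 36 from rfl, zpow_zero, one_mul] at a2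
    rw [show chevE6.cartan 0 49 = 0 by decide +kernel, show chevE6.simple 0 = 56 from rfl, zpow_zero, one_mul] at a3
    rw [show chevE6.cartan 5 49 = 1 by decide +kernel, show chevE6.simple 5 = 36 from rfl, zpow_one] at a4
    have e49 : rho 61 = 49 := by decide +kernel
    show hG hE6 56 t * hG hE6 36 (φ t) * (x 61 u * x (rho 61).val (φ u)) =
      x 61 (t * u) * x (rho 61).val (φ (t * u)) * (hG hE6 56 t * hG hE6 36 (φ t))
    rw [e49, map_mul]
    show hG hE6 56 t * hG hE6 36 (φ t) * (x 61 u * x 49 (φ u)) =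
      x 61 (t * u) * x 49 (φ t * φ u) * (hG hE6 56 t * hG hE6 36 (φ t))
    calc hG hE6 56 t * hG hE6 36 (φ t) * (x 61 u * x 49 (φ u))
        = hG hE6 56 t * (hG hE6 36 (φ t) * x 61 u) * x 49 (φ u) := by group
      _ = (hG hE6 56 t * x 61 u) * (hG hE6 36 (φ t) * x 49 (φ u)) := by rw [a2]; group
      _ = x 61 (t * u) * (hG hE6 56 t * x 49 (φ t * φ u)) * hG hE6 36 (φ t) := by rw [a1, a4]; group
      _ = _ := by rw [a3]; group

/-- **The fourteen root elements are commutators.** -/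
theorem der_van {C : Subgroup (GL chevE6.Idx K)} (h71 : x 71 (1 : K) ∈ C)
    (hC : ∀ y ∈ LL K, y ∈ chevE6.borelSubgroup K → ∀ h ∈ UR K Jn, h ∈ twistedE6 K 2 →
      h * x 60 1 = x 60 1 * h → ⁅y, h⁆ ∈ C) :
    (∀ r ∈ l14, rho r = r → x r.val (1 : K) ∈ C) ∧ (∀ r ∈ l14, rho r ≠ r → ∀ t : K, z φ r t ∈ C) := by
  have := F.charP
  obtain ⟨w, hw⟩ := exists_omega F
  have hcomm : ∀ {g h c : GL chevE6.Idx K}, g ∈ LL K → g ∈ chevE6.borelSubgroup K → h ∈ UR K Jn →
      h ∈ twistedE6 K 2 → h * x 60 1 = x 60 1 * h → g * h = h * g * c → c ∈ C := by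
    intro g h c hg hg' hh hh' hc e
    rw [comm_eq e]
    refine hC _ (inv_mem hg) (inv_mem hg') _ (inv_mem hh) (inv_mem hh') ?_
    rw [inv_mul_eq_iff_eq_mul, ← mul_assoc, hc, mul_inv_cancel_right]
  have u39 : x (39 : Fin 72).val (1 : K) ∈ LL K := x_mem_LL F (by decide +kernel) (by decide +kernel)
  have v39 : x (39 : Fin 72).val (1 : K) ∈ chevE6.borelSubgroup K := U_le_B (mem_U (by decide) 1)
  have uz : ∀ s : Fin 72, s = 42 ∨ s = 56 ∨ s = 37 → ∀ t : K, z φ s t ∈ LL K ∧ z φ s t ∈ chevE6.borelSubgroup K := by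
    rintro s (rfl | rfl | rfl) t
    · exact ⟨z_mem_LL F (by decide +kernel) (by decide +kernel) t,
        U_le_B (mul_mem (mem_U (by decide) t) (mem_U (by decide +kernel) _))⟩
    · exact ⟨z_mem_LL F (by decide +kernel) (by decide +kernel) t,
        U_le_B (mul_mem (mem_U (by decide) t) (mem_U (by decide +kernel) _))⟩
    · exact ⟨z_mem_LL F (by decide +kernel) (by decide +kernel) t,
        U_le_B (mul_mem (mem_U (by decide) t) (mem_U (by decide +kernel) _))⟩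
  have X : ∀ r ∈ l14, rho r = r → x r.val (1 : K) ∈ UR K Jn ∧ x r.val (1 : K) ∈ twistedE6 K 2 ∧
      x r.val (1 : K) * x 60 1 = x 60 1 * x r.val 1 := fun r hr hrr =>
    ⟨(x_mem_UE F (l14_tab r hr).1 hrr).1, (x_mem_UE F (l14_tab r hr).1 hrr).2, ((l14_tab r hr).2.1.eq 1 1).symm⟩
  have Z : ∀ r ∈ l14, rho r ≠ r → ∀ t : K, z φ r t ∈ UR K Jn ∧ z φ r t ∈ twistedE6 K 2 ∧
      z φ r t * x 60 1 = x 60 1 * z φ r t := fun r hr hrr t => by
    refine ⟨(z_mem_UE F (l14_tab r hr).1 hrr t).1, (z_mem_UE F (l14_tab r hr).1 hrr t).2, ?_⟩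
    have k1 : x 60 (1 : K) * x r.val t = x r.val t * x 60 1 := (l14_tab r hr).2.1.eq t 1
    have k2 : x 60 (1 : K) * x (rho r).val (φ t) = x (rho r).val (φ t) * x 60 1 :=
      (l14_tab _ (l14_tab r hr).2.2).2.1.eq (φ t) 1
    show x r.val t * x (rho r).val (φ t) * x 60 1 = x 60 1 * (x r.val t * x (rho r).val (φ t))
    rw [mul_assoc, ← k2, ← mul_assoc, ← k1, mul_assoc]
  -- long by long
  have dx : ∀ r k : Fin 72, r ∈ l14 → rho r = r → Si r 39 k → x k.val (1 : K) ∈ C := fun r k hr hrr h =>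
    hcomm u39 v39 (X r hr hrr).1 (X r hr hrr).2.1 (X r hr hrr).2.2 (comm_xx h)
  have tr1 : φ w * 1 + w * φ 1 = 1 := by rw [map_one, mul_one, mul_one, add_comm, hw]
  have dzz : ∀ s k m : Fin 72, (s = 42 ∨ s = 56 ∨ s = 37) → k ∈ l14 → rho k ≠ k → ZZ s k m →
      x m.val (1 : K) ∈ C := by
    intro s k m hs hk hkk h
    have := hcomm (uz s hs 1).1 (uz s hs 1).2 (Z k hk hkk w).1 (Z k hk hkk w).2.1 (Z k hk hkk w).2.2 (comm_zz h φ 1 w)
    rwa [tr1] at this
  have hN : ∀ a : K, φ (a * φ a) = a * φ a := fun a => by rw [map_mul, F.inv, mul_comm]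
  have dzx : ∀ s r k m : Fin 72, (s = 42 ∨ s = 56 ∨ s = 37) → r ∈ l14 → rho r = r → ZX s r k m →
      x m.val (1 : K) ∈ C → ∀ t : K, z φ k t ∈ C := by
    intro s r k m hs hr hrr h hm t
    have h1 : z φ k t * x m.val (t * φ t) ∈ C :=
      hcomm (uz s hs t).1 (uz s hs t).2 (X r hr hrr).1 (X r hr hrr).2.1 (X r hr hrr).2.2 (comm_zx h φ t)
    exact (Subgroup.mul_mem_cancel_right _ (x_norm_mem F hm (hN t))).1 h1
  have dzs : ∀ s k m : Fin 72, (s = 42 ∨ s = 56 ∨ s = 37) → k ∈ l14 → rho k ≠ k → ZS s k m →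
      ∀ t : K, z φ m t ∈ C := by
    intro s k m hs hk hkk h t
    have := hcomm (uz s hs t).1 (uz s hs t).2 (Z k hk hkk 1).1 (Z k hk hkk 1).2.1 (Z k hk hkk 1).2.2 (comm_zs h φ t 1)
    rwa [one_mul] at this
  have dxz : ∀ k m : Fin 72, k ∈ l14 → rho k ≠ k → XZ 39 k m → ∀ t : K, z φ m t ∈ C := by
    intro k m hk hkk h t
    have h1 : z φ m t * x 71 (φ t * t) ∈ C :=
      hcomm u39 v39 (Z k hk hkk t).1 (Z k hk hkk t).2.1 (Z k hk hkk t).2.2 (comm_xz h φ t)
    have h2 : x (71 : Fin 72).val (φ t * t) ∈ C := x_norm_mem F h71 (by rw [map_mul, F.inv, mul_comm])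
    exact (Subgroup.mul_mem_cancel_right _ h2).1 h1
  have z61 : ∀ v : K, z φ 61 v ∈ C := by
    intro v
    have hw0 : w ≠ 0 := by rintro rfl; rw [map_zero, add_zero] at hw; exact zero_ne_one hw
    have hw1 : w + 1 ≠ 0 := by
      intro h
      have : w = 1 := by rw [eq_neg_of_add_eq_zero_left h, LeviA.neg_eq_self]
      rw [this, map_one, CharTwo.add_self_eq_zero] at hw
      exact zero_ne_one hw
    obtain ⟨h, hL, hB, hh⟩ := torus61 F hw0
    obtain ⟨k1, k2, k3⟩ := Z 61 (by decide) (by decide +kernel) ((w + 1)⁻¹ * v)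
    have h1 := hC h hL hB _ k1 k2 k3
    have e : ⁅h, z φ 61 ((w + 1)⁻¹ * v)⁆ = z φ 61 v := by
      rw [commutatorElement_def, hh, mul_inv_cancel_right, z_inv F (by decide) (by decide +kernel),
        z_add F (by decide) (by decide +kernel)]
      congr 1
      have : w * ((w + 1)⁻¹ * v) + (w + 1)⁻¹ * v = (w + 1) * (w + 1)⁻¹ * v := by ring
      rw [this, mul_inv_cancel₀ hw1, one_mul]
    rwa [e] at h1
  have z62 := dzs 37 61 62 (Or.inr (Or.inr rfl)) (by decide) (by decide +kernel) t4.2.2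
  have x63 := dzz 56 62 63 (Or.inr (Or.inl rfl)) (by decide) (by decide +kernel) t3.2.1
  have x65 := dx 63 65 (by decide) (by decide +kernel) t1.2.2.1
  have z64 := dxz 62 64 (by decide) (by decide +kernel) (by decide +kernel)
  have z67 := dzs 42 64 67 (Or.inl rfl) (by decide) (by decide +kernel) t4.2.1
  have x69 := dzz 42 68 69 (Or.inl rfl) (by decide) (by decide +kernel) t3.2.2.2
  have z68 := dzx 42 65 68 69 (Or.inl rfl) (by decide) (by decide +kernel) t2.2.2.2 x69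
  have x70 := dx 69 70 (by decide) (by decide +kernel) t1.2.2.2
  refine ⟨fun r hr hrr => ?_, fun r hr hrr t => ?_⟩
  · have h14 : ∀ r ∈ l14, rho r = r → r = 63 ∨ r = 65 ∨ r = 69 ∨ r = 70 := by decide +kernel
    rcases h14 r hr hrr with rfl | rfl | rfl | rfl
    · exact x63
    · exact x65
    · exact x69
    · exact x70
  · have h14 : ∀ r ∈ l14, rho r ≠ r → r = 61 ∨ r = 62 ∨ r = 64 ∨ r = 67 ∨ r = 68 ∨
        rho r = 61 ∨ rho r = 62 ∨ rho r = 64 ∨ rho r = 67 ∨ rho r = 68 := by decide +kernel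
    have key : ∀ s : Fin 72, (s = 61 ∨ s = 62 ∨ s = 64 ∨ s = 67 ∨ s = 68) → ∀ t : K, z φ s t ∈ C := by
      rintro s (rfl | rfl | rfl | rfl | rfl) t
      · exact z61 t
      · exact z62 t
      · exact z64 t
      · exact z67 t
      · exact z68 t
    have h1 : rho r = 61 ∨ rho r = 62 ∨ rho r = 64 ∨ rho r = 67 ∨ rho r = 68 → z φ r t ∈ C := by
      intro h
      have h1 := key (rho r) h (φ t)
      rwa [z_rho F (l14_tab r hr).1, F.inv] at h1
    rcases h14 r hr hrr with h | h | h | h | h | h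
    · exact key r (Or.inl h) t
    · exact key r (Or.inr (Or.inl h)) t
    · exact key r (Or.inr (Or.inr (Or.inl h))) t
    · exact key r (Or.inr (Or.inr (Or.inr (Or.inl h)))) t
    · exact key r (Or.inr (Or.inr (Or.inr (Or.inr h)))) t
    · exact h1 h

end Four

end Cfsg.Agent.TwoESix.FlagN
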