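import Cfsg.Agent.TwoESix.FlagN

/-!
# ²E₆(2): the flag `b, c, a` (`a_van`, second part)
-/

set_option autoImplicit false
set_option linter.unusedSectionVars false

namespace Cfsg.Agent.TwoESix.FlagO

open Cfsg.Lie
open Cfsg.Agent.ChevalleyStructure
open Cfsg.Agent.ChevalleyStructure.Elts hiding x_add x_zero x_eq_one_iff
open Cfsg.Agent.ChevalleyStructure.TwE6Basic
open Cfsg.Agent.ChevalleyStructure.TwE6BN
open Cfsg.Agent.TwoESix.LeviA
open Cfsg.Agent.TwoESix.LeviB
open Cfsg.Agent.TwoESix.LeviC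
open Cfsg.Agent.TwoESix.LeviD
open Cfsg.Agent.TwoESix.LongPairs
open Cfsg.Agent.TwoESix.LongCard
open Cfsg.Agent.TwoESix.FlagH
open Cfsg.Agent.TwoESix.FlagI
open Cfsg.Agent.TwoESix.FlagK
open Cfsg.Agent.TwoESix.FlagL
open Cfsg.Agent.TwoESix.FlagM
open Cfsg.Agent.TwoESix.FlagN
open Cfsg.Agent.BabyU (rootClass)

open scoped commutatorElement Pointwise

universe u

variable {K : Type u} [Field K]

/-- the roots `r` of `U_J` with `r + 60` a root -/
def l6 : List (Fin 72) := [46, 47, 48, 50, 51, 53]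

/-- `r + 60` -/
def sh (r : Fin 72) : Fin 72 :=
  if r = 46 then 63 else if r = 47 then 65 else if r = 48 then 66 else if r = 50 then 68 else if r = 51 then 69
  else 70

theorem l6_tab : ∀ r ∈ l6, r ∈ l20 ∧ sh r ∈ l20 ∧ Si r 60 (sh r) := by decide +kernel

section Two

variable [CharP K 2]

theorem lp_filter (t : Fin 72 → K) (q : Fin 72 → Bool) (L : List (Fin 72)) (h : ∀ r ∈ L, q r = false → t r = 0) :
    FlagK.lp t L = FlagK.lp t (L.filter q) := by
  induction L with
  | nil => rfl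
  | cons r L ih =>
    have ih' := ih fun s hs => h s (List.mem_cons_of_mem _ hs)
    by_cases hq : q r = true
    · rw [List.filter_cons_of_pos hq, lp_cons, lp_cons, ih']
    · rw [List.filter_cons_of_neg hq, lp_cons, ih', h r List.mem_cons_self (by simpa using hq),
        TwE6Basic.x_zero, one_mul]

theorem swap_X {g h : GL chevE6.Idx K} (hg : g ∈ UR K Jn) (hh : h ∈ UR K Jn) : ∃ v, g * h = h * g * x 71 v := by
  obtain ⟨v, hv⟩ := mem_X.1 (comm_UR hg hh)
  refine ⟨v, ?_⟩
  have e : g * h = ⁅g, h⁆ * (h * g) := by rw [commutatorElement_def]; group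
  rw [e, hv]
  exact (U_comm_top (mul_mem (UR_le_U hh) (UR_le_U hg)) v).symm

/-- `[x_60, Π x_r]` -/
theorem a_lp (t : Fin 72 → K) (L : List (Fin 72)) (hL : ∀ r ∈ L, r ∈ l6) :
    ∃ v, x 60 (1 : K) * FlagK.lp (fun r => t (sh r)) L =
      FlagK.lp (fun r => t (sh r)) L * x 60 1 * (FlagK.lp t (L.map sh) * x 71 v) := by
  induction L with
  | nil => exact ⟨0, by rw [List.map_nil, lp_nil, lp_nil, TwE6Basic.x_zero, mul_one, mul_one, one_mul, mul_one]⟩
  | cons r L ih =>
    obtain ⟨v, hv⟩ := ih fun s hs => hL s (List.mem_cons_of_mem _ hs)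
    obtain ⟨h20, hsh, hSi⟩ := l6_tab r (hL r List.mem_cons_self)
    have c1 : x 60 (1 : K) * x r.val (t (sh r)) = x r.val (t (sh r)) * x 60 1 * x (sh r).val (t (sh r)) := by
      have := hSi.eq (K := K) (t (sh r)) 1
      rwa [mul_one] at this
    have hA : FlagK.lp (fun r => t (sh r)) L ∈ UR K Jn :=
      lp_mem_U _ L fun s hs => (l6_tab s (hL s (List.mem_cons_of_mem _ hs))).1
    have hA' : FlagK.lp t (L.map sh) ∈ UR K Jn := lp_mem_U _ _ fun s hs => by
      obtain ⟨s', hs', rfl⟩ := List.mem_map.1 hs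
      exact (l6_tab s' (hL s' (List.mem_cons_of_mem _ hs'))).2.1
    have hB : x (sh r).val (t (sh r)) ∈ UR K Jn := x_mem_UR (l20_mem _ hsh).1 (l20_mem _ hsh).2.1 _
    rw [List.map_cons, lp_cons, lp_cons]
    generalize FlagK.lp (fun r => t (sh r)) L = A at hv hA ⊢
    generalize FlagK.lp t (L.map sh) = A' at hv hA' ⊢
    generalize x (sh r).val (t (sh r)) = B at c1 hB ⊢
    generalize x r.val (t (sh r)) = Y at c1 ⊢
    obtain ⟨v1, h1⟩ := swap_X hB hA
    obtain ⟨v2, h2⟩ := swap_X hA' hB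
    refine ⟨v2 + v + v1, ?_⟩
    have k1 : ∀ w : K, B * x 71 w = x 71 w * B := fun w => U_comm_top (UR_le_U hB) w
    calc x 60 (1 : K) * (Y * A) = (x 60 1 * Y) * A := by group
      _ = Y * x 60 1 * (B * A) := by rw [c1]; group
      _ = Y * (x 60 1 * A) * B * x 71 v1 := by rw [h1]; group
      _ = Y * A * x 60 1 * A' * (x 71 v * B) * x 71 v1 := by rw [hv]; group
      _ = Y * A * x 60 1 * (A' * B) * x 71 v * x 71 v1 := by rw [← k1]; group
      _ = Y * A * x 60 1 * (B * A' * (x 71 v2 * x 71 v * x 71 v1)) := by rw [h2]; group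
      _ = _ := by rw [x_add, x_add]

end Two

section Four

variable [Fintype K] {φ : K →+* K} (F : Four K φ)
include F

theorem x71_E {u : K} (h : x 71 u ∈ twistedE6 K 2) : φ u = u := by
  have := F.charP
  have h1 : sg φ (x (71 : Fin 72).val u) = x (71 : Fin 72).val u := F.le_fix h
  rw [sg_x2, show rho 71 = 71 by decide +kernel] at h1
  exact x71_eq h1

/-- the coordinates of an element of `E`: fixed roots -/
theorem coord_fix {t : Fin 72 → K} {v : K} (hE : FlagK.lp t l20 * x 71 v ∈ twistedE6 K 2) {r : Fin 72} (hr : r ∈ l20)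
    (hrr : rho (pt r) = pt r) : φ (t r) = t r := by
  have := F.charP
  obtain ⟨h3, h4, -, -⟩ := pt_mem r hr
  have h1 := comm_coords t v h3 1
  rw [h4, mul_one] at h1
  have h2 := (x_mem_UE F h3 hrr).2
  refine x71_E F ?_
  rw [← h1, commutatorElement_def]
  exact mul_mem (mul_mem (mul_mem hE h2) (inv_mem hE)) (inv_mem h2)

/-- the coordinates of an element of `E`: pairs of roots -/
theorem coord_pair {t : Fin 72 → K} {v : K} (hE : FlagK.lp t l20 * x 71 v ∈ twistedE6 K 2) {r : Fin 72} (hr : r ∈ l20)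
    (hrr : rho (pt r) ≠ pt r) : t (rho r) = φ (t r) := by
  have := F.charP
  obtain ⟨h3, h4, -, -⟩ := pt_mem r hr
  have h5 : pt (rho (pt r)) = rho r := by
    rw [(pt_mem _ h3).2.2.1, h4]
  have h6 : ∀ u : K, φ (t r * u + t (rho r) * φ u) = t r * u + t (rho r) * φ u := by
    intro u
    have h1 := comm_coords_z F t v h3 u
    rw [h4, h5] at h1
    have h2 := (z_mem_UE F h3 hrr u).2
    refine x71_E F ?_
    rw [← h1, commutatorElement_def]
    exact mul_mem (mul_mem (mul_mem hE h2) (inv_mem hE)) (inv_mem h2)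
  obtain ⟨w, hw⟩ := exists_omega F
  have e1 := h6 1
  have e2 := h6 w
  have hw' : φ w = 1 + w := by
    have : φ w = w + φ w + w := by
      rw [add_comm w (φ w), add_assoc, CharTwo.add_self_eq_zero, add_zero]
    rw [this, hw]
  simp only [map_add, map_one, mul_one] at e1
  rw [map_add, map_mul, map_mul, F.inv, hw'] at e2
  -- `φα (1 + w) + φβ w = α w + β (1 + w)`
  have e3 : φ (t r) + (φ (t r) + φ (t (rho r))) * w = t (rho r) + (t r + t (rho r)) * w := by
    calc φ (t r) + (φ (t r) + φ (t (rho r))) * w = φ (t r) * (1 + w) + φ (t (rho r)) * w := by ring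
      _ = t r * w + t (rho r) * (1 + w) := e2
      _ = _ := by ring
  rw [e1] at e3
  exact (add_right_cancel e3).symm

theorem a_van (p : ↥(twistedE6 K 2)) (hp : p ∈ RE K) (h : Van F p) :
    ∃ q ∈ RE K, p = ⁅q, xe F 60 (by decide +kernel)⁆ ∨ p = r0 F * ⁅q, xe F 60 (by decide +kernel)⁆ := by
  have := F.charP
  obtain ⟨t, v, e⟩ := coords (Subgroup.mem_subgroupOf.1 hp)
  -- the commutators
  have hC : ∀ y ∈ LL K, y ∈ chevE6.borelSubgroup K → ∀ h ∈ UR K Jn, h ∈ twistedE6 K 2 →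
      h * x 60 1 = x 60 1 * h → ⁅y, h⁆ ∈ Subgroup.centralizer {(p : GL chevE6.Idx K)} := by
    intro y hy hyB g hg hgE hga
    have hyE := (Subgroup.mem_inf.1 hy).2
    have h1 := van_comm F hp h (y := (⟨y, hyE⟩ : ↥(twistedE6 K 2))⁻¹) (g := ⟨g, hgE⟩)
      (inv_mem hyB) (Subgroup.mem_subgroupOf.2 hg) (Subtype.ext hga)
    rw [inv_inv] at h1
    rw [Subgroup.mem_centralizer_singleton_iff]
    exact congrArg Subtype.val h1
  have h71 : x 71 (1 : K) ∈ Subgroup.centralizer {(p : GL chevE6.Idx K)} := by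
    rw [Subgroup.mem_centralizer_singleton_iff]
    exact congrArg Subtype.val (S_cent F p (R_le F hp)).symm
  obtain ⟨k1, k2⟩ := der_van F h71 hC
  rw [e] at k1 k2
  have h0 : ∀ r ∈ l20, r ∉ [(63 : Fin 72), 65, 66, 68, 69, 70] → t r = 0 := by
    intro r hr hr'
    obtain ⟨h3, h4, h5, h6⟩ := pt_mem r hr
    have h14 := l14_pt r hr hr'
    by_cases hrr : rho (pt r) = pt r
    · have h8 := zero_of_comm (K := K) h3 (Subgroup.mem_centralizer_singleton_iff.1 (k1 _ h14 hrr)).symm
      rwa [h4] at h8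
    · have h8 := (zero_of_comm_z F (t := t) (v := v) h3
        fun u => (Subgroup.mem_centralizer_singleton_iff.1 (k2 _ h14 hrr u)).symm).1
      rwa [h4] at h8
  have hE : FlagK.lp t l20 * x 71 v ∈ twistedE6 K 2 := by rw [← e]; exact p.2
  have f63 := coord_fix F hE (r := 63) (by decide) (by decide +kernel)
  have f65 := coord_fix F hE (r := 65) (by decide) (by decide +kernel)
  have f69 := coord_fix F hE (r := 69) (by decide) (by decide +kernel)
  have f70 := coord_fix F hE (r := 70) (by decide) (by decide +kernel)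
  have f66 := coord_pair F hE (r := 66) (by decide) (by decide +kernel)
  rw [show rho 66 = 68 by decide +kernel] at f66
  have e1 : FlagK.lp t l20 = FlagK.lp t (l6.map sh) := by
    rw [lp_filter t (fun r => decide (r ∈ [(63 : Fin 72), 65, 66, 68, 69, 70])) l20 (fun r hr hq => h0 r hr (by
      simpa using hq))]
    congr 1
  -- the element `q'`
  have hx : ∀ r : Fin 72, r ∈ l20 → rho r = r → φ (t (sh r)) = t (sh r) →
      x r.val (t (sh r)) ∈ twistedE6 K 2 := fun r hr hrr ht => x_norm_mem F (x_mem_UE F hr hrr).2 ht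
  have hqE : FlagK.lp (fun r => t (sh r)) l6 ∈ twistedE6 K 2 := by
    have e2 : FlagK.lp (fun r => t (sh r)) l6 = x (46 : Fin 72).val (t (sh 46)) * (x (47 : Fin 72).val (t (sh 47)) *
        (z φ 48 (t 66) * (x (51 : Fin 72).val (t (sh 51)) * (x (53 : Fin 72).val (t (sh 53)) * 1)))) := by
      show FlagK.lp (fun r => t (sh r)) [46, 47, 48, 50, 51, 53] = _
      rw [lp_cons, lp_cons, lp_cons, lp_cons, lp_cons, lp_cons, lp_nil]
      have e3 : x (48 : Fin 72).val (t (sh 48)) * (x (50 : Fin 72).val (t (sh 50)) *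
          (x (51 : Fin 72).val (t (sh 51)) * (x (53 : Fin 72).val (t (sh 53)) * 1))) =
          z φ 48 (t 66) * (x (51 : Fin 72).val (t (sh 51)) * (x (53 : Fin 72).val (t (sh 53)) * 1)) := by
        rw [← mul_assoc (x (48 : Fin 72).val (t (sh 48)))]
        congr 1
        show x (48 : Fin 72).val (t 66) * x (50 : Fin 72).val (t 68) = x (48 : Fin 72).val (t 66) *
          x (rho 48).val (φ (t 66))
        rw [f66, show rho 48 = 50 by decide +kernel]
      rw [e3]
    rw [e2]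
    refine mul_mem (hx 46 (by decide) (by decide +kernel) f63) (mul_mem (hx 47 (by decide) (by decide +kernel) f65)
      (mul_mem (z_mem_UE F (r := 48) (by decide) (by decide +kernel) _).2 (mul_mem (hx 51 (by decide)
        (by decide +kernel) f69) (mul_mem (hx 53 (by decide) (by decide +kernel) f70) (one_mem _)))))
  have hqU : FlagK.lp (fun r => t (sh r)) l6 ∈ UR K Jn := lp_mem_U _ _ fun r hr => (l6_tab r hr).1
  obtain ⟨v', h5⟩ := a_lp (K := K) t l6 (fun _ h => h)
  rw [← e1] at h5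
  set q' : ↥(twistedE6 K 2) := ⟨_, hqE⟩ with hq'
  have hq'R : q' ∈ RE K := Subgroup.mem_subgroupOf.2 hqU
  have ha2 : xe F 60 (by decide +kernel) * xe F 60 (by decide +kernel) = 1 := Subtype.ext (x_sq (K := K) 60)
  have hab := ab F
  -- `p * X = ⁅a⁻¹, q'⁻¹⁆`
  have h6 : ∃ X : ↥(twistedE6 K 2), (X = 1 ∨ X = r0 F) ∧
      xe F 60 (by decide +kernel) * q' = q' * xe F 60 (by decide +kernel) * (p * X) := by
    refine ⟨p⁻¹ * (q' * xe F 60 (by decide +kernel))⁻¹ * (xe F 60 (by decide +kernel) * q'), ?_, by group⟩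
    apply X71_E F
    show (p : GL chevE6.Idx K)⁻¹ * (FlagK.lp (fun r => t (sh r)) l6 * x 60 1)⁻¹ *
      (x 60 1 * FlagK.lp (fun r => t (sh r)) l6) ∈ _
    rw [h5, e]
    have e7 : (FlagK.lp t l20 * x 71 v)⁻¹ * (FlagK.lp (fun r => t (sh r)) l6 * x 60 1)⁻¹ *
        (FlagK.lp (fun r => t (sh r)) l6 * x 60 1 * (FlagK.lp t l20 * x 71 v')) =
        (x 71 v)⁻¹ * x 71 v' := by group
    rw [e7]
    exact mul_mem (inv_mem (mem_X.2 ⟨_, rfl⟩)) (mem_X.2 ⟨_, rfl⟩)
  obtain ⟨X, hX, h7⟩ := h6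
  generalize xe F 60 (by decide +kernel) = a at ha2 hab h7 ⊢
  have hai : a⁻¹ = a := inv_eq_of_mul_eq_one_right ha2
  have h8 : p * X = ⁅a * q'⁻¹ * a⁻¹, a⁆ := by
    have haa : ∀ g, a * (a * g) = g := fun g => by rw [← mul_assoc, ha2, one_mul]
    rw [comm_eq h7, commutatorElement_def, commutatorElement_def]
    simp only [mul_inv_rev, inv_inv, hai, mul_assoc, haa, ha2, mul_one]
  refine ⟨a * q'⁻¹ * a⁻¹, R_norm F a hab _ (inv_mem hq'R), ?_⟩
  rw [← h8]
  rcases hX with rfl | rfl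
  · left; rw [mul_one]
  · right
    have hpb := S_cent F p (R_le F hp)
    have hb2 : r0 F * r0 F = 1 := Subtype.ext (x_sq (K := K) 71)
    rw [← mul_assoc, ← hpb, mul_assoc, hb2, mul_one]

end Four

end Cfsg.Agent.TwoESix.FlagO
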