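import Cfsg.Agent.TwoESix.FlagO

/-!
# ²E₆(2): generation of `C_R(b)` by root involutions (base)

Witnesses that a product is not a root involution (`vis`), coordinates of products (`HasC`), and the closing argument
(`close`).
-/

set_option autoImplicit false
set_option linter.unusedSectionVars false
set_option Elab.async false
set_option maxRecDepth 100000

namespace Cfsg.Agent.TwoESix.GenBase

open Cfsg.Lie
open Cfsg.Agent.ChevalleyStructure
open Cfsg.Agent.ChevalleyStructure.Elts hiding x_add x_zero x_eq_one_iff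
open Cfsg.Agent.ChevalleyStructure.TwE6Basic
open Cfsg.Agent.ChevalleyStructure.TwE6BN
open Cfsg.Agent.TwoESix.LeviA
open Cfsg.Agent.TwoESix.LeviB
open Cfsg.Agent.TwoESix.LeviC
open Cfsg.Agent.TwoESix.LeviD
open Cfsg.Agent.TwoESix.LongPairs
open Cfsg.Agent.TwoESix.LongCard
open Cfsg.Agent.TwoESix.FlagH
open Cfsg.Agent.TwoESix.FlagI
open Cfsg.Agent.TwoESix.FlagK
open Cfsg.Agent.TwoESix.FlagL
open Cfsg.Agent.TwoESix.FlagM
open Cfsg.Agent.TwoESix.FlagN
open Cfsg.Agent.TwoESix.FlagO
open Cfsg.Agent.BabyU (rootClass)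

open scoped commutatorElement Pointwise

universe u

variable {K : Type u} [Field K]

/-- `b` and the root involutions `y` of `R` commuting with `b` such that `y b` is not a root involution -/
def GS (K : Type u) [Field K] (b : ↥(twistedE6 K 2)) : Set ↥(twistedE6 K 2) :=
  insert b {y | y ∈ rootClass K ∧ y ∈ RE K ∧ y * b = b * y ∧ y * b ∉ rootClass K}

/-- `C_R(b)` is generated by `GS b`. -/
def Gen (K : Type u) [Field K] (b : ↥(twistedE6 K 2)) : Prop :=
  ∀ p ∈ RE K, p * b = b * p → p ∈ Subgroup.closure (GS K b)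

theorem fixW_neg : ∀ w ∈ fixW, (wpm w 0).val = chevE6.neg (wpm w 71).val := by decide +kernel

section Two

variable [CharP K 2]

theorem cube_neg {v v' : Fin 72} (hv : rho v = v) (h : v'.val = chevE6.neg v.val) :
    (x v.val (1 : K) * x v'.val 1) ^ 3 = 1 := by
  obtain ⟨w, hw, e⟩ := exists_fixW v hv
  have e' : wpm w 0 = v' := Fin.ext (by rw [fixW_neg w hw, e, h])
  have h1 := wn_conj (K := K) w 71 1
  have h2 := wn_conj (K := K) w 0 1
  rw [e] at h1
  rw [e'] at h2
  have h3 : x v.val (1 : K) * x v'.val 1 = wn w * (x 71 1 * x 0 1) * (wn w)⁻¹ := by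
    rw [← h1, ← h2]
    show _ = wn w * (x (71 : Fin 72).val 1 * x (0 : Fin 72).val 1) * (wn w)⁻¹
    group
  rw [h3, conj_pow, cube0]
  group

theorem z_comm {k r : Fin 72} (h1 : Co k r) (h2 : Co (rho k) r) (φ : K →+* K) (a b : K) :
    z φ k a * x r.val b = x r.val b * z φ k a := by
  show x k.val a * x (rho k).val (φ a) * x r.val b = x r.val b * (x k.val a * x (rho k).val (φ a))
  rw [mul_assoc, ← h2.eq (φ a) b, ← mul_assoc, ← h1.eq a b, mul_assoc]

/-! ### Coordinates -/

/-- `g` has coordinates `t` -/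
def HasC (g : GL chevE6.Idx K) (t : Fin 72 → K) : Prop := ∃ v, g = lp t l20 * x 71 v

theorem HasC.one : HasC (1 : GL chevE6.Idx K) 0 := ⟨0, by rw [lp_zero, TwE6Basic.x_zero, one_mul]⟩

theorem lp_U (t : Fin 72 → K) : lp t l20 ∈ chevE6.posUnipotent K := UR_le_U (lp_mem_U t l20 fun _ h => h)

theorem HasC.mul {g h : GL chevE6.Idx K} {t s : Fin 72 → K} (hg : HasC g t) (hh : HasC h s) :
    HasC (g * h) (t + s) := by
  obtain ⟨v, rfl⟩ := hg
  obtain ⟨w, rfl⟩ := hh
  obtain ⟨u, hu⟩ := lp_mul t s l20 fun _ h => h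
  refine ⟨u + v + w, ?_⟩
  have h1 : x 71 v * lp s l20 = lp s l20 * x 71 v := (U_comm_top (lp_U s) v).symm
  calc lp t l20 * x 71 v * (lp s l20 * x 71 w) = lp t l20 * (x 71 v * lp s l20) * x 71 w := by
        simp only [mul_assoc]
    _ = (lp t l20 * lp s l20) * x 71 v * x 71 w := by rw [h1]; simp only [mul_assoc]
    _ = _ := by rw [hu, mul_assoc, mul_assoc, x_add, x_add, add_assoc]

/-- a single coordinate -/
def sgl (r : Fin 72) (a : K) : Fin 72 → K := fun s => if s = r then a else 0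

theorem HasC.mkx {r : Fin 72} (hr : r ∈ l20) (a : K) : HasC (x r.val a) (sgl r a) :=
  ⟨0, by rw [show sgl r a = fun s => if s = r then a else 0 from rfl, lp_single r a l20 nodup_l20, if_pos hr,
    TwE6Basic.x_zero, mul_one]⟩

theorem HasC.mkz {r r' : Fin 72} (hr : r ∈ l20) (hr' : r' ∈ l20) (h : rho r = r') (φ : K →+* K) (a : K) :
    HasC (z φ r a) (sgl r a + sgl r' (φ a)) := by
  subst h
  exact (HasC.mkx hr a).mul (HasC.mkx hr' (φ a))

theorem HasC.eq {g : GL chevE6.Idx K} {t s : Fin 72 → K} (ht : HasC g t) (hs : HasC g s) : ∀ r ∈ l20, t r = s r := by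
  intro r hr
  obtain ⟨v, h1⟩ := ht
  obtain ⟨w, h2⟩ := hs
  obtain ⟨h3, h4, -, -⟩ := pt_mem r hr
  have e1 := comm_coords t v h3 1
  have e2 := comm_coords s w h3 1
  rw [← h1] at e1
  rw [← h2, e1, h4, mul_one, mul_one] at e2
  exact x71_eq e2

theorem HasC.ne_one {g : GL chevE6.Idx K} {t : Fin 72 → K} (ht : HasC g t) {r : Fin 72} (hr : r ∈ l20)
    (h : t r ≠ 0) : g ≠ 1 := by
  rintro rfl
  exact h (ht.eq HasC.one r hr)

/-- fixed roots of the radical -/
def fx : List (Fin 72) := [46, 47, 51, 53, 63, 65, 69, 70]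

/-- pairs of nonfixed roots of the radical -/
def rp : List (Fin 72 × Fin 72) := [(48, 50), (49, 61), (52, 62), (54, 64), (55, 67), (66, 68)]

theorem fx_tab : ∀ r ∈ fx, r ∈ l20 ∧ rho r = r := by decide +kernel

theorem rp_tab : ∀ p ∈ rp, p.1 ∈ l20 ∧ p.2 ∈ l20 ∧ rho p.1 = p.2 ∧ rho p.1 ≠ p.1 ∧ rho (pt p.1) ≠ pt p.1 := by
  decide +kernel

theorem fx_pt : ∀ r ∈ fx, rho (pt r) = pt r := by decide +kernel

theorem HasC.listx (t : Fin 72 → K) : ∀ L : List (Fin 72), (∀ r ∈ L, r ∈ l20) →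
    HasC ((L.map fun r => x r.val (t r)).prod) ((L.map fun r => sgl r (t r)).sum)
  | [], _ => HasC.one
  | r :: L, h => by
    rw [List.map_cons, List.prod_cons, List.map_cons, List.sum_cons]
    exact (HasC.mkx (h r List.mem_cons_self) _).mul (HasC.listx t L fun s hs => h s (List.mem_cons_of_mem _ hs))

theorem HasC.listz (φ : K →+* K) (t : Fin 72 → K) : ∀ L : List (Fin 72 × Fin 72),
    (∀ p ∈ L, p.1 ∈ l20 ∧ p.2 ∈ l20 ∧ rho p.1 = p.2) →
    HasC ((L.map fun p => z φ p.1 (t p.1)).prod) ((L.map fun p => sgl p.1 (t p.1) + sgl p.2 (φ (t p.1))).sum)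
  | [], _ => HasC.one
  | p :: L, h => by
    rw [List.map_cons, List.prod_cons, List.map_cons, List.sum_cons]
    obtain ⟨h1, h2, h3⟩ := h p List.mem_cons_self
    exact (HasC.mkz h1 h2 h3 φ _).mul (HasC.listz φ t L fun s hs => h s (List.mem_cons_of_mem _ hs))

/-- the commutator form -/
def frm (t s : Fin 72 → K) : K := (l20.map fun r => t (pt r) * s r).sum

theorem comm_frm {g h : GL chevE6.Idx K} {t s : Fin 72 → K} (hg : HasC g t) (hh : HasC h s) :
    ⁅g, h⁆ = x 71 (frm t s) := by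
  obtain ⟨v, hv⟩ := hg
  obtain ⟨w, hw⟩ := hh
  have hgU : g ∈ UR K Jn := by
    rw [hv]
    exact mul_mem (lp_mem_U t l20 fun _ h => h) (x_mem_UR (r := 71) (by decide) (by decide +kernel) v)
  have step : ∀ L : List (Fin 72), (∀ r ∈ L, r ∈ l20) →
      ⁅g, lp s L⁆ = x 71 ((L.map fun r => t (pt r) * s r).sum) := by
    intro L
    induction L with
    | nil => intro _; rw [lp_nil, commutatorElement_one_right, List.map_nil, List.sum_nil, TwE6Basic.x_zero]
    | cons r L ih =>
      intro hL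
      have hr := hL r List.mem_cons_self
      have h1 : ⁅g, x r.val (s r)⁆ = x 71 (t (pt r) * s r) := by
        rw [hv]; exact comm_coords t v hr (s r)
      have h2 := ih fun r hr => hL r (List.mem_cons_of_mem _ hr)
      have e : ⁅g, x r.val (s r) * lp s L⁆ =
          ⁅g, x r.val (s r)⁆ * (x r.val (s r) * ⁅g, lp s L⁆ * (x r.val (s r))⁻¹) := by
        simp only [commutatorElement_def]; group
      rw [lp_cons, e, h1, h2, ← comm_top (l20_mem r hr).1, mul_inv_cancel_right, x_add, List.map_cons, List.sum_cons]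
  have h3 := step l20 fun _ h => h
  have e : ⁅g, lp s l20 * x 71 w⁆ = ⁅g, lp s l20⁆ * (lp s l20 * ⁅g, x 71 w⁆ * (lp s l20)⁻¹) := by
    simp only [commutatorElement_def]; group
  have h4 : ⁅g, x 71 w⁆ = 1 := commutatorElement_eq_one_iff_mul_comm.2 (U_comm_top (UR_le_U hgU) w)
  rw [hw, e, h4, mul_one, mul_inv_cancel, mul_one, h3]
  rfl

end Two

section Four

variable [Fintype K] {φ : K →+* K} (F : Four K φ)
include F

theorem zero_or_one' {r : Fin 72} {g : GL chevE6.Idx K} {t : Fin 72 → K} (hg : HasC g t) (hE : g ∈ twistedE6 K 2)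
    (hr : r ∈ fx) : t r = 0 ∨ t r = 1 := by
  obtain ⟨v, rfl⟩ := hg
  exact zero_or_one F (coord_fix F hE (fx_tab r hr).1 (fx_pt r hr))

/-- `R` is generated by the root elements. -/
theorem RE_le_GL (C : Subgroup (GL chevE6.Idx K)) (h71 : x 71 (1 : K) ∈ C) (hx : ∀ r ∈ fx, x r.val (1 : K) ∈ C)
    (hz : ∀ p ∈ rp, ∀ t : K, z φ p.1 t ∈ C) {g : GL chevE6.Idx K} (hg : g ∈ UR K Jn) (hE : g ∈ twistedE6 K 2) :
    g ∈ C := by
  have := F.charP
  obtain ⟨t, v, e⟩ := coords hg
  have hc : HasC g t := ⟨v, e⟩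
  have hlx : ((fx.map fun r => x r.val (t r)).prod : GL chevE6.Idx K) ∈ C := by
    refine Subgroup.list_prod_mem _ fun y hy => ?_
    obtain ⟨r, hr, rfl⟩ := List.mem_map.1 hy
    rcases zero_or_one' F hc hE hr with h | h
    · rw [h, TwE6Basic.x_zero]; exact one_mem _
    · rw [h]; exact hx r hr
  have hlz : ((rp.map fun p => z φ p.1 (t p.1)).prod : GL chevE6.Idx K) ∈ C := by
    refine Subgroup.list_prod_mem _ fun y hy => ?_
    obtain ⟨r, hr, rfl⟩ := List.mem_map.1 hy
    exact hz r hr _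
  have hc2 := (HasC.listx t fx fun r hr => (fx_tab r hr).1).mul
    (HasC.listz φ t rp fun p hp => ⟨(rp_tab p hp).1, (rp_tab p hp).2.1, (rp_tab p hp).2.2.1⟩)
  have hpair : ∀ p ∈ rp, t p.2 = φ (t p.1) := by
    intro p hp
    obtain ⟨h1, h2, h3, h4, h5⟩ := rp_tab p hp
    rw [← h3]
    exact coord_pair F (v := v) (by rw [← e]; exact hE) h1 h5
  have hall : ∀ r ∈ l20, ((fx.map fun r => sgl r (t r)).sum + (rp.map fun p => sgl p.1 (t p.1) +
      sgl p.2 (φ (t p.1))).sum) r = t r := by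
    have e50 : φ (t 48) = t 50 := (hpair (48, 50) (by decide)).symm
    have e61 : φ (t 49) = t 61 := (hpair (49, 61) (by decide)).symm
    have e62 : φ (t 52) = t 62 := (hpair (52, 62) (by decide)).symm
    have e64 : φ (t 54) = t 64 := (hpair (54, 64) (by decide)).symm
    have e67 : φ (t 55) = t 67 := (hpair (55, 67) (by decide)).symm
    have e68 : φ (t 66) = t 68 := (hpair (66, 68) (by decide)).symm
    intro r hr
    simp only [fx, rp, List.map_cons, List.map_nil, List.sum_cons, List.sum_nil, Pi.add_apply, Pi.zero_apply, sgl,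
      e50, e61, e62, e64, e67, e68]
    simp only [l20, List.mem_cons, List.not_mem_nil, or_false] at hr
    rcases hr with rfl | rfl | rfl | rfl | rfl | rfl | rfl | rfl | rfl | rfl | rfl | rfl | rfl | rfl | rfl | rfl |
      rfl | rfl | rfl | rfl <;> simp
  obtain ⟨w, hw⟩ := hc2
  rw [lp_congr F hall] at hw
  have hq : ((fx.map fun r => x r.val (t r)).prod : GL chevE6.Idx K) * (rp.map fun p => z φ p.1 (t p.1)).prod ∈ C :=
    mul_mem hlx hlz
  have hqE : ((fx.map fun r => x r.val (t r)).prod : GL chevE6.Idx K) * (rp.map fun p => z φ p.1 (t p.1)).prod ∈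
      twistedE6 K 2 := by
    refine mul_mem (Subgroup.list_prod_mem _ fun y hy => ?_) (Subgroup.list_prod_mem _ fun y hy => ?_)
    · obtain ⟨r, hr, rfl⟩ := List.mem_map.1 hy
      rcases zero_or_one' F hc hE hr with h | h
      · rw [h, TwE6Basic.x_zero]; exact one_mem _
      · rw [h]; exact x_mem_E F (fx_tab r hr).2
    · obtain ⟨p, hp, rfl⟩ := List.mem_map.1 hy
      obtain ⟨h1, h2, h3, h4, h5⟩ := rp_tab p hp
      exact (z_mem_UE F h1 h4 _).2
  rw [hw] at hq hqE
  have e2 : g = lp t l20 * x 71 w * x 71 (v - w) := by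
    rw [e, mul_assoc, x_add, add_sub_cancel]
  have h3 : x 71 (v - w) ∈ twistedE6 K 2 := by
    have h4 : x 71 (v - w) = (lp t l20 * x 71 w)⁻¹ * g := by rw [e2, inv_mul_cancel_left]
    rw [h4]
    exact mul_mem (inv_mem hqE) hE
  rw [e2]
  refine mul_mem hq ?_
  rcases zero_or_one F (x71_E F h3) with h | h
  · rw [h, TwE6Basic.x_zero]; exact one_mem _
  · rwa [h]

/-- short root elements of the radical -/
def ze (k : Fin 72) (hk : k ∈ l20) (hk' : rho k ≠ k) (t : K) : ↥(twistedE6 K 2) := ⟨z φ k t, (z_mem_UE F hk hk' t).2⟩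

theorem ze_RE (k : Fin 72) (hk : k ∈ l20) (hk' : rho k ≠ k) (t : K) : ze F k hk hk' t ∈ RE K :=
  Subgroup.mem_subgroupOf.2 (z_mem_UE F hk hk' t).1

theorem xe_sq (r : Fin 72) (hr : rho r = r) : xe F r hr * xe F r hr = 1 := by
  have := F.charP
  exact Subtype.ext (x_sq (K := K) r.val)

theorem ze_sq (k : Fin 72) (hk : k ∈ l20) (hk' : rho k ≠ k) (t : K) : ze F k hk hk' t * ze F k hk hk' t = 1 := by
  have h := z_inv F hk hk' t
  refine Subtype.ext ?_
  show z φ k t * z φ k t = 1
  nth_rewrite 1 [← h]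
  exact inv_mul_cancel _

theorem xe_comm {r s : Fin 72} (hr : rho r = r) (hs : rho s = s) (h : Co r s) :
    xe F r hr * xe F s hs = xe F s hs * xe F r hr := Subtype.ext (h.eq (K := K) 1 1).symm

theorem ze_comm {k r : Fin 72} (hk : k ∈ l20) (hk' : rho k ≠ k) (hr : rho r = r) (h1 : Co k r) (h2 : Co (rho k) r)
    (t : K) : ze F k hk hk' t * xe F r hr = xe F r hr * ze F k hk hk' t := by
  have := F.charP
  exact Subtype.ext (z_comm h1 h2 φ t 1)

/-- `x_s x_r = x_r x_s x_k` -/
theorem xe_xe {s r k : Fin 72} (hs : rho s = s) (hr : rho r = r) (hk : rho k = k) (h : Si r s k) :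
    xe F s hs * xe F r hr = xe F r hr * xe F s hs * xe F k hk := by
  have := F.charP
  exact Subtype.ext (comm_xx h)

theorem one_not_T : (1 : ↥(twistedE6 K 2)) ∉ rootClass K := by
  have := F.charP
  intro h
  obtain ⟨g, r, hr, e⟩ := h
  have h1 : r = 1 := by
    have : r = g⁻¹ * 1 * g := by rw [e]; group
    rw [this]; group
  have h2 := xe_T F 46 (by decide +kernel)
  obtain ⟨g', r', hr', e'⟩ := h2
  have h3 : r' = r := Subtype.ext (Units.ext (hr'.trans hr.symm))
  rw [h3, h1] at e'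
  have h4 : xe F 46 (by decide +kernel) = 1 := by rw [e']; group
  exact x_ne_one (K := K) (r := 46) (by norm_num) (congrArg Subtype.val h4)

/-- **A witness that a product is not a root involution.** -/
theorem vis {v v' : Fin 72} (hv : rho v = v) (hv' : rho v' = v') (h : v'.val = chevE6.neg v.val)
    {m : ↥(twistedE6 K 2)} (mm : m * m = 1) (m1 : m ≠ 1) (c1 : m * xe F v hv = xe F v hv * m)
    (c2 : m * xe F v' hv' = xe F v' hv' * m) : xe F v hv * m ∉ rootClass K := by
  have := F.charP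
  intro hT
  have hT' := xe_T F v' hv'
  have h3 : (xe F v hv * xe F v' hv') ^ 3 = 1 := Subtype.ext (cube_neg hv h)
  have hc : Commute (xe F v hv * xe F v' hv') m := Commute.mul_left (show Commute _ m from c1.symm)
    (show Commute _ m from c2.symm)
  have e : xe F v hv * m * xe F v' hv' = xe F v hv * xe F v' hv' * m := by
    rw [mul_assoc, c2, ← mul_assoc]
  rcases order_T F hT hT' with h4 | h4
  · rw [e, hc.mul_pow, show 4 = 3 + 1 from rfl, pow_succ (xe F v hv * xe F v' hv'), h3, one_mul,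
      show 3 + 1 = 2 * 2 from rfl, pow_mul, pow_two m, mm, one_pow, mul_one] at h4
    have h5 : (xe F v hv * m) * xe F v' hv' = m := by rw [e, h4, one_mul]
    have h6 : xe F v hv = xe F v' hv' := by
      have := eq_inv_of_mul_eq_one_left h4
      rw [this, inv_eq_of_mul_eq_one_left (xe_sq F v' hv')]
    have hne : v.val ≠ v'.val := by
      intro h7
      have : ∀ v : Fin 72, v.val ≠ chevE6.neg v.val := by decide +kernel
      exact this v (h7.trans h)
    exact x_ne (K := K) v.2 v'.2 hne (congrArg Subtype.val h6)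
  · rw [e, hc.mul_pow, h3, one_mul, pow_succ, pow_two, mm, one_mul] at h4
    exact m1 h4

/-- noncentral elements of `R` are conjugate to their product with `r0` -/
theorem conj_w {p : ↥(twistedE6 K 2)} (hp : p ∈ RE K) (h1 : p ≠ 1) (h2 : p ≠ r0 F) :
    ∃ q ∈ RE K, q * p * q⁻¹ = p * r0 F := by
  by_contra hcon
  have h3 : p * r0 F = r0 F * p := S_cent F p (R_le F hp)
  have hc : ∀ q ∈ RE K, q * p = p * q := by
    intro q hq
    rcases comm_RE F hq hp with h | h
    · exact h
    · refine absurd ⟨q, hq, ?_⟩ hcon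
      rw [commutatorElement_def, mul_inv_eq_iff_eq_mul] at h
      rw [h, h3]
  rcases center_R F p hp hc with h | h
  · exact h1 h
  · exact h2 h

theorem T_w {p : ↥(twistedE6 K 2)} (hp : p ∈ RE K) (hT : p ∈ rootClass K) (h2 : p ≠ r0 F) :
    p * r0 F ∈ rootClass K := by
  obtain ⟨q, -, e⟩ := conj_w F hp (fun h => one_not_T F (h ▸ hT)) h2
  rw [← e]
  exact conj_T hT q

theorem not_T_w {p : ↥(twistedE6 K 2)} (hp : p ∈ RE K) (hT : p ∉ rootClass K) (h1 : p ≠ 1) (h2 : p ≠ r0 F) :
    p * r0 F ∉ rootClass K := by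
  intro h
  obtain ⟨q, -, e⟩ := conj_w F hp h1 h2
  rw [← e] at h
  have := conj_T h q⁻¹
  apply hT
  have e2 : q⁻¹ * (q * p * q⁻¹) * q⁻¹⁻¹ = p := by group
  rwa [e2] at this

/-- `R` is generated by the root elements. -/
theorem RE_le (N : Subgroup ↥(twistedE6 K 2)) (h71 : r0 F ∈ N) (hx : ∀ r (hr : r ∈ fx), xe F r (fx_tab r hr).2 ∈ N)
    (hz : ∀ p (hp : p ∈ rp) (t : K), ze F p.1 (rp_tab p hp).1 (rp_tab p hp).2.2.2.1 t ∈ N) : RE K ≤ N := by
  intro p hp
  have h := RE_le_GL F (N.map (twistedE6 K 2).subtype) ⟨r0 F, h71, rfl⟩ (fun r hr => ⟨_, hx r hr, rfl⟩)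
    (fun r hr t => ⟨_, hz r hr t, rfl⟩) (Subgroup.mem_subgroupOf.1 hp) p.2
  obtain ⟨q, hq, e⟩ := h
  have : q = p := Subtype.ext e
  rwa [← this]

/-- **The closing argument.** -/
theorem close (N : Subgroup ↥(twistedE6 K 2)) (hN : N ≤ RE K) (h0 : r0 F ∈ N) {g b : ↥(twistedE6 K 2)}
    (hg : g ∈ RE K) (gg : g * g = 1) (hNb : ∀ n ∈ N, n * b = b * n) (hgb : g * b ≠ b * g)
    (hx : ∀ r (hr : r ∈ fx), xe F r (fx_tab r hr).2 ∈ N ∨ xe F r (fx_tab r hr).2 * g ∈ N)
    (hz : ∀ p (hp : p ∈ rp) (t : K), ze F p.1 (rp_tab p hp).1 (rp_tab p hp).2.2.2.1 t ∈ N) :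
    ∀ p ∈ RE K, p * b = b * p → p ∈ N := by
  have hinv : g⁻¹ = g := inv_eq_of_mul_eq_one_left gg
  have hgN : ∀ n ∈ N, g * n * g ∈ N := by
    intro n hn
    rcases comm_RE F hg (hN hn) with h | h
    · rw [h, mul_assoc, gg, mul_one]; exact hn
    · have h1 : g * n * g = ⁅g, n⁆ * n := by rw [commutatorElement_def, hinv]; group
      rw [h1, h]
      exact mul_mem h0 hn
  let M : Subgroup ↥(twistedE6 K 2) :=
    { carrier := {p | p ∈ N ∨ p * g ∈ N}
      one_mem' := Or.inl (one_mem _)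
      mul_mem' := by
        rintro p q (hp | hp) (hq | hq)
        · exact Or.inl (mul_mem hp hq)
        · refine Or.inr ?_
          rw [mul_assoc]
          exact mul_mem hp hq
        · refine Or.inr ?_
          have e : p * q * g = p * g * (g * q * g) := by
            calc p * q * g = p * (g * g) * q * g := by rw [gg, mul_one]
              _ = _ := by simp only [mul_assoc]
          rw [e]
          exact mul_mem hp (hgN q hq)
        · refine Or.inl ?_
          have e : p * q = p * g * (g * (q * g) * g) := by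
            calc p * q = p * (g * g) * q * (g * g) := by rw [gg, mul_one, mul_one]
              _ = _ := by simp only [mul_assoc]
          rw [e]
          exact mul_mem hp (hgN _ hq)
      inv_mem' := by
        rintro p (hp | hp)
        · exact Or.inl (inv_mem hp)
        · refine Or.inr ?_
          have e : p⁻¹ * g = g * (p * g)⁻¹ * g := by
            rw [mul_inv_rev, hinv, ← mul_assoc, gg, one_mul]
          rw [e]
          exact hgN _ (inv_mem hp) }
  have hM : RE K ≤ M := RE_le F M (Or.inl h0) (fun r hr => hx r hr) (fun p hp t => Or.inl (hz p hp t))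
  intro p hp hpb
  rcases hM hp with h | h
  · exact h
  · exfalso
    apply hgb
    have h1 := hNb _ h
    have h2 : p * (g * b) = p * (b * g) := by
      calc p * (g * b) = p * g * b := by rw [mul_assoc]
        _ = b * (p * g) := h1
        _ = b * p * g := by rw [mul_assoc]
        _ = p * (b * g) := by rw [← hpb, mul_assoc]
    exact mul_left_cancel h2

end Four

end Cfsg.Agent.TwoESix.GenBase
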