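import Cfsg.Agent.BabyU.OutFree
import Cfsg.Prelude.Def_Spor_Fi22

/-!
# Homomorphisms of `Fi22` from the relations `Good`

`s : Fin 10 → G` with `Good s` (the ten nodes of `Y₃₃₃`, in the Baby Monster `s k = t(k+2)`).
* `fiA h : Spor.Fi22 →* G`, `a b c d e f g h i ↦ s 0, …, s 8` (`⟨t2, …, t10⟩`);
* `fiB h : Spor.Fi22 →* G`, `a b c d e f g h i ↦ t8 t7 t6 t5 t9 t10 t11 t4 t3` (`⟨t3, …, t11⟩`, the map `mA` of stage A).
-/

set_option autoImplicit false

namespace Cfsg.Agent.TwoESix.GoodFi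

open Cfsg Cfsg.Spor Cfsg.Agent.TwoESix.Cox10 Cfsg.Agent.TwoESix.Lift Cfsg.Agent.BabyU.OutFree

variable {G : Type*} [Group G] {s : Fin 10 → G}

/-- the nodes of `Y₃₃₂` -/
def gA : Fi22.Gen → Fin 10
  | .a => 0
  | .b => 1
  | .c => 2
  | .d => 3
  | .e => 4
  | .f => 5
  | .g => 6
  | .h => 7
  | .i => 8

/-- the nodes `t8 t7 t6 t5 t9 t10 t11 t4 t3` -/
def gB : Fi22.Gen → Fin 10
  | .a => 6
  | .b => 5
  | .c => 4
  | .d => 3
  | .e => 7
  | .f => 8
  | .g => 9
  | .h => 2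
  | .i => 1

theorem gB_eq (g : Fi22.Gen) : gB g = P6 5 (gA g) := by cases g <;> rfl

theorem lab_gA : ∀ a b : Fi22.Gen, coxLabel Fi22.edges a b = lab (gA a) (gA b) := by
  intro a b
  cases a <;> cases b <;> decide

theorem chk1 : chk (rep 9 [0, 1, 2, 3, 4, 5, 7]) (rep 9 W321) = true := by decide +kernel
theorem chk2 : chk (rep 9 [1, 2, 3, 4, 5, 6, 7]) (rep 9 W231) = true := by decide +kernel

theorem word1 (h : Good s) : ev s [0, 1, 2, 3, 4, 5, 7] ^ 9 = 1 := by
  rw [← ev_rep, ev_eq_ev h.lift chk1, ev_rep, h.e321]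

theorem word2 (h : Good s) : ev s [1, 2, 3, 4, 5, 6, 7] ^ 9 = 1 := by
  rw [← ev_rep, ev_eq_ev h.lift chk2, ev_rep, h.e231]

/-- **The relators of `Fi22`** for `s 0, …, s 8`. -/
theorem relsA (h : Good s) : ∀ r ∈ coxRelators Fi22.edges ∪ {r | r ∈ Fi22.extra},
    FreeGroup.lift (fun g => s (gA g)) r = 1 := by
  rintro r (⟨x, -, y, -, rfl⟩ | hr)
  · rw [map_pow, map_mul, FreeGroup.lift_apply_of, FreeGroup.lift_apply_of, lab_gA]
    exact h.lift _ _
  · simp only [Fi22.extra, Set.mem_setOf_eq, List.mem_cons, List.not_mem_nil, or_false] at hr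
    rcases hr with rfl | rfl | rfl
    · simp only [map_pow, map_mul, FreeGroup.lift_apply_of, gA]
      have h1 := h.spider
      simpa only [ev, spider, List.map_cons, List.map_nil, List.prod_cons, List.prod_nil, mul_one, mul_assoc] using h1
    · simp only [map_pow, map_mul, FreeGroup.lift_apply_of, gA]
      have h1 := word1 h
      simpa only [ev, List.map_cons, List.map_nil, List.prod_cons, List.prod_nil, mul_one, mul_assoc] using h1
    · simp only [map_pow, map_mul, FreeGroup.lift_apply_of, gA]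
      have h1 := word2 h
      simpa only [ev, List.map_cons, List.map_nil, List.prod_cons, List.prod_nil, mul_one, mul_assoc] using h1

/-- The homomorphism onto `⟨s 0, …, s 8⟩ = ⟨t2, …, t10⟩`. -/
def fiA (h : Good s) : Spor.Fi22 →* G := PresentedGroup.toGroup (f := fun g => s (gA g)) (relsA h)

theorem fiA_of (h : Good s) (g : Fi22.Gen) : fiA h (PresentedGroup.of g : Spor.Fi22) = s (gA g) :=
  PresentedGroup.toGroup.of (relsA h)

/-- **The relators of `Fi22`** for `s 6, s 5, s 4, s 3, s 7, s 8, s 9, s 2, s 1`. -/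
theorem relsB (h : Good s) : ∀ r ∈ coxRelators Fi22.edges ∪ {r | r ∈ Fi22.extra},
    FreeGroup.lift (fun g => s (gB g)) r = 1 := by
  have h1 := relsA (good_P6 h 5)
  simpa only [gB_eq] using h1

/-- The homomorphism onto `⟨s 1, …, s 9⟩ = ⟨t3, …, t11⟩`. -/
def fiB (h : Good s) : Spor.Fi22 →* G := PresentedGroup.toGroup (f := fun g => s (gB g)) (relsB h)

theorem fiB_of (h : Good s) (g : Fi22.Gen) : fiB h (PresentedGroup.of g : Spor.Fi22) = s (gB g) :=
  PresentedGroup.toGroup.of (relsB h)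

/-- the nodes `t8 t7 t6 t5 t4 t3 t2 t9 t10` (the labels of the letters of `Fi23` in stage A) -/
def g0 : Fi22.Gen → Fin 10
  | .a => 6
  | .b => 5
  | .c => 4
  | .d => 3
  | .e => 2
  | .f => 1
  | .g => 0
  | .h => 7
  | .i => 8

theorem g0_eq (g : Fi22.Gen) : g0 g = P6 1 (gA g) := by cases g <;> rfl

/-- **The relators of `Fi22`** for `s 6, s 5, s 4, s 3, s 2, s 1, s 0, s 7, s 8`. -/
theorem rels0 (h : Good s) : ∀ r ∈ coxRelators Fi22.edges ∪ {r | r ∈ Fi22.extra},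
    FreeGroup.lift (fun g => s (g0 g)) r = 1 := by
  have h1 := relsA (good_P6 h 1)
  simpa only [g0_eq] using h1

/-- The homomorphism onto `⟨s 0, …, s 8⟩ = ⟨t2, …, t10⟩`, other labels. -/
def fi0 (h : Good s) : Spor.Fi22 →* G := PresentedGroup.toGroup (f := fun g => s (g0 g)) (rels0 h)

theorem fi0_of (h : Good s) (g : Fi22.Gen) : fi0 h (PresentedGroup.of g : Spor.Fi22) = s (g0 g) :=
  PresentedGroup.toGroup.of (rels0 h)

/-- The images of the generators generate the range. -/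
theorem range_fiA (h : Good s) : (fiA h).range = Subgroup.closure {x | ∃ i : Fin 10, i ≠ 9 ∧ s i = x} := by
  rw [MonoidHom.range_eq_map, ← PresentedGroup.closure_range_of, MonoidHom.map_closure]
  congr 1
  ext x
  constructor
  · rintro ⟨_, ⟨g, rfl⟩, rfl⟩
    exact ⟨gA g, by cases g <;> decide, (fiA_of h g).symm⟩
  · rintro ⟨i, hi, rfl⟩
    have key : ∀ i : Fin 10, i ≠ 9 → ∃ g : Fi22.Gen, gA g = i := by
      intro i hi
      fin_cases i
      · exact ⟨.a, rfl⟩
      · exact ⟨.b, rfl⟩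
      · exact ⟨.c, rfl⟩
      · exact ⟨.d, rfl⟩
      · exact ⟨.e, rfl⟩
      · exact ⟨.f, rfl⟩
      · exact ⟨.g, rfl⟩
      · exact ⟨.h, rfl⟩
      · exact ⟨.i, rfl⟩
      · exact absurd rfl hi
    obtain ⟨g, rfl⟩ := key i hi
    exact ⟨_, ⟨g, rfl⟩, fiA_of h g⟩

theorem range_fiB (h : Good s) : (fiB h).range = Subgroup.closure {x | ∃ i : Fin 10, i ≠ 0 ∧ s i = x} := by
  rw [MonoidHom.range_eq_map, ← PresentedGroup.closure_range_of, MonoidHom.map_closure]
  congr 1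
  ext x
  constructor
  · rintro ⟨_, ⟨g, rfl⟩, rfl⟩
    exact ⟨gB g, by cases g <;> decide, (fiB_of h g).symm⟩
  · rintro ⟨i, hi, rfl⟩
    have key : ∀ i : Fin 10, i ≠ 0 → ∃ g : Fi22.Gen, gB g = i := by
      intro i hi
      fin_cases i
      · exact absurd rfl hi
      · exact ⟨.i, rfl⟩
      · exact ⟨.h, rfl⟩
      · exact ⟨.d, rfl⟩
      · exact ⟨.c, rfl⟩
      · exact ⟨.b, rfl⟩
      · exact ⟨.a, rfl⟩
      · exact ⟨.e, rfl⟩
      · exact ⟨.f, rfl⟩
      · exact ⟨.g, rfl⟩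
    obtain ⟨g, rfl⟩ := key i hi
    exact ⟨_, ⟨g, rfl⟩, fiB_of h g⟩

end Cfsg.Agent.TwoESix.GoodFi
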