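import Cfsg.Agent.ChevalleyStructure.TwE6BN
import Cfsg.Agent.ChevalleyStructure.TwistedE6Rel
import Cfsg.Agent.S1047
import Cfsg.Agent.S1048

/-!
# ²E₆(2): Levi decompositions of the σ-stable parabolic subgroups, root elements fixed by σ

`K` is a field with four elements (or, where possible, any field), `σ = sg φ`, `E = twistedE6 K 2`.
-/

set_option autoImplicit false

namespace Cfsg.Agent.TwoESix.LeviA

open scoped Pointwise
open Cfsg.Lie
open Cfsg.Agent.ChevalleyStructure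
open Cfsg.Agent.ChevalleyStructure.Elts hiding x_add x_zero x_eq_one_iff
open Cfsg.Agent.ChevalleyStructure.TwE6Basic
open Cfsg.Agent.ChevalleyStructure.TwE6BN
open Cfsg.Agent.ChevalleyStructure.SignedSymm
open Cfsg.Agent.ChevalleyStructure.GraphSymm

universe u

variable {K : Type u} [Field K]

/-! ### Parabolic subgroups -/

/-- Stability of a set of fundamental roots (0-based numbers) under the symmetry. -/
structure Stable (J : List ℕ) : Prop where
  lt : ∀ j ∈ J, j < 6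
  rho : ∀ r : Fin 72, chevE6.InRootSub {j | j ∈ J} r.val → chevE6.InRootSub {j | j ∈ J} (rho r).val

/-- `U_J` -/
abbrev UR (K : Type u) [Field K] (J : List ℕ) : Subgroup (GL chevE6.Idx K) :=
  chevE6.unipotentRadical K {j | j ∈ J}

/-- `L_J` -/
abbrev LR (K : Type u) [Field K] (J : List ℕ) : Subgroup (GL chevE6.Idx K) :=
  chevE6.leviSubgroup K {j | j ∈ J}

/-- `P_J` -/
abbrev PR (K : Type u) [Field K] (J : List ℕ) : Subgroup (GL chevE6.Idx K) :=
  chevE6.parabolicSubgroup K {j | j ∈ J}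

variable {J : List ℕ}

theorem x_mem_UR {r : Fin 72} (hr : 36 ≤ r.val) (hr' : ¬ chevE6.InRootSub {j | j ∈ J} r.val) (t : K) :
    x r.val t ∈ UR K J :=
  Subgroup.subset_closure ⟨r.val, t, (pos_iff r).2 hr, hr', rfl⟩

theorem UR_le {M : Subgroup (GL chevE6.Idx K)}
    (h : ∀ r : Fin 72, 36 ≤ r.val → ¬ chevE6.InRootSub {j | j ∈ J} r.val → ∀ t : K, x r.val t ∈ M) :
    UR K J ≤ M := by
  refine (Subgroup.closure_le M).2 ?_
  rintro g ⟨r, t, hr, hr', hg⟩
  have hlt : r < 72 := hr.1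
  rw [(eq_xG_iff hE6 g r t).2 hg]
  exact h ⟨r, hlt⟩ ((pos_iff ⟨r, hlt⟩).1 hr) hr' t

theorem x_mem_LR {r : ℕ} (hr : chevE6.InRootSub {j | j ∈ J} r) (t : K) : x r t ∈ LR K J :=
  (le_sup_right : _ ≤ LR K J) (Subgroup.subset_closure ⟨r, t, hr, rfl⟩)

theorem H_le_LR : chevE6.diagonalSubgroup K ≤ LR K J := le_sup_left

theorem LR_le {M : Subgroup (GL chevE6.Idx K)} (hH : chevE6.diagonalSubgroup K ≤ M)
    (h : ∀ r : Fin 72, chevE6.InRootSub {j | j ∈ J} r.val → ∀ t : K, x r.val t ∈ M) : LR K J ≤ M := by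
  refine sup_le hH ((Subgroup.closure_le M).2 ?_)
  rintro g ⟨r, t, hr, hg⟩
  have hlt : r < 72 := hr.1
  rw [(eq_xG_iff hE6 g r t).2 hg]
  exact h ⟨r, hlt⟩ hr t

theorem UR_le_U : UR K J ≤ chevE6.posUnipotent K := UR_le fun _ hr _ t => mem_U hr t

theorem UR_le_PR : UR K J ≤ PR K J := UR_le_U.trans (le_sup_left.trans le_sup_left)

theorem B_le_PR : chevE6.borelSubgroup K ≤ PR K J := le_sup_left

theorem UR_sup_LR : UR K J ⊔ LR K J = PR K J :=
  (Cfsg.Agent.S1048.result (F := K) chevE6 hE6 {j | j ∈ J}).2.1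

theorem LR_le_PR : LR K J ≤ PR K J := le_sup_right.trans UR_sup_LR.le

theorem conj_UR {g u : GL chevE6.Idx K} (hg : g ∈ PR K J) (hu : u ∈ UR K J) : g * u * g⁻¹ ∈ UR K J :=
  (Subgroup.mem_normalizer_iff.1 ((Cfsg.Agent.S1048.result (F := K) chevE6 hE6 {j | j ∈ J}).1 hg) u).1 hu

theorem UR_inf_LR {g : GL chevE6.Idx K} (h1 : g ∈ UR K J) (h2 : g ∈ LR K J) : g = 1 :=
  Subgroup.mem_bot.1 ((Cfsg.Agent.S1048.result (F := K) chevE6 hE6 {j | j ∈ J}).2.2 ▸
    Subgroup.mem_inf.2 ⟨h1, h2⟩)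

theorem exists_decomp {g : GL chevE6.Idx K} (hg : g ∈ PR K J) :
    ∃ u ∈ UR K J, ∃ l ∈ LR K J, g = u * l := by
  have h2 := (Cfsg.Agent.S1048.result (F := K) chevE6 hE6 {j | j ∈ J}).2.1
  have hn : LR K J ≤ Subgroup.normalizer (UR K J : Set (GL chevE6.Idx K)) :=
    LR_le_PR.trans (Cfsg.Agent.S1048.result (F := K) chevE6 hE6 {j | j ∈ J}).1
  have h1 : ((UR K J ⊔ LR K J : Subgroup _) : Set (GL chevE6.Idx K)) =
      (UR K J : Set (GL chevE6.Idx K)) * (LR K J : Set (GL chevE6.Idx K)) :=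
    Subgroup.coe_mul_of_right_le_normalizer_left _ _ hn
  have h3 : g ∈ ((UR K J ⊔ LR K J : Subgroup _) : Set (GL chevE6.Idx K)) := by
    exact h2.ge hg
  rw [h1] at h3
  obtain ⟨v, hv, y, hy, rfl⟩ := h3
  exact ⟨v, hv, y, hy, rfl⟩

theorem decomp_unique {u u' l l' : GL chevE6.Idx K} (hu : u ∈ UR K J) (hu' : u' ∈ UR K J)
    (hl : l ∈ LR K J) (hl' : l' ∈ LR K J) (h : u * l = u' * l') : u = u' ∧ l = l' := by
  have h1 : u'⁻¹ * u = l' * l⁻¹ := by
    rw [inv_mul_eq_iff_eq_mul, ← mul_assoc, ← h, mul_inv_cancel_right]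
  have h2 : u'⁻¹ * u = 1 := UR_inf_LR (mul_mem (inv_mem hu') hu) (h1 ▸ mul_mem hl' (inv_mem hl))
  rw [h2] at h1
  exact ⟨(inv_mul_eq_one.1 h2).symm, (mul_inv_eq_one.1 h1.symm).symm⟩

/-- the image in the Levi subgroup of a product -/
theorem levi_mul {u u' l l' : GL chevE6.Idx K} (hu' : u' ∈ UR K J)
    (hl : l ∈ LR K J) : ∃ v ∈ UR K J, (u * l) * (u' * l') = (u * v) * (l * l') :=
  ⟨l * u' * l⁻¹, conj_UR (LR_le_PR hl) hu', by group⟩

/-! ### The Levi component -/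

open Classical in
/-- The component in `L_J` of an element of `P_J`. -/
noncomputable def lv (J : List ℕ) (g : GL chevE6.Idx K) : GL chevE6.Idx K :=
  if h : g ∈ PR K J then (exists_decomp h).choose_spec.2.choose else 1

theorem lv_spec {g : GL chevE6.Idx K} (hg : g ∈ PR K J) :
    lv J g ∈ LR K J ∧ ∃ u ∈ UR K J, g = u * lv J g := by
  have h := (exists_decomp hg).choose_spec.2.choose_spec
  have e : lv J g = (exists_decomp hg).choose_spec.2.choose := by
    unfold lv; rw [dif_pos hg]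
  rw [← e] at h
  exact ⟨h.1, _, (exists_decomp hg).choose_spec.1, h.2⟩

theorem lv_mem {g : GL chevE6.Idx K} (hg : g ∈ PR K J) : lv J g ∈ LR K J := (lv_spec hg).1

theorem lv_eq {u l : GL chevE6.Idx K} (hu : u ∈ UR K J) (hl : l ∈ LR K J) : lv J (u * l) = l := by
  obtain ⟨h1, v, hv, h2⟩ := lv_spec (J := J) (mul_mem (UR_le_PR hu) (LR_le_PR hl))
  exact (decomp_unique hu hv hl h1 h2).2.symm

theorem lv_of_UR {u : GL chevE6.Idx K} (hu : u ∈ UR K J) : lv J u = 1 := by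
  have h := lv_eq hu (one_mem (LR K J))
  rwa [mul_one] at h

theorem lv_of_LR {l : GL chevE6.Idx K} (hl : l ∈ LR K J) : lv J l = l := by
  have h := lv_eq (one_mem (UR K J)) hl
  rwa [one_mul] at h

theorem lv_mul {g g' : GL chevE6.Idx K} (hg : g ∈ PR K J) (hg' : g' ∈ PR K J) :
    lv J (g * g') = lv J g * lv J g' := by
  obtain ⟨h1, u, hu, h2⟩ := lv_spec hg
  obtain ⟨h1', u', hu', h2'⟩ := lv_spec hg'
  obtain ⟨v, hv, e⟩ := levi_mul (u := u) hu' (l' := lv J g') h1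
  have e2 : g * g' = (u * v) * (lv J g * lv J g') := by
    calc g * g' = (u * lv J g) * (u' * lv J g') := by rw [← h2, ← h2']
      _ = _ := e
  rw [e2, lv_eq (mul_mem hu hv) (mul_mem h1 h1')]

theorem lv_inv {g : GL chevE6.Idx K} (hg : g ∈ PR K J) : lv J g⁻¹ = (lv J g)⁻¹ := by
  have h := lv_mul hg (inv_mem hg)
  rw [mul_inv_cancel, lv_of_UR (one_mem _)] at h
  exact (inv_eq_of_mul_eq_one_right h.symm).symm

/-- an element of `P_J` with trivial Levi component lies in `U_J` -/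
theorem mem_UR_of_lv {g : GL chevE6.Idx K} (hg : g ∈ PR K J) (h : lv J g = 1) : g ∈ UR K J := by
  obtain ⟨-, u, hu, h2⟩ := lv_spec hg
  rw [h, mul_one] at h2
  rw [h2]; exact hu

/-! ### σ in characteristic two -/

theorem eps_one_or : ∀ r : Fin 72, epsE r = 1 ∨ epsE r = -1 := by decide +kernel

section CharTwo

variable [CharP K 2]

theorem neg_eq_self (t : K) : -t = t := CharTwo.neg_eq t

/-- Conjugation by `n_i`, without signs. -/
theorem nE_conj2 {j : ℕ} (hj : j < 6) {s : ℕ} (hs : s < 72) (t : K) :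
    nE (K := K) (chevE6.simple j) * x s t * (nE (K := K) (chevE6.simple j))⁻¹ = x (chevE6.reflectRoot j s) t := by
  obtain ⟨η, hη, h⟩ := Cfsg.Agent.S1031.result (F := K) chevE6 hE6 j s hj hs
  have hη1 : (η : K) = 1 := by
    rcases hη with rfl | rfl
    · exact Int.cast_one
    · rw [Int.cast_neg, Int.cast_one, neg_eq_self]
  rw [mul_inv_eq_iff_eq_mul]
  apply Units.ext
  rw [Units.val_mul, Units.val_mul, coe_nG, coe_xG, coe_xG]
  have h1 := h t
  rw [hη1, one_mul] at h1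
  exact h1

theorem n_conj2_aux (L : List ℕ) (hL : ∀ j ∈ L, j < 6) {s : ℕ} (hs : s < 72) (t : K) :
    L.foldr (fun j r => chevE6.reflectRoot j r) s < 72 ∧
    (L.map fun j => nE (K := K) (chevE6.simple j)).prod * x s t *
      ((L.map fun j => nE (K := K) (chevE6.simple j)).prod)⁻¹ =
      x (L.foldr (fun j r => chevE6.reflectRoot j r) s) t := by
  induction L with
  | nil => exact ⟨hs, by simp⟩
  | cons j L ih =>
    obtain ⟨hlt, h⟩ := ih fun j' hj' => hL j' (List.mem_cons_of_mem _ hj')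
    refine ⟨reflect_lt ⟨j, hL j List.mem_cons_self⟩ ⟨_, hlt⟩, ?_⟩
    rw [List.map_cons, List.prod_cons, List.foldr_cons]
    have e : nE (K := K) (chevE6.simple j) * (L.map fun j => nE (K := K) (chevE6.simple j)).prod * x s t *
        (nE (K := K) (chevE6.simple j) * (L.map fun j => nE (K := K) (chevE6.simple j)).prod)⁻¹ =
        nE (K := K) (chevE6.simple j) * ((L.map fun j => nE (K := K) (chevE6.simple j)).prod * x s t *
          ((L.map fun j => nE (K := K) (chevE6.simple j)).prod)⁻¹) * (nE (K := K) (chevE6.simple j))⁻¹ := by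
      group
    rw [e, h, nE_conj2 (hL j List.mem_cons_self) hlt]

theorem n_conj2 (i : Fin 4) (s : Fin 72) (t : K) :
    n (K := K) i * x s.val t * (n (K := K) i)⁻¹ = x (wP i s).val t :=
  (n_conj2_aux (K := K) (J i) (fun j hj => (J_mem i j hj).1) s.isLt t).2

theorem sg_x2 (φ : K →+* K) (r : Fin 72) (t : K) : sg φ (x r.val t) = x (rho r).val (φ t) := by
  rw [sg_x]
  have h : ((symmE6.ε r : ℤ) : K) = 1 := by
    rcases eps_one_or r with h | h
    · have h' : (symmE6.ε r : ℤ) = 1 := h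
      rw [h', Int.cast_one]
    · have h' : (symmE6.ε r : ℤ) = -1 := h
      rw [h', Int.cast_neg, Int.cast_one, neg_eq_self]
  rw [h, one_mul]

theorem sg_nG (φ : K →+* K) (r : Fin 72) (t : K) :
    sg φ (nG hE6 r.val t) = nG hE6 (rho r).val (φ t) := by
  have e1 : chevE6.neg r.val = (Fin.rev r).val := neg_eq r
  have e2 : chevE6.neg (rho r).val = (rho (Fin.rev r)).val := by rw [neg_eq, rho_rev]
  rw [nG_def, nG_def, e1, e2, map_mul, map_mul]
  show sg φ (x r.val t) * (sg φ (x (Fin.rev r).val (-t⁻¹)) * sg φ (x r.val t)) = _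
  rw [sg_x2, sg_x2, map_neg, map_inv₀]

theorem sg_hG (φ : K →+* K) (r : Fin 72) (t : K) :
    sg φ (hG hE6 r.val t) = hG hE6 (rho r).val (φ t) := by
  rw [hG_def, hG_def, map_mul, sg_nG, sg_nG, map_neg, map_one]

theorem sg_H (φ : K →+* K) {h : GL chevE6.Idx K} (hh : h ∈ chevE6.diagonalSubgroup K) :
    sg φ h ∈ chevE6.diagonalSubgroup K := by
  have key : chevE6.diagonalSubgroup K ≤ (chevE6.diagonalSubgroup K).comap (sg φ) := by
    rw [diagonal_le_iff hE6]
    intro r hr t ht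
    show sg φ (hG hE6 (⟨r, hr⟩ : Fin 72).val t) ∈ chevE6.diagonalSubgroup K
    rw [sg_hG]
    exact hG_mem_diagonal hE6 (rho ⟨r, hr⟩).isLt ((map_ne_zero φ).2 ht)
  exact key hh

theorem sg_U (φ : K →+* K) {g : GL chevE6.Idx K} (hg : g ∈ chevE6.posUnipotent K) :
    sg φ g ∈ chevE6.posUnipotent K := by
  have key : chevE6.posUnipotent K ≤ (chevE6.posUnipotent K).comap (sg φ) := by
    rw [posUnipotent_le_iff hE6]
    intro r hr t
    have hlt : r < 72 := hr.1
    show sg φ (x (⟨r, hlt⟩ : Fin 72).val t) ∈ chevE6.posUnipotent K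
    rw [sg_x2]
    exact mem_U ((rho_pos _).2 ((pos_iff ⟨r, hlt⟩).1 hr)) _
  exact key hg

theorem sg_UR (hJ : Stable J) (φ : K →+* K) {g : GL chevE6.Idx K} (hg : g ∈ UR K J) :
    sg φ g ∈ UR K J := by
  have key : UR K J ≤ (UR K J).comap (sg φ) := by
    refine UR_le fun r hr hr' t => ?_
    show sg φ (x r.val t) ∈ UR K J
    rw [sg_x2]
    refine x_mem_UR ((rho_pos r).2 hr) (fun h => hr' ?_) _
    have h2 := hJ.rho _ h
    rwa [rho_rho] at h2
  exact key hg

theorem sg_LR (hJ : Stable J) (φ : K →+* K) {g : GL chevE6.Idx K} (hg : g ∈ LR K J) :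
    sg φ g ∈ LR K J := by
  have key : LR K J ≤ (LR K J).comap (sg φ) := by
    refine LR_le (fun h hh => H_le_LR (sg_H φ hh)) fun r hr t => ?_
    show sg φ (x r.val t) ∈ LR K J
    rw [sg_x2]
    exact x_mem_LR (hJ.rho _ hr) _
  exact key hg

theorem fix_decomp (hJ : Stable J) {φ : K →+* K} {u l : GL chevE6.Idx K} (hu : u ∈ UR K J) (hl : l ∈ LR K J)
    (h : u * l ∈ fix φ) : u ∈ fix φ ∧ l ∈ fix φ := by
  have h1 : sg φ (u * l) = u * l := h
  rw [map_mul] at h1
  exact decomp_unique (sg_UR hJ φ hu) hu (sg_LR hJ φ hl) hl h1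

end CharTwo

/-! ### The twisted group -/

theorem mem_E_of_U {q : ℕ} {φ : K →+* K} [Fintype K] (hφ : ∀ t, φ t = t ^ q) (hφφ : ∀ t, φ (φ t) = t)
    {u : GL chevE6.Idx K} (hu : u ∈ chevE6.posUnipotent K) (hf : u ∈ fix φ) : u ∈ twistedE6 K q := by
  have h := TwistedE6Rel.posUnipotent_inf_eq (K := K) (q := q) hφ hφφ
  have h1 : u ∈ TwistedU.rspan (TwistedE6U.X (K := K)) {k | k ∈ TwistedE6U.L.flatten} ⊓
      TwistedFix.fixS (TwistedE6Sigma.sig GraphSymm.symmE6 φ) := by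
    refine Subgroup.mem_inf.2 ⟨?_, hf⟩
    rw [← TwistedE6U.posUnipotent_eq]
    exact hu
  rw [← h] at h1
  exact (Subgroup.mem_inf.1 h1).2

/-- The data of a field with four elements. -/
structure Four (K : Type u) [Field K] [Fintype K] (φ : K →+* K) : Prop where
  card : Fintype.card K = 4
  sq : ∀ t, φ t = t ^ 2
  inv : ∀ t, φ (φ t) = t

theorem exists_four (K : Type u) [Field K] [Fintype K] (hK : Fintype.card K = 4) :
    CharP K 2 ∧ ∃ φ : K →+* K, Four K φ := by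
  have hp : Fact (Nat.Prime 2) := ⟨Nat.prime_two⟩
  have h2 : CharP K 2 := charP_of_card_eq_prime_pow (f := 2) (by rw [hK]; norm_num)
  refine ⟨h2, iterateFrobenius K 2 1, hK, fun t => iterateFrobenius_def 2 1 t, fun t => ?_⟩
  rw [iterateFrobenius_def, iterateFrobenius_def, ← pow_mul]
  have h := FiniteField.pow_card t
  rwa [hK] at h

variable [Fintype K]

theorem Four.charP {φ : K →+* K} (F : Four K φ) : CharP K 2 := (exists_four K F.card).1

theorem Four.sqq {φ : K →+* K} (F : Four K φ) (t : K) : (t ^ 2) ^ 2 = t := by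
  rw [← F.sq, ← F.sq, F.inv]

theorem Four.le_fix {φ : K →+* K} (F : Four K φ) : twistedE6 K 2 ≤ fix φ := twisted_le_fix φ F.sq F.sqq

theorem Four.mem_E {φ : K →+* K} (F : Four K φ) {u : GL chevE6.Idx K} (hu : u ∈ chevE6.posUnipotent K)
    (hf : u ∈ fix φ) : u ∈ twistedE6 K 2 := mem_E_of_U F.sq F.inv hu hf

theorem Four.eq_one {φ : K →+* K} (F : Four K φ) {t : K} (h0 : t ≠ 0) (ht : φ t = t) : t = 1 := by
  rw [F.sq, pow_two] at ht
  exact mul_left_cancel₀ h0 (ht.trans (mul_one t).symm)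

theorem Four.decomp {φ : K →+* K} (F : Four K φ) (hJ : Stable J) {g : GL chevE6.Idx K} (hg : g ∈ PR K J)
    (hE : g ∈ twistedE6 K 2) : ∃ u ∈ UR K J, u ∈ twistedE6 K 2 ∧ ∃ l ∈ LR K J, l ∈ twistedE6 K 2 ∧ g = u * l := by
  have := F.charP
  obtain ⟨u, hu, l, hl, rfl⟩ := exists_decomp hg
  obtain ⟨h1, -⟩ := fix_decomp hJ hu hl (F.le_fix hE)
  have h2 := F.mem_E (UR_le_U hu) h1
  refine ⟨u, hu, h2, l, hl, ?_, rfl⟩
  have h3 := mul_mem (inv_mem h2) hE
  rwa [inv_mul_cancel_left] at h3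

end Cfsg.Agent.TwoESix.LeviA
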