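import Cfsg.Agent.TwoESix.LeviA
import Cfsg.Agent.S1030
import Cfsg.Agent.S0310
import Cfsg.Agent.S0311

/-!
# ²E₆(2): the centraliser of a root involution and of an opposite pair

`r0 = x 71 1` (highest root), `s0 = x 0 1` (lowest root).
-/

set_option autoImplicit false

namespace Cfsg.Agent.TwoESix.LeviB

open Cfsg.Lie
open Cfsg.Agent.ChevalleyStructure
open Cfsg.Agent.ChevalleyStructure.Elts hiding x_add x_zero x_eq_one_iff
open Cfsg.Agent.ChevalleyStructure.TwE6Basic
open Cfsg.Agent.ChevalleyStructure.TwE6BN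
open Cfsg.Agent.TwoESix.LeviA

universe u

variable {K : Type u} [Field K]

/-- All fundamental roots except `p₂`. -/
def Jn : List ℕ := [0, 2, 3, 4, 5]

theorem stable_Jn : Stable Jn := ⟨by decide, by decide +kernel⟩

/-! ### Commutation of root elements -/

theorem wordG_one (r : ℕ) (t : K) : wordG hE6 [(r, t)] = x r t := by
  rw [wordG_cons, wordG_nil, mul_one]

theorem comm_formula {r s : ℕ} (hr : r < 72) (hs : s < 72) (hrs : s ≠ r) (hneg : s ≠ chevE6.neg r)
    (t u : K) : x s u * x r t = x r t * x s u * wordG hE6 (chevE6.commWord K r s t u) := by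
  apply Units.ext
  rw [Units.val_mul, Units.val_mul, Units.val_mul, coe_wordG]
  exact Cfsg.Agent.S1025.result chevE6 hE6 r s hr hs hrs hneg t u

/-- `[x_s(u), x_r(t)]` when `r + s = k` is a root and no other combination is. -/
theorem comm_single [CharP K 2] {r s k : ℕ} {c : ℤ} (hr : r < 72) (hs : s < 72) (hrs : s ≠ r)
    (hneg : s ≠ chevE6.neg r) (hc : c = 1 ∨ c = -1) (h : chevE6.commTerms r s = [(k, c, 1, 1)]) (t u : K) :
    x s u * x r t = x r t * x s u * x k (t * u) := by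
  rw [comm_formula hr hs hrs hneg]
  congr 1
  have h1 : chevE6.commWord K r s t u = [(k, t * u)] := by
    show (chevE6.commTerms r s).map _ = _
    rw [h]
    show [(k, (c : K) * (-t) ^ 1 * u ^ 1)] = _
    have h2 : (c : K) = 1 := by
      rcases hc with rfl | rfl
      · exact Int.cast_one
      · rw [Int.cast_neg, Int.cast_one, LeviA.neg_eq_self]
    rw [h2, pow_one, pow_one, one_mul, LeviA.neg_eq_self]
  rw [h1, wordG_one]

/-- Root elements of positive roots commute with those of the highest root. -/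
theorem top_comm : ∀ r : Fin 72, 36 ≤ r.val → r.val ≠ 71 →
    (71 ≠ chevE6.neg r.val ∧ chevE6.commTerms r.val 71 = []) := by decide +kernel

theorem levi_comm : ∀ r : Fin 72, chevE6.InRootSub {j | j ∈ Jn} r.val →
    71 ≠ r.val ∧ 71 ≠ chevE6.neg r.val ∧ chevE6.commTerms r.val 71 = [] ∧
    0 ≠ r.val ∧ 0 ≠ chevE6.neg r.val ∧ chevE6.commTerms r.val 0 = [] := by decide +kernel

theorem comm_top {r : Fin 72} (hr : 36 ≤ r.val) (t u : K) : x 71 u * x r.val t = x r.val t * x 71 u := by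
  by_cases h : r.val = 71
  · rw [h, x_add, x_add, add_comm]
  · obtain ⟨h1, h2⟩ := top_comm r hr h
    exact comm_of_commTerms r.isLt (by norm_num) (Ne.symm h) h1 h2 t u

theorem U_comm_top {g : GL chevE6.Idx K} (hg : g ∈ chevE6.posUnipotent K) (u : K) :
    g * x 71 u = x 71 u * g := by
  have key : chevE6.posUnipotent K ≤ Subgroup.centralizer {x 71 u} := by
    rw [posUnipotent_le_iff hE6]
    intro r hr t
    have hlt : r < 72 := hr.1
    rw [Subgroup.mem_centralizer_singleton_iff]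
    exact (comm_top (r := ⟨r, hlt⟩) ((pos_iff ⟨r, hlt⟩).1 hr) t u).symm
  exact (Subgroup.mem_centralizer_singleton_iff.1 (key hg))

/-- The elements normalising the root subgroups of the highest and of the lowest root. -/
def NT (K : Type u) [Field K] (r : ℕ) : Subgroup (GL chevE6.Idx K) :=
  Subgroup.normalizer (chevE6.rootSubgroup K r : Set (GL chevE6.Idx K))

theorem mem_NT {r : ℕ} {g : GL chevE6.Idx K} :
    g ∈ NT K r ↔ ∀ h, h ∈ chevE6.rootSubgroup K r ↔ g * h * g⁻¹ ∈ chevE6.rootSubgroup K r :=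
  Subgroup.mem_normalizer_iff

theorem H_le_NT (r : Fin 72) : chevE6.diagonalSubgroup K ≤ NT K r.val := fun h hh => by
  rw [mem_NT]
  exact fun g => (acts_H hh).1 r g

theorem NT_of_comm {r : ℕ} {g : GL chevE6.Idx K} (h : ∀ t : K, g * x r t = x r t * g) : g ∈ NT K r := by
  rw [mem_NT]
  intro y
  constructor
  · intro hy
    obtain ⟨t, rfl⟩ := mem_X.1 hy
    rw [h, mul_inv_cancel_right]
    exact hy
  · intro hy
    obtain ⟨t, ht⟩ := mem_X.1 hy
    have h1 : y = g⁻¹ * x r t * g := by rw [← ht]; group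
    rw [h1, mul_assoc, ← h, inv_mul_cancel_left]
    exact mem_X.2 ⟨t, rfl⟩

theorem B_le_NT : chevE6.borelSubgroup K ≤ NT K 71 :=
  sup_le (fun _ hg => NT_of_comm fun t => U_comm_top hg t) (H_le_NT 71)

theorem LR_le_NT_top : LR K Jn ≤ NT K 71 :=
  LR_le (H_le_NT 71) fun r hr t => NT_of_comm fun u => by
    obtain ⟨h1, h2, h3, -⟩ := levi_comm r hr
    exact (comm_of_commTerms r.isLt (by norm_num) h1 h2 h3 t u).symm

theorem LR_le_NT_bot : LR K Jn ≤ NT K 0 :=
  LR_le (H_le_NT 0) fun r hr t => NT_of_comm fun u => by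
    obtain ⟨-, -, -, h1, h2, h3⟩ := levi_comm r hr
    exact (comm_of_commTerms r.isLt (by norm_num) h1 h2 h3 t u).symm

/-! ### Words -/

/-- the product of the `n_i` along a word -/
def wn (w : List (Fin 4)) : GL chevE6.Idx K := (w.map (n (K := K))).prod

theorem wn_nil : wn (K := K) [] = 1 := rfl

theorem wn_cons (i : Fin 4) (w : List (Fin 4)) : wn (K := K) (i :: w) = n i * wn w := by
  unfold wn
  rw [List.map_cons, List.prod_cons]

/-- the permutation of the roots along a word -/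
def wpm (w : List (Fin 4)) (r : Fin 72) : Fin 72 := w.foldr (fun i r => wP i r) r

theorem wpm_cons (i : Fin 4) (w : List (Fin 4)) (r : Fin 72) : wpm (i :: w) r = wP i (wpm w r) := rfl

theorem wn_conj [CharP K 2] (w : List (Fin 4)) (r : Fin 72) (t : K) :
    wn (K := K) w * x r.val t * (wn (K := K) w)⁻¹ = x (wpm w r).val t := by
  induction w with
  | nil => rw [wn_nil, one_mul, inv_one, mul_one]; rfl
  | cons i w ih =>
    rw [wn_cons, wpm_cons, ← n_conj2, ← ih]
    group

theorem wn_conj_inv [CharP K 2] (w : List (Fin 4)) (r : Fin 72) (t : K) :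
    (wn (K := K) w)⁻¹ * x (wpm w r).val t * wn (K := K) w = x r.val t := by
  rw [← wn_conj]; group

/-- words sending the highest root to the roots fixed by the symmetry -/
def fixW : List (List (Fin 4)) :=
  [[], [0], [1,0], [2,1,0], [3,2,1,0], [1,2,1,0], [0,1,2,1,0], [3,1,2,1,0], [2,3,1,2,1,0], [1,2,3,1,2,1,0],
  [3,0,1,2,1,0], [2,3,0,1,2,1,0], [1,2,3,0,1,2,1,0], [2,1,2,3,0,1,2,1,0], [0,1,2,3,1,2,1,0],
  [0,1,2,3,0,1,2,1,0], [2,0,1,2,3,0,1,2,1,0], [1,2,0,1,2,3,0,1,2,1,0], [3,2,1,2,3,0,1,2,1,0],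
  [3,2,0,1,2,3,0,1,2,1,0], [3,1,2,0,1,2,3,0,1,2,1,0], [2,3,1,2,0,1,2,3,0,1,2,1,0],
  [1,2,3,1,2,0,1,2,3,0,1,2,1,0], [0,1,2,3,1,2,0,1,2,3,0,1,2,1,0]]

theorem exists_fixW : ∀ r : Fin 72, rho r = r → ∃ w ∈ fixW, wpm w 71 = r := by decide +kernel

/-! ### Root elements in `E` -/

section Four

variable [Fintype K] {φ : K →+* K} (F : Four K φ)
include F

theorem eq_one_of_mem {r : Fin 72} (hr : rho r = r) {t : K} (ht : t ≠ 0) (h : x r.val t ∈ twistedE6 K 2) :
    t = 1 := by
  have := F.charP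
  have h1 : sg φ (x r.val t) = x r.val t := F.le_fix h
  rw [sg_x2, hr] at h1
  exact F.eq_one ht (x_injective r.isLt h1)

/-- Conjugation of σ-fixed root elements `x_r(1)`. -/
theorem conj_fixed {r r' : Fin 72} (hr' : rho r' = r') (hE : x r.val (1 : K) ∈ twistedE6 K 2)
    {g : GL chevE6.Idx K} (hg : g ∈ twistedE6 K 2)
    (h : g * x r.val (1 : K) * g⁻¹ ∈ chevE6.rootSubgroup K r'.val) :
    g * x r.val (1 : K) * g⁻¹ = x r'.val 1 := by
  obtain ⟨t, ht⟩ := mem_X.1 h
  have h1 : g * x r.val (1 : K) * g⁻¹ ∈ twistedE6 K 2 := mul_mem (mul_mem hg hE) (inv_mem hg)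
  rw [ht] at h1 ⊢
  have ht0 : t ≠ 0 := by
    rintro rfl
    rw [x_zero, mul_inv_eq_one, mul_eq_left] at ht
    exact one_ne_zero ((x_eq_one_iff r.isLt (1 : K)).1 ht)
  rw [eq_one_of_mem F hr' ht0 h1]

theorem n_mem (i : Fin 4) : n (K := K) i ∈ twistedE6 K 2 := n_mem_G φ F.sq i

theorem wn_mem (w : List (Fin 4)) : wn (K := K) w ∈ twistedE6 K 2 := by
  refine Subgroup.list_prod_mem _ ?_
  intro g hg
  obtain ⟨i, -, rfl⟩ := List.mem_map.1 hg
  exact n_mem F i

/-- `x_r(1) ∈ E` for the roots fixed by the symmetry -/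
theorem x_mem_E {r : Fin 72} (hr : rho r = r) : x r.val (1 : K) ∈ twistedE6 K 2 := by
  have := F.charP
  have h71 : x (71 : Fin 72).val (1 : K) ∈ twistedE6 K 2 := by
    refine F.mem_E (mem_U (by decide) 1) ?_
    rw [mem_fix, sg_x2, map_one]
    rfl
  obtain ⟨w, -, rfl⟩ := exists_fixW r hr
  rw [← wn_conj]
  exact mul_mem (mul_mem (wn_mem F w) h71) (inv_mem (wn_mem F w))

/-- the pair elements `x_r(t) x_{ρ r}(t²)` of positive roots -/
theorem y_mem_E_pos {r : Fin 72} (h36 : 36 ≤ r.val) (hc : (rho r) ≠ r) (hr : chevE6.commTerms r.val (rho r).val = [])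
    (hn : (rho r).val ≠ chevE6.neg r.val) (t : K) : x r.val t * x (rho r).val (φ t) ∈ twistedE6 K 2 := by
  have := F.charP
  refine F.mem_E (mul_mem (mem_U h36 t) (mem_U ((rho_pos r).2 h36) _)) ?_
  rw [mem_fix, map_mul, sg_x2, sg_x2, rho_rho, F.inv]
  exact comm_of_commTerms r.isLt (rho r).isLt (fun h => hc (Fin.ext h)) hn hr t (φ t)

end Four

/-! ### The centraliser of the highest root involution -/

theorem n_mem_LR (i : Fin 4) (hi : i ≠ 0) : n (K := K) i ∈ LR K Jn := by
  rw [n_def]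
  refine Subgroup.list_prod_mem _ ?_
  intro g hg
  obtain ⟨j, hj, rfl⟩ := List.mem_map.1 hg
  have key : ∀ i : Fin 4, i ≠ 0 → ∀ j ∈ J i, chevE6.InRootSub {j | j ∈ Jn} (chevE6.simple j) ∧
      chevE6.InRootSub {j | j ∈ Jn} (chevE6.neg (chevE6.simple j)) := by decide +kernel
  obtain ⟨h1, h2⟩ := key i hi j hj
  show nG hE6 (chevE6.simple j) (1 : K) ∈ LR K Jn
  rw [nG_def]
  exact mul_mem (x_mem_LR h1 _) (mul_mem (x_mem_LR h2 _) (x_mem_LR h1 _))

theorem PR_le_NT : PR K Jn ≤ NT K 71 := by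
  rw [← UR_sup_LR]
  exact sup_le (UR_le_U.trans (U_le_B.trans B_le_NT)) LR_le_NT_top

/-- `x_70(1)` and `x_71(1)` are different. -/
theorem x70_ne [CharP K 2] : x 70 (1 : K) ≠ x 71 1 := by
  intro h
  have h1 : x 46 (1 : K) * x 70 1 = x 70 1 * x 46 1 * x 71 (1 * 1) :=
    comm_single (r := 70) (s := 46) (k := 71) (c := (chevE6.commTerms 70 46).head!.2.1) (by norm_num) (by norm_num)
      (by norm_num) (by decide +kernel) (by decide +kernel) (by decide +kernel) 1 1
  have hc : x 71 (1 : K) * x 46 1 = x 46 1 * x 71 1 := comm_top (r := (46 : Fin 72)) (by decide) 1 1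
  rw [h, hc] at h1
  have h2 : x 71 ((1 : K) * 1) = 1 := mul_eq_left.1 h1.symm
  exact one_ne_zero ((mul_one (1 : K)).symm.trans ((x_eq_one_iff (by norm_num) _).1 h2))

section Four2

variable [Fintype K] {φ : K →+* K} (F : Four K φ)
include F

theorem comm_of_NT {r : Fin 72} (hr : rho r = r) {g : GL chevE6.Idx K} (hg : g ∈ NT K r.val)
    (hE : g ∈ twistedE6 K 2) : g * x r.val (1 : K) = x r.val 1 * g := by
  rw [← mul_inv_eq_iff_eq_mul]
  exact conj_fixed F hr (x_mem_E F hr) hE ((mem_NT.1 hg _).1 (mem_X.2 ⟨1, rfl⟩))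

/-- The centraliser of `r0 = x_71(1)` in `E`. -/
theorem cent_top {g : GL chevE6.Idx K} (hE : g ∈ twistedE6 K 2) :
    g * x 71 (1 : K) = x 71 1 * g ↔ g ∈ PR K Jn := by
  have := F.charP
  refine ⟨fun h => ?_, fun h => comm_of_NT F (r := 71) (by decide +kernel) (PR_le_NT h) hE⟩
  obtain ⟨P, hB, -, hS, -⟩ := exists_bnPair (K := K) (q := 2) (by norm_num [Nat.prime_two.isPrimePow])
    (by rw [F.card]; norm_num)
  have hBC : P.B ≤ (Subgroup.centralizer {x 71 (1 : K)}).subgroupOf (twistedE6 K 2) := by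
    rw [hB]
    intro b hb
    rw [Subgroup.mem_subgroupOf, Subgroup.mem_centralizer_singleton_iff]
    exact comm_of_NT F (r := 71) (by decide +kernel) (B_le_NT (Subgroup.mem_inf.1 (Subgroup.mem_subgroupOf.1 hb)).1) b.2
  have hC := Cfsg.Agent.LieExceptional.BNPairCore.eq_parabolic hBC
  have hle : P.parabolic (P.S ∩ (Subgroup.centralizer {x 71 (1 : K)}).subgroupOf (twistedE6 K 2)) ≤
      (PR K Jn).subgroupOf (twistedE6 K 2) := by
    refine sup_le ?_ ((Subgroup.closure_le _).2 ?_)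
    · rw [hB]
      intro b hb
      rw [Subgroup.mem_subgroupOf]
      exact B_le_PR (Subgroup.mem_inf.1 (Subgroup.mem_subgroupOf.1 hb)).1
    · rintro m ⟨hm, hm'⟩
      rw [hS] at hm
      obtain ⟨i, hi⟩ := hm
      rw [SetLike.mem_coe, Subgroup.mem_subgroupOf, hi]
      refine LR_le_PR (n_mem_LR i ?_)
      rintro rfl
      have h1 : (m : GL chevE6.Idx K) * x 71 (1 : K) = x 71 1 * (m : GL chevE6.Idx K) :=
        Subgroup.mem_centralizer_singleton_iff.1 (Subgroup.mem_subgroupOf.1 hm')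
      rw [hi, ← mul_inv_eq_iff_eq_mul] at h1
      have h2 := n_conj2 (K := K) 0 71 1
      have h3 : (wP 0 71).val = 70 := by decide +kernel
      rw [h3] at h2
      exact x70_ne (h2.symm.trans h1)
  have h1 : (⟨g, hE⟩ : ↥(twistedE6 K 2)) ∈
      (Subgroup.centralizer {x 71 (1 : K)}).subgroupOf (twistedE6 K 2) := by
    rw [Subgroup.mem_subgroupOf, Subgroup.mem_centralizer_singleton_iff]
    exact h
  rw [hC] at h1
  exact hle h1

end Four2

/-! ### The element `n_71` -/

/-- a word sending the highest root to the simple root `46` -/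
def w46 : List (Fin 4) := [1,2,3,1,2,1,0]

/-- the reflection in the highest root, as an element -/
def m71 : GL chevE6.Idx K := (wn (K := K) w46)⁻¹ * n (K := K) 0 * wn (K := K) w46

theorem m71_eq [CharP K 2] : m71 (K := K) = x 71 1 * (x 0 1 * x 71 1) := by
  have h0 : n (K := K) 0 = x 46 1 * (x 25 1 * x 46 1) := by
    rw [single0.Jn K, show nE (K := K) 46 = nG hE6 46 (1 : K) from rfl, nG_def, show chevE6.neg 46 = 25 by decide +kernel, inv_one, LeviA.neg_eq_self]
  have h1 := wn_conj_inv (K := K) w46 71 1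
  have h2 := wn_conj_inv (K := K) w46 0 1
  rw [show (wpm w46 71).val = 46 by decide +kernel] at h1
  rw [show (wpm w46 0).val = 25 by decide +kernel] at h2
  have e1 : ((71 : Fin 72) : ℕ) = 71 := rfl
  have e2 : ((0 : Fin 72) : ℕ) = 0 := rfl
  rw [e1] at h1
  rw [e2] at h2
  rw [m71, h0, ← h1, ← h2]
  group

theorem m71_UR [CharP K 2] {u : GL chevE6.Idx K} (hu : u ∈ UR K Jn) :
    m71 (K := K) * u * (m71 (K := K))⁻¹ ∈ chevE6.negUnipotent K := by
  have tab : ∀ r : Fin 72, 36 ≤ r.val → ¬ chevE6.InRootSub {j | j ∈ Jn} r.val →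
      ∃ r' : Fin 72, r'.val < 36 ∧ wpm w46 r' = wP 0 (wpm w46 r) := by decide +kernel
  have key : UR K Jn ≤ (chevE6.negUnipotent K).comap (MulAut.conj (m71 (K := K))).toMonoidHom := by
    refine UR_le fun r hr hr' t => ?_
    obtain ⟨r', hr1, hr2⟩ := tab r hr hr'
    show m71 (K := K) * x r.val t * (m71 (K := K))⁻¹ ∈ chevE6.negUnipotent K
    have e : m71 (K := K) * x r.val t * (m71 (K := K))⁻¹ = x r'.val t := by
      rw [← wn_conj_inv (K := K) w46 r', hr2, ← n_conj2, ← wn_conj]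
      unfold m71
      group
    rw [e]
    exact mem_V hr1 t
  exact key hu

/-- An element of `U_J` commuting with `s0 = x_0(1)` is trivial. -/
theorem UR_cent_bot [CharP K 2] {u : GL chevE6.Idx K} (hu : u ∈ UR K Jn)
    (h : u * x 0 (1 : K) = x 0 1 * u) : u = 1 := by
  have h1 : u * x 71 (1 : K) = x 71 1 * u := U_comm_top (UR_le_U hu) 1
  have c : Commute (m71 (K := K)) u := by
    rw [m71_eq]
    exact (Commute.mul_left (show Commute (x 71 (1 : K)) u from h1.symm)
      (Commute.mul_left (show Commute (x 0 (1 : K)) u from h.symm) (show Commute (x 71 (1 : K)) u from h1.symm)))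
  have h2 := m71_UR hu
  rw [c.eq, mul_inv_cancel_right] at h2
  exact V_inf_B h2 (U_le_B (UR_le_U hu))

/-- The centraliser of the pair `r0`, `s0` in `E` is the Levi subgroup. -/
theorem cent_pair [Fintype K] {φ : K →+* K} (F : Four K φ) {g : GL chevE6.Idx K} (hE : g ∈ twistedE6 K 2) :
    (g * x 71 (1 : K) = x 71 1 * g ∧ g * x 0 (1 : K) = x 0 1 * g) ↔ g ∈ LR K Jn := by
  have := F.charP
  constructor
  · rintro ⟨h1, h2⟩
    obtain ⟨u, hu, huE, l, hl, hlE, rfl⟩ := F.decomp stable_Jn ((cent_top F hE).1 h1) hE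
    have h3 : l * x 0 (1 : K) = x 0 1 * l :=
      comm_of_NT F (r := 0) (by decide +kernel) (LR_le_NT_bot hl) hlE
    have h4 : u * x 0 (1 : K) = x 0 1 * u := by
      have e : u * x 0 (1 : K) * l = x 0 1 * u * l := by
        rw [mul_assoc, ← h3, ← mul_assoc, h2, mul_assoc]
      exact mul_right_cancel e
    rw [UR_cent_bot hu h4, one_mul]
    exact hl
  · intro h
    exact ⟨comm_of_NT F (r := 71) (by decide +kernel) (LR_le_NT_top h) hE,
      comm_of_NT F (r := 0) (by decide +kernel) (LR_le_NT_bot h) hE⟩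

end Cfsg.Agent.TwoESix.LeviB
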