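import Cfsg.Agent.TwoESix.LeviB
import Cfsg.Agent.ChevalleyStructure.E6H1
import Cfsg.Agent.ChevalleyStructure.TwSimple
import Cfsg.Agent.S1033
import Cfsg.Agent.S1034
import Cfsg.Agent.S1037
import Cfsg.Agent.S1050

/-!
# ²E₆(2): the Levi subgroup `L = C_E(r0, s0)`: (B,N)-pair and simplicity
-/

set_option autoImplicit false

namespace Cfsg.Agent.TwoESix.LeviC

open Cfsg.Lie
open Cfsg.Agent.ChevalleyStructure
open Cfsg.Agent.ChevalleyStructure.Elts hiding x_add x_zero x_eq_one_iff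
open Cfsg.Agent.ChevalleyStructure.TwE6Basic
open Cfsg.Agent.ChevalleyStructure.TwE6BN
open Cfsg.Agent.ChevalleyStructure.TwistedU
open Cfsg.Agent.ChevalleyStructure.TwistedFix
open Cfsg.Agent.ChevalleyStructure.TwistedFixOrbit
open Cfsg.Agent.TwoESix.LeviA
open Cfsg.Agent.TwoESix.LeviB

universe u

variable {K : Type u} [Field K]

/-- The Levi subgroup in `E`. -/
abbrev LL (K : Type u) [Field K] : Subgroup (GL chevE6.Idx K) := LR K Jn ⊓ twistedE6 K 2

/-- The elements of `P_J` with Levi component in `M`. -/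
def lvM (M : Subgroup (GL chevE6.Idx K)) : Subgroup (GL chevE6.Idx K) where
  carrier := {g | g ∈ PR K Jn ∧ lv Jn g ∈ M}
  mul_mem' := by
    rintro a b ⟨ha, ha'⟩ ⟨hb, hb'⟩
    exact ⟨mul_mem ha hb, by rw [lv_mul ha hb]; exact mul_mem ha' hb'⟩
  one_mem' := ⟨one_mem _, by rw [lv_of_UR (one_mem _)]; exact one_mem _⟩
  inv_mem' := by
    rintro a ⟨ha, ha'⟩
    exact ⟨inv_mem ha, by rw [lv_inv ha]; exact inv_mem ha'⟩

theorem mem_lvM {M : Subgroup (GL chevE6.Idx K)} {g : GL chevE6.Idx K} :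
    g ∈ lvM M ↔ g ∈ PR K Jn ∧ lv Jn g ∈ M := Iff.rfl

theorem lvM_of_UR {M : Subgroup (GL chevE6.Idx K)} {g : GL chevE6.Idx K} (h : g ∈ UR K Jn) : g ∈ lvM M :=
  mem_lvM.2 ⟨UR_le_PR h, by rw [lv_of_UR h]; exact one_mem _⟩

theorem lvM_of_LR {M : Subgroup (GL chevE6.Idx K)} {g : GL chevE6.Idx K} (h : g ∈ LR K Jn) (hM : g ∈ M) :
    g ∈ lvM M :=
  mem_lvM.2 ⟨LR_le_PR h, by rw [lv_of_LR h]; exact hM⟩

theorem mem_of_lvM {M : Subgroup (GL chevE6.Idx K)} {g : GL chevE6.Idx K} (h : g ∈ LR K Jn) (hM : g ∈ lvM M) :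
    g ∈ M := by
  have h1 := hM.2
  rwa [lv_of_LR h] at h1

/-- `U ∩ L_J` is generated by the positive root subgroups of `L_J`. -/
theorem U_LR_le {M : Subgroup (GL chevE6.Idx K)}
    (h : ∀ r : Fin 72, 36 ≤ r.val → chevE6.InRootSub {j | j ∈ Jn} r.val → ∀ t : K, x r.val t ∈ M)
    {g : GL chevE6.Idx K} (hg : g ∈ chevE6.posUnipotent K) (hl : g ∈ LR K Jn) : g ∈ M := by
  have key : chevE6.posUnipotent K ≤ lvM M := by
    rw [posUnipotent_le_iff hE6]
    intro r hr t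
    have hlt : r < 72 := hr.1
    have h36 : 36 ≤ (⟨r, hlt⟩ : Fin 72).val := (pos_iff ⟨r, hlt⟩).1 hr
    by_cases hJ : chevE6.InRootSub {j | j ∈ Jn} r
    · exact lvM_of_LR (x_mem_LR hJ t) (h ⟨r, hlt⟩ h36 hJ t)
    · exact lvM_of_UR (x_mem_UR (r := ⟨r, hlt⟩) h36 hJ t)
  exact mem_of_lvM hl (key hg)

/-! ### Relative root groups -/

theorem rho_eq : ∀ r : Fin 72, TwistedE6Sigma.rho r.val = (rho r).val := by decide +kernel

theorem eps_or : ∀ r : Fin 72, TwistedE6Sigma.eps r.val = 1 ∨ TwistedE6Sigma.eps r.val = -1 := by decide +kernel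

theorem L_cases : ∀ o ∈ TwistedE6U.L, (∃ r : Fin 72, o = [r.val] ∧ rho r = r) ∨
    (∃ r : Fin 72, o = [r.val, (rho r).val] ∧ rho r ≠ r) := by decide +kernel

theorem L_pos : ∀ o ∈ TwistedE6U.L, ∀ r ∈ o, r < 72 ∧ 36 ≤ r := by decide +kernel

theorem L_levi : ∀ o ∈ TwistedE6U.L, (∀ r ∈ o, chevE6.InRootSub {j | j ∈ Jn} r) ∨
    (∀ r ∈ o, ¬ chevE6.InRootSub {j | j ∈ Jn} r) := by decide +kernel

section Four

variable [Fintype K] {φ : K →+* K} (F : Four K φ)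
include F

theorem zero_or_one {t : K} (h : φ t = t) : t = 0 ∨ t = 1 := by
  by_cases h0 : t = 0
  · exact Or.inl h0
  · exact Or.inr (F.eq_one h0 h)

/-- The relative root groups. -/
theorem rel_le {M : Subgroup (GL chevE6.Idx K)} {o : List ℕ} (ho : o ∈ TwistedE6U.L)
    (h1 : ∀ r : Fin 72, r.val ∈ o → rho r = r → x r.val (1 : K) ∈ M)
    (h2 : ∀ r : Fin 72, r.val ∈ o → rho r ≠ r → ∀ t, x r.val t * x (rho r).val (φ t) ∈ M) :
    rspan (TwistedE6U.X (K := K)) {k | k ∈ o} ⊓ fixS (TwistedE6Sigma.sig GraphSymm.symmE6 φ) ≤ M := by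
  have := F.charP
  intro g hg
  obtain ⟨t, ht, rfl⟩ := orbit_coords (TwistedE6U.setup φ) ho (TwistedE6Rel.L_orbit_nodup _ ho)
    (TwistedE6Rel.L_filter _ ho) hg
  have hcoord : ∀ r : Fin 72, r.val ∈ o → t (rho r).val = φ (t r.val) := by
    intro r hr
    have h3 := ht r.val hr
    rw [rho_eq] at h3
    rw [h3]
    rcases eps_or r with h | h
    · rw [h, Int.cast_one, one_mul]
    · rw [h, Int.cast_neg, Int.cast_one, LeviA.neg_eq_self, one_mul]
  rcases L_cases o ho with ⟨r, rfl, hr⟩ | ⟨r, rfl, hr⟩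
  · have h3 := hcoord r (List.mem_singleton_self _)
    rw [hr] at h3
    rw [lprod_cons, lprod_nil, mul_one]
    rcases zero_or_one F h3.symm with h4 | h4
    · rw [h4]
      show x r.val 0 ∈ M
      rw [TwE6Basic.x_zero]; exact one_mem _
    · rw [h4]
      exact h1 r (List.mem_singleton_self _) hr
  · have h3 := hcoord r List.mem_cons_self
    rw [lprod_cons, lprod_cons, lprod_nil, mul_one, h3]
    exact h2 r List.mem_cons_self hr (t r.val)

/-- `U ∩ E` is generated by root elements. -/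
theorem U_E_le {M : Subgroup (GL chevE6.Idx K)}
    (h : ∀ o ∈ TwistedE6U.L, rspan (TwistedE6U.X (K := K)) {k | k ∈ o} ⊓
      fixS (TwistedE6Sigma.sig GraphSymm.symmE6 φ) ≤ M)
    {g : GL chevE6.Idx K} (hg : g ∈ chevE6.posUnipotent K) (hE : g ∈ twistedE6 K 2) : g ∈ M := by
  refine (TwistedE6U.setup φ).fix_le h ?_
  refine Subgroup.mem_inf.2 ⟨?_, F.le_fix hE⟩
  rw [← TwistedE6U.posUnipotent_eq]
  exact hg

/-- `U ∩ L` is generated by root elements. -/
theorem U_LL_le {M : Subgroup (GL chevE6.Idx K)}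
    (h1 : ∀ r : Fin 72, 36 ≤ r.val → chevE6.InRootSub {j | j ∈ Jn} r.val → rho r = r → x r.val (1 : K) ∈ M)
    (h2 : ∀ r : Fin 72, 36 ≤ r.val → chevE6.InRootSub {j | j ∈ Jn} r.val → rho r ≠ r →
      ∀ t, x r.val t * x (rho r).val (φ t) ∈ M)
    {g : GL chevE6.Idx K} (hg : g ∈ chevE6.posUnipotent K) (hL : g ∈ LL K) : g ∈ M := by
  refine mem_of_lvM (Subgroup.mem_inf.1 hL).1 (U_E_le F (M := lvM M) (fun o ho => ?_) hg (Subgroup.mem_inf.1 hL).2)
  rcases L_levi o ho with h | h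
  · refine rel_le F ho (fun r hr hr' => ?_) (fun r hr hr' t => ?_)
    · exact lvM_of_LR (x_mem_LR (h _ hr) 1) (h1 r (L_pos o ho _ hr).2 (h _ hr) hr')
    · exact lvM_of_LR (mul_mem (x_mem_LR (h _ hr) t) (x_mem_LR (stable_Jn.rho r (h _ hr)) _))
        (h2 r (L_pos o ho _ hr).2 (h _ hr) hr' t)
  · refine inf_le_left.trans (rspan_le _ fun r hr t => ?_)
    obtain ⟨h3, h4⟩ := L_pos o ho r hr
    exact lvM_of_UR (x_mem_UR (r := ⟨r, h3⟩) h4 (h r hr) t)

end Four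

/-! ### Generation of `L` -/

/-- the generating subgroup -/
def M0 (K : Type u) [Field K] : Subgroup (GL chevE6.Idx K) :=
  Subgroup.closure ({g | g ∈ chevE6.posUnipotent K ∧ g ∈ LL K} ∪ Set.range fun i : Fin 3 => n (K := K) i.succ)

theorem rs_pos_LR (i : Fin 3) : rs K (posE i.succ) ≤ LR K Jn := by
  have key : ∀ i : Fin 3, ∀ r ∈ posE i.succ, chevE6.InRootSub {j | j ∈ Jn} r := by decide +kernel
  exact rs_le fun r hr t => x_mem_LR (key i r hr) t

theorem rs_neg_LR (i : Fin 3) : rs K (negE i.succ) ≤ LR K Jn := by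
  have key : ∀ i : Fin 3, ∀ r ∈ negE i.succ, chevE6.InRootSub {j | j ∈ Jn} r := by decide +kernel
  exact rs_le fun r hr t => x_mem_LR (key i r hr) t

section Four

variable [Fintype K] {φ : K →+* K} (F : Four K φ)
include F

theorem n_mem_LL (i : Fin 3) : n (K := K) i.succ ∈ LL K :=
  Subgroup.mem_inf.2 ⟨n_mem_LR _ (Fin.succ_ne_zero i), n_mem F _⟩

theorem M0_le : M0 K ≤ LL K := by
  refine (Subgroup.closure_le _).2 ?_
  rintro g (⟨-, h⟩ | ⟨i, rfl⟩)
  · exact h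
  · exact n_mem_LL F i

omit [Fintype K] F in
theorem n_mem_M0 (i : Fin 3) : n (K := K) i.succ ∈ M0 K := Subgroup.subset_closure (Or.inr ⟨i, rfl⟩)

omit [Fintype K] F in
theorem pos_mem_M0 (i : Fin 3) {g : GL chevE6.Idx K} (h : g ∈ rs K (posE i.succ)) (hE : g ∈ twistedE6 K 2) :
    g ∈ M0 K :=
  Subgroup.subset_closure (Or.inl ⟨rs_posE_le _ h, Subgroup.mem_inf.2 ⟨rs_pos_LR i h, hE⟩⟩)

theorem neg_mem_M0 (i : Fin 3) {g : GL chevE6.Idx K} (h : g ∈ rs K (negE i.succ)) (hE : g ∈ twistedE6 K 2) :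
    g ∈ M0 K := by
  have h1 := conj_Y i.succ h
  have h2 := pos_mem_M0 i h1 (mul_mem (mul_mem (n_mem F _) hE) (inv_mem (n_mem F _)))
  have h3 := mul_mem (mul_mem (inv_mem (n_mem_M0 (K := K) i)) h2) (n_mem_M0 i)
  have e : (n (K := K) i.succ)⁻¹ * (n (K := K) i.succ * g * (n (K := K) i.succ)⁻¹) * n (K := K) i.succ = g := by
    group
  rwa [e] at h3

theorem h56_mem (t : K) : hG hE6 56 t * hG hE6 36 (φ t) ∈ M0 K := by
  have := F.sq
  rw [← E6Fixed.h_eq φ (r' := 15) (s' := 35) (by decide) (by decide) (by decide) (by decide) rfl rfl]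
  apply Subgroup.list_prod_mem
  intro g hg
  rw [List.mem_map] at hg
  obtain ⟨⟨_ | _, t⟩, _, rfl⟩ := hg
  · refine neg_mem_M0 F 2 ?_ (E6Fixed.Z_mem F.sq (r := 15) (s := 35) (by decide) t)
    exact mul_mem (x_mem_rs (by decide +kernel) t) (x_mem_rs (by decide +kernel) _)
  · refine pos_mem_M0 2 ?_ (E6Fixed.Z_mem F.sq (r := 56) (s := 36) (by decide) t)
    exact mul_mem (x_mem_rs (by decide +kernel) t) (x_mem_rs (by decide +kernel) _)

theorem h42_mem (t : K) : hG hE6 42 t * hG hE6 37 (φ t) ∈ M0 K := by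
  rw [← E6Fixed.h_eq φ (r' := 29) (s' := 34) (by decide) (by decide) (by decide) (by decide) rfl rfl]
  apply Subgroup.list_prod_mem
  intro g hg
  rw [List.mem_map] at hg
  obtain ⟨⟨_ | _, t⟩, _, rfl⟩ := hg
  · refine neg_mem_M0 F 1 ?_ (E6Fixed.Z_mem F.sq (r := 29) (s := 34) (by decide) t)
    exact mul_mem (x_mem_rs (by decide +kernel) t) (x_mem_rs (by decide +kernel) _)
  · refine pos_mem_M0 1 ?_ (E6Fixed.Z_mem F.sq (r := 42) (s := 37) (by decide) t)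
    exact mul_mem (x_mem_rs (by decide +kernel) t) (x_mem_rs (by decide +kernel) _)

omit [Fintype K] F in
theorem hG_one (r : ℕ) : hG hE6 r (1 : K) = 1 := by
  rw [← nG_mul_inv, mul_inv_cancel]

omit [Fintype K] F in
theorem simpleDiag : TorusRange.SimpleDiag chevE6 K :=
  fun i hi c hc => Cfsg.Agent.S1033.result chevE6 hE6 i hi c hc

omit [Fintype K] F in
theorem diag_eq : chevE6.diagonalSubgroup K = (TorusCount.torusHom chevE6 K).range :=
  TorusRange.diagonalSubgroup_eq_range simpleDiag (fun i hi => TorusCert.certE6.simple_lt ⟨i, hi⟩)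
    (fun g hg => Cfsg.Agent.S1034.result chevE6 hE6 g hg)

/-- The elements of `H ∩ E` as products. -/
theorem exists_torus {h : GL chevE6.Idx K} (hh : h ∈ chevE6.diagonalSubgroup K) (hE : h ∈ twistedE6 K 2) :
    ∃ a c : K, a ≠ 0 ∧ c ≠ 0 ∧ h = hG hE6 56 a * hG hE6 36 (φ a) * (hG hE6 42 c * hG hE6 37 (φ c)) := by
  have h1 := E6H1.H1_eq (K := K) (q := 2) (φ := φ) (by rw [F.card]; norm_num) F.sq simpleDiag diag_eq
  have h2 : h ∈ (E6H1.fA φ).range := h1 ▸ Subgroup.mem_inf.2 ⟨hh, hE⟩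
  obtain ⟨c, rfl⟩ := h2
  refine ⟨(c.1 (E6H1.ix 0) : K), (c.1 (E6H1.ix 2) : K), Units.ne_zero _, Units.ne_zero _, ?_⟩
  have e5 : (c.1 (E6H1.ix 5) : K) = φ (c.1 (E6H1.ix 0)) := congrArg Units.val (E6H1.fixT_5 c)
  have e4 : (c.1 (E6H1.ix 4) : K) = φ (c.1 (E6H1.ix 2)) := congrArg Units.val (E6H1.fixT_4 c)
  have e1 : (c.1 (E6H1.ix 1) : K) = 1 := F.eq_one (Units.ne_zero _) (E6H1.fixT_val c 1 (by norm_num) rfl)
  have e3 : (c.1 (E6H1.ix 3) : K) = 1 := F.eq_one (Units.ne_zero _) (E6H1.fixT_val c 3 (by norm_num) rfl)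
  show TorusCount.torusHom chevE6 K c.1 = _
  conv_lhs => rw [E6H1.prod_mulSingle c.1]
  rw [map_mul, map_mul, map_mul, map_mul, map_mul]
  simp only [E6H1.hG_eq_torusHom simpleDiag]
  have s0 : chevE6.simple (E6H1.ix 0) = 56 := rfl
  have s1 : chevE6.simple (E6H1.ix 1) = 46 := rfl
  have s2 : chevE6.simple (E6H1.ix 2) = 42 := rfl
  have s3 : chevE6.simple (E6H1.ix 3) = 39 := rfl
  have s4 : chevE6.simple (E6H1.ix 4) = 37 := rfl
  have s5 : chevE6.simple (E6H1.ix 5) = 36 := rfl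
  rw [e5, e4, e1, e3, s0, s1, s2, s3, s4, s5, hG_one, hG_one, mul_one, mul_one]

theorem torus_mem_M0 {h : GL chevE6.Idx K} (hh : h ∈ chevE6.diagonalSubgroup K) (hE : h ∈ twistedE6 K 2) :
    h ∈ M0 K := by
  obtain ⟨a, c, -, -, rfl⟩ := exists_torus F hh hE
  exact mul_mem (h56_mem F a) (h42_mem F c)

end Four

section Four

variable [Fintype K] {φ : K →+* K} (F : Four K φ)
include F

/-- Elements of `P_J ∩ E`. -/
theorem PR_E_le {M : Subgroup (GL chevE6.Idx K)}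
    (hU : ∀ b ∈ chevE6.posUnipotent K, b ∈ twistedE6 K 2 → b ∈ M)
    (hH : ∀ b ∈ chevE6.diagonalSubgroup K, b ∈ twistedE6 K 2 → b ∈ M)
    (hn : ∀ i : Fin 3, n (K := K) i.succ ∈ M) {g : GL chevE6.Idx K} (hg : g ∈ PR K Jn) (hE : g ∈ twistedE6 K 2) :
    g ∈ M := by
  have := F.charP
  obtain ⟨P, hB, -, hS, -⟩ := exists_bnPair (K := K) (q := 2) (by norm_num [Nat.prime_two.isPrimePow])
    (by rw [F.card]; norm_num)
  have hBC : P.B ≤ (Subgroup.centralizer {x 71 (1 : K)}).subgroupOf (twistedE6 K 2) := by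
    rw [hB]
    intro b hb
    rw [Subgroup.mem_subgroupOf, Subgroup.mem_centralizer_singleton_iff]
    exact comm_of_NT F (r := 71) (by decide +kernel) (B_le_NT (Subgroup.mem_inf.1 (Subgroup.mem_subgroupOf.1 hb)).1) b.2
  have hC := Cfsg.Agent.LieExceptional.BNPairCore.eq_parabolic hBC
  have hle : P.parabolic (P.S ∩ (Subgroup.centralizer {x 71 (1 : K)}).subgroupOf (twistedE6 K 2)) ≤
      M.subgroupOf (twistedE6 K 2) := by
    refine sup_le ?_ ((Subgroup.closure_le _).2 ?_)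
    · rw [hB]
      intro b hb
      rw [Subgroup.mem_subgroupOf]
      obtain ⟨u, hu, huE, h, hh, hhE, e⟩ := ((T φ 2 F.sq F.sqq).mem_B_iff b b.2).1
        (Subgroup.mem_inf.1 (Subgroup.mem_subgroupOf.1 hb)).1
      rw [e]
      exact mul_mem (hU u hu huE) (hH h hh hhE)
    · rintro m ⟨hm, hm'⟩
      rw [hS] at hm
      obtain ⟨i, hi⟩ := hm
      rw [SetLike.mem_coe, Subgroup.mem_subgroupOf, hi]
      have hi0 : i ≠ 0 := by
        rintro rfl
        have h1 : (m : GL chevE6.Idx K) * x 71 (1 : K) = x 71 1 * (m : GL chevE6.Idx K) :=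
          Subgroup.mem_centralizer_singleton_iff.1 (Subgroup.mem_subgroupOf.1 hm')
        rw [hi, ← mul_inv_eq_iff_eq_mul] at h1
        have h2 := n_conj2 (K := K) 0 71 1
        have h3 : (wP 0 71).val = 70 := by decide +kernel
        rw [h3] at h2
        exact x70_ne (h2.symm.trans h1)
      obtain ⟨k, rfl⟩ := Fin.exists_succ_eq.2 hi0
      exact hn k
  have h1 : (⟨g, hE⟩ : ↥(twistedE6 K 2)) ∈
      (Subgroup.centralizer {x 71 (1 : K)}).subgroupOf (twistedE6 K 2) := by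
    rw [Subgroup.mem_subgroupOf, Subgroup.mem_centralizer_singleton_iff]
    exact (cent_top F hE).2 hg
  rw [hC] at h1
  exact hle h1

theorem LL_le_M0 : LL K ≤ M0 K := by
  have := F.charP
  intro g hg
  obtain ⟨hg1, hg2⟩ := Subgroup.mem_inf.1 hg
  refine mem_of_lvM hg1 (PR_E_le F (M := lvM (M0 K)) ?_ ?_ ?_ (LR_le_PR hg1) hg2)
  · intro b hb hbE
    obtain ⟨u, hu, huE, l, hl, hlE, rfl⟩ := F.decomp stable_Jn (U_le_B.trans B_le_PR hb) hbE
    refine mul_mem (lvM_of_UR hu) (lvM_of_LR hl (Subgroup.subset_closure (Or.inl ⟨?_, hl, hlE⟩)))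
    have h := mul_mem (inv_mem (UR_le_U hu)) hb
    rwa [inv_mul_cancel_left] at h
  · intro b hb hbE
    exact lvM_of_LR (H_le_LR hb) (torus_mem_M0 F hb hbE)
  · intro i
    exact lvM_of_LR (n_mem_LR _ (Fin.succ_ne_zero i)) (n_mem_M0 i)

/-- The data of `TwistedBN` for the Levi subgroup. -/
def TL : TwistedBN.TwistedData (GL chevE6.Idx K) (Fin 3) where
  U := chevE6.posUnipotent K
  H := chevE6.diagonalSubgroup K
  N := chevE6.monomialSubgroup K
  G := LL K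
  n := fun i => n (K := K) i.succ
  X := fun i => (rs K (posE i.succ) : Set (GL chevE6.Idx K))
  Y := fun i => (rs K (negE i.succ) : Set (GL chevE6.Idx K))
  V := fun i => (VJ K i.succ : Set (GL chevE6.Idx K))
  H_le_N := (T φ 2 F.sq F.sqq).H_le_N
  conj_H_U := (T φ 2 F.sq F.sqq).conj_H_U
  conj_N_H := (T φ 2 F.sq F.sqq).conj_N_H
  inf_le := (T φ 2 F.sq F.sqq).inf_le
  U_inf_H := (T φ 2 F.sq F.sqq).U_inf_H
  n_mem_N := fun i => (T φ 2 F.sq F.sqq).n_mem_N i.succ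
  n_mem_G := fun i => n_mem_LL F i
  sq_mem := fun i => (T φ 2 F.sq F.sqq).sq_mem i.succ
  decomp := fun i u hu huG => by
    obtain ⟨v, hv, y, hy, hyG, e⟩ := (T φ 2 F.sq F.sqq).decomp i.succ u hu (Subgroup.mem_inf.1 huG).2
    exact ⟨v, hv, y, hy, Subgroup.mem_inf.2 ⟨rs_pos_LR i hy, hyG⟩, e⟩
  conj_V := fun i v hv => (T φ 2 F.sq F.sqq).conj_V i.succ v hv
  conj_X := fun i y hy => (T φ 2 F.sq F.sqq).conj_X i.succ y hy
  conj_inv_X := fun i y hy => (T φ 2 F.sq F.sqq).conj_inv_X i.succ y hy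
  rank_one := fun i y hy hyG hy1 => by
    obtain ⟨u, hu, huE, h, hh, hhE, v, hv, hvE, e⟩ :=
      (T φ 2 F.sq F.sqq).rank_one i.succ y hy (Subgroup.mem_inf.1 hyG).2 hy1
    have hvL : v ∈ LL K := Subgroup.mem_inf.2 ⟨rs_pos_LR i hv, hvE⟩
    have hhL : h ∈ LL K := Subgroup.mem_inf.2 ⟨H_le_LR hh, hhE⟩
    have huL : u ∈ LL K := by
      have e2 : u = y * v⁻¹ * (n (K := K) i.succ)⁻¹ * h⁻¹ := by
        rw [e]
        show u = u * h * n (K := K) i.succ * v * v⁻¹ * (n (K := K) i.succ)⁻¹ * h⁻¹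
        group
      rw [e2]
      exact mul_mem (mul_mem (mul_mem hyG (inv_mem hvL)) (inv_mem (n_mem_LL F i))) (inv_mem hhL)
    exact ⟨u, hu, huL, h, hh, hhL, v, hv, hvL, e⟩
  root_cases := fun m hm i => by
    have hm' : m ∈ Subgroup.closure (Set.range (n (K := K))) ⊔ (chevE6.diagonalSubgroup K ⊓ twistedE6 K 2) := by
      refine sup_le_sup (Subgroup.closure_mono ?_) (inf_le_inf_left _ inf_le_right) hm
      rintro _ ⟨i, rfl⟩
      exact ⟨i.succ, rfl⟩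
    rcases (T φ 2 F.sq F.sqq).root_cases m hm' i.succ with h | h
    · exact Or.inl fun y hy hyG => h y hy (Subgroup.mem_inf.1 hyG).2
    · exact Or.inr fun y hy hyG => h y hy (Subgroup.mem_inf.1 hyG).2
  gen := LL_le_M0 F
  bruhat := (T φ 2 F.sq F.sqq).bruhat
  n_ne := fun i j hij => (T φ 2 F.sq F.sqq).n_ne i.succ j.succ hij
  not_le := fun i => by
    obtain ⟨g, hg, hgG, hg1⟩ := TwE6BN.exists_ne_one (K := K) 2 i.succ
    refine ⟨g, rs_posE_le _ hg, Subgroup.mem_inf.2 ⟨rs_pos_LR i hg, hgG⟩, fun h => hg1 ?_⟩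
    have h1 : n (K := K) i.succ * g * (n (K := K) i.succ)⁻¹ = 1 := V_inf_B (rs_negE_le _ (conj_X _ hg)) h
    rw [mul_inv_eq_one] at h1
    exact (mul_eq_left (a := n (K := K) i.succ)).1 h1

end Four

end Cfsg.Agent.TwoESix.LeviC
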