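import Cfsg.Agent.TwoESix.LeviC

/-!
# ²E₆(2): simplicity of the Levi subgroup `L = C_E(r0, s0)`
-/

set_option autoImplicit false

namespace Cfsg.Agent.TwoESix.LeviD

open scoped commutatorElement
open Cfsg.Lie
open Cfsg.Agent.ChevalleyStructure
open Cfsg.Agent.ChevalleyStructure.Elts hiding x_add x_zero x_eq_one_iff
open Cfsg.Agent.ChevalleyStructure.TwE6Basic
open Cfsg.Agent.ChevalleyStructure.TwE6BN
open Cfsg.Agent.TwoESix.LeviA
open Cfsg.Agent.TwoESix.LeviB
open Cfsg.Agent.TwoESix.LeviC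

universe u

variable {K : Type u} [Field K]

/-! ### Irreducibility -/

theorem irreducible_of_path3 {G : Type*} [Group G] (P : Cfsg.BNPair G) (m : Fin 3 → G)
    (hS : P.S = Set.range m)
    (hnc : ∀ i : Fin 2, m i.castSucc * m i.succ * (m i.castSucc)⁻¹ * (m i.succ)⁻¹ ∉ P.B)
    (hnc' : ∀ i : Fin 2, m i.succ * m i.castSucc * (m i.succ)⁻¹ * (m i.castSucc)⁻¹ ∉ P.B) :
    P.Irreducible := by
  intro J hJ hJne hJc
  by_contra hcon
  push Not at hcon
  have hall : ∀ i, m i ∈ P.S := fun i => hS ▸ ⟨i, rfl⟩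
  have hstep : ∀ i : Fin 2, (m i.castSucc ∈ J ↔ m i.succ ∈ J) := by
    intro i
    constructor
    · intro h
      by_contra h'
      exact hnc i (hcon _ h _ ⟨hall _, h'⟩)
    · intro h
      by_contra h'
      exact hnc' i (hcon _ h _ ⟨hall _, h'⟩)
  have h01 := hstep 0
  have h12 := hstep 1
  have e : ∀ i : Fin 3, (m i ∈ J ↔ m 0 ∈ J) := by
    intro i
    have : i = 0 ∨ i = 1 ∨ i = 2 := by fin_cases i <;> simp
    rcases this with rfl | rfl | rfl
    · exact Iff.rfl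
    · exact h01.symm
    · exact (h01.trans h12).symm
  obtain ⟨a, ha⟩ := hJne
  obtain ⟨b, hb, hb'⟩ := hJc
  have ha' := hJ ha
  rw [hS] at ha' hb
  obtain ⟨i, rfl⟩ := ha'
  obtain ⟨j, rfl⟩ := hb
  exact hb' ((e j).2 ((e i).1 ha))

section Four

variable [Fintype K] {φ : K →+* K} (F : Four K φ)
include F

/-- The (B,N)-pair of the Levi subgroup. -/
theorem exists_bnL : ∃ P : Cfsg.BNPair ↥(LL K),
    P.B = (chevE6.borelSubgroup K).subgroupOf (LL K) ∧
    P.S = Set.range (fun i : Fin 3 => (⟨n (K := K) i.succ, n_mem_LL F i⟩ : ↥(LL K))) ∧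
    P.Irreducible := by
  obtain ⟨P, hB, -, hS⟩ := (TL F).exists_bnPair
  have hB' : P.B = (chevE6.borelSubgroup K).subgroupOf (LL K) := hB
  refine ⟨P, hB', hS, irreducible_of_path3 P _ hS (fun i => ?_) (fun i => ?_)⟩
  · rw [hB']
    obtain ⟨r, h1, h2⟩ := (exists_neg_comm i.succ).1
    exact comm_not_mem_B h1 h2
  · rw [hB']
    obtain ⟨r, h1, h2⟩ := (exists_neg_comm i.succ).2
    exact comm_not_mem_B h1 h2

/-! ### The longest element -/

omit [Fintype K] F in
/-- the longest element of the relative Weyl group of `L` -/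
def wL : List (Fin 4) := [1, 2, 3, 1, 2, 3, 1, 2, 3]

omit [Fintype K] F in
theorem wL_tab : ∀ r : Fin 72, chevE6.InRootSub {j | j ∈ Jn} r.val → wpm wL r = Fin.rev (rho r) := by
  decide +kernel

theorem wn_mem_LL {w : List (Fin 4)} (hw : ∀ i ∈ w, i ≠ 0) : wn (K := K) w ∈ LL K := by
  refine Subgroup.list_prod_mem _ ?_
  intro g hg
  obtain ⟨i, hi, rfl⟩ := List.mem_map.1 hg
  exact Subgroup.mem_inf.2 ⟨n_mem_LR i (hw i hi), n_mem F i⟩

theorem wL_mem : wn (K := K) wL ∈ LL K := wn_mem_LL F (by decide)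

/-- conjugation by the inverse of the longest element maps `U ∩ L` to `V` -/
theorem wL_conj {u : GL chevE6.Idx K} (hu : u ∈ chevE6.posUnipotent K) (hl : u ∈ LR K Jn) :
    (wn (K := K) wL)⁻¹ * u * wn (K := K) wL ∈ chevE6.negUnipotent K := by
  have := F.charP
  have key := U_LR_le (K := K) (M := (chevE6.negUnipotent K).comap (MulAut.conj (wn (K := K) wL)⁻¹).toMonoidHom)
    (fun r h36 hJ t => ?_) hu hl
  · have h : (wn (K := K) wL)⁻¹ * u * (wn (K := K) wL)⁻¹⁻¹ ∈ chevE6.negUnipotent K := key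
    rwa [inv_inv] at h
  · show (wn (K := K) wL)⁻¹ * x r.val t * (wn (K := K) wL)⁻¹⁻¹ ∈ chevE6.negUnipotent K
    have tab : ∀ r : Fin 72, 36 ≤ r.val → chevE6.InRootSub {j | j ∈ Jn} r.val →
        (Fin.rev (rho r)).val < 36 ∧ wpm wL (Fin.rev (rho r)) = r := by decide +kernel
    obtain ⟨h1, h2⟩ := tab r h36 hJ
    rw [inv_inv]
    have e := wn_conj_inv (K := K) wL (Fin.rev (rho r)) t
    rw [h2] at e
    rw [e]
    exact mem_V h1 t

/-! ### The core of `B` -/

theorem core_le_H {c : ↥(LL K)} (hc : c ∈ ((chevE6.borelSubgroup K).subgroupOf (LL K)).normalCore) :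
    (c : GL chevE6.Idx K) ∈ chevE6.diagonalSubgroup K := by
  set w : ↥(LL K) := ⟨wn (K := K) wL, wL_mem F⟩ with hw
  have h1 : (c : GL chevE6.Idx K) ∈ chevE6.borelSubgroup K :=
    Subgroup.mem_subgroupOf.1 (Subgroup.normalCore_le _ hc)
  have h2 : w * c * w⁻¹ ∈ (chevE6.borelSubgroup K).subgroupOf (LL K) := hc w
  have h3 : wn (K := K) wL * (c : GL chevE6.Idx K) * (wn (K := K) wL)⁻¹ ∈ chevE6.borelSubgroup K :=
    Subgroup.mem_subgroupOf.1 h2
  obtain ⟨u, hu, huL, h, hh, hhL, e⟩ := ((TL F).mem_B_iff _ (w * c * w⁻¹).2).1 h3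
  have e2 : (c : GL chevE6.Idx K) = ((wn (K := K) wL)⁻¹ * u * wn (K := K) wL) *
      ((wn (K := K) wL)⁻¹ * h * (wn (K := K) wL)⁻¹⁻¹) := by
    have e3 : wn (K := K) wL * (c : GL chevE6.Idx K) * (wn (K := K) wL)⁻¹ = u * h := e
    calc (c : GL chevE6.Idx K) = (wn (K := K) wL)⁻¹ *
          (wn (K := K) wL * (c : GL chevE6.Idx K) * (wn (K := K) wL)⁻¹) * wn (K := K) wL := by group
      _ = _ := by rw [e3]; group
  have hwN : wn (K := K) wL ∈ chevE6.monomialSubgroup K := by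
    refine Subgroup.list_prod_mem _ ?_
    intro g hg
    obtain ⟨i, hi, rfl⟩ := List.mem_map.1 hg
    exact (T φ 2 F.sq F.sqq).n_mem_N i
  have h4 : (c : GL chevE6.Idx K) ∈ chevE6.negUnipotent K ⊔ chevE6.diagonalSubgroup K := by
    rw [e2]
    exact Subgroup.mul_mem_sup (wL_conj F hu (Subgroup.mem_inf.1 huL).1)
      ((T φ 2 F.sq F.sqq).conj_N_H _ (inv_mem hwN) h hh)
  have h5 := (Cfsg.Agent.S1037.result (F := K) chevE6 hE6).2
  exact h5 ▸ Subgroup.mem_inf.2 ⟨h1, h4⟩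

theorem core_comm {c : ↥(LL K)} (hc : c ∈ ((chevE6.borelSubgroup K).subgroupOf (LL K)).normalCore)
    {g : GL chevE6.Idx K} (hg : g ∈ chevE6.posUnipotent K) (hL : g ∈ LL K) :
    (c : GL chevE6.Idx K) * g = g * c := by
  have h1 := core_le_H F hc
  have h2 : (c : GL chevE6.Idx K) * g * (c : GL chevE6.Idx K)⁻¹ ∈ chevE6.posUnipotent K :=
    (T φ 2 F.sq F.sqq).conj_H_U _ h1 _ hg
  have h3 : c * (⟨g, hL⟩ * c⁻¹ * ⟨g, hL⟩⁻¹) ∈ ((chevE6.borelSubgroup K).subgroupOf (LL K)).normalCore :=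
    mul_mem hc (Subgroup.Normal.conj_mem inferInstance _ (inv_mem hc) _)
  have h4 := core_le_H F h3
  have h5 : (c : GL chevE6.Idx K) * (g * (c : GL chevE6.Idx K)⁻¹ * g⁻¹) ∈ chevE6.posUnipotent K := by
    have := mul_mem h2 (inv_mem hg)
    simpa only [mul_assoc] using this
  have h6 := (T φ 2 F.sq F.sqq).U_inf_H _ h5 h4
  have h7 : (c : GL chevE6.Idx K) * g * (c : GL chevE6.Idx K)⁻¹ * g⁻¹ = 1 := by
    rw [← h6]; group
  rw [mul_inv_eq_one, mul_inv_eq_iff_eq_mul] at h7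
  exact h7

omit [Fintype K] F in
theorem hG_conj {i : ℕ} (hi : i < 6) {s : ℕ} (hs : s < 72) {c : K} (hc : c ≠ 0) (t : K) :
    hG hE6 (chevE6.simple i) c * x s t = x s (c ^ (chevE6.cartan i s) * t) * hG hE6 (chevE6.simple i) c :=
  Units.ext (Cfsg.Agent.S1032.result (F := K) chevE6 hE6 i s hi hs c hc t)

theorem cube_units (a : Kˣ) : a ^ 3 = 1 := by
  have h := F.sqq (a : K)
  apply Units.ext
  rw [Units.val_pow_eq_pow_val, Units.val_one]
  have ha : (a : K) ≠ 0 := a.ne_zero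
  have h2 : (a : K) * ((a : K) ^ 3) = (a : K) * 1 := by
    rw [mul_one]
    have h3 : (a : K) * ((a : K) ^ 3) = ((a : K) ^ 2) ^ 2 := by ring
    exact h3.trans h
  exact mul_left_cancel₀ ha h2

/-- An element of the torus commuting with `x_56(1) x_36(1)` is trivial. -/
theorem torus_eq_one {h : GL chevE6.Idx K} (hh : h ∈ chevE6.diagonalSubgroup K) (hE : h ∈ twistedE6 K 2)
    (hc : h * (x 56 1 * x 36 1) = x 56 1 * x 36 1 * h) : h = 1 := by
  have h1 := E6H1.H1_eq (K := K) (q := 2) (φ := φ) (by rw [F.card]; norm_num) F.sq simpleDiag diag_eq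
  have h2 : h ∈ (E6H1.fA φ).range := h1 ▸ Subgroup.mem_inf.2 ⟨hh, hE⟩
  obtain ⟨c, rfl⟩ := h2
  have e5 : c.1 (E6H1.ix 5) = E6H1.psi φ (c.1 (E6H1.ix 0)) := E6H1.fixT_5 c
  have e4 : c.1 (E6H1.ix 4) = E6H1.psi φ (c.1 (E6H1.ix 2)) := E6H1.fixT_4 c
  have e1 : c.1 (E6H1.ix 1) = 1 := Units.ext (F.eq_one (Units.ne_zero _) (E6H1.fixT_val c 1 (by norm_num) rfl))
  have e3 : c.1 (E6H1.ix 3) = 1 := Units.ext (F.eq_one (Units.ne_zero _) (E6H1.fixT_val c 3 (by norm_num) rfl))
  obtain ⟨a, ha⟩ : ∃ a, a = c.1 (E6H1.ix 0) := ⟨_, rfl⟩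
  obtain ⟨b, hb⟩ : ∃ b, b = c.1 (E6H1.ix 2) := ⟨_, rfl⟩
  have hprod : (E6H1.fA φ) c = hG hE6 56 (a : K) * hG hE6 36 (φ a) * (hG hE6 42 (b : K) * hG hE6 37 (φ b)) := by
    show TorusCount.torusHom chevE6 K c.1 = _
    conv_lhs => rw [E6H1.prod_mulSingle c.1]
    rw [map_mul, map_mul, map_mul, map_mul, map_mul]
    simp only [E6H1.hG_eq_torusHom simpleDiag]
    rw [e5, e4, e1, e3, ← ha, ← hb]
    have s0 : chevE6.simple (E6H1.ix 0) = 56 := rfl
    have s1 : chevE6.simple (E6H1.ix 1) = 46 := rfl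
    have s2 : chevE6.simple (E6H1.ix 2) = 42 := rfl
    have s3 : chevE6.simple (E6H1.ix 3) = 39 := rfl
    have s4 : chevE6.simple (E6H1.ix 4) = 37 := rfl
    have s5 : chevE6.simple (E6H1.ix 5) = 36 := rfl
    rw [s0, s1, s2, s3, s4, s5, Units.val_one, hG_one, hG_one, mul_one, mul_one]
    rfl
  have ha0 : (a : K) ≠ 0 := a.ne_zero
  have hb0 : (b : K) ≠ 0 := b.ne_zero
  have hφa : φ (a : K) ≠ 0 := (map_ne_zero φ).2 ha0
  have hφb : φ (b : K) ≠ 0 := (map_ne_zero φ).2 hb0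
  have k1 : ∀ t : K, (E6H1.fA φ) c * x 56 t = x 56 ((a : K) ^ 2 * (b : K)⁻¹ * t) * (E6H1.fA φ) c := by
    intro t
    rw [hprod]
    have c4 : hG hE6 37 (φ b) * x 56 t = x 56 t * hG hE6 37 (φ b) := by
      have := hG_conj (i := 4) (s := 56) (by norm_num) (by norm_num) hφb t
      rw [show chevE6.cartan 4 56 = 0 by decide +kernel, zpow_zero, one_mul] at this
      exact this
    have c2 : hG hE6 42 (b : K) * x 56 t = x 56 ((b : K)⁻¹ * t) * hG hE6 42 (b : K) := by
      have := hG_conj (i := 2) (s := 56) (by norm_num) (by norm_num) hb0 t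
      rw [show chevE6.cartan 2 56 = -1 by decide +kernel, zpow_neg_one] at this
      exact this
    have c5 : hG hE6 36 (φ a) * x 56 ((b : K)⁻¹ * t) = x 56 ((b : K)⁻¹ * t) * hG hE6 36 (φ a) := by
      have := hG_conj (i := 5) (s := 56) (by norm_num) (by norm_num) hφa ((b : K)⁻¹ * t)
      rw [show chevE6.cartan 5 56 = 0 by decide +kernel, zpow_zero, one_mul] at this
      exact this
    have c0 : hG hE6 56 (a : K) * x 56 ((b : K)⁻¹ * t) =
        x 56 ((a : K) ^ 2 * (b : K)⁻¹ * t) * hG hE6 56 (a : K) := by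
      have := hG_conj (i := 0) (s := 56) (by norm_num) (by norm_num) ha0 ((b : K)⁻¹ * t)
      rw [show chevE6.cartan 0 56 = 2 by decide +kernel] at this
      rw [mul_assoc]
      exact_mod_cast this
    calc hG hE6 56 (a : K) * hG hE6 36 (φ a) * (hG hE6 42 (b : K) * hG hE6 37 (φ b)) * x 56 t
        = hG hE6 56 (a : K) * hG hE6 36 (φ a) * (hG hE6 42 (b : K) * (hG hE6 37 (φ b) * x 56 t)) := by
          simp only [mul_assoc]
      _ = hG hE6 56 (a : K) * hG hE6 36 (φ a) * ((hG hE6 42 (b : K) * x 56 t) * hG hE6 37 (φ b)) := by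
          rw [c4]; simp only [mul_assoc]
      _ = hG hE6 56 (a : K) * (hG hE6 36 (φ a) * x 56 ((b : K)⁻¹ * t)) * (hG hE6 42 (b : K) * hG hE6 37 (φ b)) := by
          rw [c2]; simp only [mul_assoc]
      _ = (hG hE6 56 (a : K) * x 56 ((b : K)⁻¹ * t)) * hG hE6 36 (φ a) * (hG hE6 42 (b : K) * hG hE6 37 (φ b)) := by
          rw [c5]; simp only [mul_assoc]
      _ = _ := by rw [c0]; simp only [mul_assoc]
  have k2 : ∀ t : K, (E6H1.fA φ) c * x 36 t = x 36 ((φ a) ^ 2 * (φ b)⁻¹ * t) * (E6H1.fA φ) c := by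
    intro t
    rw [hprod]
    have c4 : hG hE6 37 (φ b) * x 36 t = x 36 ((φ b)⁻¹ * t) * hG hE6 37 (φ b) := by
      have := hG_conj (i := 4) (s := 36) (by norm_num) (by norm_num) hφb t
      rw [show chevE6.cartan 4 36 = -1 by decide +kernel, zpow_neg_one] at this
      exact this
    have c2 : hG hE6 42 (b : K) * x 36 ((φ b)⁻¹ * t) = x 36 ((φ b)⁻¹ * t) * hG hE6 42 (b : K) := by
      have := hG_conj (i := 2) (s := 36) (by norm_num) (by norm_num) hb0 ((φ b)⁻¹ * t)
      rw [show chevE6.cartan 2 36 = 0 by decide +kernel, zpow_zero, one_mul] at this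
      exact this
    have c5 : hG hE6 36 (φ a) * x 36 ((φ b)⁻¹ * t) =
        x 36 ((φ a) ^ 2 * (φ b)⁻¹ * t) * hG hE6 36 (φ a) := by
      have := hG_conj (i := 5) (s := 36) (by norm_num) (by norm_num) hφa ((φ b)⁻¹ * t)
      rw [show chevE6.cartan 5 36 = 2 by decide +kernel] at this
      rw [mul_assoc]
      exact_mod_cast this
    have c0 : ∀ v : K, hG hE6 56 (a : K) * x 36 v = x 36 v * hG hE6 56 (a : K) := by
      intro v
      have := hG_conj (i := 0) (s := 36) (by norm_num) (by norm_num) ha0 v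
      rw [show chevE6.cartan 0 36 = 0 by decide +kernel, zpow_zero, one_mul] at this
      exact this
    calc hG hE6 56 (a : K) * hG hE6 36 (φ a) * (hG hE6 42 (b : K) * hG hE6 37 (φ b)) * x 36 t
        = hG hE6 56 (a : K) * hG hE6 36 (φ a) * (hG hE6 42 (b : K) * (hG hE6 37 (φ b) * x 36 t)) := by
          simp only [mul_assoc]
      _ = hG hE6 56 (a : K) * hG hE6 36 (φ a) * ((hG hE6 42 (b : K) * x 36 ((φ b)⁻¹ * t)) * hG hE6 37 (φ b)) := by
          rw [c4]; simp only [mul_assoc]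
      _ = hG hE6 56 (a : K) * (hG hE6 36 (φ a) * x 36 ((φ b)⁻¹ * t)) * (hG hE6 42 (b : K) * hG hE6 37 (φ b)) := by
          rw [c2]; simp only [mul_assoc]
      _ = (hG hE6 56 (a : K) * x 36 ((φ a) ^ 2 * (φ b)⁻¹ * t)) * hG hE6 36 (φ a) *
            (hG hE6 42 (b : K) * hG hE6 37 (φ b)) := by
          rw [c5]; simp only [mul_assoc]
      _ = _ := by rw [c0]; simp only [mul_assoc]
  have k3 : x 56 ((a : K) ^ 2 * (b : K)⁻¹ * 1) * x 36 ((φ a) ^ 2 * (φ b)⁻¹ * 1) = x 56 1 * x 36 1 := by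
    have h3 : (E6H1.fA φ) c * (x 56 1 * x 36 1) =
        x 56 ((a : K) ^ 2 * (b : K)⁻¹ * 1) * x 36 ((φ a) ^ 2 * (φ b)⁻¹ * 1) * (E6H1.fA φ) c := by
      rw [← mul_assoc, k1, mul_assoc, k2, ← mul_assoc]
    exact mul_right_cancel (h3.symm.trans hc)
  have k4 : (a : K) ^ 2 * (b : K)⁻¹ * 1 = 1 := (pair3.x_pair_inj k3).1
  have k5 : b = a⁻¹ := by
    have h3 := cube_units F a
    have h4 : b = a ^ 2 := by
      apply Units.ext
      rw [Units.val_pow_eq_pow_val]
      rw [mul_one, mul_inv_eq_one₀ hb0] at k4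
      exact k4.symm
    rw [h4, eq_inv_iff_mul_eq_one, ← pow_succ, h3]
  have k6 : E6H1.psi φ a = a⁻¹ := by
    have h3 := cube_units F a
    rw [eq_inv_iff_mul_eq_one]
    apply Units.ext
    show φ (a : K) * a = 1
    rw [F.sq]
    have := congrArg Units.val h3
    rw [Units.val_pow_eq_pow_val, Units.val_one] at this
    rw [← this]; ring
  show TorusCount.torusHom chevE6 K c.1 = 1
  have k7 : c.1 = E6H1.ker a := by
    apply E6H1.ext6
    · exact ha.symm
    · exact e1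
    · rw [← hb, k5]; rfl
    · exact e3
    · rw [e4, ← hb, k5, map_inv, k6, inv_inv]; rfl
    · rw [e5, ← ha, k6]; rfl
  rw [k7]
  exact E6H1.torusHom_ker_eq a (cube_units F a)

/-- The core of `B ∩ L` is trivial. -/
theorem core_bot : ((chevE6.borelSubgroup K).subgroupOf (LL K)).normalCore = ⊥ := by
  rw [eq_bot_iff]
  intro c hc
  rw [Subgroup.mem_bot]
  have hz : x 56 (1 : K) * x 36 1 ∈ LL K := by
    refine Subgroup.mem_inf.2 ⟨mul_mem (x_mem_LR (by decide +kernel) _) (x_mem_LR (by decide +kernel) _), ?_⟩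
    have h := pair_mem (K := K) (q := 2) 1 (rs := (56, 36)) (by decide)
    rwa [one_pow] at h
  have h1 := core_comm F hc (mul_mem (mem_U (r := 56) (by decide) 1) (mem_U (r := 36) (by decide) 1)) hz
  exact Subtype.ext (torus_eq_one F (core_le_H F hc) (Subgroup.mem_inf.1 c.2).2 h1)

end Four

/-! ### Root elements of `L` -/

/-- The pair elements. -/
def z (φ : K →+* K) (r : Fin 72) (t : K) : GL chevE6.Idx K := x r.val t * x (rho r).val (φ t)

theorem n_conj_z [CharP K 2] (φ : K →+* K) (i : Fin 4) (r : Fin 72) (t : K) :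
    n (K := K) i * z φ r t * (n (K := K) i)⁻¹ = z φ (wP i r) t := by
  have h1 := n_conj2 (K := K) i r t
  have h2 := n_conj2 (K := K) i (rho r) (φ t)
  unfold z
  rw [rho_wP, ← h1, ← h2]
  group

/-- words for the long roots of `L`, starting from 60 -/
def wl60 : List (List (Fin 4)) := [[], [3], [2,3], [1,2,3], [2,1,2,3], [3,2,1,2,3]]

/-- words for the short roots of `L`, starting from 59 -/
def wl59 : List (List (Fin 4)) :=
  [[], [2], [3], [1,2], [3,2], [2,3], [2,1,2], [3,1,2], [2,3,2], [1,2,3], [3,2,1,2], [2,3,1,2], [1,2,3,2],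
   [2,1,2,3], [2,3,2,1,2], [1,2,3,1,2], [2,1,2,3,2], [3,2,1,2,3], [1,2,3,2,1,2], [2,1,2,3,1,2], [3,2,1,2,3,2],
   [2,1,2,3,2,1,2], [3,2,1,2,3,1,2], [3,2,1,2,3,2,1,2]]

theorem exists_wl60 : ∀ r : Fin 72, chevE6.InRootSub {j | j ∈ Jn} r.val → rho r = r →
    ∃ w ∈ wl60, wpm w 60 = r := by decide +kernel

theorem exists_wl59 : ∀ r : Fin 72, chevE6.InRootSub {j | j ∈ Jn} r.val → rho r ≠ r →
    ∃ w ∈ wl59, wpm w 59 = r := by decide +kernel

theorem wl60_ne : ∀ w ∈ wl60, ∀ i ∈ w, i ≠ 0 := by decide +kernel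
theorem wl59_ne : ∀ w ∈ wl59, ∀ i ∈ w, i ≠ 0 := by decide +kernel

theorem wn_conj_z [CharP K 2] (φ : K →+* K) (w : List (Fin 4)) (r : Fin 72) (t : K) :
    wn (K := K) w * z φ r t * (wn (K := K) w)⁻¹ = z φ (wpm w r) t := by
  induction w with
  | nil => rw [wn_nil, one_mul, inv_one, mul_one]; rfl
  | cons i w ih =>
    rw [wn_cons, wpm_cons, ← n_conj_z, ← ih]
    group

/-- the subgroup normalised by `n_i`, `i ≠ 0`, is stable under words -/
theorem conj_word {M : Subgroup (GL chevE6.Idx K)}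
    (hn : ∀ i : Fin 4, i ≠ 0 → ∀ m ∈ M, n (K := K) i * m * (n (K := K) i)⁻¹ ∈ M)
    {w : List (Fin 4)} (hw : ∀ i ∈ w, i ≠ 0) {m : GL chevE6.Idx K} (hm : m ∈ M) :
    wn (K := K) w * m * (wn (K := K) w)⁻¹ ∈ M := by
  induction w with
  | nil => rw [wn_nil, one_mul, inv_one, mul_one]; exact hm
  | cons i w ih =>
    have h1 := hn i (hw i List.mem_cons_self) _ (ih fun j hj => hw j (List.mem_cons_of_mem _ hj))
    rw [wn_cons]
    have e : n (K := K) i * wn (K := K) w * m * (n (K := K) i * wn (K := K) w)⁻¹ =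
      n (K := K) i * (wn (K := K) w * m * (wn (K := K) w)⁻¹) * (n (K := K) i)⁻¹ := by group
    rw [e]; exact h1

theorem n1_eq [CharP K 2] : n (K := K) 1 = x 39 1 * (x 32 1 * x 39 1) := by
  rw [single1.Jn K, show nE (K := K) 39 = nG hE6 39 (1 : K) from rfl, nG_def,
    show chevE6.neg 39 = 32 by decide +kernel, inv_one, LeviA.neg_eq_self]

theorem n2_eq [CharP K 2] (φ : K →+* K) : n (K := K) 2 = z φ 42 1 * z φ 29 1 * z φ 42 1 := by
  rw [pair2.n_eq_prod, show chevE6.neg 42 = 29 by decide +kernel, show chevE6.neg 37 = 34 by decide +kernel,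
    LeviA.neg_eq_self]
  unfold z
  rw [map_one]
  rfl

theorem n3_eq [CharP K 2] (φ : K →+* K) : n (K := K) 3 = z φ 56 1 * z φ 15 1 * z φ 56 1 := by
  rw [pair3.n_eq_prod, show chevE6.neg 56 = 15 by decide +kernel, show chevE6.neg 36 = 35 by decide +kernel,
    LeviA.neg_eq_self]
  unfold z
  rw [map_one]
  rfl

/-- A subgroup stable under the `n_i` containing `x_60(1)` and the `z_59(t)` contains `L`. -/
theorem LL_le_of_root [Fintype K] {φ : K →+* K} (F : Four K φ) {M : Subgroup (GL chevE6.Idx K)}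
    (hn : ∀ i : Fin 4, i ≠ 0 → ∀ m ∈ M, n (K := K) i * m * (n (K := K) i)⁻¹ ∈ M)
    (h60 : x 60 (1 : K) ∈ M) (h59 : ∀ t, z φ 59 t ∈ M) : LL K ≤ M := by
  have := F.charP
  have hl : ∀ r : Fin 72, chevE6.InRootSub {j | j ∈ Jn} r.val → rho r = r → x r.val (1 : K) ∈ M := by
    intro r hr hr'
    obtain ⟨w, hw, rfl⟩ := exists_wl60 r hr hr'
    have h := conj_word hn (wl60_ne w hw) h60
    rwa [show x 60 (1 : K) = x (60 : Fin 72).val 1 from rfl, wn_conj] at h
  have hs : ∀ r : Fin 72, chevE6.InRootSub {j | j ∈ Jn} r.val → rho r ≠ r → ∀ t, z φ r t ∈ M := by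
    intro r hr hr' t
    obtain ⟨w, hw, rfl⟩ := exists_wl59 r hr hr'
    have h := conj_word hn (wl59_ne w hw) (h59 t)
    rwa [wn_conj_z] at h
  refine (LL_le_M0 F).trans ((Subgroup.closure_le M).2 ?_)
  rintro g (⟨hU, hL⟩ | ⟨i, rfl⟩)
  · exact U_LL_le F (fun r _ hr hr' => hl r hr hr') (fun r _ hr hr' t => hs r hr hr' t) hU hL
  · show n (K := K) i.succ ∈ M
    have : i = 0 ∨ i = 1 ∨ i = 2 := by fin_cases i <;> simp
    rcases this with rfl | rfl | rfl
    · show n (K := K) 1 ∈ M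
      rw [n1_eq]
      have h39 := hl 39 (by decide +kernel) (by decide +kernel)
      exact mul_mem h39 (mul_mem (hl 32 (by decide +kernel) (by decide +kernel)) h39)
    · show n (K := K) 2 ∈ M
      rw [n2_eq φ]
      have h42 := hs 42 (by decide +kernel) (by decide +kernel) 1
      exact mul_mem (mul_mem h42 (hs 29 (by decide +kernel) (by decide +kernel) 1)) h42
    · show n (K := K) 3 ∈ M
      rw [n3_eq φ]
      have h56 := hs 56 (by decide +kernel) (by decide +kernel) 1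
      exact mul_mem (mul_mem h56 (hs 15 (by decide +kernel) (by decide +kernel) 1)) h56

theorem comm_nil' {r s : ℕ} (hr : r < 72) (hs : s < 72)
    (h : s ≠ r ∧ s ≠ chevE6.neg r ∧ chevE6.commTerms r s = []) (t u : K) : x s u * x r t = x r t * x s u :=
  comm_of_commTerms hr hs h.1 h.2.1 h.2.2 t u

/-- `[z_56(a), x_44(1)]` -/
theorem comm56_44 [CharP K 2] (φ : K →+* K) (a : K) :
    z φ 56 a * x 44 1 = x 44 1 * z φ 56 a * (z φ 59 a * x 60 (a * φ a)) := by
  show x 56 a * x 36 (φ a) * x 44 1 = x 44 1 * (x 56 a * x 36 (φ a)) * (x 59 a * x 45 (φ a) * x 60 (a * φ a))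
  have c1 : x 36 (φ a) * x 44 1 = x 44 1 * x 36 (φ a) * x 45 (1 * φ a) :=
    comm_single (r := 44) (s := 36) (k := 45) (c := -1) (by norm_num) (by norm_num) (by norm_num)
      (by decide +kernel) (by decide) (by decide +kernel) 1 (φ a)
  have c2 : x 56 a * x 44 1 = x 44 1 * x 56 a * x 59 (1 * a) :=
    comm_single (r := 44) (s := 56) (k := 59) (c := 1) (by norm_num) (by norm_num) (by norm_num)
      (by decide +kernel) (by decide) (by decide +kernel) 1 a
  have c3 : x 36 (φ a) * x 59 a = x 59 a * x 36 (φ a) * x 60 (a * φ a) :=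
    comm_single (r := 59) (s := 36) (k := 60) (c := -1) (by norm_num) (by norm_num) (by norm_num)
      (by decide +kernel) (by decide) (by decide +kernel) a (φ a)
  have c4 : x 60 (a * φ a) * x 45 (φ a) = x 45 (φ a) * x 60 (a * φ a) :=
    comm_nil' (r := 45) (s := 60) (by norm_num) (by norm_num) (by decide +kernel) _ _
  have c5 : x 60 (a * φ a) * x 60 (a * φ a) = (1 : GL chevE6.Idx K) := by
    rw [x_add, CharTwo.add_self_eq_zero, TwE6Basic.x_zero]
  have c6 : x 59 a * x 36 (φ a) = x 36 (φ a) * x 59 a * x 60 (a * φ a) := by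
    rw [c3, mul_assoc, c5, mul_one]
  rw [one_mul] at c1 c2
  calc x 56 a * x 36 (φ a) * x 44 1 = x 56 a * (x 36 (φ a) * x 44 1) := by rw [mul_assoc]
    _ = (x 56 a * x 44 1) * x 36 (φ a) * x 45 (φ a) := by rw [c1]; simp only [mul_assoc]
    _ = x 44 1 * x 56 a * (x 59 a * x 36 (φ a)) * x 45 (φ a) := by rw [c2]; simp only [mul_assoc]
    _ = x 44 1 * x 56 a * (x 36 (φ a) * x 59 a) * (x 60 (a * φ a) * x 45 (φ a)) := by
        rw [c6]; simp only [mul_assoc]
    _ = _ := by rw [c4]; simp only [mul_assoc]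

/-- `[z_56(a), z_59(b)]` -/
theorem comm56_59 [CharP K 2] (φ : K →+* K) (a b : K) :
    z φ 56 a * z φ 59 b = z φ 59 b * z φ 56 a * x 60 (φ b * a + b * φ a) := by
  show x 56 a * x 36 (φ a) * (x 59 b * x 45 (φ b)) = x 59 b * x 45 (φ b) * (x 56 a * x 36 (φ a)) *
    x 60 (φ b * a + b * φ a)
  have c1 : x 36 (φ a) * x 59 b = x 59 b * x 36 (φ a) * x 60 (b * φ a) :=
    comm_single (r := 59) (s := 36) (k := 60) (c := -1) (by norm_num) (by norm_num) (by norm_num)
      (by decide +kernel) (by decide) (by decide +kernel) b (φ a)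
  have c2 : x 56 a * x 45 (φ b) = x 45 (φ b) * x 56 a * x 60 (φ b * a) :=
    comm_single (r := 45) (s := 56) (k := 60) (c := 1) (by norm_num) (by norm_num) (by norm_num)
      (by decide +kernel) (by decide) (by decide +kernel) (φ b) a
  have c3 : x 56 a * x 59 b = x 59 b * x 56 a :=
    comm_nil' (r := 59) (s := 56) (by norm_num) (by norm_num) (by decide +kernel) _ _
  have c4 : x 36 (φ a) * x 45 (φ b) = x 45 (φ b) * x 36 (φ a) :=
    comm_nil' (r := 45) (s := 36) (by norm_num) (by norm_num) (by decide +kernel) _ _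
  have c5 : x 60 (b * φ a) * x 45 (φ b) = x 45 (φ b) * x 60 (b * φ a) :=
    comm_nil' (r := 45) (s := 60) (by norm_num) (by norm_num) (by decide +kernel) _ _
  have c6 : x 60 (φ b * a) * x 36 (φ a) = x 36 (φ a) * x 60 (φ b * a) :=
    comm_nil' (r := 36) (s := 60) (by norm_num) (by norm_num) (by decide +kernel) _ _
  calc x 56 a * x 36 (φ a) * (x 59 b * x 45 (φ b))
      = x 56 a * (x 36 (φ a) * x 59 b) * x 45 (φ b) := by simp only [mul_assoc]
    _ = (x 56 a * x 59 b) * x 36 (φ a) * (x 60 (b * φ a) * x 45 (φ b)) := by rw [c1]; simp only [mul_assoc]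
    _ = x 59 b * x 56 a * (x 36 (φ a) * x 45 (φ b)) * x 60 (b * φ a) := by rw [c3, c5]; simp only [mul_assoc]
    _ = x 59 b * (x 56 a * x 45 (φ b)) * x 36 (φ a) * x 60 (b * φ a) := by rw [c4]; simp only [mul_assoc]
    _ = x 59 b * x 45 (φ b) * x 56 a * (x 60 (φ b * a) * x 36 (φ a)) * x 60 (b * φ a) := by
        rw [c2]; simp only [mul_assoc]
    _ = x 59 b * x 45 (φ b) * x 56 a * x 36 (φ a) * (x 60 (φ b * a) * x 60 (b * φ a)) := by
        rw [c6]; simp only [mul_assoc]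
    _ = _ := by rw [x_add]; simp only [mul_assoc]

section Four

variable [Fintype K] {φ : K →+* K} (F : Four K φ)
include F

theorem x_mem_LL {r : Fin 72} (hr : chevE6.InRootSub {j | j ∈ Jn} r.val) (hr' : rho r = r) :
    x r.val (1 : K) ∈ LL K :=
  Subgroup.mem_inf.2 ⟨x_mem_LR hr 1, x_mem_E F hr'⟩

theorem z_mem_LL {r : Fin 72} (hr : chevE6.InRootSub {j | j ∈ Jn} r.val) (hr' : rho r ≠ r) (t : K) :
    z φ r t ∈ LL K := by
  have := F.charP
  have h59 : z φ 59 t ∈ LL K := by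
    refine Subgroup.mem_inf.2 ⟨mul_mem (x_mem_LR (by decide +kernel) _) (x_mem_LR (by decide +kernel) _), ?_⟩
    exact y_mem_E_pos F (r := 59) (by decide) (by decide +kernel) (by decide +kernel) (by decide +kernel) t
  obtain ⟨w, hw, rfl⟩ := exists_wl59 r hr hr'
  rw [← wn_conj_z]
  exact mul_mem (mul_mem (wn_mem_LL F (wl59_ne w hw)) h59) (inv_mem (wn_mem_LL F (wl59_ne w hw)))

/-- there is `ω` with trace one -/
theorem exists_omega : ∃ w : K, w + φ w = 1 := by
  have := F.charP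
  obtain ⟨w, hw⟩ : ∃ w : K, φ w ≠ w := by
    by_contra hcon
    push Not at hcon
    have h1 : ∀ t : K, t = 0 ∨ t = 1 := fun t => zero_or_one F (hcon t)
    classical
    have h2 : (Finset.univ : Finset K) ⊆ {0, 1} := by
      intro t _
      rw [Finset.mem_insert, Finset.mem_singleton]
      exact h1 t
    have h3 := Finset.card_le_card h2
    have h4 : ({0, 1} : Finset K).card ≤ 2 := Finset.card_le_two
    rw [Finset.card_univ, F.card] at h3
    omega
  refine ⟨w, F.eq_one (fun h => hw ?_) ?_⟩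
  · have h1 : φ w = -w := eq_neg_of_add_eq_zero_right h
    rw [h1, LeviA.neg_eq_self]
  · rw [map_add, F.inv, add_comm]

/-- `L` is perfect. -/
theorem LL_le_comm : LL K ≤ ⁅LL K, LL K⁆ := by
  have := F.charP
  have hcomm : ∀ {g h c : GL chevE6.Idx K}, g ∈ LL K → h ∈ LL K → g * h = h * g * c → c ∈ ⁅LL K, LL K⁆ := by
    intro g h c hg hh e
    have h1 : c = ⁅g⁻¹, h⁻¹⁆ := by
      rw [commutatorElement_def, inv_inv, inv_inv]
      have : c = (h * g)⁻¹ * (g * h) := by rw [e]; group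
      rw [this]; group
    rw [h1]
    exact Subgroup.commutator_mem_commutator (inv_mem hg) (inv_mem hh)
  have h56 : ∀ t, z φ 56 t ∈ LL K := fun t => z_mem_LL F (by decide +kernel) (by decide +kernel) t
  have h59 : ∀ t, z φ 59 t ∈ LL K := fun t => z_mem_LL F (by decide +kernel) (by decide +kernel) t
  have h44 : x 44 (1 : K) ∈ LL K := x_mem_LL F (r := 44) (by decide +kernel) (by decide +kernel)
  have k60 : x 60 (1 : K) ∈ ⁅LL K, LL K⁆ := by
    obtain ⟨w, hw⟩ := exists_omega F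
    have h := hcomm (h56 1) (h59 w) (comm56_59 φ 1 w)
    rwa [map_one, mul_one, mul_one, add_comm, hw] at h
  have k59 : ∀ t, z φ 59 t ∈ ⁅LL K, LL K⁆ := by
    intro a
    have h := hcomm (h56 a) h44 (comm56_44 φ a)
    have h1 : x 60 (a * φ a) ∈ ⁅LL K, LL K⁆ := by
      rcases zero_or_one F (t := a * φ a) (by rw [map_mul, F.inv, mul_comm]) with h0 | h0
      · rw [h0, TwE6Basic.x_zero]; exact one_mem _
      · rw [h0]; exact k60
    exact (Subgroup.mul_mem_cancel_right _ h1).1 h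
  refine LL_le_of_root F (fun i hi m hm => ?_) k60 k59
  have hle : ⁅LL K, LL K⁆ ≤ LL K := Subgroup.commutator_le.2 fun g hg h hh => by
    rw [commutatorElement_def]
    exact mul_mem (mul_mem (mul_mem hg hh) (inv_mem hg)) (inv_mem hh)
  have hm' : m ∈ LL K := hle hm
  have e : n (K := K) i * m * (n (K := K) i)⁻¹ = ⁅n (K := K) i, m⁆ * m := by
    rw [commutatorElement_def]; group
  rw [e]
  exact mul_mem (Subgroup.commutator_mem_commutator (Subgroup.mem_inf.2 ⟨n_mem_LR i hi, n_mem F i⟩) hm') hm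

theorem commutator_LL : commutator ↥(LL K) = ⊤ := by
  rw [commutator_def, eq_top_iff]
  have h1 : (⁅(⊤ : Subgroup ↥(LL K)), (⊤ : Subgroup ↥(LL K))⁆ : Subgroup ↥(LL K)).map (LL K).subtype =
      ⁅LL K, LL K⁆ := by
    rw [Subgroup.map_commutator, ← MonoidHom.range_eq_map, Subgroup.range_subtype]
  rintro ⟨g, hg⟩ -
  have h2 : g ∈ (⁅(⊤ : Subgroup ↥(LL K)), (⊤ : Subgroup ↥(LL K))⁆ : Subgroup ↥(LL K)).map (LL K).subtype :=
    h1.symm ▸ LL_le_comm F hg
  obtain ⟨g', hg', e⟩ := h2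
  have : g' = ⟨g, hg⟩ := Subtype.ext e
  rwa [← this]

/-- **The Levi subgroup `L = C_E(r0, s0)` is simple.** -/
theorem simple_LL : IsSimpleGroup ↥(LL K) ∧ ¬ IsMulCommutative ↥(LL K) := by
  obtain ⟨P, hB, -, hirr⟩ := exists_bnL F
  have e : (chevE6.borelSubgroup K ⊓ LL K).subgroupOf (LL K) = (chevE6.borelSubgroup K).subgroupOf (LL K) := by
    rw [Subgroup.inf_subgroupOf_right]
  refine TwSimple.simple_of_bn (LL K) (chevE6.borelSubgroup K) P (by rw [e]; exact hB) hirr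
    (Cfsg.Agent.S1050.result (F := K) chevE6 hE6) (commutator_LL F) (by rw [e]; exact core_bot F) ?_
  refine ⟨x 60 1, x_mem_LL F (r := 60) (by decide +kernel) (by decide +kernel), fun h => ?_⟩
  exact one_ne_zero ((x_eq_one_iff (by norm_num) (1 : K)).1 h)

end Four

end Cfsg.Agent.TwoESix.LeviD
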