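import Cfsg.Agent.S1613
import Cfsg.Agent.S0245
import Cfsg.Agent.S0280
import Cfsg.Agent.ThreeTransPolar.Main
import Cfsg.Agent.Fischer3.SpCase
import Cfsg.Agent.Fischer468.NReg
import Cfsg.Agent.R01.PSUSix
import Cfsg.Agent.LieClassical.FieldTransfer

/-!
# Recognition of `PSU(6, 2)`

A finite simple group with a class `D` of `3`-transpositions such that `O₂(⟨D_x⟩)` is not central in
`⟨D_x⟩` and whose order has `2`-part `2¹⁵` is `PSU(6, 2)`, with `D` the class of transvections.
-/

set_option autoImplicit false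

namespace Cfsg.Agent.TwoESix.RecSix

open Cfsg Cfsg.Agent.R01.PSUSix Cfsg.Agent.LieClassical.FieldTransfer

universe u v

/-! ### `2`-parts of the orders -/

theorem fact_odd {n : ℕ} (h : Odd n) : n.factorization 2 = 0 := by
  rw [Nat.factorization_eq_zero_iff]
  right; left
  rw [Nat.odd_iff] at h
  omega

theorem fact_two_pow_mul {a m : ℕ} (hm : Odd m) : (2 ^ a * m).factorization 2 = a := by
  have h0 : m ≠ 0 := by rintro rfl; exact (Nat.not_odd_zero hm).elim
  rw [Nat.factorization_mul (by positivity) h0, Finsupp.add_apply, fact_odd hm,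
    Nat.Prime.factorization_pow Nat.prime_two]
  simp

theorem odd_prod {s : Finset ℕ} {f : ℕ → ℕ} (h : ∀ i ∈ s, Odd (f i)) : Odd (∏ i ∈ s, f i) := by
  classical
  induction s using Finset.induction_on with
  | empty => simp
  | insert a s ha ih =>
    rw [Finset.prod_insert ha]
    exact (h a (Finset.mem_insert_self a s)).mul (ih fun i hi => h i (Finset.mem_insert_of_mem hi))

theorem odd_two_pow_sub {k : ℕ} (hk : k ≠ 0) : Odd (2 ^ k - 1) := by
  obtain ⟨j, rfl⟩ := Nat.exists_eq_succ_of_ne_zero hk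
  refine ⟨2 ^ j - 1, ?_⟩
  have : 1 ≤ 2 ^ j := Nat.one_le_two_pow
  rw [Nat.succ_eq_add_one, pow_succ]
  omega

theorem odd_two_pow_add {k : ℕ} (hk : k ≠ 0) : Odd (2 ^ k + 1) := by
  obtain ⟨j, rfl⟩ := Nat.exists_eq_succ_of_ne_zero hk
  exact ⟨2 ^ j, by rw [Nat.succ_eq_add_one, pow_succ]; ring⟩

/-- the `2`-part of the order of `Sp(2m, 2)` -/
theorem fact_sp (m : ℕ) :
    (Nat.card (Matrix.symplecticGroup (Fin m) (ZMod 2))).factorization 2 = m ^ 2 := by
  rw [Cfsg.Agent.S0245.result (F := ZMod 2) (q := 2) (ZMod.card 2) m]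
  exact fact_two_pow_mul (odd_prod fun i _ => odd_two_pow_sub (by omega))

/-- the `2`-part of the order of `PSU(n, 2)` -/
theorem fact_psu {F : Type*} [Field F] [Fintype F] (hF : Fintype.card F = 2 ^ 2) {n : ℕ} (hn : 2 ≤ n) :
    (Nat.card (PSU n F 2)).factorization 2 = n * (n - 1) / 2 := by
  have h := Cfsg.Agent.S0280.result (F := F) (q := 2) hF n hn
  have hg : Odd (Nat.gcd n (2 + 1)) :=
    Odd.of_dvd_nat (show Odd (2 + 1) by decide) (Nat.gcd_dvd_right _ _)
  have hodd : Odd (∏ i ∈ Finset.range n, (if Even i then 2 ^ (i + 1) + 1 else 2 ^ (i + 1) - 1)) := by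
    refine odd_prod fun i _ => ?_
    split_ifs
    · exact odd_two_pow_add (by omega)
    · exact odd_two_pow_sub (by omega)
  have h1 : (Nat.gcd n (2 + 1) * ((2 + 1) * Nat.card (PSU n F 2))).factorization 2 = n * (n - 1) / 2 := by
    rw [h]; exact fact_two_pow_mul hodd
  have hc : Nat.card (PSU n F 2) ≠ 0 := by
    intro h0
    rw [h0, mul_zero, mul_zero] at h
    have : (2 : ℕ) ^ (n * (n - 1) / 2) * ∏ i ∈ Finset.range n, (if Even i then 2 ^ (i + 1) + 1 else 2 ^ (i + 1) - 1) ≠ 0 := by
      refine mul_ne_zero (by positivity) ?_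
      intro h2
      rw [h2] at hodd
      exact Nat.not_odd_zero hodd
    exact this h.symm
  rw [Nat.factorization_mul (by rintro h2; rw [h2] at hg; exact Nat.not_odd_zero hg)
    (mul_ne_zero (by norm_num) hc), Nat.factorization_mul (by norm_num) hc, Finsupp.add_apply,
    Finsupp.add_apply, fact_odd hg, fact_odd (show Odd (2 + 1) by decide), zero_add, zero_add] at h1
  exact h1

/-! ### Field isomorphisms -/

theorem rank_map {F K : Type*} [Field F] [Field K] (e : F ≃+* K) {n : ℕ} {A : Matrix (Fin n) (Fin n) F}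
    (h : A.rank = 1) : (A.map e).rank = 1 := by
  obtain ⟨a, b, ha, hb, rfl⟩ := Cfsg.Agent.ClassicalGeometry.RankOne.exists_vecMulVec_of_rank_eq_one _ h
  have h1 : (Matrix.vecMulVec a b).map e = Matrix.vecMulVec (fun i => e (a i)) (fun i => e (b i)) := by
    ext i j
    simp [Matrix.vecMulVec_apply]
  apply le_antisymm
  · rw [h1]; exact Matrix.rank_vecMulVec_le _ _
  · rw [Nat.one_le_iff_ne_zero]
    intro h0
    have h2 : (Matrix.vecMulVec a b).map e = 0 := by
      have h3 : LinearMap.range ((Matrix.vecMulVec a b).map e).mulVecLin = ⊥ :=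
        Submodule.finrank_eq_zero.1 h0
      have h4 : ((Matrix.vecMulVec a b).map e).mulVecLin = 0 := LinearMap.range_eq_bot.1 h3
      ext i j
      have h5 := congrFun (LinearMap.congr_fun h4 (Pi.single j 1)) i
      simpa using h5
    obtain ⟨i, hi⟩ := Function.ne_iff.1 ha
    obtain ⟨j, hj⟩ := Function.ne_iff.1 hb
    have h3 := congrFun (congrFun h2 i) j
    rw [Matrix.map_apply, Matrix.zero_apply, Matrix.vecMulVec_apply, map_eq_zero, mul_eq_zero] at h3
    rcases h3 with h3 | h3
    · exact hi h3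
    · exact hj h3

theorem rank_map_iff {F K : Type*} [Field F] [Field K] (e : F ≃+* K) {n : ℕ} (A : Matrix (Fin n) (Fin n) F) :
    (A.map e).rank = 1 ↔ A.rank = 1 := by
  refine ⟨fun h => ?_, rank_map e⟩
  have h1 := rank_map e.symm h
  rwa [Matrix.map_map, show (e.symm : K → F) ∘ (e : F → K) = id from by ext x; simp, Matrix.map_id] at h1

/-- Transport of the transvections along a field isomorphism. -/
theorem mem_TT_congr {F K : Type*} [Field F] [Field K] [Fintype K] (hK : Fintype.card K = 2 ^ 2)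
    (e : F ≃+* K) (n : ℕ) (x : PSU n F 2) :
    psuCongr n 2 e x ∈ TT hK n ↔ ∃ t : SU n F 2,
      (((t : Matrix.SpecialLinearGroup (Fin n) F) : Matrix (Fin n) (Fin n) F) - 1).rank = 1 ∧
        x = QuotientGroup.mk t := by
  have key : ∀ t : SU n F 2,
      ((((suCongr n 2 e t : SU n K 2) : Matrix.SpecialLinearGroup (Fin n) K) : Matrix (Fin n) (Fin n) K) - 1).rank = 1 ↔
      (((t : Matrix.SpecialLinearGroup (Fin n) F) : Matrix (Fin n) (Fin n) F) - 1).rank = 1 := by
    intro t
    rw [← rank_map_iff e (((t : Matrix.SpecialLinearGroup (Fin n) F) : Matrix (Fin n) (Fin n) F) - 1)]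
    have h1 : (((t : Matrix.SpecialLinearGroup (Fin n) F) : Matrix (Fin n) (Fin n) F) - 1).map e =
        (((suCongr n 2 e t : SU n K 2) : Matrix.SpecialLinearGroup (Fin n) K) : Matrix (Fin n) (Fin n) K) - 1 := by
      ext i j
      show e ((((t : Matrix.SpecialLinearGroup (Fin n) F) : Matrix (Fin n) (Fin n) F) - 1) i j) =
        e (((t : Matrix.SpecialLinearGroup (Fin n) F) : Matrix (Fin n) (Fin n) F) i j) - (1 : Matrix (Fin n) (Fin n) K) i j
      rw [Matrix.sub_apply, map_sub]
      congr 1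
      by_cases hij : i = j
      · subst hij; simp
      · simp [hij]
    rw [h1]
  rw [mem_TT_iff]
  constructor
  · rintro ⟨g, hg, hgx⟩
    obtain ⟨t, rfl⟩ := (suCongr n 2 e).surjective g
    refine ⟨t, (key t).1 hg, ?_⟩
    apply (psuCongr n 2 e).injective
    rw [← hgx]
    rfl
  · rintro ⟨t, ht, rfl⟩
    exact ⟨suCongr n 2 e t, (key t).2 ht, rfl⟩

/-! ### The recognition theorem -/

open Cfsg.Agent.SporadicA.FieldFour in
/-- **Recognition of `PSU(6, 2)`** -/
theorem exists_equiv {L : Type u} [Group L] [Finite L]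
    (hsol : ∀ N : Subgroup L, N.Normal → Group.IsSolvable ↥N → N = ⊥)
    (hperf : ⁅commutator L, commutator L⁆ = commutator L)
    {D : Set L} (hD : IsThreeTranspositionClass D) {x : L} (hx : x ∈ D)
    (hc : ¬ Cfsg.pCore 2 ↥(Subgroup.closure {y : L | y ∈ D ∧ y ≠ x ∧ Commute x y}) ≤
      Subgroup.center ↥(Subgroup.closure {y : L | y ∈ D ∧ y ≠ x ∧ Commute x y}))
    (h15 : (Nat.card L).factorization 2 = 15)
    {F : Type v} [Field F] [Fintype F] (hF : Fintype.card F = 2 ^ 2) :
    ∃ e : L ≃* PSU 6 F 2, ∀ g, g ∈ D ↔ e g ∈ TT hF 6 := by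
  rcases Cfsg.Agent.ThreeTransPolar.Main.polar_of_hyps hsol hperf hD
    (fun x hx => Cfsg.Agent.S1613.result hsol hperf hD x hx) hx hc with P | P
  · exfalso
    obtain ⟨m, e, -, -⟩ := Cfsg.Agent.Fischer3.SpCase.exists_equiv_sp
      (D := D) ⟨P.fd, P.center, P.noTwins, P.card, P.one, P.hyp⟩
    rw [Nat.card_congr e.toEquiv, fact_sp] at h15
    have h1 : m ≤ 3 := by
      by_contra h
      have h2 : 4 ≤ m := by omega
      have h3 : 4 ^ 2 ≤ m ^ 2 := Nat.pow_le_pow_left h2 2
      omega
    interval_cases m <;> omega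
  · obtain ⟨n, hn, e, he⟩ := Cfsg.Agent.Fischer468.NReg.exists_equiv_psu
      (D := D) ⟨P.fd, P.center, P.noTwins, P.card, P.one, P.ex, P.hyp⟩
    have hF4 : Fintype.card F4 = 2 ^ 2 := rfl
    rw [Nat.card_congr e.toEquiv, fact_psu hF4 (by omega)] at h15
    have h6 : n = 6 := by
      have h1 : n ≤ 6 := by
        by_contra h
        have h2 : 7 ≤ n := by omega
        have h3 : 7 * 6 ≤ n * (n - 1) := Nat.mul_le_mul h2 (by omega)
        omega
      interval_cases n <;> omega
    subst h6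
    let ε : F4 ≃+* F := FiniteField.ringEquivOfCardEq (hF4.trans hF.symm)
    refine ⟨e.trans (psuCongr 6 2 ε), fun g => ?_⟩
    rw [he]
    exact (mem_TT_congr hF ε 6 (e g)).symm

/-- The same with the order of `L` as hypothesis. -/
theorem exists_equiv_of_card {L : Type u} [Group L] [Finite L]
    (hsol : ∀ N : Subgroup L, N.Normal → Group.IsSolvable ↥N → N = ⊥)
    (hperf : ⁅commutator L, commutator L⁆ = commutator L)
    {D : Set L} (hD : IsThreeTranspositionClass D) {x : L} (hx : x ∈ D)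
    (hc : ¬ Cfsg.pCore 2 ↥(Subgroup.closure {y : L | y ∈ D ∧ y ≠ x ∧ Commute x y}) ≤
      Subgroup.center ↥(Subgroup.closure {y : L | y ∈ D ∧ y ≠ x ∧ Commute x y}))
    (h : Nat.card L = 9196830720)
    {F : Type v} [Field F] [Fintype F] (hF : Fintype.card F = 2 ^ 2) :
    ∃ e : L ≃* PSU 6 F 2, ∀ g, g ∈ D ↔ e g ∈ TT hF 6 :=
  exists_equiv hsol hperf hD hx hc
    (by rw [h]; exact (congrArg (fun k : ℕ => k.factorization 2)
          (by norm_num : (9196830720 : ℕ) = 2 ^ 15 * 280665)).trans (fact_two_pow_mul (by decide))) hF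

/-- For simple groups. -/
theorem exists_equiv_of_simple {L : Type u} [Group L] [Finite L] [IsSimpleGroup L]
    (hperf : commutator L = ⊤)
    {D : Set L} (hD : IsThreeTranspositionClass D) {x : L} (hx : x ∈ D)
    (hc : ¬ Cfsg.pCore 2 ↥(Subgroup.closure {y : L | y ∈ D ∧ y ≠ x ∧ Commute x y}) ≤
      Subgroup.center ↥(Subgroup.closure {y : L | y ∈ D ∧ y ≠ x ∧ Commute x y}))
    (h15 : (Nat.card L).factorization 2 = 15)
    {F : Type v} [Field F] [Fintype F] (hF : Fintype.card F = 2 ^ 2) :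
    ∃ e : L ≃* PSU 6 F 2, ∀ g, g ∈ D ↔ e g ∈ TT hF 6 := by
  have hp : ⁅commutator L, commutator L⁆ = commutator L := by
    rw [hperf]; exact hperf
  refine exists_equiv ?_ hp hD hx hc h15 hF
  intro N hN hs
  rcases hN.eq_bot_or_eq_top with h | h
  · exact h
  · exfalso
    subst h
    have h1 : Group.IsSolvable L :=
      Group.isSolvable_of_surjective (f := (Subgroup.topEquiv (G := L)).toMonoidHom) Subgroup.topEquiv.surjective
    have h2 : Nontrivial L := inferInstance
    obtain ⟨n, hn⟩ := h1.solvable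
    have h3 : ∀ k, derivedSeries L k = ⊤ := by
      intro k
      induction k with
      | zero => rfl
      | succ k ih => rw [derivedSeries_succ, ih]; exact hperf
    rw [h3] at hn
    exact top_ne_bot hn

end Cfsg.Agent.TwoESix.RecSix
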