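import Cfsg.Agent.TwoESix.LeviE
import Cfsg.Agent.TwoESix.RecSix

/-!
# ²E₆(2): the map from the centraliser of a root involution onto the Levi subgroup, and `PSU(6, 2)`
-/

set_option autoImplicit false
set_option linter.unusedSectionVars false

namespace Cfsg.Agent.TwoESix.LeviF

open Cfsg Cfsg.Lie
open Cfsg.Agent.ChevalleyStructure
open Cfsg.Agent.ChevalleyStructure.Elts hiding x_add x_zero x_eq_one_iff
open Cfsg.Agent.ChevalleyStructure.TwE6Basic
open Cfsg.Agent.ChevalleyStructure.TwE6BN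
open Cfsg.Agent.TwoESix.LeviA
open Cfsg.Agent.TwoESix.LeviB
open Cfsg.Agent.TwoESix.LeviC
open Cfsg.Agent.TwoESix.LeviD
open Cfsg.Agent.TwoESix.LeviE
open Cfsg.Agent.TwoESix.LongPairs
open Cfsg.Agent.R01.PSUSix

universe u

variable {K : Type u} [Field K] [Fintype K] {φ : K →+* K} (F : Four K φ)
include F

/-- A fixed root element as an element of `E`. -/
def xE (r : Fin 72) (hr : rho r = r) : ↥(twistedE6 K 2) := ⟨x r.val 1, x_mem_E F hr⟩

/-- `x_71(1)`, `x_0(1)`, `x_70(1)`, `x_60(1)`, `x_25(1)` as elements of `E` -/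
def r0 : ↥(twistedE6 K 2) := xE F 71 (by decide +kernel)
def s0 : ↥(twistedE6 K 2) := xE F 0 (by decide +kernel)
def p70 : ↥(twistedE6 K 2) := xE F 70 (by decide +kernel)
def p60 : ↥(twistedE6 K 2) := xE F 60 (by decide +kernel)
def p25 : ↥(twistedE6 K 2) := xE F 25 (by decide +kernel)

theorem val_r0 : (r0 F : GL chevE6.Idx K) = x 71 1 := rfl
theorem val_s0 : (s0 F : GL chevE6.Idx K) = x 0 1 := rfl
theorem val_p70 : (p70 F : GL chevE6.Idx K) = x 70 1 := rfl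
theorem val_p60 : (p60 F : GL chevE6.Idx K) = x 60 1 := rfl
theorem val_p25 : (p25 F : GL chevE6.Idx K) = x 25 1 := rfl

theorem r0_sq : r0 F * r0 F = 1 := by
  have := F.charP
  exact Subtype.ext (x_sq 71)

theorem r0_ne : r0 F ≠ 1 := fun h => x_ne_one (K := K) (r := 71) (by norm_num) (congrArg Subtype.val h)

theorem conj_eq_one_of {g : ↥(twistedE6 K 2)} :
    g * r0 F * g⁻¹ = r0 F ↔ g * r0 F = r0 F * g := mul_inv_eq_iff_eq_mul

/-- pairs -/
theorem pair (g : ↥(twistedE6 K 2)) : ∃ b : ↥(twistedE6 K 2), b * r0 F = r0 F * b ∧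
    (b * (g * r0 F * g⁻¹) * b⁻¹ = r0 F ∨ b * (g * r0 F * g⁻¹) * b⁻¹ = p70 F ∨
      b * (g * r0 F * g⁻¹) * b⁻¹ = p60 F ∨ b * (g * r0 F * g⁻¹) * b⁻¹ = p25 F ∨
      b * (g * r0 F * g⁻¹) * b⁻¹ = s0 F) := by
  obtain ⟨b, hb, h1, γ, hγ, h2⟩ := pair5 F g.2
  refine ⟨⟨b, hb⟩, Subtype.ext (mul_inv_eq_iff_eq_mul.1 h1), ?_⟩
  simp only [List.mem_cons, List.not_mem_nil, or_false] at hγ
  rcases hγ with rfl | rfl | rfl | rfl | rfl
  · exact Or.inl (Subtype.ext h2)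
  · exact Or.inr (Or.inl (Subtype.ext h2))
  · exact Or.inr (Or.inr (Or.inl (Subtype.ext h2)))
  · exact Or.inr (Or.inr (Or.inr (Or.inl (Subtype.ext h2))))
  · exact Or.inr (Or.inr (Or.inr (Or.inr (Subtype.ext h2))))

/-- Fixed root elements are conjugate. -/
theorem xE_conj (r : Fin 72) (hr : rho r = r) : ∃ g : ↥(twistedE6 K 2), xE F r hr = g * r0 F * g⁻¹ := by
  have := F.charP
  obtain ⟨w, -, rfl⟩ := exists_fixW r hr
  refine ⟨⟨wn w, wn_mem F w⟩, Subtype.ext ?_⟩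
  exact (wn_conj w 71 1).symm

theorem s0_conj : ∃ g, s0 F = g * r0 F * g⁻¹ := xE_conj F 0 _
theorem p60_conj : ∃ g, p60 F = g * r0 F * g⁻¹ := xE_conj F 60 _

theorem p70_comm : p70 F * r0 F = r0 F * p70 F := by
  have := F.charP
  exact Subtype.ext (comm70 (K := K)).symm

theorem p60_comm : p60 F * r0 F = r0 F * p60 F := by
  have := F.charP
  exact Subtype.ext (comm60 (K := K)).symm

theorem sq_r0_p25 : (r0 F * p25 F) ^ 2 ≠ 1 := by
  have := F.charP
  intro h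
  have h1 : (x 71 (1 : K) * x 25 1) ^ 2 = 1 := congrArg Subtype.val h
  rw [sq25] at h1
  exact x_ne_one (K := K) (r := 70) (by norm_num) h1

theorem four_r0_p25 : (r0 F * p25 F) ^ 4 = 1 := by
  have := F.charP
  apply Subtype.ext
  show (x 71 (1 : K) * x 25 1) ^ 4 = 1
  have e : (x 71 (1 : K) * x 25 1) ^ 4 = ((x 71 (1 : K) * x 25 1) ^ 2) ^ 2 := by rw [← pow_mul]
  rw [e, sq25, pow_two, x_sq]

theorem r0_ne_s0 : r0 F ≠ s0 F := fun h =>
  x_ne (K := K) (r := 71) (s := 0) (by norm_num) (by norm_num) (by norm_num) (congrArg Subtype.val h)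

theorem cube_r0_s0 : (r0 F * s0 F) ^ 3 = 1 := by
  have := F.charP
  exact Subtype.ext cube0

/-! ### The map onto the Levi subgroup -/

theorem mem_PR_of_cent (g : ↥(Subgroup.centralizer ({r0 F} : Set ↥(twistedE6 K 2)))) :
    ((g : ↥(twistedE6 K 2)) : GL chevE6.Idx K) ∈ PR K Jn :=
  (cent_top F g.1.2).1 (congrArg Subtype.val (Subgroup.mem_centralizer_singleton_iff.1 g.2))

theorem lv_mem_LL {g : GL chevE6.Idx K} (hg : g ∈ PR K Jn) (hE : g ∈ twistedE6 K 2) : lv Jn g ∈ LL K := by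
  obtain ⟨u, hu, -, l, hl, hlE, rfl⟩ := F.decomp stable_Jn hg hE
  rw [lv_eq hu hl]
  exact Subgroup.mem_inf.2 ⟨hl, hlE⟩

/-- The map of the centraliser of `r0` onto the Levi subgroup. -/
noncomputable def lvHom : ↥(Subgroup.centralizer ({r0 F} : Set ↥(twistedE6 K 2))) →* ↥(LL K) where
  toFun g := ⟨lv Jn ((g : ↥(twistedE6 K 2)) : GL chevE6.Idx K), lv_mem_LL F (mem_PR_of_cent F g) g.1.2⟩
  map_one' := Subtype.ext (lv_of_UR (one_mem _))
  map_mul' a b := Subtype.ext (lv_mul (mem_PR_of_cent F a) (mem_PR_of_cent F b))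

theorem coe_lvHom (g : ↥(Subgroup.centralizer ({r0 F} : Set ↥(twistedE6 K 2)))) :
    (lvHom F g : GL chevE6.Idx K) = lv Jn ((g : ↥(twistedE6 K 2)) : GL chevE6.Idx K) := rfl

/-- the kernel is a `2`-group -/
theorem lvHom_ker {g : ↥(Subgroup.centralizer ({r0 F} : Set ↥(twistedE6 K 2)))} (h : lvHom F g = 1) :
    ∃ k : ℕ, g ^ 2 ^ k = 1 := by
  have h1 : ((g : ↥(twistedE6 K 2)) : GL chevE6.Idx K) ∈ UR K Jn :=
    mem_UR_of_lv (mem_PR_of_cent F g) (congrArg Subtype.val h)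
  obtain ⟨k, hk⟩ := isPGroup_U F ⟨_, UR_le_U h1⟩
  refine ⟨k, Subtype.ext (Subtype.ext ?_)⟩
  have := congrArg Subtype.val hk
  simpa using this

/-- an element commuting with `r0` and `s0` is its own Levi component -/
theorem lvHom_of_comm {g : ↥(Subgroup.centralizer ({r0 F} : Set ↥(twistedE6 K 2)))}
    (h : (g : ↥(twistedE6 K 2)) * s0 F = s0 F * g) :
    (lvHom F g : GL chevE6.Idx K) = ((g : ↥(twistedE6 K 2)) : GL chevE6.Idx K) := by
  refine lv_of_LR ((cent_pair F g.1.2).1 ⟨?_, congrArg Subtype.val h⟩)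
  exact congrArg Subtype.val (Subgroup.mem_centralizer_singleton_iff.1 g.2)

/-- the elements of the Levi subgroup as elements of the centraliser -/
theorem exists_of_LL (l : ↥(LL K)) : ∃ g : ↥(Subgroup.centralizer ({r0 F} : Set ↥(twistedE6 K 2))),
    (g : ↥(twistedE6 K 2)) * s0 F = s0 F * g ∧ lvHom F g = l := by
  have hE : (l : GL chevE6.Idx K) ∈ twistedE6 K 2 := (Subgroup.mem_inf.1 l.2).2
  have h := (cent_pair F hE).2 (Subgroup.mem_inf.1 l.2).1
  have hs : (⟨l, hE⟩ : ↥(twistedE6 K 2)) * s0 F = s0 F * ⟨l, hE⟩ := Subtype.ext h.2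
  have hr : (⟨l, hE⟩ : ↥(twistedE6 K 2)) * r0 F = r0 F * ⟨l, hE⟩ := Subtype.ext h.1
  refine ⟨⟨⟨l, hE⟩, Subgroup.mem_centralizer_singleton_iff.2 hr⟩, hs, Subtype.ext ?_⟩
  exact lv_of_LR (Subgroup.mem_inf.1 l.2).1

theorem lvHom_p70 (h : p70 F ∈ Subgroup.centralizer ({r0 F} : Set ↥(twistedE6 K 2))) :
    lvHom F ⟨p70 F, h⟩ = 1 :=
  Subtype.ext (lv_of_UR (x_mem_UR (r := 70) (by decide) (by decide +kernel) 1))

theorem lvHom_p60 (h : p60 F ∈ Subgroup.centralizer ({r0 F} : Set ↥(twistedE6 K 2))) :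
    lvHom F ⟨p60 F, h⟩ = d0 F :=
  Subtype.ext (lv_of_LR (x_mem_LR (r := 60) (by decide +kernel) 1))

/-- the elements of the class `DD` are root involutions of `E` -/
theorem DD_root {l : ↥(LL K)} (h : l ∈ DD F) {g : ↥(twistedE6 K 2)}
    (hg : (l : GL chevE6.Idx K) = (g : GL chevE6.Idx K)) : ∃ c, g = c * r0 F * c⁻¹ := by
  obtain ⟨c, rfl⟩ := (mem_DD F).1 h
  obtain ⟨a, ha⟩ := p60_conj F
  refine ⟨⟨c, (Subgroup.mem_inf.1 c.2).2⟩ * a, Subtype.ext ?_⟩
  have h1 : x 60 (1 : K) = (a : GL chevE6.Idx K) * x 71 1 * (a : GL chevE6.Idx K)⁻¹ := congrArg Subtype.val ha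
  have h2 : (g : GL chevE6.Idx K) = (c : GL chevE6.Idx K) * x 60 1 * (c : GL chevE6.Idx K)⁻¹ := hg.symm
  show (g : GL chevE6.Idx K) = (c : GL chevE6.Idx K) * (a : GL chevE6.Idx K) * x 71 1 *
    ((c : GL chevE6.Idx K) * (a : GL chevE6.Idx K))⁻¹
  rw [h2, h1]
  group

section Chart

variable {F' : Type*} [Field F'] [Fintype F'] (hF' : Fintype.card F' = 2 ^ 2)

/-- The recognition of the Levi subgroup. -/
theorem exists_e (h15 : (Nat.card ↥(LL K)).factorization 2 = 15) :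
    ∃ e : ↥(LL K) ≃* PSU 6 F' 2, ∀ g, g ∈ DD F ↔ e g ∈ TT hF' 6 := by
  have hs := (simple_LL F).1
  have hfin : Finite ↥(LL K) := inferInstance
  exact RecSix.exists_equiv_of_simple (commutator_LL F) (isClass F) (d0_mem F) (pCore_not_central F) h15 hF'

end Chart

end Cfsg.Agent.TwoESix.LeviF
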