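import Cfsg.Agent.TwoESix.LeviB

/-!
# The relative Weyl group of ²E₆: words

The 24 words `tW a` (coset representatives of the stabiliser of the highest root) and the 48 words `fW b` (its
stabiliser).  Every word acts on the roots as some `tW a ++ fW b`.
-/

set_option autoImplicit false

namespace Cfsg.Agent.TwoESix.LongWeyl

open Cfsg.Lie
open Cfsg.Agent.ChevalleyStructure.TwE6Basic
open Cfsg.Agent.TwoESix.LeviB

/-! ### Packed tables -/

/-- packed tables of the relative simple reflections -/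
def tabs : List ℕ := [
  0x46474544434241403c3b3a3f3e3d39383736352d2c2b292827193433322a31302f2625242322211817161d1514132e201f1e1c1b1a1211100f0e0a09080d0c0b0706050403020001,
  0x4745464443423f3e41403d3c3b393a3837343336353231302e2f2d2c2a2b262520292824231f1e2722211c1d1b1a181917161512111413100f0d0e0c0b0a07060908050403010200,
  0x47464142404445433f3d3e3c3a3b3839363735312f303432332e2927281d2d2b2c2422262125231b1c1a2a1f201e191415131718161210110e0f0c0d0b090a080402030705060100,
  0x47464543443735363334322c2d2b2a0f4240413e3f3d30312f2e3b3c3a39282927252623242122201e1f0e0d0b0c191816170a0809060705381d1c1a1b1513141112100304020100]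

/-- the relative simple reflections on root indices, packed -/
def pk (i r : ℕ) : ℕ := (Nat.shiftRight (tabs.getD i 0) (8 * r)) % 256

theorem pk_eq : ∀ i : Fin 4, ∀ r : Fin 72, (wP i r).val = pk i.val r.val := by decide +kernel

/-- words on root indices, packed -/
def pw (l : List ℕ) (r : ℕ) : ℕ := l.foldr (fun i r => pk i r) r

theorem pw_eq (l : List (Fin 4)) (r : Fin 72) : (wpm l r).val = pw (l.map Fin.val) r.val := by
  induction l with
  | nil => rfl
  | cons i l ih =>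
    rw [wpm_cons, pk_eq, ih]
    rfl

theorem wpm_append (l l' : List (Fin 4)) (r : Fin 72) : wpm (l ++ l') r = wpm l (wpm l' r) := by
  unfold wpm
  rw [List.foldr_append]

theorem wpm_reverse (l : List (Fin 4)) (r : Fin 72) : wpm l.reverse (wpm l r) = r := by
  induction l generalizing r with
  | nil => rfl
  | cons i l ih =>
    have h : wP i (wP i (wpm l r)) = wpm l r := (wP i).left_inv (wpm l r)
    rw [List.reverse_cons, wpm_append]
    show wpm l.reverse (wP i (wP i (wpm l r))) = r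
    rw [h, ih]

theorem wpm_reverse' (l : List (Fin 4)) (r : Fin 72) : wpm l (wpm l.reverse r) = r := by
  have h := wpm_reverse l.reverse r
  rwa [List.reverse_reverse] at h

theorem wpm_injective (l : List (Fin 4)) : Function.Injective (wpm l) := fun a b h => by
  rw [← wpm_reverse l a, h, wpm_reverse]

/-! ### The lists -/

/-- the words of the coset representatives -/
def tL : List (List (Fin 4)) :=
  [[],
   [0],
   [1, 0],
   [2, 1, 0],
   [3, 2, 1, 0],
   [1, 2, 1, 0],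
   [0, 1, 2, 1, 0],
   [3, 1, 2, 1, 0],
   [2, 3, 1, 2, 1, 0],
   [1, 2, 3, 1, 2, 1, 0],
   [3, 0, 1, 2, 1, 0],
   [2, 3, 0, 1, 2, 1, 0],
   [1, 2, 3, 0, 1, 2, 1, 0],
   [2, 1, 2, 3, 0, 1, 2, 1, 0],
   [0, 1, 2, 3, 1, 2, 1, 0],
   [0, 1, 2, 3, 0, 1, 2, 1, 0],
   [2, 0, 1, 2, 3, 0, 1, 2, 1, 0],
   [1, 2, 0, 1, 2, 3, 0, 1, 2, 1, 0],
   [3, 2, 1, 2, 3, 0, 1, 2, 1, 0],
   [3, 2, 0, 1, 2, 3, 0, 1, 2, 1, 0],
   [3, 1, 2, 0, 1, 2, 3, 0, 1, 2, 1, 0],
   [2, 3, 1, 2, 0, 1, 2, 3, 0, 1, 2, 1, 0],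
   [1, 2, 3, 1, 2, 0, 1, 2, 3, 0, 1, 2, 1, 0],
   [0, 1, 2, 3, 1, 2, 0, 1, 2, 3, 0, 1, 2, 1, 0]]

/-- the words of the stabiliser -/
def fL : List (List (Fin 4)) :=
  [[],
   [1],
   [2],
   [3],
   [2, 1],
   [3, 1],
   [1, 2],
   [3, 2],
   [2, 3],
   [1, 2, 1],
   [3, 2, 1],
   [2, 3, 1],
   [2, 1, 2],
   [3, 1, 2],
   [2, 3, 2],
   [1, 2, 3],
   [2, 1, 2, 1],
   [3, 1, 2, 1],
   [2, 3, 2, 1],
   [1, 2, 3, 1],
   [3, 2, 1, 2],
   [2, 3, 1, 2],
   [1, 2, 3, 2],
   [2, 1, 2, 3],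
   [3, 2, 1, 2, 1],
   [2, 3, 1, 2, 1],
   [1, 2, 3, 2, 1],
   [2, 1, 2, 3, 1],
   [2, 3, 2, 1, 2],
   [1, 2, 3, 1, 2],
   [2, 1, 2, 3, 2],
   [3, 2, 1, 2, 3],
   [2, 3, 2, 1, 2, 1],
   [1, 2, 3, 1, 2, 1],
   [2, 1, 2, 3, 2, 1],
   [3, 2, 1, 2, 3, 1],
   [1, 2, 3, 2, 1, 2],
   [2, 1, 2, 3, 1, 2],
   [3, 2, 1, 2, 3, 2],
   [1, 2, 3, 2, 1, 2, 1],
   [2, 1, 2, 3, 1, 2, 1],
   [3, 2, 1, 2, 3, 2, 1],
   [2, 1, 2, 3, 2, 1, 2],
   [3, 2, 1, 2, 3, 1, 2],
   [2, 1, 2, 3, 2, 1, 2, 1],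
   [3, 2, 1, 2, 3, 1, 2, 1],
   [3, 2, 1, 2, 3, 2, 1, 2],
   [3, 2, 1, 2, 3, 2, 1, 2, 1]]

/-- `w_i tW a = tW a' (w_j)`: entries `(a', j)`, `j = 0` for no letter -/
def nx : List (ℕ × ℕ) :=
  [(1, 0), (0, 1), (0, 2), (0, 3),
   (0, 0), (2, 0), (1, 2), (1, 3),
   (2, 1), (1, 0), (3, 0), (2, 3),
   (3, 1), (5, 0), (2, 0), (4, 0),
   (4, 1), (7, 0), (4, 3), (3, 0),
   (6, 0), (3, 0), (5, 2), (7, 0),
   (5, 0), (6, 1), (6, 2), (10, 0),
   (10, 0), (4, 0), (8, 0), (5, 0),
   (11, 0), (9, 0), (7, 0), (8, 2),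
   (14, 0), (8, 0), (9, 3), (9, 2),
   (7, 0), (10, 1), (11, 0), (6, 0),
   (8, 0), (12, 0), (10, 0), (11, 2),
   (15, 0), (11, 0), (13, 0), (12, 2),
   (16, 0), (13, 1), (12, 0), (18, 0),
   (9, 0), (15, 0), (14, 3), (14, 2),
   (12, 0), (14, 0), (16, 0), (15, 2),
   (13, 0), (17, 0), (15, 0), (19, 0),
   (17, 1), (16, 0), (17, 3), (20, 0),
   (19, 0), (18, 1), (18, 2), (13, 0),
   (18, 0), (20, 0), (19, 2), (16, 0),
   (20, 1), (19, 0), (21, 0), (17, 0),
   (21, 1), (22, 0), (20, 0), (21, 3),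
   (23, 0), (21, 0), (22, 2), (22, 3),
   (22, 0), (23, 1), (23, 2), (23, 3)]

/-- `w_j fW b = fW b'`, `j = 1, 2, 3` -/
def nf : List ℕ :=
  [1, 2, 3,
   0, 4, 5,
   6, 0, 7,
   5, 8, 0,
   9, 1, 10,
   3, 11, 1,
   2, 12, 13,
   13, 14, 2,
   15, 3, 14,
   4, 16, 17,
   17, 18, 4,
   19, 5, 18,
   16, 6, 20,
   7, 21, 6,
   22, 7, 8,
   8, 23, 22,
   12, 9, 24,
   10, 25, 9,
   26, 10, 11,
   11, 27, 26,
   24, 28, 12,
   29, 13, 28,
   14, 30, 15,
   27, 15, 31,
   20, 32, 16,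
   33, 17, 32,
   18, 34, 19,
   23, 19, 35,
   36, 20, 21,
   21, 37, 36,
   37, 22, 38,
   35, 38, 23,
   39, 24, 25,
   25, 40, 39,
   40, 26, 41,
   31, 41, 27,
   28, 42, 29,
   30, 29, 43,
   43, 31, 30,
   32, 44, 33,
   34, 33, 45,
   45, 35, 34,
   44, 36, 46,
   38, 46, 37,
   42, 39, 47,
   41, 47, 40,
   47, 43, 42,
   46, 45, 44]

/-- the word with number `a` -/
def tW (a : ℕ) : List (Fin 4) := tL.getD a []

/-- the word with number `b` -/
def fW (b : ℕ) : List (Fin 4) := fL.getD b []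

/-- the letter as a word -/
def lw (j : ℕ) : List ℕ := if j = 0 then [] else [j]

/-- check of the table `nx` -/
def chkT : Bool := (List.range 24).all fun a => (List.range 4).all fun i =>
  let e := nx.getD (4 * a + i) (0, 0)
  let t := (tW a).map Fin.val
  let t' := (tW e.1).map Fin.val
  Nat.blt e.1 24 && Nat.blt e.2 4 && (List.range 72).all fun r => Nat.beq (pk i (pw t r)) (pw t' (pw (lw e.2) r))

/-- check of the table `nf` -/
def chkF : Bool := (List.range 48).all fun b => (List.range 3).all fun j =>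
  let e := nf.getD (3 * b + j) 0
  let t := (fW b).map Fin.val
  let t' := (fW e).map Fin.val
  Nat.blt e 48 && (List.range 72).all fun r => Nat.beq (pk (j + 1) (pw t r)) (pw t' r)

theorem chkT_eq : chkT = true := by decide +kernel
theorem chkF_eq : chkF = true := by decide +kernel

theorem blt_iff {a b : ℕ} (h : Nat.blt a b = true) : a < b := by
  unfold Nat.blt at h
  exact Nat.le_of_ble_eq_true h

theorem stepF {b j : ℕ} (hb : b < 48) (hj : j < 3) : ∃ b' < 48, ∀ r < 72,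
    pk (j + 1) (pw ((fW b).map Fin.val) r) = pw ((fW b').map Fin.val) r := by
  have h := chkF_eq
  unfold chkF at h
  simp only [List.all_eq_true, List.mem_range, Bool.and_eq_true] at h
  obtain ⟨h1, h2⟩ := h b hb j hj
  exact ⟨_, blt_iff h1, fun r hr => Nat.eq_of_beq_eq_true (h2 r hr)⟩

theorem stepT {a i : ℕ} (ha : a < 24) (hi : i < 4) : ∃ a' < 24, ∃ j < 4, ∀ r < 72,
    pk i (pw ((tW a).map Fin.val) r) = pw ((tW a').map Fin.val) (pw (lw j) r) := by
  have h := chkT_eq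
  unfold chkT at h
  simp only [List.all_eq_true, List.mem_range, Bool.and_eq_true] at h
  obtain ⟨⟨h1, h3⟩, h2⟩ := h a ha i hi
  exact ⟨_, blt_iff h1, _, blt_iff h3, fun r hr => Nat.eq_of_beq_eq_true (h2 r hr)⟩

/-- Every word acts as some `tW a ++ fW b`. -/
theorem exists_word (l : List (Fin 4)) : ∃ a < 24, ∃ b < 48, ∀ r : Fin 72, wpm l r = wpm (tW a ++ fW b) r := by
  induction l with
  | nil => exact ⟨0, by norm_num, 0, by norm_num, fun r => rfl⟩
  | cons i l ih =>
    obtain ⟨a, ha, b, hb, h⟩ := ih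
    obtain ⟨a', ha', j, hj, h1⟩ := stepT ha i.isLt
    have key : ∀ r : Fin 72, (wpm (i :: l) r).val =
        pw ((tW a').map Fin.val) (pw (lw j) (wpm (fW b) r).val) := by
      intro r
      rw [wpm_cons, h, wpm_append, pk_eq, pw_eq, h1 _ (wpm (fW b) r).isLt]
    by_cases hj0 : j = 0
    · subst hj0
      refine ⟨a', ha', b, hb, fun r => Fin.ext ?_⟩
      rw [key, wpm_append, pw_eq (tW a')]
      rfl
    · obtain ⟨j', rfl⟩ := Nat.exists_eq_succ_of_ne_zero hj0
      obtain ⟨b', hb', h2⟩ := stepF hb (j := j') (by omega)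
      refine ⟨a', ha', b', hb', fun r => Fin.ext ?_⟩
      rw [key, wpm_append, pw_eq (tW a'), pw_eq (fW b'), pw_eq (fW b), ← h2 _ r.isLt]
      rfl

theorem fW_top : ∀ b < 48, wpm (fW b) 71 = 71 := by
  have h : ∀ b : Fin 48, pw ((fW b.val).map Fin.val) 71 = 71 := by decide +kernel
  intro b hb
  exact Fin.ext ((pw_eq _ _).trans (h ⟨b, hb⟩))

theorem fW_bot : ∀ b < 48, wpm (fW b) 0 = 0 := by
  have h : ∀ b : Fin 48, pw ((fW b.val).map Fin.val) 0 = 0 := by decide +kernel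
  intro b hb
  exact Fin.ext ((pw_eq _ _).trans (h ⟨b, hb⟩))

theorem tW_top (a : ℕ) (ha : a < 24) : (wpm (tW a) 71 = 71 → a = 0) ∧ (wpm (tW a) 71 = 0 → a = 23) := by
  have h : ∀ a : Fin 24, (pw ((tW a.val).map Fin.val) 71 = 71 → a.val = 0) ∧
      (pw ((tW a.val).map Fin.val) 71 = 0 → a.val = 23) := by decide +kernel
  have e := pw_eq (tW a) 71
  constructor
  · intro h1
    exact (h ⟨a, ha⟩).1 (e.symm.trans (congrArg Fin.val h1))
  · intro h1
    exact (h ⟨a, ha⟩).2 (e.symm.trans (congrArg Fin.val h1))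

theorem tW_23 : wpm (tW 23) 71 = 0 := Fin.ext ((pw_eq _ _).trans (by decide +kernel))

/-- A word fixing the highest root acts as some `fW b`. -/
theorem exists_fW {l : List (Fin 4)} (h : wpm l 71 = 71) : ∃ b < 48, ∀ r, wpm l r = wpm (fW b) r := by
  obtain ⟨a, ha, b, hb, h1⟩ := exists_word l
  rw [h1, wpm_append, fW_top b hb] at h
  obtain rfl := (tW_top a ha).1 h
  exact ⟨b, hb, h1⟩

/-- A word sending the highest root to the lowest one acts as some `tW 23 ++ fW b`. -/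
theorem exists_tW {l : List (Fin 4)} (h : wpm l 71 = 0) : ∃ b < 48, ∀ r, wpm l r = wpm (tW 23 ++ fW b) r := by
  obtain ⟨a, ha, b, hb, h1⟩ := exists_word l
  rw [h1, wpm_append, fW_top b hb] at h
  obtain rfl := (tW_top a ha).2 h
  exact ⟨b, hb, h1⟩

/-! ### Distinctness -/

/-- the images of five simple roots -/
def key (l : List ℕ) : ℕ := pw l 36 + 256 * (pw l 37 + 256 * (pw l 39 + 256 * (pw l 42 + 256 * pw l 56)))

theorem keys_nodup : ((List.range 48).map fun b => key ((fW b).map Fin.val)).Nodup := by decide +kernel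

theorem fW_inj {b b' : ℕ} (hb : b < 48) (hb' : b' < 48) (h : ∀ r, wpm (fW b) r = wpm (fW b') r) : b = b' := by
  have h1 := List.inj_on_of_nodup_map keys_nodup (List.mem_range.2 hb) (List.mem_range.2 hb')
  apply h1
  have h2 : ∀ r < 72, pw ((fW b).map Fin.val) r = pw ((fW b').map Fin.val) r := fun r hr => by
    have e1 := pw_eq (fW b) ⟨r, hr⟩
    have e2 := pw_eq (fW b') ⟨r, hr⟩
    rw [h] at e1
    exact e1.symm.trans e2
  show key _ = key _
  unfold key
  rw [h2 36 (by norm_num), h2 37 (by norm_num), h2 39 (by norm_num), h2 42 (by norm_num), h2 56 (by norm_num)]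

/-! ### Weights -/

/-- the number of positive roots made negative -/
def invN (l : List (Fin 4)) : ℕ := (Finset.univ.filter fun r : Fin 72 => 36 ≤ r.val ∧ ¬ 36 ≤ (wpm l r).val).card

/-- the same, fast -/
def invF (l : List ℕ) : ℕ := (List.range 36).countP fun r => Nat.blt (pw l (r + 36)) 36

theorem invN_eq (l : List (Fin 4)) : invN l = invF (l.map Fin.val) := by
  unfold invN invF
  rw [List.countP_eq_length_filter, ← List.toFinset_card_of_nodup
    ((List.nodup_range (n := 36)).filter _)]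
  symm
  refine Finset.card_bij (fun r hr => ⟨r + 36, ?_⟩) ?_ ?_ ?_
  · rw [List.mem_toFinset, List.mem_filter, List.mem_range] at hr
    omega
  · intro r hr
    rw [List.mem_toFinset, List.mem_filter, List.mem_range] at hr
    rw [Finset.mem_filter]
    refine ⟨Finset.mem_univ _, Nat.le_add_left _ _, ?_⟩
    have h1 := blt_iff hr.2
    have h2 : (wpm l ⟨r + 36, by have := hr.1; omega⟩).val = pw (l.map Fin.val) (r + 36) := pw_eq l _
    intro h3
    have h4 : 36 ≤ (wpm l ⟨r + 36, by have := hr.1; omega⟩).val := h3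
    omega
  · intro r hr r' hr' h
    have := congrArg Fin.val h
    simpa using this
  · intro r hr
    rw [Finset.mem_filter] at hr
    obtain ⟨-, h1, h2⟩ := hr
    have h3 : r.val - 36 + 36 = r.val := by omega
    refine ⟨r.val - 36, ?_, Fin.ext h3⟩
    rw [List.mem_toFinset, List.mem_filter, List.mem_range]
    refine ⟨by omega, ?_⟩
    rw [h3]
    rw [pw_eq] at h2
    have h4 : pw (l.map Fin.val) r.val < 36 := by omega
    exact Nat.ble_eq_true_of_le h4

theorem sum_fW : ((List.range 48).map fun b => 2 ^ invN (fW b).reverse).sum = 93555 := by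
  have h : ((List.range 48).map fun b => 2 ^ invF ((fW b).reverse.map Fin.val)).sum = 93555 := by decide +kernel
  have e : ((List.range 48).map fun b => 2 ^ invN (fW b).reverse) =
      ((List.range 48).map fun b => 2 ^ invF ((fW b).reverse.map Fin.val)) :=
    List.map_congr_left fun b _ => by rw [invN_eq]
  rw [e]
  exact h

theorem sum_tW : ((List.range 48).map fun b => 2 ^ invN (tW 23 ++ fW b).reverse).sum = 93555 * 2 ^ 21 := by
  have h : ((List.range 48).map fun b => 2 ^ invF ((tW 23 ++ fW b).reverse.map Fin.val)).sum = 93555 * 2 ^ 21 := by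
    decide +kernel
  have e : ((List.range 48).map fun b => 2 ^ invN (tW 23 ++ fW b).reverse) =
      ((List.range 48).map fun b => 2 ^ invF ((tW 23 ++ fW b).reverse.map Fin.val)) :=
    List.map_congr_left fun b _ => by rw [invN_eq]
  rw [e]
  exact h

end Cfsg.Agent.TwoESix.LongWeyl
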