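import Cfsg.Agent.TwoESix.LongPairs
import Cfsg.Agent.TwoESix.LongWeyl
import Cfsg.Agent.ChevalleyStructure.TwE6Card
import Cfsg.Agent.S1066

/-!
# ²E₆(2): the number of root involutions and the orders of the centralisers

`|C_E(r0)| = 93555 |B|`, `|E : C_E(r0)| = 3968055`, `|C_E(r0) ∩ C_E(s0)| = 9196830720`.
-/

set_option autoImplicit false

namespace Cfsg.Agent.TwoESix.LongCard

open Cfsg.Lie
open Cfsg.Agent.ChevalleyStructure
open Cfsg.Agent.ChevalleyStructure.Elts hiding x_add x_zero x_eq_one_iff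
open Cfsg.Agent.ChevalleyStructure.TwE6Basic
open Cfsg.Agent.ChevalleyStructure.TwE6BN
open Cfsg.Agent.ChevalleyStructure.BNOrder
open Cfsg.Agent.ChevalleyStructure.TwistedOrder
open Cfsg.Agent.TwoESix.LeviA
open Cfsg.Agent.TwoESix.LeviB
open Cfsg.Agent.TwoESix.LongPairs
open Cfsg.Agent.TwoESix.LongWeyl
open Cfsg.Agent.LieExceptional.BNPairCore

universe u

/-! ### General counting -/

theorem ncard_iUnion {α ι : Type*} [Finite α] (D : ι → Set α) (n : ι → ℕ) (L : List ι)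
    (hn : ∀ i ∈ L, (D i).ncard = n i) (hd : L.Pairwise fun i j => Disjoint (D i) (D j)) :
    {x | ∃ i ∈ L, x ∈ D i}.ncard = (L.map n).sum := by
  induction L with
  | nil => simp
  | cons i L ih =>
    rw [List.pairwise_cons] at hd
    have e : {x | ∃ j ∈ i :: L, x ∈ D j} = D i ∪ {x | ∃ j ∈ L, x ∈ D j} := by
      ext x; simp
    have h1 := ih (fun j hj => hn j (List.mem_cons_of_mem _ hj)) hd.2
    have hdis : Disjoint (D i) {x | ∃ j ∈ L, x ∈ D j} := by
      rw [Set.disjoint_left]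
      rintro x hx ⟨j, hj, hx'⟩
      exact Set.disjoint_left.1 (hd.1 j hj) hx hx'
    rw [e, Set.ncard_union_eq hdis (Set.toFinite _) (Set.toFinite _), List.map_cons, List.sum_cons,
      hn i List.mem_cons_self, h1]

/-- `|C g C| |C ∩ g C g⁻¹| = |C|²`. -/
theorem card_double {G : Type*} [Group G] {C D : Subgroup G} (g0 : G) (Ω : Set G)
    (hΩ : ∀ g, g ∈ Ω ↔ ∃ c ∈ C, ∃ c' ∈ C, g = c * g0 * c')
    (hD : ∀ k, k ∈ D ↔ k ∈ C ∧ g0⁻¹ * k * g0 ∈ C) :
    Ω.ncard * Nat.card D = Nat.card C * Nat.card C := by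
  classical
  have hex : ∀ g : Ω, ∃ a : G, a ∈ C ∧ ∃ a' ∈ C, (g : G) = a * g0 * a' := by
    rintro ⟨g, hg⟩
    obtain ⟨c, hc, c', hc', e⟩ := (hΩ g).1 hg
    exact ⟨c, hc, c', hc', e⟩
  choose a ha a' ha' e using hex
  rw [← Nat.card_coe_set_eq, ← Nat.card_prod, ← Nat.card_prod]
  refine Nat.card_congr (Equiv.ofBijective (fun p : Ω × D =>
    ((⟨a p.1 * p.2, mul_mem (ha p.1) ((hD _).1 p.2.2).1⟩,
      ⟨(a p.1 * p.2 * g0)⁻¹ * p.1, ?_⟩) : C × C)) ⟨?_, ?_⟩)
  · have h1 : (a p.1 * (p.2 : G) * g0)⁻¹ * (p.1 : G) = (g0⁻¹ * (p.2 : G) * g0)⁻¹ * a' p.1 := by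
      conv_lhs => rw [e p.1]
      group
    rw [h1]
    exact mul_mem (inv_mem ((hD _).1 p.2.2).2) (ha' p.1)
  · rintro ⟨g, k⟩ ⟨g', k'⟩ h
    have h1 := congrArg (fun p : C × C => (p.1 : G)) h
    have h2 := congrArg (fun p : C × C => (p.2 : G)) h
    simp only at h1 h2
    have h3 : (g : G) = g' := by
      calc (g : G) = (a g * k * g0) * ((a g * k * g0)⁻¹ * g) := by group
        _ = (a g' * k' * g0) * ((a g' * k' * g0)⁻¹ * g') := by rw [h2, h1]
        _ = g' := by group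
    have h4 : g = g' := Subtype.ext h3
    subst h4
    have h5 : (k : G) = k' := mul_left_cancel h1
    rw [Subtype.ext h5]
  · rintro ⟨⟨c, hc⟩, ⟨c', hc'⟩⟩
    have hg : c * g0 * c' ∈ Ω := (hΩ _).2 ⟨c, hc, c', hc', rfl⟩
    have e1 := e ⟨c * g0 * c', hg⟩
    have hk : (a ⟨c * g0 * c', hg⟩)⁻¹ * c ∈ D := by
      rw [hD]
      refine ⟨mul_mem (inv_mem (ha _)) hc, ?_⟩
      have e2 : g0⁻¹ * ((a ⟨c * g0 * c', hg⟩)⁻¹ * c) * g0 = a' ⟨c * g0 * c', hg⟩ * c'⁻¹ := by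
        have e3 : c * g0 * c' = a ⟨c * g0 * c', hg⟩ * g0 * a' ⟨c * g0 * c', hg⟩ := e1
        calc g0⁻¹ * ((a ⟨c * g0 * c', hg⟩)⁻¹ * c) * g0
            = g0⁻¹ * (a ⟨c * g0 * c', hg⟩)⁻¹ * (c * g0 * c') * c'⁻¹ := by group
          _ = g0⁻¹ * (a ⟨c * g0 * c', hg⟩)⁻¹ *
              (a ⟨c * g0 * c', hg⟩ * g0 * a' ⟨c * g0 * c', hg⟩) * c'⁻¹ := by
              exact congrArg (fun z => g0⁻¹ * (a ⟨c * g0 * c', hg⟩)⁻¹ * z * c'⁻¹) e3
          _ = _ := by group
      rw [e2]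
      exact mul_mem (ha' _) (inv_mem hc')
    refine ⟨(⟨c * g0 * c', hg⟩, ⟨_, hk⟩), ?_⟩
    simp only [Prod.mk.injEq, Subtype.mk.injEq]
    constructor
    · group
    · group

variable {K : Type u} [Field K]

section Four

variable [Fintype K] {φ : K →+* K} (F : Four K φ)
include F

/-- The (B,N)-pair of `E`. -/
noncomputable abbrev PB : Cfsg.BNPair ↥(twistedE6 K 2) := (T φ 2 F.sq F.sqq).toRootData.bnPair

theorem wn_mem_mono (l : List (Fin 4)) : wn (K := K) l ∈ chevE6.monomialSubgroup K := by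
  refine Subgroup.list_prod_mem _ ?_
  intro g hg
  obtain ⟨i, -, rfl⟩ := List.mem_map.1 hg
  exact (T φ 2 F.sq F.sqq).n_mem_N i

/-- words as elements of `E` -/
def we (l : List (Fin 4)) : ↥(twistedE6 K 2) := ⟨wn l, wn_mem F l⟩

theorem we_mem_N (l : List (Fin 4)) : we F l ∈ (PB F).N := by
  rw [(T φ 2 F.sq F.sqq).bnPair_N]
  exact wn_mem_mono F l

/-- the double coset of a word -/
abbrev D (l : List (Fin 4)) : Set ↥(twistedE6 K 2) := C (PB F) (we F l)

theorem exists_action : ∃ R : Params (PB F) (Fin 4) (Fin 72),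
    (∀ l : List (Fin 4), ∀ r, R.ρ ⟨we F l, we_mem_N F l⟩ r = wpm l r) ∧
      (∀ r, R.pos r ↔ 36 ≤ r.val) ∧ ∀ a, R.c a = 2 := by
  have := F.charP
  obtain ⟨A, hρ, hp⟩ := TwistedAction.rootAction
    (TwE6Card.input φ F.sq F.sqq (by norm_num) (by rw [F.card]; norm_num))
  refine ⟨A.toParams, fun l r => ?_, fun r => ?_, fun a => rfl⟩
  · have h1 : A.ρ (TwistedOrder.RootAction.incl (T φ 2 F.sq F.sqq) ⟨we F l, we_mem_N F l⟩) =
        NPerm.permHom hE6 K ⟨wn l, wn_mem_mono F l⟩ := by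
      rw [hρ]
      rfl
    have h2 : NPerm.permHom hE6 K ⟨wn l, wn_mem_mono F l⟩ r = wpm l r := by
      apply NPerm.permHom_eq_of_conj
      ext y
      rw [Subgroup.mem_map]
      constructor
      · rintro ⟨g, hg, rfl⟩
        obtain ⟨t, rfl⟩ := mem_X.1 hg
        exact mem_X.2 ⟨t, wn_conj l r t⟩
      · intro hy
        obtain ⟨t, rfl⟩ := mem_X.1 hy
        exact ⟨x r.val t, mem_X.2 ⟨t, rfl⟩, wn_conj l r t⟩
    exact (congrArg (fun p : Equiv.Perm (Fin chevE6.nroots) => p r) h1).trans h2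
  · show A.pos r ↔ _
    exact iff_of_eq (congrFun hp r)

omit F in
theorem finite_E : Finite ↥(twistedE6 K 2) := inferInstance

theorem card_D (l : List (Fin 4)) : (D F l).ncard = 2 ^ invN l.reverse * Nat.card (PB F).B := by
  classical
  obtain ⟨R, hA, hp, hc⟩ := exists_action F
  have : Finite ↥(twistedE6 K 2) := finite_E
  have h := R.card_C ⟨we F l, we_mem_N F l⟩
  rw [← Nat.card_coe_set_eq]
  refine h.trans ?_
  congr 1
  have h1 : ∀ r, R.ρ (⟨we F l, we_mem_N F l⟩ : (PB F).N)⁻¹ r = wpm l.reverse r := by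
    intro r
    have h2 : R.ρ (⟨we F l, we_mem_N F l⟩ : (PB F).N)⁻¹ = (R.ρ ⟨we F l, we_mem_N F l⟩)⁻¹ := map_inv R.ρ _
    rw [h2, Equiv.Perm.inv_eq_iff_eq, hA, wpm_reverse']
  rw [wt_def, Finset.prod_congr rfl fun a _ => hc a, Finset.prod_const]
  congr 1
  unfold invN
  congr 1
  ext r
  rw [Finset.mem_filter, Finset.mem_filter, hp, hp, h1]

theorem D_eq {l l' : List (Fin 4)} (h : ∀ r, wpm l r = wpm l' r) : D F l = D F l' := by
  obtain ⟨R, hA, -⟩ := exists_action F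
  apply C_eq_of_rel
  refine R.mem_of_ρ_eq (m := ⟨we F l, we_mem_N F l⟩) (m' := ⟨we F l', we_mem_N F l'⟩) ?_
  ext r
  rw [hA, hA, h]

theorem D_disjoint {l l' : List (Fin 4)} (h : ¬ ∀ r, wpm l r = wpm l' r) : Disjoint (D F l) (D F l') := by
  obtain ⟨R, hA, -⟩ := exists_action F
  rw [Set.disjoint_left]
  intro g hg hg'
  apply h
  intro r
  have h1 := rel_of_C_eq (we_mem_N F l) (we_mem_N F l') (C_eq_of_mem_mem hg hg')
  have h2 := R.ρ_eq_of_mem (m := ⟨we F l, we_mem_N F l⟩) (m' := ⟨we F l', we_mem_N F l'⟩) h1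
  rw [← hA, ← hA, h2]

/-- `|B| = 3 · 2³⁶` -/
theorem card_B : Nat.card (PB F).B = 3 * 2 ^ 36 := by
  have h1 := RootAction.card_B (T φ 2 F.sq F.sqq)
  have hU := Cfsg.Agent.S1086.result (K := K) (q := 2) (Nat.prime_two.isPrimePow) (by rw [F.card]; norm_num)
  have hH := Cfsg.Agent.S1102.result (K := K) (q := 2) (Nat.prime_two.isPrimePow) (by rw [F.card]; norm_num)
  have h2 : Nat.card ↥(chevE6.diagonalSubgroup K ⊓ twistedE6 K 2) = 3 := by
    generalize Nat.card ↥(chevE6.diagonalSubgroup K ⊓ twistedE6 K 2) = c at hH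
    have h3 : Nat.gcd 3 (2 + 1) = 3 := by norm_num
    have h4 : (2 - 1) ^ 4 * (2 + 1) ^ 2 = 9 := by norm_num
    rw [h3, h4] at hH
    omega
  refine h1.trans ?_
  show Nat.card ↥(chevE6.posUnipotent K ⊓ twistedE6 K 2) * Nat.card ↥(chevE6.diagonalSubgroup K ⊓ twistedE6 K 2) = _
  rw [hU, h2, mul_comm]

/-- `|E|` -/
theorem card_E : Nat.card ↥(twistedE6 K 2) = 76532479683774853939200 := by
  have h := Cfsg.Agent.S1066.result (K := K) (q := 2) (Nat.prime_two.isPrimePow) (by rw [F.card]; norm_num)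
  have h3 : Nat.gcd 3 (2 + 1) = 3 := by norm_num
  rw [h3] at h
  norm_num at h
  omega

/-! ### The root involutions -/

/-- `x_71(1)` as an element of `E` -/
def r0 : ↥(twistedE6 K 2) := ⟨x 71 1, x_mem_E F (r := 71) (by decide +kernel)⟩

/-- `x_0(1)` as an element of `E` -/
def s0 : ↥(twistedE6 K 2) := ⟨x 0 1, x_mem_E F (r := 0) (by decide +kernel)⟩

theorem mem_D {g : ↥(twistedE6 K 2)} {l : List (Fin 4)} : g ∈ D F l ↔
    ∃ b ∈ chevE6.borelSubgroup K, b ∈ twistedE6 K 2 ∧ ∃ b' ∈ chevE6.borelSubgroup K, b' ∈ twistedE6 K 2 ∧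
      (g : GL chevE6.Idx K) = b * wn l * b' := by
  have hB : (PB F).B = (chevE6.borelSubgroup K).subgroupOf (twistedE6 K 2) := (T φ 2 F.sq F.sqq).bnPair_B
  rw [mem_C]
  constructor
  · rintro ⟨b, hb, b', hb', e⟩
    rw [hB] at hb hb'
    exact ⟨b, hb, b.2, b', hb', b'.2, congrArg Subtype.val e⟩
  · rintro ⟨b, hb, hbE, b', hb', hbE', e⟩
    refine ⟨⟨b, hbE⟩, ?_, ⟨b', hbE'⟩, ?_, Subtype.ext e⟩
    · rw [hB]; exact hb
    · rw [hB]; exact hb'

/-- An element of the double coset of `l` conjugates `r0` to `b x_γ(1) b⁻¹`, `γ = l 71`, `b ∈ C(r0)`. -/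
theorem conj_D {g : ↥(twistedE6 K 2)} {l : List (Fin 4)} (hg : g ∈ D F l) :
    ∃ b ∈ twistedE6 K 2, b * x 71 (1 : K) = x 71 1 * b ∧
      (g : GL chevE6.Idx K) * x 71 1 * (g : GL chevE6.Idx K)⁻¹ = b * x (wpm l 71).val 1 * b⁻¹ := by
  have := F.charP
  obtain ⟨b, hb, hbE, b', hb', hbE', e⟩ := (mem_D F).1 hg
  refine ⟨b, hbE, B_comm F hb hbE, ?_⟩
  have h1 : b' * x 71 (1 : K) * b'⁻¹ = x 71 1 := by rw [B_comm F hb' hbE', mul_inv_cancel_right]
  have h2 := wn_conj (K := K) l 71 1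
  rw [e, ← h2]
  calc b * wn l * b' * x 71 (1 : K) * (b * wn l * b')⁻¹
      = b * (wn l * (b' * x 71 (1 : K) * b'⁻¹) * (wn l)⁻¹) * b⁻¹ := by group
    _ = _ := by rw [h1]; rfl

theorem exists_D (g : ↥(twistedE6 K 2)) : ∃ l, g ∈ D F l := by
  obtain ⟨b, hb, hbE, l, b', hb', hbE', e⟩ := bruhat_wn F g.2
  exact ⟨l, (mem_D F).2 ⟨b, hb, hbE, b', hb', hbE', e⟩⟩

theorem mem_cent_iff {g : ↥(twistedE6 K 2)} {l : List (Fin 4)} (hg : g ∈ D F l) :
    g ∈ Subgroup.centralizer {r0 F} ↔ wpm l 71 = 71 := by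
  obtain ⟨b, hbE, hb, e⟩ := conj_D F hg
  rw [Subgroup.mem_centralizer_singleton_iff]
  have h0 : (g * r0 F = r0 F * g) ↔ (g : GL chevE6.Idx K) * x 71 1 * (g : GL chevE6.Idx K)⁻¹ = x 71 1 := by
    rw [mul_inv_eq_iff_eq_mul]
    constructor
    · intro h; exact congrArg Subtype.val h
    · intro h; exact Subtype.ext h
  rw [h0, e]
  constructor
  · intro h
    by_contra hne
    have h1 : x (wpm l 71).val (1 : K) = x 71 1 := by
      have h2 : x (wpm l 71).val (1 : K) = b⁻¹ * x 71 1 * b := by rw [← h]; group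
      rw [h2, mul_assoc, ← hb, inv_mul_cancel_left]
    exact x_ne (wpm l 71).isLt (by norm_num) (fun h3 => hne (Fin.ext h3)) h1
  · intro h
    rw [h]
    show b * x 71 (1 : K) * b⁻¹ = x 71 1
    rw [hb, mul_inv_cancel_right]

theorem cent_set : {g : ↥(twistedE6 K 2) | g ∈ Subgroup.centralizer {r0 F}} =
    {g | ∃ b ∈ List.range 48, g ∈ D F (fW b)} := by
  ext g
  constructor
  · intro hg
    obtain ⟨l, hl⟩ := exists_D F g
    obtain ⟨b, hb, h⟩ := exists_fW ((mem_cent_iff F hl).1 hg)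
    exact ⟨b, List.mem_range.2 hb, D_eq F h ▸ hl⟩
  · rintro ⟨b, hb, hg⟩
    exact (mem_cent_iff F hg).2 (fW_top b (List.mem_range.1 hb))

omit F [Fintype K] in
theorem sum_mul (f : ℕ → ℕ) (n c : ℕ) (h : ((List.range 48).map f).sum = n) :
    ((List.range 48).map fun b => f b * c).sum = n * c := by
  rw [List.sum_map_mul_right, h]

theorem card_cent : Nat.card (Subgroup.centralizer {r0 F}) = 93555 * (3 * 2 ^ 36) := by
  have : Finite ↥(twistedE6 K 2) := finite_E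
  have h : Nat.card (Subgroup.centralizer {r0 F}) =
      {g : ↥(twistedE6 K 2) | g ∈ Subgroup.centralizer {r0 F}}.ncard := rfl
  rw [h, cent_set F]
  refine (ncard_iUnion (fun b => D F (fW b)) (fun b => 2 ^ invN (fW b).reverse * (3 * 2 ^ 36)) _ ?_ ?_).trans
    (sum_mul (fun b => 2 ^ invN (fW b).reverse) _ _ sum_fW)
  · intro b _
    rw [card_D, card_B F]
  · refine List.Pairwise.imp_of_mem (R := fun a b => a < b) ?_ (List.pairwise_lt_range)
    intro a b ha hb hab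
    refine D_disjoint F fun h => ?_
    exact absurd (fW_inj (List.mem_range.1 ha) (List.mem_range.1 hb) h) hab.ne

theorem index_cent : (Subgroup.centralizer {r0 F}).index = 3968055 := by
  have h1 := (Subgroup.centralizer {r0 F}).card_mul_index
  rw [card_cent F, card_E F] at h1
  norm_num at h1
  omega

/-! ### Opposite pairs -/

omit F [Fintype K] in
theorem comm_sq {G : Type*} [Group G] {a b : G} (ha : a * a = 1) (hb : b * b = 1) (hab : a * b = b * a)
    (h : (a * b) ^ 3 = 1) : a = b := by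
  have h7 : (a * b) ^ 2 = 1 := by
    rw [pow_two]
    calc a * b * (a * b) = a * (b * a) * b := by group
      _ = (a * a) * (b * b) := by rw [← hab]; group
      _ = 1 := by rw [ha, hb, mul_one]
  rw [pow_succ, h7, one_mul, mul_eq_one_iff_eq_inv] at h
  rw [h, inv_eq_of_mul_eq_one_left hb]

omit F [Fintype K] in
theorem wpm_bot (w : List (Fin 4)) (hw : ∀ i ∈ w, i ≠ 0) : wpm w 0 = 0 := by
  have h8 : ∀ i : Fin 4, i ≠ 0 → wP i 0 = 0 := by decide +kernel
  induction w with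
  | nil => rfl
  | cons i w ih =>
    rw [wpm_cons, ih fun j hj => hw j (List.mem_cons_of_mem _ hj), h8 i (hw i List.mem_cons_self)]

/-- A root opposite to the highest root (up to conjugation) is the lowest root. -/
theorem type_opp {d : GL chevE6.Idx K} {γ : Fin 72} (hγ : rho γ = γ) (h1 : d * x 71 (1 : K) * d⁻¹ = x 71 1)
    (h2 : d * x 0 (1 : K) * d⁻¹ = x γ.val 1) : γ = 0 := by
  have := F.charP
  obtain ⟨w, -, hw, h6⟩ := exists_tabJ γ hγ
  have k1 : (wn w * d) * x 71 (1 : K) * (wn w * d)⁻¹ = x 71 1 := by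
    have e : (wn w * d) * x 71 (1 : K) * (wn w * d)⁻¹ = wn w * (d * x 71 (1 : K) * d⁻¹) * (wn w)⁻¹ := by group
    rw [e, h1, wn_top F w hw, mul_inv_cancel_right]
  have k2 : (wn w * d) * x 0 (1 : K) * (wn w * d)⁻¹ = x (wpm w γ).val 1 := by
    have e : (wn w * d) * x 0 (1 : K) * (wn w * d)⁻¹ = wn w * (d * x 0 (1 : K) * d⁻¹) * (wn w)⁻¹ := by group
    rw [e, h2, wn_conj]
  generalize wn w * d = y at k1 k2
  have hcube : (x 71 (1 : K) * x (wpm w γ).val 1) ^ 3 = 1 := by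
    have e3 : y * x 71 (1 : K) * y⁻¹ * (y * x 0 1 * y⁻¹) = y * (x 71 1 * x 0 1) * y⁻¹ := by group
    have e4 : x 71 (1 : K) * x (wpm w γ).val 1 = y * (x 71 1 * x 0 1) * y⁻¹ := by
      rw [← e3, k1, k2]
    rw [e4, conj_pow, cube0, mul_one, mul_inv_cancel]
  simp only [List.mem_cons, List.not_mem_nil, or_false] at h6
  rcases h6 with h6 | h6 | h6 | h6 | h6
  · exfalso
    rw [h6, ← k1] at k2
    exact x_ne (by norm_num) (by norm_num) (by norm_num) (mul_left_cancel (mul_right_cancel k2))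
  · exfalso
    rw [h6] at hcube
    exact x_ne (by norm_num) (by norm_num) (by norm_num) (comm_sq (x_sq _) (x_sq _) comm70 hcube)
  · exfalso
    rw [h6] at hcube
    exact x_ne (by norm_num) (by norm_num) (by norm_num) (comm_sq (x_sq _) (x_sq _) comm60 hcube)
  · exfalso
    rw [h6] at hcube
    have h7 : (x 71 (1 : K) * x 25 1) ^ 4 = 1 := by
      rw [show (4 : ℕ) = 2 * 2 from rfl, pow_mul, sq25, pow_two, x_sq]
    have h8 : x 71 (1 : K) * x 25 1 = 1 := by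
      have h10 := pow_succ (x 71 (1 : K) * x 25 1) 3
      rw [hcube, one_mul] at h10
      exact h10.symm.trans h7
    rw [mul_eq_one_iff_eq_inv, inv_eq_of_mul_eq_one_left (x_sq 25)] at h8
    exact x_ne (by norm_num) (by norm_num) (by norm_num) h8
  · apply wpm_injective w
    rw [wpm_bot w hw]
    exact Fin.ext h6

omit F [Fintype K] in
theorem conj_aux {G : Type*} [Group G] {c c' w X Y : G} (h1 : c' * X = X * c') (h2 : w * X * w⁻¹ = Y) :
    c * w * c' * X * (c * w * c')⁻¹ = c * Y * c⁻¹ := by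
  have e : c * w * c' * X * (c * w * c')⁻¹ = c * (w * (c' * X * c'⁻¹) * w⁻¹) * c⁻¹ := by group
  rw [e, h1, mul_inv_cancel_right, h2]

omit F [Fintype K] in
theorem conj_aux2 {G : Type*} [Group G] {b c X Y Z : G} (h : b * Y * b⁻¹ = c * Z * c⁻¹)
    (hb : b * X = X * b) (hc : c * X = X * c) :
    (b⁻¹ * c) * X * (b⁻¹ * c)⁻¹ = X ∧ (b⁻¹ * c) * Z * (b⁻¹ * c)⁻¹ = Y := by
  constructor
  · have e : (b⁻¹ * c) * X * (b⁻¹ * c)⁻¹ = b⁻¹ * (c * X * c⁻¹) * b := by group
    rw [e, hc, mul_inv_cancel_right, mul_assoc, ← hb, inv_mul_cancel_left]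
  · have e : (b⁻¹ * c) * Z * (b⁻¹ * c)⁻¹ = b⁻¹ * (c * Z * c⁻¹) * b := by group
    rw [e, ← h]; group

omit F [Fintype K] in
theorem rho_wpm_top (l : List (Fin 4)) : rho (wpm l 71) = wpm l 71 := by
  rw [rho_wpm]
  congr 1

/-- the double coset `C(r0) w C(r0)` of the longest word -/
def Opp : Set ↥(twistedE6 K 2) := {g | ∃ c ∈ Subgroup.centralizer {r0 F}, ∃ c' ∈ Subgroup.centralizer {r0 F},
  g = c * we F (tW 23) * c'}

theorem tW_conj : wn (tW 23) * x 71 (1 : K) * (wn (tW 23))⁻¹ = x 0 1 := by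
  have := F.charP
  have h2 := wn_conj (K := K) (tW 23) 71 1
  rw [tW_23] at h2
  exact h2

theorem mem_cent_val {c : ↥(twistedE6 K 2)} (hc : c ∈ Subgroup.centralizer {r0 F}) :
    (c : GL chevE6.Idx K) * x 71 1 = x 71 1 * (c : GL chevE6.Idx K) :=
  congrArg Subtype.val (Subgroup.mem_centralizer_singleton_iff.1 hc)

theorem opp_le {g : ↥(twistedE6 K 2)} (hg : g ∈ Opp F) : ∃ b ∈ List.range 48, g ∈ D F (tW 23 ++ fW b) := by
  obtain ⟨c, hc, c', hc', e0⟩ := hg
  obtain ⟨l, hl⟩ := exists_D F g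
  obtain ⟨b, hbE, hb, e⟩ := conj_D F hl
  have e1 : (g : GL chevE6.Idx K) * x 71 1 * (g : GL chevE6.Idx K)⁻¹ =
      (c : GL chevE6.Idx K) * x 0 1 * (c : GL chevE6.Idx K)⁻¹ := by
    have e2 : (g : GL chevE6.Idx K) = (c : GL chevE6.Idx K) * wn (tW 23) * (c' : GL chevE6.Idx K) :=
      congrArg Subtype.val e0
    rw [e2]
    exact conj_aux (mem_cent_val F hc') (tW_conj F)
  obtain ⟨k1, k2⟩ := conj_aux2 (e.symm.trans e1) hb (mem_cent_val F hc)
  obtain ⟨b0, hb0, h⟩ := exists_tW (type_opp F (rho_wpm_top l) k1 k2)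
  exact ⟨b0, List.mem_range.2 hb0, D_eq F h ▸ hl⟩

theorem le_opp {g : ↥(twistedE6 K 2)} {b : ℕ} (hb : b < 48) (hg : g ∈ D F (tW 23 ++ fW b)) : g ∈ Opp F := by
  have := F.charP
  obtain ⟨c, hc, hcE, c', hc', hcE', e⟩ := (mem_D F).1 hg
  have h1 : wn (fW b) * x 71 (1 : K) = x 71 1 * wn (fW b) := by
    have h2 := wn_conj (K := K) (fW b) 71 1
    rw [fW_top b hb, mul_inv_eq_iff_eq_mul] at h2
    exact h2
  refine ⟨⟨c, hcE⟩, ?_, ⟨wn (fW b) * c', mul_mem (wn_mem F _) hcE'⟩, ?_, ?_⟩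
  · rw [Subgroup.mem_centralizer_singleton_iff]
    exact Subtype.ext (B_comm F hc hcE)
  · rw [Subgroup.mem_centralizer_singleton_iff]
    apply Subtype.ext
    show wn (fW b) * c' * x 71 (1 : K) = x 71 1 * (wn (fW b) * c')
    rw [mul_assoc, B_comm F hc' hcE', ← mul_assoc, h1, mul_assoc]
  · apply Subtype.ext
    show (g : GL chevE6.Idx K) = c * wn (tW 23) * (wn (fW b) * c')
    have h2 : wn (K := K) (tW 23 ++ fW b) = wn (tW 23) * wn (fW b) := by
      unfold wn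
      rw [List.map_append, List.prod_append]
    rw [e, h2, mul_assoc, mul_assoc, mul_assoc]

theorem opp_set : Opp F = {g | ∃ b ∈ List.range 48, g ∈ D F (tW 23 ++ fW b)} := by
  ext g
  constructor
  · exact opp_le F
  · rintro ⟨b, hb, hg⟩
    exact le_opp F (List.mem_range.1 hb) hg

theorem card_opp : (Opp F).ncard = 93555 * 2 ^ 21 * (3 * 2 ^ 36) := by
  have : Finite ↥(twistedE6 K 2) := finite_E
  rw [opp_set F]
  refine (ncard_iUnion (fun b => D F (tW 23 ++ fW b))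
    (fun b => 2 ^ invN (tW 23 ++ fW b).reverse * (3 * 2 ^ 36)) _ ?_ ?_).trans
    (sum_mul (fun b => 2 ^ invN (tW 23 ++ fW b).reverse) _ _ sum_tW)
  · intro b _
    rw [card_D, card_B F]
  · refine List.Pairwise.imp_of_mem (R := fun a b => a < b) ?_ (List.pairwise_lt_range)
    intro a b ha hb hab
    refine D_disjoint F fun h => ?_
    refine absurd (fW_inj (List.mem_range.1 ha) (List.mem_range.1 hb) fun r => ?_) hab.ne
    have h1 := h r
    rw [wpm_append, wpm_append] at h1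
    exact wpm_injective _ h1

omit F [Fintype K] in
theorem conj_aux3 {G : Type*} [Group G] (w k r : G) :
    (k * (w * r * w⁻¹) = w * r * w⁻¹ * k) ↔ (w⁻¹ * k * w * r = r * (w⁻¹ * k * w)) := by
  constructor
  · intro h
    calc w⁻¹ * k * w * r = w⁻¹ * (k * (w * r * w⁻¹)) * w := by group
      _ = w⁻¹ * (w * r * w⁻¹ * k) * w := by rw [h]
      _ = r * (w⁻¹ * k * w) := by group
  · intro h
    calc k * (w * r * w⁻¹) = w * (w⁻¹ * k * w * r) * w⁻¹ := by group
      _ = w * (r * (w⁻¹ * k * w)) * w⁻¹ := by rw [h]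
      _ = w * r * w⁻¹ * k := by group

theorem s0_eq : we F (tW 23) * r0 F * (we F (tW 23))⁻¹ = s0 F := Subtype.ext (tW_conj F)

/-- `|C_E(r0) ∩ C_E(s0)| = 9196830720` -/
theorem card_pair : Nat.card ↥(Subgroup.centralizer {r0 F} ⊓ Subgroup.centralizer {s0 F}) = 9196830720 := by
  have h := card_double (C := Subgroup.centralizer {r0 F})
    (D := Subgroup.centralizer {r0 F} ⊓ Subgroup.centralizer {s0 F}) (we F (tW 23)) (Opp F) (fun g => Iff.rfl) (by
      intro k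
      rw [Subgroup.mem_inf]
      refine and_congr_right fun _ => ?_
      rw [Subgroup.mem_centralizer_singleton_iff, Subgroup.mem_centralizer_singleton_iff, ← s0_eq]
      exact conj_aux3 _ _ _)
  rw [card_opp F, card_cent F] at h
  generalize Nat.card ↥(Subgroup.centralizer {r0 F} ⊓ Subgroup.centralizer {s0 F}) = n at h
  have h4 : (93555 * 2 ^ 21 * (3 * 2 ^ 36)) * n = (93555 * 2 ^ 21 * (3 * 2 ^ 36)) * 9196830720 := by
    rw [h]; norm_num
  exact Nat.eq_of_mul_eq_mul_left (by norm_num) h4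

/-- The order of the Levi subgroup `L = C_E(r0, s0)`. -/
theorem card_levi : Nat.card ↥(LR K Jn ⊓ twistedE6 K 2) = 9196830720 := by
  rw [← card_pair F]
  symm
  refine Nat.card_congr ⟨fun g => ⟨(g.1 : GL chevE6.Idx K), ?_⟩, fun g => ⟨⟨g.1, (Subgroup.mem_inf.1 g.2).2⟩, ?_⟩,
    fun g => rfl, fun g => rfl⟩
  · have h := Subgroup.mem_inf.1 g.2
    rw [Subgroup.mem_centralizer_singleton_iff, Subgroup.mem_centralizer_singleton_iff] at h
    exact Subgroup.mem_inf.2 ⟨(cent_pair F g.1.2).1 ⟨congrArg Subtype.val h.1, congrArg Subtype.val h.2⟩, g.1.2⟩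
  · have h := (cent_pair F (Subgroup.mem_inf.1 g.2).2).2 (Subgroup.mem_inf.1 g.2).1
    rw [Subgroup.mem_inf, Subgroup.mem_centralizer_singleton_iff, Subgroup.mem_centralizer_singleton_iff]
    exact ⟨Subtype.ext h.1, Subtype.ext h.2⟩

end Four

end Cfsg.Agent.TwoESix.LongCard
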