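import Cfsg.Agent.TwoESix.OutSig
import Cfsg.Agent.TwoESix.ExtTwisted
import Cfsg.Agent.BabyU.OutInv

/-!
# ²E₆(2): the field automorphism is not inner; the abelian subgroup of a non-inner involutory automorphism
-/

set_option autoImplicit false
set_option linter.unusedSectionVars false

namespace Cfsg.Agent.TwoESix.OutNorm

open Cfsg.Lie
open Cfsg.Agent.ChevalleyStructure
open Cfsg.Agent.ChevalleyStructure.Elts hiding x_add x_zero x_eq_one_iff
open Cfsg.Agent.ChevalleyStructure.TwE6Basic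
open Cfsg.Agent.ChevalleyStructure.TwE6BN
open Cfsg.Agent.TwoESix.LeviA
open Cfsg.Agent.TwoESix.LeviB
open Cfsg.Agent.TwoESix.LeviC
open Cfsg.Agent.TwoESix.LeviD
open Cfsg.Agent.TwoESix.LongPairs
open Cfsg.Agent.TwoESix.LongCard
open Cfsg.Agent.TwoESix.FlagH
open Cfsg.Agent.TwoESix.FlagI
open Cfsg.Agent.TwoESix.FlagK
open Cfsg.Agent.TwoESix.FlagL
open Cfsg.Agent.TwoESix.OutSig
open Cfsg.Agent.BabyU (rootClass)

open scoped commutatorElement Pointwise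

universe u

variable {K : Type u} [Field K]

section Two

variable [CharP K 2]

/-- the pairing of `z_r(t) v` with `x_q(1)` -/
theorem pair_z {r q : Fin 72} {k : ℕ} (hr : r ∈ l20) (hr' : rho r ∈ l20) (hq : q ∈ l20) (h1 : r = pt q)
    (h2 : rho r ≠ pt q) (hk : ∀ r : Fin 72, k ≤ ht r.val → r = q ∨ Co r q) (φ : K →+* K) (t : K)
    {v : GL chevE6.Idx K} (hv : v ∈ V K k) : ⁅z φ r t * v, x q.val (1 : K)⁆ = x 71 t := by
  have e1 : ⁅v, x q.val (1 : K)⁆ = 1 := commutatorElement_eq_one_iff_mul_comm.2 (V_comm_x hk hv 1).symm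
  have e2 : ⁅z φ r t * v, x q.val (1 : K)⁆ = z φ r t * ⁅v, x q.val (1 : K)⁆ * (z φ r t)⁻¹ *
      ⁅z φ r t, x q.val (1 : K)⁆ := by
    simp only [commutatorElement_def]; group
  have e3 : ⁅x (rho r).val (φ t), x q.val (1 : K)⁆ = 1 := by
    rw [comm_x hr' hq, if_neg h2, TwE6Basic.x_zero]
  have e4 : ⁅x r.val t, x q.val (1 : K)⁆ = x 71 t := by
    rw [comm_x hr hq, if_pos h1, mul_one]
  have e5 : ⁅z φ r t, x q.val (1 : K)⁆ = x r.val t * ⁅x (rho r).val (φ t), x q.val (1 : K)⁆ * (x r.val t)⁻¹ *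
      ⁅x r.val t, x q.val (1 : K)⁆ := by
    show ⁅x r.val t * x (rho r).val (φ t), x q.val (1 : K)⁆ = _
    simp only [commutatorElement_def]; group
  rw [e2, e1, mul_one, mul_inv_cancel, one_mul, e5, e3, mul_one, mul_inv_cancel, one_mul, e4]

theorem tab68 : (68 : Fin 72) ∈ l20 ∧ rho 68 ∈ l20 ∧ (48 : Fin 72) ∈ l20 ∧ (68 : Fin 72) = pt 48 ∧ rho 68 ≠ pt 48 ∧
    (∀ r : Fin 72, 9 ≤ ht r.val → r = 48 ∨ Co r 48) ∧ 8 ≤ ht (68 : Fin 72).val ∧ 8 ≤ ht (rho 68).val ∧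
    rho 68 ≠ 68 := by
  decide +kernel

theorem tab67 : (67 : Fin 72) ∈ l20 ∧ rho 67 ∈ l20 ∧ (49 : Fin 72) ∈ l20 ∧ (67 : Fin 72) = pt 49 ∧ rho 67 ≠ pt 49 ∧
    (∀ r : Fin 72, 8 ≤ ht r.val → r = 49 ∨ Co r 49) ∧ 7 ≤ ht (67 : Fin 72).val ∧ 7 ≤ ht (rho 67).val ∧
    rho 67 ≠ 67 := by
  decide +kernel

end Two

section Four

variable [Fintype K] {φ : K →+* K} (F : Four K φ)
include F

theorem pair68 (t : K) {v : GL chevE6.Idx K} (hv : v ∈ V K 9) : ⁅z φ 68 t * v, x 48 (1 : K)⁆ = x 71 t := by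
  have := F.charP
  obtain ⟨a, b, c, d, e, f, -⟩ := tab68
  exact pair_z a b c d e f φ t hv

theorem pair67 (t : K) {v : GL chevE6.Idx K} (hv : v ∈ V K 8) : ⁅z φ 67 t * v, x 49 (1 : K)⁆ = x 71 t := by
  have := F.charP
  obtain ⟨a, b, c, d, e, f, -⟩ := tab67
  exact pair_z a b c d e f φ t hv

theorem z68_V (t : K) : z φ 68 t ∈ V K 8 := by
  obtain ⟨-, -, -, -, -, -, h, h', -⟩ := tab68
  exact mul_mem (x_mem_V h t) (x_mem_V h' _)

theorem z67_V (t : K) : z φ 67 t ∈ V K 7 := by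
  obtain ⟨-, -, -, -, -, -, h, h', -⟩ := tab67
  exact mul_mem (x_mem_V h t) (x_mem_V h' _)

/-- `z_68(t)` in `E` -/
def e68 (t : K) : ↥(twistedE6 K 2) := ⟨z φ 68 t, (z_mem_UE F tab68.1 tab68.2.2.2.2.2.2.2.2 t).2⟩

/-- `z_67(t)` in `E` -/
def e67 (t : K) : ↥(twistedE6 K 2) := ⟨z φ 67 t, (z_mem_UE F tab67.1 tab67.2.2.2.2.2.2.2.2 t).2⟩

/-- the action of `conj s * sig` on `V k`, `s ∈ U` -/
theorem act_V {k : ℕ} (hk : 7 ≤ k) {s : ↥(twistedE6 K 2)} (hs : s ∈ SE K) {n : ↥(twistedE6 K 2)}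
    (hn : (n : GL chevE6.Idx K) ∈ V K k) : ∃ c ∈ V K (k + 1),
    (((MulAut.conj s * sig F) n : ↥(twistedE6 K 2)) : GL chevE6.Idx K) = mp φ n * c := by
  have := F.charP
  have h1 := comm_U_V hk (Subgroup.mem_subgroupOf.1 hs) (mp_V (φ := φ) hn)
  have h2 : mp φ (n : GL chevE6.Idx K) ∈ V K k := mp_V hn
  refine ⟨⁅(s : GL chevE6.Idx K), mp φ n⁆, h1, ?_⟩
  show (s : GL chevE6.Idx K) * mp φ n * (s : GL chevE6.Idx K)⁻¹ = _
  have h3 : mp φ n * ⁅(s : GL chevE6.Idx K), mp φ n⁆ = ⁅(s : GL chevE6.Idx K), mp φ n⁆ * mp φ n :=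
    V_comm (V_mono hk h2) (V_mono (by omega) h1)
  rw [h3, commutatorElement_def, inv_mul_cancel_right]

theorem sq_eq (t : K) (ht : φ t = t) : x 71 t = (1 : GL chevE6.Idx K) ∨ x 71 t = (x 71 1 : GL chevE6.Idx K) := by
  rcases zero_or_one F ht with h | h
  · exact Or.inl (by rw [h, TwE6Basic.x_zero])
  · exact Or.inr (by rw [h])

theorem phi_omega {w : K} (hw : w + φ w = 1) : φ w ≠ w := by
  have := F.charP
  intro h
  rw [h, CharTwo.add_self_eq_zero] at hw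
  exact zero_ne_one hw

/-- a central element of `E` is trivial -/
theorem center_eq (z : ↥(twistedE6 K 2)) (hz : ∀ y, z * y = y * z) : z = 1 := by
  have h1 : z ∈ RE K := FlagM.cent_R_le F (by
    rw [Subgroup.mem_centralizer_iff]
    intro y _
    exact (hz y).symm)
  rcases FlagM.center_R F z h1 (fun q _ => (hz q).symm) with h | h
  · exact h
  · exfalso
    have B := ExtTwisted.basic K F.card
    have h3 : ∀ r ∈ rootClass K, r = r0 F := by
      intro r hr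
      obtain ⟨g, hg⟩ := B.one _ (xe_T F 71 (by decide +kernel)) r hr
      rw [← hg]
      show g * r0 F * g⁻¹ = r0 F
      rw [← h, ← hz g, mul_inv_cancel_right]
    obtain ⟨r, hr, s, hs, hrs, -⟩ := B.opp
    exact hrs ((h3 r hr).trans (h3 s hs).symm)

/-- **The field automorphism is not inner.** -/
theorem sig_not_inner (g : ↥(twistedE6 K 2)) : sig F ≠ MulAut.conj g := by
  intro hg
  have := F.charP
  have hg' : ∀ y, sig F y = g * y * g⁻¹ := fun y => DFunLike.congr_fun hg y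
  have h1 : g * g = 1 := by
    apply center_eq F
    intro y
    have h2 := sig_sig F y
    rw [hg', hg'] at h2
    calc g * g * y = g * (g * y * g⁻¹) * g⁻¹ * (g * g) := by group
      _ = y * (g * g) := by rw [h2]
  have h2 : g ∈ SE K := Cfsg.Agent.BabyU.OutInv.mem_of_normalizes (S_two F) (S_odd F) h1 fun s hs => by
    rw [← hg']; exact sig_SE F hs
  obtain ⟨w, hw⟩ := exists_omega F
  have h3 : (e68 F w : GL chevE6.Idx K) ∈ V K 8 := z68_V F w
  have h4 : ⁅(g : GL chevE6.Idx K), z φ 68 w⁆ ∈ V K 9 := comm_U_V (by norm_num) (Subgroup.mem_subgroupOf.1 h2) h3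
  have h5 : z φ 68 (φ w) = z φ 68 w * ⁅(g : GL chevE6.Idx K), z φ 68 w⁆ := by
    have h6 : ((sig F (e68 F w) : ↥(twistedE6 K 2)) : GL chevE6.Idx K) =
        (g : GL chevE6.Idx K) * z φ 68 w * (g : GL chevE6.Idx K)⁻¹ := by rw [hg']; rfl
    have h7 : ((sig F (e68 F w) : ↥(twistedE6 K 2)) : GL chevE6.Idx K) = z φ 68 (φ w) := mp_z φ 68 w
    have h8 : z φ 68 w * ⁅(g : GL chevE6.Idx K), z φ 68 w⁆ = ⁅(g : GL chevE6.Idx K), z φ 68 w⁆ * z φ 68 w :=
      V_comm (V_mono (by norm_num) h3) (V_mono (by norm_num) h4)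
    rw [h8, commutatorElement_def, inv_mul_cancel_right, ← h6, h7]
  have h6 := pair68 F (φ w) (one_mem (V K 9))
  rw [mul_one, h5, pair68 F w h4] at h6
  exact phi_omega F hw (x71_eq h6).symm

/-! ### The abelian subgroup -/

/-- the elements of height at least 7 -/
def NE (K : Type u) [Field K] : Subgroup ↥(twistedE6 K 2) := (V K 7).subgroupOf (twistedE6 K 2)

theorem mem_NE {n : ↥(twistedE6 K 2)} : n ∈ NE K ↔ (n : GL chevE6.Idx K) ∈ V K 7 := Subgroup.mem_subgroupOf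

theorem NE_le : NE K ≤ RE K := fun _ hn =>
  have := F.charP
  Subgroup.mem_subgroupOf.2 (V_le_UR (le_refl 7) (Subgroup.mem_subgroupOf.1 hn))

theorem NE_comm {m n : ↥(twistedE6 K 2)} (hm : m ∈ NE K) (hn : n ∈ NE K) : m * n = n * m :=
  have := F.charP
  Subtype.ext (V_comm (Subgroup.mem_subgroupOf.1 hm) (Subgroup.mem_subgroupOf.1 hn))

theorem NE_sq {n : ↥(twistedE6 K 2)} (hn : n ∈ NE K) : n * n = 1 :=
  have := F.charP
  Subtype.ext (V_sq (Subgroup.mem_subgroupOf.1 hn))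

theorem r0_NE : r0 F ∈ NE K := Subgroup.mem_subgroupOf.2 (x_mem_V (r := 71) (by decide) 1)

theorem act_NE {s : ↥(twistedE6 K 2)} (hs : s ∈ SE K) {n : ↥(twistedE6 K 2)} (hn : n ∈ NE K) :
    (MulAut.conj s * sig F) n ∈ NE K := by
  obtain ⟨c, hc, e⟩ := act_V F (le_refl 7) hs (Subgroup.mem_subgroupOf.1 hn)
  exact Subgroup.mem_subgroupOf.2 (by
    rw [e]; exact mul_mem (mp_V (Subgroup.mem_subgroupOf.1 hn)) (V_mono (by norm_num) hc))

/-- **Two commutators.** -/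
theorem exists_comm {s : ↥(twistedE6 K 2)} (hs : s ∈ SE K) : ∃ n₁ ∈ NE K, ∃ n₂ ∈ NE K,
    n₁ * (MulAut.conj s * sig F) n₁ ≠ 1 ∧ n₂ * (MulAut.conj s * sig F) n₂ ≠ 1 ∧
    n₁ * (MulAut.conj s * sig F) n₁ ≠ n₂ * (MulAut.conj s * sig F) n₂ := by
  have := F.charP
  obtain ⟨w, hw⟩ := exists_omega F
  have h71 : x 71 (1 : K) ≠ (1 : GL chevE6.Idx K) := fun h => one_ne_zero ((x_eq_one_iff (by norm_num) _).1 h)
  have z_mul : ∀ {r : Fin 72}, r ∈ l20 → rho r ≠ r → z φ r w * z φ r (φ w) = z φ r (1 : K) := by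
    intro r hr hrr
    rw [FlagN.z_add F hr hrr, hw]
  obtain ⟨c₁, hc₁, e₁⟩ := act_V F (le_refl 7) hs (n := e67 F w) (z67_V F w)
  obtain ⟨c₂, hc₂, e₂⟩ := act_V F (by norm_num : 7 ≤ 8) hs (n := e68 F w) (z68_V F w)
  have k₁ : ((e67 F w * (MulAut.conj s * sig F) (e67 F w) : ↥(twistedE6 K 2)) : GL chevE6.Idx K) =
      z φ 67 1 * c₁ := by
    rw [Subgroup.coe_mul, e₁, ← z_mul tab67.1 tab67.2.2.2.2.2.2.2.2, ← mul_assoc]
    congr 2
    exact mp_z φ 67 w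
  have k₂ : ((e68 F w * (MulAut.conj s * sig F) (e68 F w) : ↥(twistedE6 K 2)) : GL chevE6.Idx K) =
      z φ 68 1 * c₂ := by
    rw [Subgroup.coe_mul, e₂, ← z_mul tab68.1 tab68.2.2.2.2.2.2.2.2, ← mul_assoc]
    congr 2
    exact mp_z φ 68 w
  have p₁ : ⁅z φ 67 (1 : K) * c₁, x 49 (1 : K)⁆ = x 71 1 := pair67 F 1 hc₁
  have p₂ : ⁅z φ 68 (1 : K) * c₂, x 48 (1 : K)⁆ = x 71 1 := pair68 F 1 hc₂
  have hV : z φ 68 (1 : K) * c₂ ∈ V K 8 := mul_mem (z68_V F 1) (V_mono (by norm_num) hc₂)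
  have p₃ : ⁅z φ 68 (1 : K) * c₂, x 49 (1 : K)⁆ = 1 :=
    commutatorElement_eq_one_iff_mul_comm.2 (V_comm_x (q := 49) tab67.2.2.2.2.2.1 hV 1).symm
  refine ⟨e67 F w, Subgroup.mem_subgroupOf.2 (z67_V F w), e68 F w,
    Subgroup.mem_subgroupOf.2 (V_mono (by norm_num) (z68_V F w)), ?_, ?_, ?_⟩
  · intro h
    have := congrArg Subtype.val h
    rw [k₁] at this
    rw [this, OneMemClass.coe_one, commutatorElement_one_left] at p₁
    exact h71 p₁.symm
  · intro h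
    have := congrArg Subtype.val h
    rw [k₂] at this
    rw [this, OneMemClass.coe_one, commutatorElement_one_left] at p₂
    exact h71 p₂.symm
  · intro h
    have := congrArg Subtype.val h
    rw [k₁, k₂] at this
    rw [this, p₃] at p₁
    exact h71 p₁.symm

end Four

end Cfsg.Agent.TwoESix.OutNorm
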