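import Cfsg.Agent.TwoESix.OutNorm

/-!
# ²E₆(2): an elementary abelian group generated by root involutions and normalised by the Sylow 2-subgroup and by the
field automorphism

The eleven roots of `E₆` with coefficient at least two at the branch node.
-/

set_option autoImplicit false
set_option linter.unusedSectionVars false

namespace Cfsg.Agent.TwoESix.OutRoot

open Cfsg.Lie
open Cfsg.Agent.ChevalleyStructure
open Cfsg.Agent.ChevalleyStructure.Elts hiding x_add x_zero x_eq_one_iff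
open Cfsg.Agent.ChevalleyStructure.TwE6Basic
open Cfsg.Agent.ChevalleyStructure.TwE6BN
open Cfsg.Agent.TwoESix.LeviA
open Cfsg.Agent.TwoESix.LeviB
open Cfsg.Agent.TwoESix.LeviC
open Cfsg.Agent.TwoESix.LeviD
open Cfsg.Agent.TwoESix.LongPairs
open Cfsg.Agent.TwoESix.LongCard
open Cfsg.Agent.TwoESix.FlagH
open Cfsg.Agent.TwoESix.FlagI
open Cfsg.Agent.TwoESix.FlagK
open Cfsg.Agent.TwoESix.FlagL
open Cfsg.Agent.TwoESix.OutSig
open Cfsg.Agent.TwoESix.OutNorm
open Cfsg.Agent.BabyU (rootClass)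

open scoped commutatorElement Pointwise

universe u

variable {K : Type u} [Field K]

/-- the eleven roots -/
def l11 : List (Fin 72) := [53, 54, 55, 64, 65, 66, 67, 68, 69, 70, 71]

/-- the root groups of the eleven roots -/
def W (K : Type u) [Field K] : Subgroup (GL chevE6.Idx K) :=
  Subgroup.closure {g | ∃ r ∈ l11, ∃ t : K, g = x r.val t}

theorem x_mem_W {r : Fin 72} (h : r ∈ l11) (t : K) : x r.val t ∈ W K := Subgroup.subset_closure ⟨r, h, t, rfl⟩

theorem W_le {M : Subgroup (GL chevE6.Idx K)} (h : ∀ r ∈ l11, ∀ t : K, x r.val t ∈ M) : W K ≤ M :=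
  (Subgroup.closure_le _).2 (by rintro g ⟨r, hr, t, rfl⟩; exact h r hr t)

theorem mp_W {φ : K →+* K} {g : GL chevE6.Idx K} (hg : g ∈ W K) : mp φ g ∈ W K := by
  have key : W K ≤ (W K).comap (mp φ) := W_le fun r hr t => by
    rw [Subgroup.mem_comap, mp_x]
    exact x_mem_W hr _
  exact key hg

theorem tab_W : ∀ r : Fin 72, 36 ≤ r.val → ∀ s ∈ l11, s ≠ r → s.val ≠ chevE6.neg r.val ∧
    (chevE6.commTerms r.val s.val = [] ∨ ∃ m ∈ l11,
      (chevE6.commTerms r.val s.val = [(m.val, 1, 1, 1)] ∨ chevE6.commTerms r.val s.val = [(m.val, -1, 1, 1)])) := by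
  decide +kernel

theorem tab_WW : ∀ r ∈ l11, ∀ s ∈ l11, s ≠ r → Co r s := by decide +kernel

theorem V_le_W : V K 7 ≤ W K := V_le fun r hr t => by
  have tab : ∀ r : Fin 72, 7 ≤ ht r.val → r ∈ l11 := by decide
  exact x_mem_W (tab r hr) t

section Two

variable [CharP K 2]

theorem conj_P_W {g w : GL chevE6.Idx K} (hg : g ∈ P K 1) (hw : w ∈ W K) : g * w * g⁻¹ ∈ W K := by
  obtain ⟨r, hr, t, rfl⟩ := hg
  have key : W K ≤ (W K).comap (MulAut.conj (x r.val t)).toMonoidHom := W_le fun s hs u => by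
    show x r.val t * x s.val u * (x r.val t)⁻¹ ∈ W K
    by_cases hsr : s = r
    · have : x r.val t * x s.val u = x s.val u * x r.val t := by rw [hsr, x_add, x_add, add_comm]
      rw [this, mul_inv_cancel_right]
      exact x_mem_W hs u
    · obtain ⟨h1, h2 | ⟨m, hm, h2⟩⟩ := tab_W r ((ht_pos r).1 hr) s hs hsr
      · have := comm_of_commTerms (K := K) r.2 s.2 (fun h => hsr (Fin.ext h)) h1 h2 t u
        rw [← this, mul_inv_cancel_right]
        exact x_mem_W hs u
      · have e := Si.eq (K := K) (⟨fun h => hsr (Fin.ext h), h1, h2⟩ : Si r s m) (-t) u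
        have : x r.val t * x s.val u * (x r.val t)⁻¹ = x s.val u * x m.val (-t * u) := by
          rw [x_inv, mul_assoc, e, ← mul_assoc, ← mul_assoc, x_add, add_neg_cancel, TwE6Basic.x_zero, one_mul]
        rw [this]
        exact mul_mem (x_mem_W hs u) (x_mem_W hm _)
  exact key hw

theorem conj_U_W {g w : GL chevE6.Idx K} (hg : g ∈ chevE6.posUnipotent K) (hw : w ∈ W K) : g * w * g⁻¹ ∈ W K := by
  have hg' := U_le_P hg
  clear hg
  have : (∀ w ∈ W K, g * w * g⁻¹ ∈ W K) ∧ ∀ w ∈ W K, g⁻¹ * w * g ∈ W K := by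
    clear hw
    induction hg' using Subgroup.closure_induction with
    | mem g h =>
      refine ⟨fun w hw => conj_P_W h hw, fun w hw => ?_⟩
      have := conj_P_W (P_inv h) hw
      rwa [inv_inv] at this
    | one => exact ⟨fun w hw => by simpa using hw, fun w hw => by simpa using hw⟩
    | mul a b _ _ iha ihb =>
      refine ⟨fun w hw => ?_, fun w hw => ?_⟩
      · have := iha.1 _ (ihb.1 w hw)
        rwa [show a * (b * w * b⁻¹) * a⁻¹ = a * b * w * (a * b)⁻¹ by group] at this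
      · have := ihb.2 _ (iha.2 w hw)
        rwa [show b⁻¹ * (a⁻¹ * w * a) * b = (a * b)⁻¹ * w * (a * b) by group] at this
    | inv a _ iha => exact ⟨fun w hw => by simpa using iha.2 w hw, fun w hw => by simpa using iha.1 w hw⟩
  exact this.1 w hw

theorem W_comm {g h : GL chevE6.Idx K} (hg : g ∈ W K) (hh : h ∈ W K) : g * h = h * g := by
  have h1 : W K ≤ Subgroup.centralizer {g | ∃ r ∈ l11, ∃ t : K, g = x r.val t} := W_le fun r hr t => by
    rw [Subgroup.mem_centralizer_iff]
    rintro _ ⟨s, hs, u, rfl⟩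
    by_cases hsr : s = r
    · rw [hsr, x_add, x_add, add_comm]
    · exact (tab_WW r hr s hs hsr).eq t u
  have h2 : W K ≤ Subgroup.centralizer ({g} : Set (GL chevE6.Idx K)) := by
    refine (Subgroup.closure_le _).2 ?_
    intro w hw
    rw [SetLike.mem_coe, Subgroup.mem_centralizer_iff]
    rintro _ rfl
    exact ((Subgroup.mem_centralizer_iff.1 (h1 hg)) w hw).symm
  exact (Subgroup.mem_centralizer_iff.1 (h2 hh)) g rfl

theorem W_sq {g : GL chevE6.Idx K} (hg : g ∈ W K) : g * g = 1 := by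
  unfold W at hg
  induction hg using Subgroup.closure_induction with
  | mem g h =>
    obtain ⟨r, -, t, rfl⟩ := h
    rw [x_add, CharTwo.add_self_eq_zero, TwE6Basic.x_zero]
  | one => exact one_mul 1
  | mul a b ha hb iha ihb =>
    have hab : a * b = b * a := W_comm ha hb
    calc a * b * (a * b) = a * (b * a) * b := by group
      _ = (a * a) * (b * b) := by rw [← hab]; group
      _ = 1 := by rw [iha, ihb, mul_one]
  | inv a ha iha =>
    rw [← mul_inv_rev, iha, inv_one]

theorem W_le_UR : W K ≤ UR K Jn := W_le fun r hr t => by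
  have tab : ∀ r ∈ l11, 36 ≤ r.val ∧ ¬ chevE6.InRootSub {j | j ∈ Jn} r.val := by decide +kernel
  exact x_mem_UR (tab r hr).1 (tab r hr).2 t

/-- coordinates in `W` -/
theorem W_coords {g : GL chevE6.Idx K} (hg : g ∈ W K) : ∃ t : Fin 72 → K, g = lp t l11 := by
  have hL : ∀ L : List (Fin 72), (∀ r ∈ L, r ∈ l11) → ∀ t : Fin 72 → K, lp t L ∈ W K := by
    intro L hL t
    induction L with
    | nil => exact one_mem _
    | cons r L ih =>
      rw [lp_cons]
      exact mul_mem (x_mem_W (hL r List.mem_cons_self) _) (ih fun s hs => hL s (List.mem_cons_of_mem _ hs))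
  have hm : ∀ L : List (Fin 72), (∀ r ∈ L, r ∈ l11) → ∀ t t' : Fin 72 → K, lp t L * lp t' L = lp (t + t') L := by
    intro L hL' t t'
    induction L with
    | nil => exact one_mul 1
    | cons r L ih =>
      have hL2 : ∀ s ∈ L, s ∈ l11 := fun s hs => hL' s (List.mem_cons_of_mem _ hs)
      rw [lp_cons, lp_cons, lp_cons, ← ih hL2]
      have k : lp t L * x r.val (t' r) = x r.val (t' r) * lp t L :=
        W_comm (hL L hL2 t) (x_mem_W (hL' r List.mem_cons_self) _)
      calc x r.val (t r) * lp t L * (x r.val (t' r) * lp t' L) =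
          x r.val (t r) * (lp t L * x r.val (t' r)) * lp t' L := by group
        _ = (x r.val (t r) * x r.val (t' r)) * (lp t L * lp t' L) := by rw [k]; group
        _ = _ := by rw [x_add]; rfl
  unfold W at hg
  induction hg using Subgroup.closure_induction with
  | mem g h =>
    obtain ⟨r, hr, t, rfl⟩ := h
    exact ⟨fun s => if s = r then t else 0, by rw [lp_single r t l11 (by decide), if_pos hr]⟩
  | one => exact ⟨0, (lp_zero l11).symm⟩
  | mul a b _ _ iha ihb =>
    obtain ⟨t, rfl⟩ := iha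
    obtain ⟨t', rfl⟩ := ihb
    exact ⟨_, hm l11 (fun _ h => h) t t'⟩
  | inv a ha iha =>
    obtain ⟨t, rfl⟩ := iha
    refine ⟨t, ?_⟩
    rw [inv_eq_iff_mul_eq_one]
    exact W_sq ha

end Two

section Four

variable [Fintype K] {φ : K →+* K} (F : Four K φ)
include F

/-- the elementary abelian group -/
def NE (K : Type u) [Field K] : Subgroup ↥(twistedE6 K 2) := (W K).subgroupOf (twistedE6 K 2)

theorem NE_le : NE K ≤ RE K := fun _ hn =>
  have := F.charP
  Subgroup.mem_subgroupOf.2 (W_le_UR (Subgroup.mem_subgroupOf.1 hn))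

theorem NE_comm {m n : ↥(twistedE6 K 2)} (hm : m ∈ NE K) (hn : n ∈ NE K) : m * n = n * m :=
  have := F.charP
  Subtype.ext (W_comm (Subgroup.mem_subgroupOf.1 hm) (Subgroup.mem_subgroupOf.1 hn))

theorem NE_sq {n : ↥(twistedE6 K 2)} (hn : n ∈ NE K) : n * n = 1 :=
  have := F.charP
  Subtype.ext (W_sq (Subgroup.mem_subgroupOf.1 hn))

theorem r0_NE : r0 F ∈ NE K := Subgroup.mem_subgroupOf.2 (x_mem_W (r := 71) (by decide) 1)

theorem le_NE : OutNorm.NE K ≤ NE K := fun _ hn => Subgroup.mem_subgroupOf.2 (V_le_W (Subgroup.mem_subgroupOf.1 hn))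

theorem act_NE {s : ↥(twistedE6 K 2)} (hs : s ∈ SE K) {n : ↥(twistedE6 K 2)} (hn : n ∈ NE K) :
    (MulAut.conj s * sig F) n ∈ NE K := by
  have := F.charP
  refine Subgroup.mem_subgroupOf.2 ?_
  show (s : GL chevE6.Idx K) * mp φ n * (s : GL chevE6.Idx K)⁻¹ ∈ W K
  exact conj_U_W (Subgroup.mem_subgroupOf.1 hs) (mp_W (Subgroup.mem_subgroupOf.1 hn))

theorem tab_zx : ZX 56 53 64 65 ∧ ZX 57 53 67 69 ∧ ZX 42 65 68 69 := by decide +kernel

/-- the group generated by the root involutions of `NE` -/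
abbrev D (K : Type u) [Field K] : Subgroup ↥(twistedE6 K 2) :=
  Subgroup.closure {x | x ∈ rootClass K ∧ x ∈ NE K}

theorem fixed_D {r : Fin 72} (hr : r ∈ l11) (hrr : rho r = r) : ∃ d ∈ D K, (d : GL chevE6.Idx K) = x r.val 1 :=
  ⟨xe F r hrr, Subgroup.subset_closure ⟨xe_T F r hrr, Subgroup.mem_subgroupOf.2 (x_mem_W hr 1)⟩, rfl⟩

theorem fixed_D' {r : Fin 72} (hr : r ∈ l11) (hrr : rho r = r) {t : K} (ht : φ t = t) :
    ∃ d ∈ D K, (d : GL chevE6.Idx K) = x r.val t := by
  rcases zero_or_one F ht with h | h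
  · exact ⟨1, one_mem _, by rw [h, TwE6Basic.x_zero]; rfl⟩
  · rw [h]; exact fixed_D F hr hrr

/-- the pairs -/
theorem pair_D {s r k m : Fin 72} (h : ZX s r k m) (hz : ∀ t, z φ s t ∈ twistedE6 K 2) (hr : r ∈ l11) (hm : m ∈ l11) (hk : k ∈ l11) (hk' : rho k ∈ l11)
    (hrr : rho r = r) (hmm : rho m = m) (t : K) : ∃ d ∈ D K, (d : GL chevE6.Idx K) = z φ k t := by
  have := F.charP
  have e := comm_zx h φ t
  -- `z⁻¹ x z = x w⁻¹`
  let ζ : ↥(twistedE6 K 2) := ⟨z φ s t, hz t⟩
  obtain ⟨d₁, hd₁, e₁⟩ := fixed_D F hr hrr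
  obtain ⟨d₂, hd₂, e₂⟩ := fixed_D' F hm hmm (t := t * φ t) (by rw [map_mul, F.inv, mul_comm])
  have hw : z φ k t * x m.val (t * φ t) ∈ W K :=
    mul_mem (mul_mem (x_mem_W hk _) (x_mem_W hk' _)) (x_mem_W hm _)
  have e3 : (z φ s t)⁻¹ * x r.val 1 * z φ s t = x r.val 1 * (z φ k t * x m.val (t * φ t)) := by
    have e4 : x r.val 1 * z φ s t = z φ s t * x r.val 1 * (z φ k t * x m.val (t * φ t)) := by
      rw [e, mul_assoc _ (z φ k t * _) _, W_sq hw, mul_one]
    calc (z φ s t)⁻¹ * x r.val 1 * z φ s t = (z φ s t)⁻¹ * (x r.val 1 * z φ s t) := by rw [mul_assoc]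
      _ = _ := by rw [e4, mul_assoc, inv_mul_cancel_left]
  have hd₃ : ζ⁻¹ * xe F r hrr * ζ ∈ D K := by
    refine Subgroup.subset_closure ⟨?_, Subgroup.mem_subgroupOf.2 ?_⟩
    · have := conj_T (xe_T F r hrr) ζ⁻¹
      rwa [inv_inv] at this
    · show (z φ s t)⁻¹ * x r.val 1 * z φ s t ∈ W K
      rw [e3]
      exact mul_mem (x_mem_W hr 1) hw
  refine ⟨d₁ * (ζ⁻¹ * xe F r hrr * ζ) * d₂, mul_mem (mul_mem hd₁ hd₃) hd₂, ?_⟩
  show (d₁ : GL chevE6.Idx K) * ((z φ s t)⁻¹ * x r.val 1 * z φ s t) * (d₂ : GL chevE6.Idx K) = _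
  rw [e₁, e₂, e3, ← mul_assoc (x r.val 1), W_sq (x_mem_W hr 1), one_mul, mul_assoc, x_add,
    CharTwo.add_self_eq_zero, TwE6Basic.x_zero, mul_one]

omit [Fintype K] F in
theorem lp_perm [CharP K 2] (t : Fin 72 → K) {L L' : List (Fin 72)} (h : L.Perm L') (hL : ∀ r ∈ L, r ∈ l11) :
    lp t L = lp t L' := by
  refine List.Perm.prod_eq' (h.map _) ?_
  rw [List.pairwise_map, List.pairwise_iff_getElem]
  intro i j hi hj _
  exact W_comm (x_mem_W (hL _ (List.getElem_mem hi)) _) (x_mem_W (hL _ (List.getElem_mem hj)) _)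

theorem D_mul {a b : GL chevE6.Idx K} (ha : ∃ d ∈ D K, (d : GL chevE6.Idx K) = a)
    (hb : ∃ d ∈ D K, (d : GL chevE6.Idx K) = b) : ∃ d ∈ D K, (d : GL chevE6.Idx K) = a * b := by
  obtain ⟨d, hd, rfl⟩ := ha
  obtain ⟨d', hd', rfl⟩ := hb
  exact ⟨d * d', mul_mem hd hd', rfl⟩

/-- **`NE` is generated by its root involutions.** -/
theorem NE_gen : NE K ≤ D K := by
  intro n hn
  have := F.charP
  obtain ⟨t, ht⟩ := W_coords (Subgroup.mem_subgroupOf.1 hn)
  have hnE := n.2
  -- as an element of `U_J`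
  let t' : Fin 72 → K := fun r => if r ∈ [(53 : Fin 72), 54, 55, 64, 65, 66, 67, 68, 69, 70] then t r else 0
  have e1 : FlagK.lp t l11 = FlagK.lp t' l20 * x 71 (t 71) := by
    rw [FlagO.lp_filter t' (fun r => decide (r ∈ [(53 : Fin 72), 54, 55, 64, 65, 66, 67, 68, 69, 70])) l20
      (fun r _ h => if_neg (by simpa using h)),
      show l20.filter (fun r => decide (r ∈ [(53 : Fin 72), 54, 55, 64, 65, 66, 67, 68, 69, 70])) =
        [53, 54, 55, 64, 65, 66, 67, 68, 69, 70] by decide]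
    have e2 : ∀ r ∈ [(53 : Fin 72), 54, 55, 64, 65, 66, 67, 68, 69, 70], t' r = t r := fun r hr => if_pos hr
    have e3 : FlagK.lp t' [53, 54, 55, 64, 65, 66, 67, 68, 69, 70] = FlagK.lp t [53, 54, 55, 64, 65, 66, 67, 68, 69, 70] := by
      unfold FlagK.lp
      rw [List.map_congr_left fun r hr => by rw [e2 r hr]]
    rw [e3]
    show FlagK.lp t [53, 54, 55, 64, 65, 66, 67, 68, 69, 70, 71] = _
    unfold FlagK.lp
    simp only [List.map_cons, List.map_nil, List.prod_cons, List.prod_nil, mul_one, mul_assoc]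
    rfl
  have hE : FlagK.lp t' l20 * x 71 (t 71) ∈ twistedE6 K 2 := by rw [← e1, ← ht]; exact hnE
  have cf : ∀ r : Fin 72, r ∈ [(53 : Fin 72), 65, 69, 70] → φ (t r) = t r := by
    intro r hr
    have tab : ∀ r ∈ [(53 : Fin 72), 65, 69, 70], r ∈ l20 ∧ rho (pt r) = pt r ∧
        r ∈ [(53 : Fin 72), 54, 55, 64, 65, 66, 67, 68, 69, 70] := by decide +kernel
    obtain ⟨h1, h2, h3⟩ := tab r hr
    have := FlagO.coord_fix F hE h1 h2
    simp only [t', if_pos h3] at this
    exact this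
  have cp : ∀ r : Fin 72, r ∈ [(64 : Fin 72), 67, 68] → t (rho r) = φ (t r) := by
    intro r hr
    have tab : ∀ r ∈ [(64 : Fin 72), 67, 68], r ∈ l20 ∧ rho (pt r) ≠ pt r ∧
        r ∈ [(53 : Fin 72), 54, 55, 64, 65, 66, 67, 68, 69, 70] ∧
        rho r ∈ [(53 : Fin 72), 54, 55, 64, 65, 66, 67, 68, 69, 70] := by decide +kernel
    obtain ⟨h1, h2, h3, h4⟩ := tab r hr
    have := FlagO.coord_pair F hE h1 h2
    simp only [t', if_pos h3, if_pos h4] at this
    exact this
  -- the pieces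
  have h56 : ∀ t, z φ 56 t ∈ twistedE6 K 2 := fun t =>
    (Subgroup.mem_inf.1 (z_mem_LL F (by decide +kernel) (by decide +kernel) t)).2
  have h57 : ∀ t, z φ 57 t ∈ twistedE6 K 2 := fun t =>
    (Subgroup.mem_inf.1 (z_mem_LL F (by decide +kernel) (by decide +kernel) t)).2
  have h42 : ∀ t, z φ 42 t ∈ twistedE6 K 2 := fun t =>
    (Subgroup.mem_inf.1 (z_mem_LL F (by decide +kernel) (by decide +kernel) t)).2
  have d64 := pair_D F (tab_zx F).1 h56 (by decide) (by decide) (by decide) (by decide +kernel) (by decide +kernel)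
    (by decide +kernel) (t 64)
  have d67 := pair_D F (tab_zx F).2.1 h57 (by decide) (by decide) (by decide) (by decide +kernel) (by decide +kernel)
    (by decide +kernel) (t 67)
  have d68 := pair_D F (tab_zx F).2.2 h42 (by decide) (by decide) (by decide) (by decide +kernel) (by decide +kernel)
    (by decide +kernel) (t 68)
  have d53 := fixed_D' F (r := 53) (by decide) (by decide +kernel) (cf 53 (by decide))
  have d65 := fixed_D' F (r := 65) (by decide) (by decide +kernel) (cf 65 (by decide))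
  have d69 := fixed_D' F (r := 69) (by decide) (by decide +kernel) (cf 69 (by decide))
  have d70 := fixed_D' F (r := 70) (by decide) (by decide +kernel) (cf 70 (by decide))
  obtain ⟨d, hd, e4⟩ := D_mul F d53 (D_mul F d64 (D_mul F d67 (D_mul F d68 (D_mul F d65 (D_mul F d69 d70)))))
  have e5 : FlagK.lp t l11 = (d : GL chevE6.Idx K) * x 71 (t 71) := by
    rw [e4, lp_perm t (L' := [53, 64, 54, 67, 55, 68, 66, 65, 69, 70, 71]) (by decide) (fun _ h => h)]
    have c64 := cp 64 (by decide)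
    have c67 := cp 67 (by decide)
    have c68 := cp 68 (by decide)
    rw [show rho 64 = 54 by decide +kernel] at c64
    rw [show rho 67 = 55 by decide +kernel] at c67
    rw [show rho 68 = 66 by decide +kernel] at c68
    have z64 : z φ 64 (t 64) = x (64 : Fin 72).val (t 64) * x (54 : Fin 72).val (t 54) := by
      rw [c64]; show x (64 : Fin 72).val (t 64) * x (rho 64).val _ = _
      rw [show rho 64 = 54 by decide +kernel]
    have z67 : z φ 67 (t 67) = x (67 : Fin 72).val (t 67) * x (55 : Fin 72).val (t 55) := by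
      rw [c67]; show x (67 : Fin 72).val (t 67) * x (rho 67).val _ = _
      rw [show rho 67 = 55 by decide +kernel]
    have z68 : z φ 68 (t 68) = x (68 : Fin 72).val (t 68) * x (66 : Fin 72).val (t 66) := by
      rw [c68]; show x (68 : Fin 72).val (t 68) * x (rho 68).val _ = _
      rw [show rho 68 = 66 by decide +kernel]
    rw [z64, z67, z68]
    unfold FlagK.lp
    simp only [List.map_cons, List.map_nil, List.prod_cons, List.prod_nil, mul_one, mul_assoc]
    rfl
  have e6 : x 71 (t 71) ∈ twistedE6 K 2 := by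
    have h1 : (d : GL chevE6.Idx K) * x 71 (t 71) ∈ twistedE6 K 2 := by rw [← e5, ← ht]; exact hnE
    exact ((twistedE6 K 2).mul_mem_cancel_left d.2).1 h1
  obtain ⟨d', hd', e7⟩ := fixed_D' F (r := 71) (by decide) (by decide +kernel) (FlagO.x71_E F e6)
  have : n = d * d' := Subtype.ext (by
    rw [ht, e5, Subgroup.coe_mul, e7]; rfl)
  rw [this]
  exact mul_mem hd hd'

end Four

end Cfsg.Agent.TwoESix.OutRoot
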