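import Cfsg.Agent.TwoESix.FlagInst

/-!
# ²E₆(2): the field automorphism and the last steps of the height filtration

`sig`: the field automorphism of `²E₆(2)`; `V k`: the subgroup generated by the root groups with index at least `k`
(`k = 64, 67, 69`: heights at least 7, 8, 9).
-/

set_option autoImplicit false
set_option linter.unusedSectionVars false

namespace Cfsg.Agent.TwoESix.OutSig

open Cfsg.Lie
open Cfsg.Agent.ChevalleyStructure
open Cfsg.Agent.ChevalleyStructure.Elts hiding x_add x_zero x_eq_one_iff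
open Cfsg.Agent.ChevalleyStructure.TwE6Basic
open Cfsg.Agent.ChevalleyStructure.TwE6BN
open Cfsg.Agent.TwoESix.LeviA
open Cfsg.Agent.TwoESix.LeviB
open Cfsg.Agent.TwoESix.LeviC
open Cfsg.Agent.TwoESix.LeviD
open Cfsg.Agent.TwoESix.LongPairs
open Cfsg.Agent.TwoESix.LongCard
open Cfsg.Agent.TwoESix.FlagH
open Cfsg.Agent.TwoESix.FlagI
open Cfsg.Agent.TwoESix.FlagK
open Cfsg.Agent.TwoESix.FlagL
open Cfsg.Agent.BabyU (rootClass)

open scoped commutatorElement Pointwise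

universe u

variable {K : Type u} [Field K]

/-! ### The field automorphism -/

/-- entrywise application of `φ` -/
abbrev mp (φ : K →+* K) : GL chevE6.Idx K →* GL chevE6.Idx K := Matrix.GeneralLinearGroup.map φ

theorem mp_x (φ : K →+* K) (r : ℕ) (t : K) : mp φ (x r t) = x r (φ t) := by
  apply Units.ext
  show ((Matrix.GeneralLinearGroup.map φ (x r t) : GL chevE6.Idx K) : Matrix chevE6.Idx chevE6.Idx K) =
    chevE6.x K r (φ t)
  rw [← Cfsg.Agent.ChevStructure.FieldMap.x_map chevE6 φ r t]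
  rfl

theorem mp_mp {φ : K →+* K} (hφ : ∀ t, φ (φ t) = t) (g : GL chevE6.Idx K) : mp φ (mp φ g) = g := by
  apply Units.ext
  ext i j
  exact hφ _

theorem mp_mem_E {φ : K →+* K} {g : GL chevE6.Idx K} (hg : g ∈ twistedE6 K 2) : mp φ g ∈ twistedE6 K 2 := by
  have key : twistedE6 K 2 ≤ (twistedE6 K 2).comap (mp φ) := by
    rw [twisted_le_iff]
    constructor
    · intro t ht r hr
      rw [Subgroup.mem_comap, mp_x]
      exact single_mem (by rw [← map_pow, ht]) hr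
    · intro t rs hrs
      rw [Subgroup.mem_comap, map_mul, mp_x, mp_x, map_pow]
      exact pair_mem (φ t) hrs
  exact key hg

/-- the field automorphism -/
def sig [Fintype K] {φ : K →+* K} (F : Four K φ) : MulAut ↥(twistedE6 K 2) where
  toFun g := ⟨mp φ g, mp_mem_E g.2⟩
  invFun g := ⟨mp φ g, mp_mem_E g.2⟩
  left_inv _ := Subtype.ext (mp_mp F.inv _)
  right_inv _ := Subtype.ext (mp_mp F.inv _)
  map_mul' _ _ := Subtype.ext (map_mul _ _ _)

theorem sig_val [Fintype K] {φ : K →+* K} (F : Four K φ) (g : ↥(twistedE6 K 2)) :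
    (sig F g : GL chevE6.Idx K) = mp φ g := rfl

theorem sig_sig [Fintype K] {φ : K →+* K} (F : Four K φ) (g : ↥(twistedE6 K 2)) : sig F (sig F g) = g :=
  Subtype.ext (mp_mp F.inv _)

theorem mp_z (φ : K →+* K) (r : Fin 72) (t : K) : mp φ (z φ r t) = z φ r (φ t) := by
  show mp φ (x r.val t * x (rho r).val (φ t)) = x r.val (φ t) * x (rho r).val (φ (φ t))
  rw [map_mul, mp_x, mp_x]

theorem mp_U {φ : K →+* K} {g : GL chevE6.Idx K} (hg : g ∈ chevE6.posUnipotent K) :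
    mp φ g ∈ chevE6.posUnipotent K := by
  have key : chevE6.posUnipotent K ≤ (chevE6.posUnipotent K).comap (mp φ) := by
    rw [posUnipotent_le_iff hE6]
    intro r hr t
    have hlt : r < 72 := hr.1
    have h36 := (pos_iff ⟨r, hlt⟩).1 hr
    rw [Subgroup.mem_comap, mp_x]
    exact mem_U (r := ⟨r, hlt⟩) h36 _
  exact key hg

theorem sig_SE [Fintype K] {φ : K →+* K} (F : Four K φ) {g : ↥(twistedE6 K 2)} (hg : g ∈ SE K) :
    sig F g ∈ SE K :=
  Subgroup.mem_subgroupOf.2 (mp_U (Subgroup.mem_subgroupOf.1 hg))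

/-! ### The end of the height filtration -/

/-- the heights, for the positive roots of height at least 7; `1` for the other positive roots -/
def ht (r : ℕ) : ℕ :=
  if r = 71 then 11 else if r = 70 then 10 else if r = 69 then 9 else if r = 66 then 8 else if r = 68 then 8 else
  if r = 55 then 7 else if r = 65 then 7 else if r = 67 then 7 else if r < 36 then 0 else 1

theorem ht_pos : ∀ r : Fin 72, 1 ≤ ht r.val ↔ 36 ≤ r.val := by decide

/-- the root groups of height at least `k` -/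
def V (K : Type u) [Field K] (k : ℕ) : Subgroup (GL chevE6.Idx K) :=
  Subgroup.closure {g | ∃ r : Fin 72, k ≤ ht r.val ∧ ∃ t : K, g = x r.val t}

theorem x_mem_V {k : ℕ} {r : Fin 72} (h : k ≤ ht r.val) (t : K) : x r.val t ∈ V K k :=
  Subgroup.subset_closure ⟨r, h, t, rfl⟩

theorem V_le {k : ℕ} {M : Subgroup (GL chevE6.Idx K)} (h : ∀ r : Fin 72, k ≤ ht r.val → ∀ t : K, x r.val t ∈ M) :
    V K k ≤ M :=
  (Subgroup.closure_le _).2 (by rintro g ⟨r, hr, t, rfl⟩; exact h r hr t)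

theorem V_mono {k l : ℕ} (h : k ≤ l) : V K l ≤ V K k := V_le fun _ hr t => x_mem_V (h.trans hr) t

theorem mp_V {φ : K →+* K} {k : ℕ} {g : GL chevE6.Idx K} (hg : g ∈ V K k) : mp φ g ∈ V K k := by
  have key : V K k ≤ (V K k).comap (mp φ) := V_le fun r hr t => by
    rw [Subgroup.mem_comap, mp_x]
    exact x_mem_V hr _
  exact key hg

theorem tab_V : ∀ r s : Fin 72, 36 ≤ r.val → 7 ≤ ht s.val → s ≠ r → s.val ≠ chevE6.neg r.val ∧
    (chevE6.commTerms r.val s.val = [] ∨ ∃ m : Fin 72, ht s.val + 1 ≤ ht m.val ∧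
      (chevE6.commTerms r.val s.val = [(m.val, 1, 1, 1)] ∨ chevE6.commTerms r.val s.val = [(m.val, -1, 1, 1)])) := by
  decide +kernel

theorem tab_VV : ∀ r s : Fin 72, 7 ≤ ht r.val → 7 ≤ ht s.val → s ≠ r → Co r s := by decide +kernel

section Gen

variable {G : Type*} [Group G]

theorem comm_closure {A B : Set G} {W : Subgroup G} (hA : ∀ a ∈ A, ∀ w ∈ W, a * w * a⁻¹ ∈ W)
    (hA' : ∀ a ∈ A, a⁻¹ ∈ A) (hB : ∀ b ∈ B, ∀ w ∈ W, b * w * b⁻¹ ∈ W) (hB' : ∀ b ∈ B, b⁻¹ ∈ B)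
    (h : ∀ a ∈ A, ∀ b ∈ B, ⁅a, b⁆ ∈ W) : ∀ a ∈ Subgroup.closure A, ∀ b ∈ Subgroup.closure B, ⁅a, b⁆ ∈ W := by
  let NW : Subgroup G :=
    { carrier := {g | (∀ w ∈ W, g * w * g⁻¹ ∈ W) ∧ ∀ w ∈ W, g⁻¹ * w * g ∈ W}
      one_mem' := ⟨fun w hw => by simpa using hw, fun w hw => by simpa using hw⟩
      mul_mem' := by
        rintro a b ⟨h1, h2⟩ ⟨h3, h4⟩
        refine ⟨fun w hw => ?_, fun w hw => ?_⟩
        · have := h1 _ (h3 w hw)
          rwa [show a * (b * w * b⁻¹) * a⁻¹ = a * b * w * (a * b)⁻¹ by group] at this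
        · have := h4 _ (h2 w hw)
          rwa [show b⁻¹ * (a⁻¹ * w * a) * b = (a * b)⁻¹ * w * (a * b) by group] at this
      inv_mem' := by
        rintro a ⟨h1, h2⟩
        exact ⟨fun w hw => by simpa using h2 w hw, fun w hw => by simpa using h1 w hw⟩ }
  have hAN : A ⊆ NW := fun a ha => ⟨hA a ha, fun w hw => by simpa using hA _ (hA' a ha) w hw⟩
  have hBN : B ⊆ NW := fun a ha => ⟨hB a ha, fun w hw => by simpa using hB _ (hB' a ha) w hw⟩
  have step1 : ∀ a ∈ A, ∀ b ∈ Subgroup.closure B, b ∈ NW ∧ ⁅a, b⁆ ∈ W := by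
    intro a ha b hb
    induction hb using Subgroup.closure_induction with
    | mem b hb => exact ⟨hBN hb, h a ha b hb⟩
    | one => exact ⟨one_mem _, by rw [commutatorElement_one_right]; exact one_mem _⟩
    | mul b c _ _ ihb ihc =>
      refine ⟨mul_mem ihb.1 ihc.1, ?_⟩
      have e : ⁅a, b * c⁆ = ⁅a, b⁆ * (b * ⁅a, c⁆ * b⁻¹) := by simp only [commutatorElement_def]; group
      rw [e]
      exact mul_mem ihb.2 (ihb.1.1 _ ihc.2)
    | inv b _ ihb =>
      refine ⟨inv_mem ihb.1, ?_⟩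
      have e : ⁅a, b⁻¹⁆ = b⁻¹ * ⁅a, b⁆⁻¹ * b := by simp only [commutatorElement_def]; group
      rw [e]
      exact ihb.1.2 _ (inv_mem ihb.2)
  intro a ha b hb
  have : a ∈ NW ∧ ⁅a, b⁆ ∈ W := by
    induction ha using Subgroup.closure_induction with
    | mem a ha => exact ⟨hAN ha, (step1 a ha b hb).2⟩
    | one => exact ⟨one_mem _, by rw [commutatorElement_one_left]; exact one_mem _⟩
    | mul a c _ _ iha ihc =>
      refine ⟨mul_mem iha.1 ihc.1, ?_⟩
      have e : ⁅a * c, b⁆ = a * ⁅c, b⁆ * a⁻¹ * ⁅a, b⁆ := by simp only [commutatorElement_def]; group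
      rw [e]
      exact mul_mem (iha.1.1 _ ihc.2) iha.2
    | inv a _ iha =>
      refine ⟨inv_mem iha.1, ?_⟩
      have e : ⁅a⁻¹, b⁆ = a⁻¹ * ⁅a, b⁆⁻¹ * a := by simp only [commutatorElement_def]; group
      rw [e]
      exact iha.1.2 _ (inv_mem iha.2)
  exact this.2

end Gen

/-- root elements of positive roots -/
def P (K : Type u) [Field K] (k : ℕ) : Set (GL chevE6.Idx K) :=
  {g | ∃ r : Fin 72, k ≤ ht r.val ∧ ∃ t : K, g = x r.val t}

theorem P_inv {k : ℕ} {g : GL chevE6.Idx K} (h : g ∈ P K k) : g⁻¹ ∈ P K k := by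
  obtain ⟨r, hr, t, rfl⟩ := h
  exact ⟨r, hr, -t, x_inv _ _⟩

theorem U_le_P : chevE6.posUnipotent K ≤ Subgroup.closure (P K 1) := by
  rw [posUnipotent_le_iff hE6]
  intro r hr t
  have hlt : r < 72 := hr.1
  exact Subgroup.subset_closure ⟨⟨r, hlt⟩, (ht_pos ⟨r, hlt⟩).2 ((pos_iff ⟨r, hlt⟩).1 hr), t, rfl⟩

section Two

variable [CharP K 2]

theorem comm_PV {r s : Fin 72} (hr : 1 ≤ ht r.val) (hs : 7 ≤ ht s.val) (t u : K) :
    ∃ c ∈ V K (ht s.val + 1), x s.val u * x r.val t = x r.val t * x s.val u * c := by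
  by_cases hsr : s = r
  · subst hsr
    exact ⟨1, one_mem _, by rw [mul_one, x_add, x_add, add_comm]⟩
  · obtain ⟨h1, h2 | ⟨m, hm, h2⟩⟩ := tab_V r s ((ht_pos r).1 hr) hs hsr
    · exact ⟨1, one_mem _, by
        rw [mul_one]; exact comm_of_commTerms (K := K) r.2 s.2 (fun h => hsr (Fin.ext h)) h1 h2 t u⟩
    · exact ⟨x m.val (t * u), x_mem_V hm _, Si.eq ⟨fun h => hsr (Fin.ext h), h1, h2⟩ t u⟩

theorem conj_PV {r s : Fin 72} (hr : 1 ≤ ht r.val) (hs : 7 ≤ ht s.val) (t u : K) :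
    ∃ c ∈ V K (ht s.val + 1), x r.val t * x s.val u * (x r.val t)⁻¹ = x s.val u * c := by
  obtain ⟨c, hc, e⟩ := comm_PV hr hs (-t) u
  refine ⟨c, hc, ?_⟩
  rw [x_inv, mul_assoc, e, ← mul_assoc, ← mul_assoc, x_add, add_neg_cancel, TwE6Basic.x_zero, one_mul]

theorem conj_P_V {k : ℕ} (hk : 7 ≤ k) {g w : GL chevE6.Idx K} (hg : g ∈ P K 1) (hw : w ∈ V K k) :
    g * w * g⁻¹ ∈ V K k := by
  obtain ⟨r, hr, t, rfl⟩ := hg
  have key : V K k ≤ (V K k).comap (MulAut.conj (x r.val t)).toMonoidHom := V_le fun s hs u => by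
    obtain ⟨c, hc, e⟩ := conj_PV hr (hk.trans hs) t u
    show x r.val t * x s.val u * (x r.val t)⁻¹ ∈ V K k
    rw [e]
    exact mul_mem (x_mem_V hs u) (V_mono (hs.trans (Nat.le_succ _)) hc)
  exact key hw

/-- **`⁅U, V k⁆ ≤ V (k + 1)`.** -/
theorem comm_U_V {k : ℕ} (hk : 7 ≤ k) {g w : GL chevE6.Idx K} (hg : g ∈ chevE6.posUnipotent K)
    (hw : w ∈ V K k) : ⁅g, w⁆ ∈ V K (k + 1) := by
  have hP : ∀ {l : ℕ}, 1 ≤ l → P K l ⊆ P K 1 := by
    rintro l hl _ ⟨r, hr, t, rfl⟩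
    exact ⟨r, hl.trans hr, t, rfl⟩
  refine comm_closure (A := P K 1) (B := P K k) (fun a ha w hw => conj_P_V (by omega) ha hw)
    (fun a ha => P_inv ha) (fun a ha w hw => conj_P_V (by omega) (hP (by omega) ha) hw) (fun a ha => P_inv ha)
    ?_ g (U_le_P hg) w hw
  rintro _ ⟨r, hr, t, rfl⟩ _ ⟨s, hs, u, rfl⟩
  obtain ⟨c, hc, e⟩ := conj_PV hr (hk.trans hs) t u
  rw [commutatorElement_def, e]
  exact conj_P_V (by omega) ⟨s, by omega, u, rfl⟩ (V_mono (Nat.succ_le_succ hs) hc)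

/-- `V 7` is abelian -/
theorem V_comm {g h : GL chevE6.Idx K} (hg : g ∈ V K 7) (hh : h ∈ V K 7) : g * h = h * g := by
  have h1 : V K 7 ≤ Subgroup.centralizer (P K 7) := V_le fun r hr t => by
    rw [Subgroup.mem_centralizer_iff]
    rintro _ ⟨s, hs, u, rfl⟩
    by_cases hsr : s = r
    · rw [hsr, x_add, x_add, add_comm]
    · exact (tab_VV r s hr hs hsr).eq t u
  have h2 : V K 7 ≤ Subgroup.centralizer ({g} : Set (GL chevE6.Idx K)) := by
    refine (Subgroup.closure_le _).2 ?_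
    intro w hw
    rw [SetLike.mem_coe, Subgroup.mem_centralizer_iff]
    rintro _ rfl
    exact ((Subgroup.mem_centralizer_iff.1 (h1 hg)) w hw).symm
  exact (Subgroup.mem_centralizer_iff.1 (h2 hh)) g rfl

/-- `V 7` is elementary abelian -/
theorem V_sq {g : GL chevE6.Idx K} (hg : g ∈ V K 7) : g * g = 1 := by
  have hg' := hg
  unfold V at hg
  induction hg using Subgroup.closure_induction with
  | mem g h =>
    obtain ⟨r, -, t, rfl⟩ := h
    rw [x_add, CharTwo.add_self_eq_zero, TwE6Basic.x_zero]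
  | one => exact one_mul 1
  | mul a b ha hb iha ihb =>
    have hab := V_comm ha hb
    calc a * b * (a * b) = a * (b * a) * b := by group
      _ = (a * a) * (b * b) := by rw [← hab]; group
      _ = 1 := by rw [iha ha, ihb hb, mul_one]
  | inv a ha iha =>
    rw [← mul_inv_rev, iha ha, inv_one]

theorem V_le_UR {k : ℕ} (hk : 7 ≤ k) : V K k ≤ UR K Jn := V_le fun r hr t => by
  have tab : ∀ r : Fin 72, 7 ≤ ht r.val → 36 ≤ r.val ∧ ¬ chevE6.InRootSub {j | j ∈ Jn} r.val := by decide +kernel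
  exact x_mem_UR (tab r (hk.trans hr)).1 (tab r (hk.trans hr)).2 t

/-- root elements of height `h` commute with `V (12 - h)` -/
theorem V_comm_x {k : ℕ} {q : Fin 72} (h : ∀ r : Fin 72, k ≤ ht r.val → r = q ∨ Co r q) {g : GL chevE6.Idx K}
    (hg : g ∈ V K k) (u : K) : x q.val u * g = g * x q.val u := by
  have h1 : V K k ≤ Subgroup.centralizer {x q.val u} := V_le fun r hr t => by
    rw [Subgroup.mem_centralizer_iff]
    rintro _ rfl
    rcases h r hr with rfl | h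
    · rw [x_add, x_add, add_comm]
    · exact h.eq t u
  exact (Subgroup.mem_centralizer_iff.1 (h1 hg)) _ rfl

end Two

end Cfsg.Agent.TwoESix.OutSig
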