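import Cfsg.Agent.TwoESix.SheetA
import Cfsg.Agent.ChevalleyStructure.WordEntry

/-!
# The field automorphism of `²E₆(2)`

`fr f` is the map `x_r(t) ↦ x_r(f t)` of the general linear group; for `f = (t ↦ t²)` it induces an automorphism
of order 2 of `²E₆(2)` fixing the root elements `x_r(1)`, not inner on `P = C_E(r0)` (`exists_field`).
-/

set_option autoImplicit false
set_option linter.unusedSectionVars false
set_option linter.unusedVariables false

namespace Cfsg.Agent.TwoESix.SheetC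

open Cfsg Cfsg.Lie
open Cfsg.Agent.ChevalleyStructure
open Cfsg.Agent.ChevalleyStructure.Elts hiding x_add x_zero x_eq_one_iff
open Cfsg.Agent.ChevalleyStructure.TwE6Basic
open Cfsg.Agent.ChevalleyStructure.TwE6BN
open Cfsg.Agent.TwoESix.LeviA
open Cfsg.Agent.TwoESix.LeviB
open Cfsg.Agent.TwoESix.LeviC
open Cfsg.Agent.TwoESix.LeviD
open Cfsg.Agent.TwoESix.LongPairs
open Cfsg.Agent.TwoESix.LongCard
open Cfsg.Agent.TwoESix.FlagH
open Cfsg.Agent.TwoESix.FlagI
open Cfsg.Agent.TwoESix.KeyExtra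
open Cfsg.Agent.TwoESix.SheetA
open Cfsg.Agent.BabyU (rootClass)

universe u

variable {K : Type u} [Field K]

/-- the map induced by an endomorphism of the field -/
noncomputable def fr (f : K →+* K) : GL chevE6.Idx K →* GL chevE6.Idx K := Matrix.GeneralLinearGroup.map f

theorem fr_x (f : K →+* K) (r : ℕ) (t : K) : fr f (x r t) = x r (f t) := by
  apply Units.ext
  show ((x r t : GL chevE6.Idx K) : Matrix chevE6.Idx chevE6.Idx K).map f = _
  rw [coe_xG, coe_xG]
  exact WordEntry.x_map chevE6 f r t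

theorem fr_fr {f : K →+* K} (hf : ∀ t, f (f t) = t) (g : GL chevE6.Idx K) : fr f (fr f g) = g := by
  apply Units.ext
  ext i j
  exact hf _

theorem fr_U (f : K →+* K) {g : GL chevE6.Idx K} (hg : g ∈ chevE6.posUnipotent K) :
    fr f g ∈ chevE6.posUnipotent K := by
  have key : chevE6.posUnipotent K ≤ (chevE6.posUnipotent K).comap (fr f) := by
    rw [posUnipotent_le_iff hE6]
    intro r hr t
    have hlt : r < 72 := hr.1
    show fr f (x (⟨r, hlt⟩ : Fin 72).val t) ∈ chevE6.posUnipotent K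
    rw [fr_x]
    exact mem_U ((pos_iff ⟨r, hlt⟩).1 hr) _
  exact key hg

/-! ### The quotient of `U` on the roots `56, 36` -/

/-- `⟨x_56(t), x_36(t)⟩` -/
def A2 (K : Type u) [Field K] : Subgroup (GL chevE6.Idx K) :=
  Subgroup.closure {g | ∃ t : K, g = x 56 t ∨ g = x 36 t}

theorem comm56_36 (t u : K) : x 36 u * x 56 t = x 56 t * x 36 u :=
  comm_class (i := 3) (by decide) (by decide) (by norm_num) (by decide +kernel) t u

theorem comm_same (r : ℕ) (t u : K) : x r t * x r u = x r u * x r t := by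
  rw [x_add, x_add, add_comm]

theorem A2_comm {a b : GL chevE6.Idx K} (ha : a ∈ A2 K) (hb : b ∈ A2 K) : a * b = b * a := by
  have hgen : ∀ g ∈ {g : GL chevE6.Idx K | ∃ t : K, g = x 56 t ∨ g = x 36 t},
      ∀ h ∈ {g : GL chevE6.Idx K | ∃ t : K, g = x 56 t ∨ g = x 36 t}, g * h = h * g := by
    rintro g ⟨t, rfl | rfl⟩ h ⟨u, rfl | rfl⟩
    · exact comm_same _ _ _
    · exact (comm56_36 t u).symm
    · exact comm56_36 u t
    · exact comm_same _ _ _
  have h1 : ∀ g ∈ {g : GL chevE6.Idx K | ∃ t : K, g = x 56 t ∨ g = x 36 t}, ∀ b ∈ A2 K, g * b = b * g := by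
    intro g hg b hb
    induction hb using Subgroup.closure_induction with
    | mem b hb => exact hgen g hg b hb
    | one => rw [mul_one, one_mul]
    | mul b c _ _ h1 h2 => rw [← mul_assoc, h1, mul_assoc, h2, mul_assoc]
    | inv b _ h1 => exact ((Commute.inv_right (show Commute g b from h1)))
  induction ha using Subgroup.closure_induction with
  | mem a ha => exact h1 a ha b hb
  | one => rw [mul_one, one_mul]
  | mul a c _ _ h1 h2 => rw [mul_assoc, h2, ← mul_assoc, h1, mul_assoc]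
  | inv a _ h1 => exact ((Commute.inv_left (show Commute a b from h1)))

theorem pos_J3 : ∀ r : Fin 72, 36 ≤ r.val → chevE6.InRootSub {j | j ∈ J 3} r.val → r.val = 56 ∨ r.val = 36 := by
  decide +kernel

theorem J3_56 : chevE6.InRootSub {j | j ∈ J 3} 56 := by decide +kernel
theorem J3_36 : chevE6.InRootSub {j | j ∈ J 3} 36 := by decide +kernel

theorem U_le_PR {J : List ℕ} {g : GL chevE6.Idx K} (hg : g ∈ chevE6.posUnipotent K) : g ∈ PR K J :=
  B_le_PR ((le_sup_left : chevE6.posUnipotent K ≤ chevE6.borelSubgroup K) hg)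

/-- the component in `L_J`, `J = {0, 5}`, of an element of `U` lies in `A2` -/
theorem lv_U {g : GL chevE6.Idx K} (hg : g ∈ chevE6.posUnipotent K) : lv (J 3) g ∈ A2 K := by
  let M : Subgroup (GL chevE6.Idx K) :=
    { carrier := {g | g ∈ PR K (J 3) ∧ lv (J 3) g ∈ A2 K}
      one_mem' := ⟨one_mem _, by rw [lv_of_UR (one_mem _)]; exact one_mem _⟩
      mul_mem' := fun {a b} ha hb => ⟨mul_mem ha.1 hb.1, by rw [lv_mul ha.1 hb.1]; exact mul_mem ha.2 hb.2⟩
      inv_mem' := fun {a} ha => ⟨inv_mem ha.1, by rw [lv_inv ha.1]; exact inv_mem ha.2⟩ }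
  have key : chevE6.posUnipotent K ≤ M := by
    rw [posUnipotent_le_iff hE6]
    intro r hr t
    have hlt : r < 72 := hr.1
    have h36 : 36 ≤ (⟨r, hlt⟩ : Fin 72).val := (pos_iff ⟨r, hlt⟩).1 hr
    refine ⟨U_le_PR (mem_U (r := ⟨r, hlt⟩) h36 t), ?_⟩
    by_cases hJ : chevE6.InRootSub {j | j ∈ J 3} r
    · have h1 : lv (J 3) (x r t) = x r t := lv_of_LR (x_mem_LR hJ t)
      rw [h1]
      rcases pos_J3 ⟨r, hlt⟩ h36 hJ with h | h
      · have h' : r = 56 := h
        subst h'
        exact Subgroup.subset_closure ⟨t, Or.inl rfl⟩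
      · have h' : r = 36 := h
        subst h'
        exact Subgroup.subset_closure ⟨t, Or.inr rfl⟩
    · have h1 : lv (J 3) (x r t) = 1 := lv_of_UR (x_mem_UR (r := ⟨r, hlt⟩) h36 hJ t)
      rw [h1]
      exact one_mem _
  exact (key hg).2

/-- `u ∈ U` cannot move `x_56(t) x_36(t')` to a different element of this form. -/
theorem rigid {u a b : GL chevE6.Idx K} (hu : u ∈ chevE6.posUnipotent K) (ha : a ∈ LR K (J 3))
    (haU : a ∈ chevE6.posUnipotent K) (hb : b ∈ LR K (J 3)) (hbU : b ∈ chevE6.posUnipotent K)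
    (h : b = u * a * u⁻¹) : b = a := by
  have h1 : lv (J 3) b = lv (J 3) u * lv (J 3) a * (lv (J 3) u)⁻¹ := by
    rw [h, lv_mul (mul_mem (U_le_PR hu) (U_le_PR haU)) (inv_mem (U_le_PR hu)),
      lv_mul (U_le_PR hu) (U_le_PR haU), lv_inv (U_le_PR hu)]
  have h2 : lv (J 3) u * lv (J 3) a = lv (J 3) a * lv (J 3) u := A2_comm (lv_U hu) (lv_U haU)
  rw [h2, mul_inv_cancel_right, lv_of_LR hb, lv_of_LR ha] at h1
  exact h1

/-- uniqueness of the coordinates -/
theorem coord {t u : K} (h : x 56 t * x 36 (t ^ 2) = x 56 u * x 36 (u ^ 2)) : t = u := by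
  have h1 : x 56 (t - u) = x 36 (u ^ 2 - t ^ 2) := by
    have e1 : x 56 (-u) * (x 56 t * x 36 (t ^ 2)) * x 36 (-t ^ 2) =
        x 56 (-u) * (x 56 u * x 36 (u ^ 2)) * x 36 (-t ^ 2) := by rw [h]
    have e2 : x 56 (-u) * (x 56 t * x 36 (t ^ 2)) * x 36 (-t ^ 2) = x 56 (t - u) := by
      rw [← mul_assoc, mul_assoc, x_add, x_add, ← sub_eq_add_neg, sub_self, x_zero, mul_one,
        sub_eq_add_neg, add_comm]
    have e3 : x 56 (-u) * (x 56 u * x 36 (u ^ 2)) * x 36 (-t ^ 2) = x 36 (u ^ 2 - t ^ 2) := by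
      rw [← mul_assoc, mul_assoc, x_add, x_add, neg_add_cancel, x_zero, one_mul, ← sub_eq_add_neg]
    rw [← e2, e1, e3]
  by_contra hne
  have hne' : t - u ≠ 0 := sub_ne_zero.2 hne
  have l56 : 56 < chevE6.nroots := show 56 < 72 by norm_num
  have l36 : 36 < chevE6.nroots := show 36 < 72 by norm_num
  have h2 := congrArg (fun g : GL chevE6.Idx K => (g : Matrix chevE6.Idx chevE6.Idx K) (Sum.inr ⟨56, l56⟩)
    (Sum.inr ⟨chevE6.neg 56, NPerm.neg_lt hE6 l56⟩)) h1
  simp only [coe_xG] at h2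
  rw [NPerm.x_entry_self hE6 l56, NPerm.x_entry_ne hE6 l56 l36 (by norm_num)] at h2
  exact hne' (by simpa using h2)

section Four

variable [Fintype K] {φ : K →+* K} (F : Four K φ)
include F

theorem fr_mem {g : GL chevE6.Idx K} (hg : g ∈ twistedE6 K 2) : fr φ g ∈ twistedE6 K 2 := by
  have key : twistedE6 K 2 ≤ (twistedE6 K 2).comap (fr φ) := by
    rw [twisted_le_iff]
    constructor
    · intro t ht r hr
      show fr φ (x r t) ∈ twistedE6 K 2
      rw [fr_x, F.sq, ht]
      exact single_mem ht hr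
    · intro t rs hrs
      show fr φ (x rs.1 t * x rs.2 (t ^ 2)) ∈ twistedE6 K 2
      rw [map_mul, fr_x, fr_x, map_pow]
      exact pair_mem _ hrs
  exact key hg

/-- the field automorphism of `²E₆(2)` -/
noncomputable def fE : MulAut ↥(twistedE6 K 2) where
  toFun g := ⟨fr φ g, fr_mem F g.2⟩
  invFun g := ⟨fr φ g, fr_mem F g.2⟩
  left_inv g := Subtype.ext (fr_fr F.inv _)
  right_inv g := Subtype.ext (fr_fr F.inv _)
  map_mul' a b := Subtype.ext (map_mul (fr φ) _ _)

theorem fE_apply (g : ↥(twistedE6 K 2)) : ((fE F g : ↥(twistedE6 K 2)) : GL chevE6.Idx K) = fr φ g := rfl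

theorem fE_fE (g : ↥(twistedE6 K 2)) : fE F (fE F g) = g := Subtype.ext (fr_fr F.inv _)

theorem fE_xe (r : Fin 72) (hr : rho r = r) : fE F (xe F r hr) = xe F r hr := by
  apply Subtype.ext
  rw [fE_apply]
  show fr φ (x r.val 1) = x r.val 1
  rw [fr_x, map_one]

theorem fE_r0 : fE F (r0 F) = r0 F := by
  apply Subtype.ext
  rw [fE_apply]
  show fr φ (x 71 1) = x 71 1
  rw [fr_x, map_one]

theorem exists_omega : ∃ t : K, φ t ≠ t := by
  by_contra h
  push Not at h
  classical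
  have h1 : (Finset.univ : Finset K) ⊆ {0, 1} := by
    intro t _
    by_cases h0 : t = 0
    · simp [h0]
    · simp [F.eq_one h0 (h t)]
  have h2 := Finset.card_le_card h1
  rw [Finset.card_univ, F.card] at h2
  have h3 : ({0, 1} : Finset K).card ≤ 2 := Finset.card_le_two
  omega

/-- **The field automorphism**: it fixes `r0` and `x_60(1)` and is not inner on `C_E(r0)`. -/
theorem exists_field : ∃ β : MulAut ↥(twistedE6 K 2), β (r0 F) = r0 F ∧
    β (xe F 60 (by decide +kernel)) = xe F 60 (by decide +kernel) ∧ β * β = 1 ∧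
    ∀ p : ↥(twistedE6 K 2), p * r0 F = r0 F * p → ¬ ∀ x, x * r0 F = r0 F * x → β x = p * x * p⁻¹ := by
  have := F.charP
  have := finite_E (K := K)
  refine ⟨fE F, fE_r0 F, fE_xe F 60 _, MulEquiv.ext fun g => fE_fE F g, ?_⟩
  intro p hp h
  have hconj : ∀ y, y * r0 F = r0 F * y → (p * y * p⁻¹) * r0 F = r0 F * (p * y * p⁻¹) := by
    intro y hy
    have hp' : p⁻¹ * r0 F = r0 F * p⁻¹ := by
      rw [inv_mul_eq_iff_eq_mul, ← mul_assoc, hp, mul_assoc, mul_inv_cancel, mul_one]
    rw [mul_assoc, hp', mul_assoc, ← mul_assoc y, hy, ← mul_assoc, ← mul_assoc, hp]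
    group
  have hpp' : ∀ y, y * r0 F = r0 F * y → p * p * y * (p * p)⁻¹ = y := by
    intro y hy
    have h1 := h _ (hconj y hy)
    rw [← h y hy, fE_fE] at h1
    rw [h y hy] at h1
    calc p * p * y * (p * p)⁻¹ = p * (p * y * p⁻¹) * p⁻¹ := by group
      _ = y := h1.symm
  have hpp : p * p = 1 ∨ p * p = r0 F := by
    have h1 : ∀ q ∈ RE K, p * p * q = q * (p * p) := fun q hq =>
      mul_inv_eq_iff_eq_mul.1 (hpp' q (RE_comm_r0 F hq))
    exact center_RE F (self_RE F _ h1) h1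
  have hppS : p * p ∈ SE K := by
    rcases hpp with h1 | h1
    · rw [h1]; exact one_mem _
    · rw [h1]; exact R_le F (r0_mem_RE F)
  have hSE : ∀ s ∈ SE K, fE F s ∈ SE K := fun s hs => fr_U φ hs
  have hS1 : ∀ s ∈ SE K, p * s * p⁻¹ ∈ SE K := fun s hs => by
    rw [← h s (S_cent F s hs)]
    exact hSE s hs
  have hpS : p ∈ SE K := by
    have hodd := S_odd F
    have hfact : Fact (Nat.Prime 2) := ⟨Nat.prime_two⟩
    let S : Sylow 2 ↥(twistedE6 K 2) := (S_two F).toSylow hodd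
    have hZ : IsPGroup 2 (Subgroup.zpowers p) := by
      rintro ⟨g, n, rfl⟩
      refine ⟨2, Subtype.ext ?_⟩
      show (p ^ n) ^ (2 ^ 2) = 1
      have h4 : p ^ 4 = 1 := by
        have : p ^ 4 = p * p * (p * p) := by rw [pow_succ, pow_succ, pow_two]; group
        rw [this]
        rcases hpp with h1 | h1
        · rw [h1, mul_one]
        · rw [h1, r0_sq' F]
      rw [← zpow_natCast, ← zpow_mul, mul_comm, zpow_mul]
      have : p ^ ((2 ^ 2 : ℕ) : ℤ) = 1 := by
        rw [zpow_natCast]; exact h4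
      rw [this, one_zpow]
    have h1 := hZ.inf_normalizer_sylow S
    have hn : p ∈ Subgroup.normalizer (S : Set ↥(twistedE6 K 2)) := by
      have hiff : ∀ s : ↥(twistedE6 K 2), s ∈ SE K ↔ p * s * p⁻¹ ∈ SE K := by
       intro s
       constructor
       · exact hS1 s
       · intro hs
         have h2 := hS1 _ hs
         have h3 : (p * p)⁻¹ * (p * (p * s * p⁻¹) * p⁻¹) * (p * p) ∈ SE K :=
           mul_mem (mul_mem (inv_mem hppS) h2) hppS
         have h4 : (p * p)⁻¹ * (p * (p * s * p⁻¹) * p⁻¹) * (p * p) = s := by group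
         rw [h4] at h3
         exact h3
      exact (Subgroup.mem_normalizer_iff (H := SE K)).2 hiff
    have h2 : p ∈ Subgroup.zpowers p ⊓ Subgroup.normalizer (S : Set ↥(twistedE6 K 2)) :=
      Subgroup.mem_inf.2 ⟨Subgroup.mem_zpowers p, hn⟩
    rw [h1] at h2
    exact (Subgroup.mem_inf.1 h2).2
  obtain ⟨t, ht⟩ := exists_omega F
  have hmem : ∀ t : K, x 56 t * x 36 (t ^ 2) ∈ twistedE6 K 2 := fun t =>
    pair_mem (rs := (56, 36)) t (by simp)
  have hU : ∀ t : K, x 56 t * x 36 (t ^ 2) ∈ chevE6.posUnipotent K := fun t =>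
    mul_mem (mem_U (r := 56) (by decide) t) (mem_U (r := 36) (by decide) _)
  have hL : ∀ t : K, x 56 t * x 36 (t ^ 2) ∈ LR K (J 3) := fun t =>
    mul_mem (x_mem_LR J3_56 t) (x_mem_LR J3_36 _)
  have h1 := congrArg Subtype.val (h ⟨_, hmem t⟩ (S_cent F _ (hU t)))
  have h2 : x 56 (φ t) * x 36 ((φ t) ^ 2) = (p : GL chevE6.Idx K) * (x 56 t * x 36 (t ^ 2)) * (p : GL chevE6.Idx K)⁻¹ := by
    rw [fE_apply] at h1
    have h3 : fr φ (x 56 t * x 36 (t ^ 2)) = x 56 (φ t) * x 36 ((φ t) ^ 2) := by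
      rw [map_mul, fr_x, fr_x, map_pow]
    rw [← h3]
    exact h1
  exact ht (coord (rigid hpS (hL t) (hU t) (hL (φ t)) (hU (φ t)) h2))

end Four

end Cfsg.Agent.TwoESix.SheetC
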